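import Groth.Statements.S9137
import Groth.Agent.S4469
import Mathlib

set_option autoImplicit false
universe u
open CAlg

namespace Groth.Agent.S9137

theorem isLocalization_atPrime_of_awayMap_surjective {R T S : Type u} [CommRing R] [CommRing T]
    [CommRing S] [Algebra R T] [Algebra T S] (Q : Ideal T) [Q.IsPrime]
    [IsLocalization.AtPrime S Q] (S' : Subalgebra R T) [Algebra S' S]
    (hmap : ∀ x : S', algebraMap S' S x = algebraMap T S (x : T))
    (r : S') (hr : (r : T) ∉ Q)
    (H : Function.Surjective (Localization.awayMap S'.val.toRingHom r)) :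
    IsLocalization.AtPrime S (Q.comap S'.val.toRingHom) := by
  rw [Localization.awayMap_surjective_iff] at H
  have hrpow : ∀ m : ℕ, (r : T) ^ m ∉ Q := fun m hm => hr (Ideal.IsPrime.mem_of_pow_mem ‹_› m hm)
  rw [IsLocalization.AtPrime, isLocalization_iff]
  refine ⟨?_, ?_, ?_⟩
  · rintro ⟨x, hx⟩
    rw [hmap]
    exact IsLocalization.map_units S (⟨(x : T), hx⟩ : Q.primeCompl)
  · intro z
    obtain ⟨⟨t, c⟩, htc⟩ := IsLocalization.surj Q.primeCompl z
    obtain ⟨a, m, ha⟩ := H t
    obtain ⟨b, l, hb⟩ := H c
    have hbQ : (b : T) ∉ Q := by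
      have : (b : T) = (r : T) ^ l * c := hb
      rw [this]
      exact fun h => (Ideal.IsPrime.mem_or_mem ‹_› h).elim (hrpow l) c.2
    refine ⟨(a * r ^ l, ⟨b * r ^ m, ?_⟩), ?_⟩
    · show ((b * r ^ m : S') : T) ∉ Q
      push_cast
      exact fun h => (Ideal.IsPrime.mem_or_mem ‹_› h).elim hbQ (hrpow m)
    · simp only [hmap]
      have h1 : ((a : S') : T) = (r : T) ^ m * t := ha
      have h2 : ((b : S') : T) = (r : T) ^ l * c := hb
      push_cast
      rw [h1, h2]
      simp only [map_mul, map_pow]
      simp only at htc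
      rw [← htc]
      ring
  · intro x y hxy
    rw [hmap, hmap] at hxy
    obtain ⟨c, hc⟩ := IsLocalization.exists_of_eq (M := Q.primeCompl) hxy
    obtain ⟨b, l, hb⟩ := H c
    have h2 : ((b : S') : T) = (r : T) ^ l * c := hb
    refine ⟨⟨b, ?_⟩, Subtype.ext ?_⟩
    · show (b : T) ∉ Q
      rw [h2]
      exact fun h => (Ideal.IsPrime.mem_or_mem ‹_› h).elim (hrpow l) c.2
    · push_cast
      rw [h2, mul_assoc, hc, mul_assoc]

theorem aux (R T S : Type u) [CommRing R] [CommRing T] [CommRing S]
    [IsLocalRing R] [IsLocalRing S] [Algebra R S] [IsLocalHom (algebraMap R S)]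
    [Algebra R T] [Algebra T S] [IsScalarTower R T S] [Algebra.FiniteType R T]
    (Q : Ideal T) [Q.IsPrime] [IsLocalization.AtPrime S Q]
    (hres : Module.Finite (IsLocalRing.ResidueField R) (IsLocalRing.ResidueField S))
    (hdim : ringKrullDim (S ⧸ (IsLocalRing.maximalIdeal R).map (algebraMap R S)) = 0) :
    Algebra.QuasiFiniteAt R Q := by
  have hQ : (IsLocalRing.maximalIdeal S).comap (algebraMap T S) = Q :=
    IsLocalization.AtPrime.under_maximalIdeal S Q
  have hmR : (IsLocalRing.maximalIdeal S).comap (algebraMap R S) = IsLocalRing.maximalIdeal R :=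
    ((IsLocalRing.local_hom_TFAE (algebraMap R S)).out 0 4).mp ‹_›
  have hQR : Q.comap (algebraMap R T) = IsLocalRing.maximalIdeal R := by
    rw [← hQ, Ideal.comap_comap, ← IsScalarTower.algebraMap_eq, hmR]
  -- Q is maximal
  have hQmax : Q.IsMaximal := by
    let φ : T ⧸ Q →ₐ[R] IsLocalRing.ResidueField S :=
      Ideal.Quotient.liftₐ Q ((IsScalarTower.toAlgHom R S (IsLocalRing.ResidueField S)).comp
        (IsScalarTower.toAlgHom R T S)) (by
          intro a ha
          rw [← hQ] at ha
          simpa using ha)
    have hφ : Function.Injective φ := by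
      rw [injective_iff_map_eq_zero]
      intro x hx
      obtain ⟨t, rfl⟩ := Ideal.Quotient.mk_surjective x
      have : algebraMap T S t ∈ IsLocalRing.maximalIdeal S := by
        have hx' : IsLocalRing.residue S (algebraMap T S t) = 0 := hx
        rwa [IsLocalRing.residue_eq_zero_iff] at hx'
      rw [Ideal.Quotient.eq_zero_iff_mem, ← hQ]
      exact this
    have : Module.Finite R (IsLocalRing.ResidueField R) :=
      Module.Finite.of_surjective (Algebra.linearMap R (IsLocalRing.ResidueField R))
        Ideal.Quotient.mk_surjective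
    have : Module.Finite R (IsLocalRing.ResidueField S) :=
      Module.Finite.trans (IsLocalRing.ResidueField R) _
    have : Algebra.IsIntegral R (T ⧸ Q) := Algebra.IsIntegral.of_injective φ hφ
    have hbot : ((⊥ : Ideal (T ⧸ Q)).comap (algebraMap R (T ⧸ Q))).IsMaximal := by
      have : (⊥ : Ideal (T ⧸ Q)).comap (algebraMap R (T ⧸ Q)) = IsLocalRing.maximalIdeal R := by
        rw [← hQR, IsScalarTower.algebraMap_eq R T (T ⧸ Q), ← Ideal.comap_comap]
        congr 1
        rw [← RingHom.ker_eq_comap_bot]
        exact Ideal.mk_ker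
      rw [this]
      infer_instance
    have := Ideal.isMaximal_of_isIntegral_of_isMaximal_comap (R := R) (⊥ : Ideal (T ⧸ Q)) hbot
    exact (Ideal.bot_quotient_isMaximal_iff Q).mp this
  have hQmin : ∀ q' : Ideal T, q'.IsPrime →
      q'.comap (algebraMap R T) = Q.comap (algebraMap R T) → q' ≤ Q → q' = Q := by
    intro q' hq' hc hle
    have hdisj : Disjoint (Q.primeCompl : Set T) (q' : Set T) := by
      rw [Set.disjoint_left]
      intro x hx hx'
      exact hx (hle hx')
    have hP' : (q'.map (algebraMap T S)).IsPrime :=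
      IsLocalization.isPrime_of_isPrime_disjoint Q.primeCompl S q' hq' hdisj
    have hcomap : (q'.map (algebraMap T S)).comap (algebraMap T S) = q' :=
      IsLocalization.comap_map_of_isPrime_disjoint Q.primeCompl S hq' hdisj
    have hle' : (IsLocalRing.maximalIdeal R).map (algebraMap R S) ≤ q'.map (algebraMap T S) := by
      rw [← hQR, ← hc, IsScalarTower.algebraMap_eq R T S, ← Ideal.map_map]
      exact Ideal.map_mono Ideal.map_comap_le
    haveI : Ring.KrullDimLE 0 (S ⧸ (IsLocalRing.maximalIdeal R).map (algebraMap R S)) :=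
      Ring.krullDimLE_iff.mpr hdim.le
    have hP0 : ((q'.map (algebraMap T S)).map
        (Ideal.Quotient.mk ((IsLocalRing.maximalIdeal R).map (algebraMap R S)))).IsPrime :=
      Ideal.map_isPrime_of_surjective Ideal.Quotient.mk_surjective (by rwa [Ideal.mk_ker])
    have hmax0 := hP0.isMaximal'
    have hmax : (q'.map (algebraMap T S)).IsMaximal := by
      have h1 := Ideal.comap_isMaximal_of_surjective
        (Ideal.Quotient.mk ((IsLocalRing.maximalIdeal R).map (algebraMap R S)))
        Ideal.Quotient.mk_surjective (K := _) (H := hmax0)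
      rwa [Ideal.comap_map_of_surjective _ Ideal.Quotient.mk_surjective,
        ← RingHom.ker_eq_comap_bot, Ideal.mk_ker, sup_eq_left.mpr hle'] at h1
    have h2 := IsLocalRing.eq_maximalIdeal hmax
    rw [← hcomap, h2, hQ]
  exact Groth.Agent.S4469.quasiFiniteAt_of_isMaximal_of_minimal_in_fibre (R := R)
    (⟨Q, inferInstance⟩ : PrimeSpectrum T) hQmax hQmin


/-- Let R → S be a local ring homomorphism between local rings, essentially of finite type, such that
the residue field of S is finite over that of R and S/m_R S has dimension zero. Then S is, as an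
R-algebra, the localization of a finite R-algebra at a prime. -/
theorem result (R S : Type u) [CommRing R] [CommRing S]
    [IsLocalRing R] [IsLocalRing S] [Algebra R S] [IsLocalHom (algebraMap R S)]
    [Algebra.EssFiniteType R S]
    (hres : Module.Finite (IsLocalRing.ResidueField R) (IsLocalRing.ResidueField S))
    (hdim : ringKrullDim (S ⧸ (IsLocalRing.maximalIdeal R).map (algebraMap R S)) = 0) :
    ∃ (S' : Type u) (_ : CommRing S') (_ : Algebra R S') (_ : Algebra S' S) (_ : IsScalarTower R S' S)
      (q : Ideal S') (_ : q.IsPrime), Module.Finite R S' ∧ IsLocalization.AtPrime S q := by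
  have hQp : ((IsLocalRing.maximalIdeal S).comap
      (algebraMap (Algebra.EssFiniteType.subalgebra R S) S)).IsPrime := Ideal.comap_isPrime _ _
  have hloc : IsLocalization.AtPrime S ((IsLocalRing.maximalIdeal S).comap
      (algebraMap (Algebra.EssFiniteType.subalgebra R S) S)) := by
    have h := Algebra.EssFiniteType.isLocalization (R := R) (S := S)
    have heq : Algebra.EssFiniteType.submonoid R S = ((IsLocalRing.maximalIdeal S).comap
      (algebraMap (Algebra.EssFiniteType.subalgebra R S) S)).primeCompl := by
      ext t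
      simp [Algebra.EssFiniteType.submonoid, IsUnit.mem_submonoid_iff, Ideal.primeCompl]
    rw [heq] at h
    exact h
  have hqf := aux R (Algebra.EssFiniteType.subalgebra R S) S ((IsLocalRing.maximalIdeal S).comap
      (algebraMap (Algebra.EssFiniteType.subalgebra R S) S)) hres hdim
  obtain ⟨S', hS', r, hrQ, H⟩ :=
    Algebra.QuasiFiniteAt.exists_fg_and_exists_notMem_and_awayMap_bijective (R := R)
      ((IsLocalRing.maximalIdeal S).comap (algebraMap (Algebra.EssFiniteType.subalgebra R S) S))
  letI alg : Algebra S' S :=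
    ((algebraMap (Algebra.EssFiniteType.subalgebra R S) S).comp S'.val.toRingHom).toAlgebra
  have htower : IsScalarTower R S' S := IsScalarTower.of_algebraMap_eq (fun x => by
    show _ = algebraMap (Algebra.EssFiniteType.subalgebra R S) S ((algebraMap R S' x : S') : _)
    rfl)
  refine ⟨S', inferInstance, inferInstance, alg, htower,
    ((IsLocalRing.maximalIdeal S).comap
      (algebraMap (Algebra.EssFiniteType.subalgebra R S) S)).comap S'.val.toRingHom,
    Ideal.comap_isPrime S'.val.toRingHom _,
    ⟨(Submodule.fg_top _).mpr hS'⟩, ?_⟩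
  exact isLocalization_atPrime_of_awayMap_surjective ((IsLocalRing.maximalIdeal S).comap
      (algebraMap (Algebra.EssFiniteType.subalgebra R S) S)) S' (fun x => rfl) r hrQ H.2

end Groth.Agent.S9137
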