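import Groth.Statements.S9139
import Mathlib
-- import your own Groth.Agent.* helpers here

set_option autoImplicit false
universe u
open CAlg

namespace Groth.Agent.S9139


theorem exists_fg_le_mem_map {R S' : Type u} [CommRing R] [CommRing S'] (φ : R →+* S')
    (I : Ideal R) (x : S') (hx : x ∈ I.map φ) :
    ∃ I0 : Ideal R, I0 ≤ I ∧ I0.FG ∧ x ∈ I0.map φ := by
  unfold Ideal.map at hx
  induction hx using Submodule.span_induction with
  | mem x hx =>
    obtain ⟨a, ha, rfl⟩ := hx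
    exact ⟨Ideal.span {a}, (Ideal.span_singleton_le_iff_mem _).mpr ha, ⟨{a}, by simp⟩,
      Ideal.mem_map_of_mem _ (Ideal.subset_span rfl)⟩
  | zero => exact ⟨⊥, bot_le, Submodule.fg_bot, zero_mem _⟩
  | add x y _ _ hx hy =>
    obtain ⟨I1, h1, h1', h1''⟩ := hx
    obtain ⟨I2, h2, h2', h2''⟩ := hy
    exact ⟨I1 ⊔ I2, sup_le h1 h2, Submodule.FG.sup h1' h2',
      add_mem (Ideal.map_mono le_sup_left h1'') (Ideal.map_mono le_sup_right h2'')⟩
  | smul a x _ hx =>
    obtain ⟨I1, h1, h1', h1''⟩ := hx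
    exact ⟨I1, h1, h1', Ideal.mul_mem_left _ _ h1''⟩

/-- Let I be a locally nilpotent ideal of a ring R (every element of I is nilpotent) and S → S' a map of
R-algebras with S' of finite type over R. If S → S'/IS' is surjective then so is S → S'. -/
theorem result (R S S' : Type u) [CommRing R] [CommRing S]
    [CommRing S'] [Algebra R S] [Algebra R S'] [Algebra.FiniteType R S'] (I : Ideal R)
    (hI : ∀ x ∈ I, IsNilpotent x) (f : S →ₐ[R] S')
    (hf : Function.Surjective ((Ideal.Quotient.mk (I.map (algebraMap R S'))).comp f.toRingHom)) :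
    Function.Surjective f := by
  classical
  obtain ⟨G, hG⟩ := (Algebra.FiniteType.out : (⊤ : Subalgebra R S').FG)
  have key : ∀ G' : Finset S', ∃ I0 : Ideal R, I0 ≤ I ∧ I0.FG ∧
      ∀ g ∈ G', ∃ s, g - f s ∈ I0.map (algebraMap R S') := by
    intro G'
    induction G' using Finset.induction_on with
    | empty => exact ⟨⊥, bot_le, Submodule.fg_bot, by simp⟩
    | insert a G' _ ih =>
      obtain ⟨I1, h1, h1', h1''⟩ := ih
      obtain ⟨s, hs⟩ := hf (Ideal.Quotient.mk _ a)
      have : a - f s ∈ I.map (algebraMap R S') := by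
        rw [← Ideal.Quotient.eq]; exact hs.symm
      obtain ⟨I2, h2, h2', h2''⟩ := exists_fg_le_mem_map (algebraMap R S') I _ this
      refine ⟨I1 ⊔ I2, sup_le h1 h2, Submodule.FG.sup h1' h2', ?_⟩
      intro g hg
      rcases Finset.mem_insert.mp hg with rfl | hg
      · exact ⟨s, Ideal.map_mono le_sup_right h2''⟩
      · obtain ⟨s', hs'⟩ := h1'' g hg
        exact ⟨s', Ideal.map_mono le_sup_left hs'⟩
  obtain ⟨I0, hI0, hfg, hmem⟩ := key G
  have hnil : IsNilpotent I0 :=
    (Ideal.FG.isNilpotent_iff_le_nilradical hfg).mpr (fun x hx => hI x (hI0 hx))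
  obtain ⟨N, hN⟩ := hnil
  let J := I0.map (algebraMap R S')
  let U : Subalgebra R S' :=
    ((Ideal.Quotient.mkₐ R J).comp f).range.comap (Ideal.Quotient.mkₐ R J)
  have hU : U = ⊤ := by
    rw [eq_top_iff, ← hG]
    apply Algebra.adjoin_le
    intro g hg
    obtain ⟨s, hs⟩ := hmem g hg
    show Ideal.Quotient.mkₐ R J g ∈ ((Ideal.Quotient.mkₐ R J).comp f).range
    exact ⟨s, (Ideal.Quotient.eq.mpr hs).symm⟩
  let T : Submodule R S' := LinearMap.range f.toLinearMap
  have h1 : (⊤ : Submodule R S') ≤ T ⊔ I0 • ⊤ := by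
    intro x _
    have hxU : x ∈ U := by rw [hU]; trivial
    obtain ⟨s, hs⟩ := hxU
    have h2 : x - f s ∈ J := Ideal.Quotient.eq.mp hs.symm
    have h3 : x - f s ∈ (I0 • ⊤ : Submodule R S') := by
      rw [Ideal.smul_top_eq_map]; exact h2
    have h4 : x = f s + (x - f s) := by ring
    rw [h4]
    exact Submodule.add_mem_sup ⟨s, rfl⟩ h3
  have hk : ∀ k, (⊤ : Submodule R S') ≤ T ⊔ (I0 ^ k) • ⊤ := by
    intro k
    induction k with
    | zero => rw [pow_zero, Ideal.one_eq_top, Submodule.top_smul]; exact le_sup_right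
    | succ k ih =>
      calc ⊤ ≤ T ⊔ I0 • ⊤ := h1
        _ ≤ T ⊔ I0 • (T ⊔ I0 ^ k • ⊤) := sup_le_sup_left (by
            calc I0 • (⊤ : Submodule R S') ≤ I0 • (T ⊔ I0 ^ k • ⊤) := Submodule.smul_mono le_rfl ih
              _ = _ := rfl) _
        _ ≤ T ⊔ I0 ^ (k+1) • ⊤ := by
          rw [Submodule.smul_sup, ← mul_smul, ← pow_succ']
          refine sup_le le_sup_left (sup_le ?_ le_sup_right)
          exact le_trans Submodule.smul_le_right le_sup_left
  have hfin := hk N
  rw [hN] at hfin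
  intro x
  have hx : x ∈ T ⊔ (0 : Ideal R) • (⊤ : Submodule R S') := hfin (Submodule.mem_top : x ∈ ⊤)
  rw [Ideal.zero_eq_bot, Submodule.bot_smul, sup_bot_eq] at hx
  obtain ⟨s, hs⟩ := hx
  exact ⟨s, hs⟩

end Groth.Agent.S9139
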