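import Groth.Statements.S9143
import Groth.Agent.Lib.Helper5.CIFieldK

set_option autoImplicit false
universe u
open Synt

namespace Groth.Agent.S9143

/-- For a local k-algebra S which is essentially of finite type over a field k, being a complete
intersection over k is equivalent to each of: (2) whenever a regular local ring R, essentially of
finite type over k, maps onto S by a surjective k-algebra map, the kernel is generated by a regular
sequence; (3) some regular local ring R, essentially of finite type over k, maps onto S by a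
surjective k-algebra map whose kernel is generated by a list of dim R − dim S elements (stated as
dim R = dim S + the length of the list); (4) S is isomorphic over k to a localization at a prime of
a global complete intersection over k; (5) the same with a local complete intersection over k. -/
theorem result (k S : Type u) [Field k] [CommRing S]
    [IsLocalRing S] [Algebra k S] [Algebra.EssFiniteType k S] :
    (Synt.IsCIOver k S ↔
        ∀ (R : Type u) [CommRing R] [IsRegularLocalRing R] [Algebra k R], Algebra.EssFiniteType k R →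
          ∀ π : R →ₐ[k] S, Function.Surjective π →
            ∃ rs : List R, RingTheory.Sequence.IsRegular R rs ∧ RingHom.ker π.toRingHom = Ideal.ofList rs) ∧
      (Synt.IsCIOver k S ↔
        ∃ (R : Type u) (_ : CommRing R) (_ : IsRegularLocalRing R) (_ : Algebra k R),
          Algebra.EssFiniteType k R ∧ ∃ π : R →ₐ[k] S, Function.Surjective π ∧
            ∃ rs : List R, RingHom.ker π.toRingHom = Ideal.ofList rs ∧
              ringKrullDim R = ringKrullDim S + (rs.length : WithBot ℕ∞)) ∧
      (Synt.IsCIOver k S ↔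
        ∃ (A : Type u) (_ : CommRing A) (_ : Algebra k A) (a : Ideal A) (_ : a.IsPrime),
          Algebra.FiniteType k A ∧ Synt.IsGlobalCI k A ∧ Nonempty (S ≃ₐ[k] Localization.AtPrime a)) ∧
      (Synt.IsCIOver k S ↔
        ∃ (A : Type u) (_ : CommRing A) (_ : Algebra k A) (a : Ideal A) (_ : a.IsPrime),
          Synt.IsLCIOver k A ∧ Nonempty (S ≃ₐ[k] Localization.AtPrime a)) := by
  refine ⟨⟨?_, ?_⟩, ⟨?_, ?_⟩, ⟨?_, ?_⟩, ⟨?_, ?_⟩⟩
  · intro h R _ _ _ hE π hπ
    exact Groth.Agent.Lib.Helper5.CIField.IsCIOver.exists_regular_ker h π hπ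
  · intro h
    obtain ⟨n, Q, hQ, π, hπ⟩ := Groth.Agent.Lib.Helper5.CIField.exists_polyLoc_presentation k S
    obtain ⟨rs, hrs, hk⟩ := h (Localization.AtPrime Q) inferInstance π hπ
    exact Groth.Agent.Lib.Helper5.CIField.isCIOver_of_regular π hπ rs hrs hk
  · rintro ⟨R, i1, i2, i3, i4, rs, hmem, hrs, ⟨e⟩⟩
    let π : R →ₐ[k] S := (e.symm : (R ⧸ Ideal.ofList rs) →ₐ[k] S).comp
      (Ideal.Quotient.mkₐ k (Ideal.ofList rs))
    have hπ : Function.Surjective π :=
      e.symm.surjective.comp (Ideal.Quotient.mkₐ_surjective k _)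
    have hk : RingHom.ker π.toRingHom = Ideal.ofList rs := by
      ext x
      rw [RingHom.mem_ker]
      change e.symm (Ideal.Quotient.mk _ x) = 0 ↔ _
      rw [EmbeddingLike.map_eq_zero_iff, Ideal.Quotient.eq_zero_iff_mem]
    refine ⟨R, i1, i2, i3, i4, π, hπ, rs, hk, ?_⟩
    rw [← ringKrullDim_add_length_eq_ringKrullDim_of_isRegular rs hrs]
    congr 1
    exact (ringKrullDim_eq_of_ringEquiv e.toRingEquiv).symm
  · rintro ⟨R, i1, i2, i3, i4, π, hπ, rs, hk, hdim⟩
    have hCM : LocCoh.IsCohenMacaulayModule R R :=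
      Groth.Agent.S10834.isCM_of_isRegularLocalRing R
    have hne : Ideal.ofList rs ≠ ⊤ := by
      rw [← hk]
      exact RingHom.ker_ne_top _
    have hmem : ∀ r ∈ rs, r ∈ IsLocalRing.maximalIdeal R := fun r hr =>
      IsLocalRing.le_maximalIdeal hne (Ideal.subset_span hr)
    have hdim' : ringKrullDim (R ⧸ Ideal.ofList rs) + rs.length = ringKrullDim R := by
      rw [hdim]
      congr 1
      have e1 : (R ⧸ RingHom.ker π.toRingHom) ≃+* S :=
        RingHom.quotientKerEquivOfSurjective (f := π.toRingHom) hπ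
      rw [← ringKrullDim_eq_of_ringEquiv e1]
      exact (ringKrullDim_eq_of_ringEquiv (Ideal.quotEquivOfEq hk)).symm
    exact Groth.Agent.Lib.Helper5.CIField.isCIOver_of_regular π hπ rs
      (Groth.Agent.Lib.Helper5.CIField.isRegular_of_dim_drop hCM rs hmem hdim') hk
  · intro h
    exact Groth.Agent.Lib.Helper5.CIField.IsCIOver.exists_globalCI_atPrime h
  · rintro ⟨A, i1, i2, a, i3, hft, hG, ⟨e⟩⟩
    have h1 : Synt.IsCIOver k (Localization.AtPrime a) :=
      (Groth.Agent.Lib.Helper5.CIField.isCIOver_atPrime_iff a).2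
        ⟨1, (Ideal.ne_top_iff_one _).1 i3.ne_top,
          Groth.Agent.Lib.Helper25.GlobalCI.isGlobalCI_away hG 1⟩
    exact Groth.Agent.Lib.Helper5.CIField.IsCIOver.of_algEquiv e.symm h1
  · intro h
    obtain ⟨A, i1, i2, a, i3, hft, hG, he⟩ :=
      Groth.Agent.Lib.Helper5.CIField.IsCIOver.exists_globalCI_atPrime h
    exact ⟨A, i1, i2, a, i3, Groth.Agent.Lib.Helper5.CIField.isLCIOver_of_isGlobalCI hG, he⟩
  · rintro ⟨A, i1, i2, a, i3, hL, ⟨e⟩⟩
    have hft : Algebra.FiniteType k A := hL.1
    obtain ⟨g, hg, hG⟩ := hL.2 ⟨a, i3⟩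
    have h1 : Synt.IsCIOver k (Localization.AtPrime a) :=
      (Groth.Agent.Lib.Helper5.CIField.isCIOver_atPrime_iff a).2 ⟨g, hg, hG⟩
    exact Groth.Agent.Lib.Helper5.CIField.IsCIOver.of_algEquiv e.symm h1

end Groth.Agent.S9143
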