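import Groth.Statements.S9145
import Groth.Agent.Lib.Helper5.CIFieldJ

set_option autoImplicit false
universe u
open Synt

namespace Groth.Agent.S9145

/-- A finite type algebra S over a field k is a local complete intersection over k if and only if all
its local rings at primes (equivalently, at maximal ideals) are complete intersections over k. -/
theorem result (k S : Type u) [Field k] [CommRing S] [Algebra k S]
    [Algebra.FiniteType k S] :
    (Synt.IsLCIOver k S ↔ ∀ p : PrimeSpectrum S, Synt.IsCIOver k (Localization.AtPrime p.asIdeal)) ∧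
      (Synt.IsLCIOver k S ↔
        ∀ m : MaximalSpectrum S, Synt.IsCIOver k (Localization.AtPrime m.asIdeal)) := by
  have hft : Algebra.FiniteType k S := inferInstance
  refine ⟨⟨fun h p => ?_, fun h => ⟨hft, fun p => ?_⟩⟩, ⟨fun h m => ?_, fun h => ⟨hft, fun p => ?_⟩⟩⟩
  · exact (Groth.Agent.Lib.Helper5.CIField.isCIOver_atPrime_iff (k := k) p.asIdeal).2 (h.2 p)
  · exact (Groth.Agent.Lib.Helper5.CIField.isCIOver_atPrime_iff (k := k) p.asIdeal).1 (h p)
  · exact (Groth.Agent.Lib.Helper5.CIField.isCIOver_atPrime_iff (k := k) m.asIdeal).2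
      (h.2 ⟨m.asIdeal, inferInstance⟩)
  · obtain ⟨m, hm, hpm⟩ := Ideal.exists_le_maximal p.asIdeal p.2.ne_top
    obtain ⟨g, hg, hG⟩ := (Groth.Agent.Lib.Helper5.CIField.isCIOver_atPrime_iff (k := k)
      (MaximalSpectrum.mk m hm).asIdeal).1 (h ⟨m, hm⟩)
    exact ⟨g, fun hgp => hg (hpm hgp), hG⟩

end Groth.Agent.S9145
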