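import Groth.Statements.S9149
import Mathlib
import Groth.Agent.Lib.Helper25.GlobalCI
import Groth.Agent.Lib.Helper25.FiniteSyntomic
-- import your own Groth.Agent.* helpers here

set_option autoImplicit false
set_option linter.unusedSectionVars false
set_option linter.style.haveILetI false
set_option linter.unusedVariables false
universe u
open Synt

namespace Groth.Agent.S9149

open Groth.Agent.Lib.Helper25

open Polynomial in
theorem aux : ∀ (d : ℕ) (A : Type u) [CommRing A] (P : A[X]), P.Monic → P.natDegree = d →
    ∃ (A' : Type u) (_ : CommRing A') (_ : Algebra A A'), Module.Finite A A' ∧ Module.Free A A' ∧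
      (Nontrivial A → Nontrivial A') ∧
      (∃ (ι σ : Type) (_ : Fintype ι) (_ : Fintype σ), Fintype.card σ = Fintype.card ι ∧
        Nonempty (Algebra.Presentation A A' ι σ)) ∧
      ∃ s : Multiset A', P.map (algebraMap A A') = (s.map fun b => X - C b).prod := by
  intro d
  induction d with
  | zero =>
    intro A _ P hP hd
    have hP1 : P = 1 := hP.natDegree_eq_zero.1 hd
    refine ⟨A, inferInstance, inferInstance, inferInstance, inferInstance, id,
      ⟨PEmpty.{1}, PEmpty.{1}, inferInstance, inferInstance, rfl,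
        ⟨Algebra.Presentation.id.{0, 0} A⟩⟩, 0, ?_⟩
    simp [hP1]
  | succ d ih =>
    intro A _ p hp hd
    rcases subsingleton_or_nontrivial A with hsub | hnontriv
    · refine ⟨A, inferInstance, inferInstance, inferInstance, inferInstance, id,
        ⟨PEmpty.{1}, PEmpty.{1}, inferInstance, inferInstance, rfl,
          ⟨Algebra.Presentation.id.{0, 0} A⟩⟩, 0, Subsingleton.elim _ _⟩
    haveI hntA : Nontrivial (AdjoinRoot p) := Ideal.Quotient.nontrivial_iff.mpr (by
        rw [Ne, Ideal.span_singleton_eq_top]
        intro hu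
        have := hp.eq_one_of_isUnit hu
        rw [this] at hd
        simp at hd)
    obtain ⟨q, hq⟩ : X - C (AdjoinRoot.root p) ∣ p.map (algebraMap A (AdjoinRoot p)) := by
      simp [dvd_iff_isRoot, -AdjoinRoot.algebraMap_eq]
    have hqm : q.Monic := .of_mul_monic_left (monic_X_sub_C (.root _)) (hq ▸ hp.map _)
    haveI := hp.free_adjoinRoot
    haveI := hp.finite_adjoinRoot
    have hqd : q.natDegree = d := by
      have h1 : (p.map (algebraMap A (AdjoinRoot p))).natDegree = d + 1 := by
        rw [hp.natDegree_map, hd]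
      rw [hq, Monic.natDegree_mul (monic_X_sub_C _) hqm] at h1
      rw [natDegree_X_sub_C] at h1; omega
    obtain ⟨S, _, _, hfin, hfree, hnt, ⟨ι, σ, _, _, hcard, ⟨Q⟩⟩, s, hs⟩ :=
      ih (AdjoinRoot p) q hqm hqd
    letI : Algebra A S := ((algebraMap (AdjoinRoot p) S).comp (algebraMap A (AdjoinRoot p))).toAlgebra
    haveI : IsScalarTower A (AdjoinRoot p) S := IsScalarTower.of_algebraMap_eq (fun _ => rfl)
    refine ⟨S, inferInstance, inferInstance, .trans (AdjoinRoot p) _, .trans (S := AdjoinRoot p),
      ?_, ⟨ι ⊕ PUnit.{1}, σ ⊕ PUnit.{1}, inferInstance, inferInstance, ?_,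
        ⟨Q.comp (GlobalCI.presAdjoinRoot p)⟩⟩,
      algebraMap (AdjoinRoot p) S (AdjoinRoot.root p) ::ₘ s, ?_⟩
    · intro hA
      exact hnt hntA
    · simp [hcard]
    · rw [IsScalarTower.algebraMap_eq A (AdjoinRoot p) S, ← Polynomial.map_map, hq,
        Polynomial.map_mul, hs]
      simp

open Polynomial in
/-- A monic polynomial over a ring A splits into linear factors over some A-algebra A' that is syntomic,
finite free and faithfully flat over A. -/
theorem result (A : Type u) [CommRing A] (P : A[X]) (hP : P.Monic) :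
    ∃ (A' : Type u) (_ : CommRing A') (_ : Algebra A A'),
      Synt.IsSyntomic A A' ∧ Module.Finite A A' ∧ Module.Free A A' ∧ Module.FaithfullyFlat A A' ∧
        ∃ s : Multiset A', P.map (algebraMap A A') = (s.map fun b => X - C b).prod := by
  obtain ⟨A', _, _, hfin, hfree, hnt, ⟨ι, σ, _, _, hcard, ⟨Q⟩⟩, s, hs⟩ :=
    aux P.natDegree A P hP rfl
  refine ⟨A', inferInstance, inferInstance, ?_, hfin, hfree, ?_, s, hs⟩
  · exact FiniteSyntomic.isSyntomic_of_finite_flat A A' hcard Q
  · rcases subsingleton_or_nontrivial A with h | h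
    · refine ⟨fun m hm => ?_⟩
      exact absurd (Subsingleton.elim m ⊤) hm.ne_top
    · haveI := hnt h
      infer_instance

end Groth.Agent.S9149
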