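import Groth.Statements.S9153
import Groth.Agent.Lib.Helper7.CMRegularQuot

set_option autoImplicit false
universe u
open CAlg

namespace Groth.Agent.S9153

/-- In a polynomial ring in finitely many variables over a field, every saturated chain of primes
between two primes p ⊆ q has length equal to the difference of their heights (stated additively:
length + height p = height q). -/
theorem result (k : Type u) [Field k] (n : ℕ)
    (s : LTSeries (PrimeSpectrum (MvPolynomial (Fin n) k)))
    (hsat : ∀ i : Fin s.length, s (Fin.castSucc i) ⋖ s (Fin.succ i)) :
    (s.length : ℕ∞) + s.head.asIdeal.height = s.last.asIdeal.height := by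
  have key : ∀ (i : ℕ) (hi : i < s.length + 1),
      (s ⟨i, hi⟩).asIdeal.height = s.head.asIdeal.height + (i : ℕ∞) := by
    intro i
    induction i with
    | zero =>
      intro hi
      simp [RelSeries.head]
    | succ j ih =>
      intro hi
      have hj : j < s.length := by omega
      have h1 := hsat ⟨j, hj⟩
      have h2 := Groth.Agent.Lib.Helper7.CMRegQ.height_eq_add_one_of_covBy k n _ _ h1
      have h3 := ih (by omega)
      have e1 : (Fin.castSucc (⟨j, hj⟩ : Fin s.length)) = ⟨j, by omega⟩ := rfl
      have e2 : (Fin.succ (⟨j, hj⟩ : Fin s.length)) = ⟨j + 1, hi⟩ := rfl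
      rw [e1, e2] at h2
      rw [h2, h3]
      push_cast
      ring
  have hlast := key s.length (by omega)
  have : s.last = s ⟨s.length, by omega⟩ := rfl
  rw [this, hlast, add_comm]

end Groth.Agent.S9153
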