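import Groth.Statements.S9154
import Groth.Agent.Lib.Helper7.FibreRegOpen

set_option autoImplicit false
universe u
open CAlg

namespace Groth.Agent.S9154

open Groth.Agent.Lib.Helper7.FibreRegOpen

/-- the numerical heart: `ht(q/I) + |f| + coht q ≤ d` and `ht q + coht q = d`. -/
theorem key (k S : Type u) [Field k] [CommRing S] [Algebra k S]
    [Algebra.FiniteType k S] (d : ℕ)
    (heq : ∀ p ∈ minimalPrimes S, ringKrullDim (S ⧸ p) = d) (f : List S) (hi : f.length ≤ d)
    (hle : ringKrullDim (S ⧸ Ideal.ofList f) ≤ ((d - f.length : ℕ) : WithBot ℕ∞))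
    (q : Ideal S) [q.IsPrime] (hq : Ideal.ofList f ≤ q) :
    ∃ a h c : ℕ, (q.map (Ideal.Quotient.mk (Ideal.ofList f))).height = (a : ℕ∞) ∧
      q.height = (h : ℕ∞) ∧ Order.coheight (⟨q, inferInstance⟩ : PrimeSpectrum S) = (c : ℕ∞) ∧
      a + f.length + c ≤ d ∧ h + c = d := by
  set I := Ideal.ofList f with hI
  haveI hq' : (q.map (Ideal.Quotient.mk I)).IsPrime :=
    Ideal.map_isPrime_of_surjective Ideal.Quotient.mk_surjective (by rwa [Ideal.mk_ker])
  let Q : PrimeSpectrum S := ⟨q, inferInstance⟩
  let Qb : PrimeSpectrum (S ⧸ I) := ⟨q.map (Ideal.Quotient.mk I), hq'⟩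
  have h1 : Order.height Q + Order.coheight Q = (d : ℕ∞) :=
    height_add_coheight_of_equidim k S d heq Q
  have h2 : Order.coheight Qb = Order.coheight Q := by
    have e1 := Groth.Agent.Lib.Helper7.AffChain.ringKrullDim_quotient_eq_coheight Qb
    have e2 := Groth.Agent.Lib.Helper7.AffChain.ringKrullDim_quotient_eq_coheight Q
    have e3 := ringKrullDim_eq_of_ringEquiv (DoubleQuot.quotQuotEquivQuotOfLE hq)
    rw [e2] at e3
    change ringKrullDim ((S ⧸ I) ⧸ q.map (Ideal.Quotient.mk I)) = _ at e1
    rw [e1] at e3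
    exact_mod_cast e3
  have h3 : ((Order.height Qb + Order.coheight Qb : ℕ∞) : WithBot ℕ∞) ≤ ((d - f.length : ℕ) : ℕ∞) := by
    refine le_trans ?_ hle
    haveI : Nonempty (PrimeSpectrum (S ⧸ I)) := ⟨Qb⟩
    rw [ringKrullDim, Order.krullDim_eq_iSup_height_add_coheight_of_nonempty]
    exact WithBot.coe_le_coe.mpr (le_iSup (fun a : PrimeSpectrum (S ⧸ I) =>
      Order.height a + Order.coheight a) Qb)
  have h3' : Order.height Qb + Order.coheight Qb ≤ ((d - f.length : ℕ) : ℕ∞) := by
    exact_mod_cast h3
  rw [h2] at h3'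
  have hQ : Order.height Q = q.height := (PrimeSpectrum.height_eq_orderHeight Q).symm
  have hQb : Order.height Qb = (q.map (Ideal.Quotient.mk I)).height :=
    (PrimeSpectrum.height_eq_orderHeight Qb).symm
  rw [hQ] at h1
  rw [hQb] at h3'
  have hc : Order.coheight Q ≠ ⊤ := by
    intro h
    rw [h] at h1
    simp at h1
  have hh : q.height ≠ ⊤ := by
    intro h
    rw [h] at h1
    simp at h1
  have ha : (q.map (Ideal.Quotient.mk I)).height ≠ ⊤ := by
    intro h
    rw [h] at h3'
    simp at h3'
  obtain ⟨c, hc'⟩ := ENat.ne_top_iff_exists.mp hc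
  obtain ⟨h, hh'⟩ := ENat.ne_top_iff_exists.mp hh
  obtain ⟨a, ha'⟩ := ENat.ne_top_iff_exists.mp ha
  refine ⟨a, h, c, ha'.symm, hh'.symm, hc'.symm, ?_, ?_⟩
  · rw [← ha', ← hc'] at h3'
    have : a + c ≤ d - f.length := by exact_mod_cast h3'
    omega
  · rw [← hh', ← hc'] at h1
    exact_mod_cast h1

/-- Let S be a Cohen–Macaulay finite type algebra over a field k, equidimensional of dimension d, and
f_1, …, f_i elements (i ≤ d) generating a proper ideal whose zero locus has dimension at most d − i.
Then that dimension equals d − i and the f_j form a regular sequence in S_q for every prime q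
containing them. (The published statement also allows the f_j to generate the unit ideal, where the
zero locus is empty and the equality fails, e.g. f_1 = 1 in k[x]; this row assumes the ideal is
proper.) -/
theorem result (k S : Type u) [Field k] [CommRing S] [Algebra k S]
    [Algebra.FiniteType k S] [LocCoh.IsCohenMacaulayRing S] (d : ℕ)
    (heq : ∀ p ∈ minimalPrimes S, ringKrullDim (S ⧸ p) = d) (f : List S) (hi : f.length ≤ d)
    (hne : Ideal.ofList f ≠ ⊤)
    (hle : ringKrullDim (S ⧸ Ideal.ofList f) ≤ ((d - f.length : ℕ) : WithBot ℕ∞)) :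
    ringKrullDim (S ⧸ Ideal.ofList f) = ((d - f.length : ℕ) : WithBot ℕ∞) ∧
      ∀ (q : Ideal S) [q.IsPrime], Ideal.ofList f ≤ q →
        RingTheory.Sequence.IsRegular (Localization.AtPrime q)
          (f.map (algebraMap S (Localization.AtPrime q))) := by
  classical
  haveI hS : LocCoh.IsCohenMacaulayRing S := inferInstance
  haveI : IsNoetherianRing S := hS.toIsNoetherian
  set I := Ideal.ofList f with hI
  -- regularity at every prime containing `I`, together with the dimension count
  have hreg : ∀ (q : Ideal S) [q.IsPrime], I ≤ q →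
      RingTheory.Sequence.IsRegular (Localization.AtPrime q)
        (f.map (algebraMap S (Localization.AtPrime q))) := by
    intro q _ hq
    obtain ⟨a, h, c, ha, hh, hc, h1, h2⟩ := key k S d heq f hi hle q hq
    haveI : LocCoh.IsCohenMacaulayLocalRing (Localization.AtPrime q) :=
      hS.isCohenMacaulayLocalRing_localization q
    rw [isRegular_iff_dim]
    · rw [← Ideal.map_ofList, ringKrullDim_localization_quotient q I hq,
        IsLocalization.AtPrime.ringKrullDim_eq_height q (Localization.AtPrime q), ha, hh,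
        List.length_map]
      have : a + f.length ≤ h := by omega
      exact_mod_cast this
    · intro r hr
      rw [List.mem_map] at hr
      obtain ⟨s, hs, rfl⟩ := hr
      rw [IsLocalization.AtPrime.to_map_mem_maximal_iff (Localization.AtPrime q) q]
      exact hq (Ideal.subset_span hs)
  refine ⟨le_antisymm hle ?_, fun q _ hq => hreg q hq⟩
  obtain ⟨m, hm, hIm⟩ := Ideal.exists_le_maximal I hne
  haveI := hm.isPrime
  obtain ⟨a, h, c, ha, hh, hc, h1, h2⟩ := key k S d heq f hi hle m hIm
  have hc0 : c = 0 := by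
    have : Order.coheight (⟨m, inferInstance⟩ : PrimeSpectrum S) = 0 := by
      rw [Order.coheight_eq_zero, PrimeSpectrum.isMax_iff]
      exact hm
    rw [this] at hc
    exact_mod_cast hc.symm
  have hr := ringKrullDim_add_length_eq_ringKrullDim_of_isRegular _ (hreg m hIm)
  rw [← Ideal.map_ofList, ringKrullDim_localization_quotient m I hIm,
    IsLocalization.AtPrime.ringKrullDim_eq_height m (Localization.AtPrime m), ha, hh,
    List.length_map] at hr
  have hr' : a + f.length = h := by exact_mod_cast hr
  have hmb : (m.map (Ideal.Quotient.mk I)) ≠ ⊤ := by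
    haveI : (m.map (Ideal.Quotient.mk I)).IsPrime :=
      Ideal.map_isPrime_of_surjective Ideal.Quotient.mk_surjective (by rwa [Ideal.mk_ker])
    exact Ideal.IsPrime.ne_top'
  have hle2 := Ideal.height_le_ringKrullDim_of_ne_top hmb
  rw [ha] at hle2
  refine le_trans ?_ hle2
  have : d - f.length ≤ a := by omega
  have h5 : ((d - f.length : ℕ) : ℕ∞) ≤ (a : ℕ∞) := by exact_mod_cast this
  exact (WithBot.coe_le_coe.mpr h5 :
    (((d - f.length : ℕ) : ℕ∞) : WithBot ℕ∞) ≤ ((a : ℕ∞) : WithBot ℕ∞))

end Groth.Agent.S9154
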