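import Groth.Statements.S9155
import Groth.Agent.Lib.Helper14.DiffEtale

set_option autoImplicit false
universe u
open Diff16

namespace Groth.Agent.S9155

open TensorProduct Diff16 Groth.Agent.Lib.helper11.DiffOp Groth.Agent.Lib.Helper14.DiffUnram
  Groth.Agent.Lib.Helper14.DiffEtale


/-- A differential operator of order at most k between modules over B (relative to A → B) has exactly
one extension to the localized modules over S⁻¹B that is again a differential operator of order at
most k (relative to A → S⁻¹B), compatible with the localization maps. -/
theorem result (A B : Type u) [CommRing A] [CommRing B] [Algebra A B]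
    (S : Submonoid B) (M N : Type u) [AddCommGroup M] [Module B M] [Module A M] [IsScalarTower A B M]
    [AddCommGroup N] [Module B N] [Module A N] [IsScalarTower A B N] (k : ℕ) (D : M →ₗ[A] N)
    (hD : Diff16.IsDiffOpLE A B M N k D) :
    ∃! E : LocalizedModule S M →ₗ[A] LocalizedModule S N,
      Diff16.IsDiffOpLE A (Localization S) (LocalizedModule S M) (LocalizedModule S N) k E ∧
        E ∘ₗ (LocalizedModule.mkLinearMap S M).restrictScalars A =
          (LocalizedModule.mkLinearMap S N).restrictScalars A ∘ₗ D := by
  have hfe : Algebra.FormallyEtale B (Localization S) := Algebra.FormallyEtale.of_isLocalization S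
  have hfs : Algebra.FormallySmooth B (Localization S) := inferInstance
  have hfu : Algebra.FormallyUnramified B (Localization S) := inferInstance
  let eM := (LocalizedModule.equivTensorProduct S M).restrictScalars A
  let eN := (LocalizedModule.equivTensorProduct S N).restrictScalars A
  have heM0 : IsDiffOpLE A (Localization S) (LocalizedModule S M) (Localization S ⊗[B] M) 0
      eM.toLinearMap := fun b x => (LocalizedModule.equivTensorProduct S M).map_smul b x
  have heM0' : IsDiffOpLE A (Localization S) (Localization S ⊗[B] M) (LocalizedModule S M) 0
      eM.symm.toLinearMap := fun b x => (LocalizedModule.equivTensorProduct S M).symm.map_smul b x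
  have heN0 : IsDiffOpLE A (Localization S) (LocalizedModule S N) (Localization S ⊗[B] N) 0
      eN.toLinearMap := fun b x => (LocalizedModule.equivTensorProduct S N).map_smul b x
  have heN0' : IsDiffOpLE A (Localization S) (Localization S ⊗[B] N) (LocalizedModule S N) 0
      eN.symm.toLinearMap := fun b x => (LocalizedModule.equivTensorProduct S N).symm.map_smul b x
  have heM1 : ∀ m : M, eM (LocalizedModule.mk m 1) = (1 : Localization S) ⊗ₜ[B] m := fun m => by
    change LocalizedModule.equivTensorProduct S M (LocalizedModule.mk m 1) = _
    rw [LocalizedModule.equivTensorProduct_apply_mk, Localization.mk_one]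
  have heN1 : ∀ n : N, eN.symm ((1 : Localization S) ⊗ₜ[B] n) = LocalizedModule.mk n 1 := fun n => by
    change (LocalizedModule.equivTensorProduct S N).symm _ = _
    rw [LocalizedModule.equivTensorProduct_symm_apply_tmul_one]
  obtain ⟨D', hD', hext⟩ := exists_extension A B (Localization S) M N k D hD
  refine ⟨eN.symm.toLinearMap ∘ₗ D' ∘ₗ eM.toLinearMap, ⟨?_, ?_⟩, ?_⟩
  · exact IsDiffOpLE.comp k k 0 (by omega) (IsDiffOpLE.comp k 0 k (by omega) heM0 hD') heN0'
  · ext m
    simp only [LinearMap.coe_comp, LinearMap.coe_restrictScalars, LinearEquiv.coe_coe,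
      Function.comp_apply, LocalizedModule.mkLinearMap_apply]
    rw [heM1, hext, heN1]
  · rintro E ⟨hE, hEext⟩
    have hvan : eN.toLinearMap ∘ₗ (E - eN.symm.toLinearMap ∘ₗ D' ∘ₗ eM.toLinearMap) ∘ₗ
        eM.symm.toLinearMap = 0 := by
      apply eq_zero_of_vanish (S := B) k
      · apply IsDiffOpLE.comp k k 0 (by omega) _ heN0
        apply IsDiffOpLE.comp k 0 k (by omega) heM0'
        exact IsDiffOpLE.sub hE
          (IsDiffOpLE.comp k k 0 (by omega) (IsDiffOpLE.comp k 0 k (by omega) heM0 hD') heN0')
      · intro m
        have h1 : eM.symm ((1 : Localization S) ⊗ₜ[B] m) = LocalizedModule.mk m 1 := by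
          change (LocalizedModule.equivTensorProduct S M).symm _ = _
          rw [LocalizedModule.equivTensorProduct_symm_apply_tmul_one]
        have h2 := LinearMap.congr_fun hEext m
        simp only [LinearMap.coe_comp, LinearMap.coe_restrictScalars, Function.comp_apply,
          LocalizedModule.mkLinearMap_apply] at h2
        simp only [LinearMap.coe_comp, LinearEquiv.coe_coe, Function.comp_apply,
          LinearMap.sub_apply]
        rw [h1, h2, heM1, hext, heN1, sub_self, map_zero]
    apply LinearMap.ext
    intro x
    have := LinearMap.congr_fun hvan (eM x)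
    simp only [LinearMap.coe_comp, LinearEquiv.coe_coe, Function.comp_apply,
      LinearEquiv.symm_apply_apply, LinearMap.zero_apply, LinearMap.sub_apply] at this
    have h3 := eN.injective (this.trans (map_zero eN).symm)
    rw [sub_eq_zero] at h3
    rw [h3]
    rfl

end Groth.Agent.S9155
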