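import Groth.Statements.S9156
import Groth.Agent.Lib.Helper7.FibreDimDecomp

set_option autoImplicit false
universe u
open CAlg

namespace Groth.Agent.S9156

open TensorProduct

/-- over a field, the fibre ring over the (unique) prime is the algebra itself. -/
noncomputable def fiberEquiv (k S : Type u) [Field k] [CommRing S] [Algebra k S] (p : Ideal k)
    [p.IsPrime] : p.Fiber S ≃ₐ[k] S := by
  have hp : p = ⊥ := Ideal.eq_bot_of_prime p
  haveI : p.IsMaximal := by rw [hp]; exact Ideal.bot_isMaximal
  have hbij : Function.Bijective (algebraMap k p.ResidueField) := by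
    refine ⟨(algebraMap k p.ResidueField).injective, ?_⟩
    intro x
    obtain ⟨y, rfl⟩ := (Ideal.bijective_algebraMap_quotient_residueField p).2 x
    obtain ⟨z, rfl⟩ := Ideal.Quotient.mk_surjective y
    exact ⟨z, (IsScalarTower.algebraMap_apply k (k ⧸ p) p.ResidueField z)⟩
  let e0 : k ≃ₐ[k] p.ResidueField := AlgEquiv.ofBijective (Algebra.ofId k p.ResidueField) hbij
  exact (Algebra.TensorProduct.congr e0.symm (AlgEquiv.refl (R := k) (A₁ := S))).trans
    (Algebra.TensorProduct.lid k S)

/-- A Cohen–Macaulay finite type algebra S over a field k decomposes as a finite product of k-algebras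
S_0 × ⋯ × S_N in which every maximal ideal of the factor S_d has height d (so Spec S is a finite
disjoint union of equidimensional open and closed pieces). -/
theorem result (k S : Type u) [Field k] [CommRing S]
    [Algebra k S] [Algebra.FiniteType k S] [LocCoh.IsCohenMacaulayRing S] :
    ∃ (N : ℕ) (T : Fin (N + 1) → Type u) (_ : ∀ d, CommRing (T d)) (_ : ∀ d, Algebra k (T d)),
      Nonempty (S ≃ₐ[k] ((d : Fin (N + 1)) → T d)) ∧
        ∀ (d : Fin (N + 1)) (m : Ideal (T d)), m.IsMaximal → m.height = (d : ℕ) := by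
  classical
  haveI hS : LocCoh.IsCohenMacaulayRing S := inferInstance
  haveI : IsNoetherianRing S := hS.toIsNoetherian
  haveI : Algebra.FinitePresentation k S :=
    (Algebra.FinitePresentation.of_finiteType (R := k) (A := S)).mp inferInstance
  have hCM : ∀ p : PrimeSpectrum k, LocCoh.IsCohenMacaulayRing (p.asIdeal.Fiber S) := by
    intro p
    let ε := (fiberEquiv k S p.asIdeal).toRingEquiv
    haveI : IsNoetherianRing (p.asIdeal.Fiber S) := isNoetherianRing_of_ringEquiv _ ε.symm
    exact Groth.Agent.Lib.Helper21.CMKit.isCM_of_ringEquiv ε.symm hS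
  obtain ⟨N, T, i1, i2, hiso, hT⟩ :=
    Groth.Agent.Lib.Helper7.FibreDimDecomp.exists_pi_decomposition k S hCM
  refine ⟨N, T, i1, i2, hiso, ?_⟩
  intro d m hm
  obtain ⟨hflat, hfp, hcm, hdim⟩ := hT d
  let p0 : PrimeSpectrum k := ⟨⊥, Ideal.bot_prime⟩
  let ε : p0.asIdeal.Fiber (T d) ≃+* T d := (fiberEquiv k (T d) p0.asIdeal).toRingEquiv
  haveI : Algebra.FiniteType k (T d) := inferInstance
  haveI hmprime : m.IsPrime := hm.isPrime
  have hmax : (m.comap ε.toRingHom).IsMaximal := Ideal.comap_isMaximal_of_surjective _ ε.surjective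
  haveI : (m.comap ε.toRingHom).IsPrime := hmax.isPrime
  have h := Groth.Agent.Lib.Helper7.FibreRegOpen.height_add_coheight_of_equidim
    p0.asIdeal.ResidueField (p0.asIdeal.Fiber (T d)) d (hdim p0) ⟨m.comap ε.toRingHom, inferInstance⟩
  have hco : Order.coheight (⟨m.comap ε.toRingHom, inferInstance⟩ :
      PrimeSpectrum (p0.asIdeal.Fiber (T d))) = 0 := by
    rw [Order.coheight_eq_zero, PrimeSpectrum.isMax_iff]
    exact hmax
  rw [hco, add_zero] at h
  have h2 : (m.comap ε.toRingHom).height = m.height := RingEquiv.height_comap ε m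
  rw [← h2]
  exact (PrimeSpectrum.height_eq_orderHeight
    (⟨m.comap ε.toRingHom, inferInstance⟩ : PrimeSpectrum (p0.asIdeal.Fiber (T d)))).trans h

end Groth.Agent.S9156
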