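import Groth.Statements.S9157
import Mathlib
-- import your own Groth.Agent.* helpers here

set_option autoImplicit false
universe u
open CAlg

namespace Groth.Agent.S9157


theorem mk_eq_zero_iff' {R : Type u} [CommRing R] (S : Submonoid R) {M : Type u} [AddCommGroup M]
    [Module R M] (m : M) (s : S) :
    (LocalizedModule.mk m s : LocalizedModule S M) = 0 ↔ ∃ u : S, u • m = 0 := by
  rw [← LocalizedModule.zero_mk (1 : S), LocalizedModule.mk_eq]
  constructor
  · rintro ⟨u, hu⟩
    refine ⟨u, ?_⟩
    simpa using hu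
  · rintro ⟨u, hu⟩
    refine ⟨u, ?_⟩
    simp [hu]

/-- If the localization S⁻¹M of an R-module M is finitely presented over S⁻¹R, then some finitely
presented R-module M' maps to M inducing an isomorphism S⁻¹M' → S⁻¹M. -/
theorem result (R : Type u) [CommRing R] (S : Submonoid R)
    (M : Type u) [AddCommGroup M] [Module R M]
    [Module.FinitePresentation (Localization S) (LocalizedModule S M)] :
    ∃ (M' : Type u) (_ : AddCommGroup M') (_ : Module R M') (φ : M' →ₗ[R] M),
      Module.FinitePresentation R M' ∧ Function.Bijective (LocalizedModule.map S φ) := by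
  classical
  obtain ⟨G, hG⟩ :=
    (Module.Finite.fg_top : (⊤ : Submodule (Localization S) (LocalizedModule S M)).FG)
  have hrep : ∀ x : LocalizedModule S M, ∃ (m : M) (s : S), x = LocalizedModule.mk m s :=
    fun x => LocalizedModule.induction_on (fun m s => ⟨m, s, rfl⟩) x
  choose m s hms using hrep
  let φ0 : (G →₀ R) →ₗ[R] M := Finsupp.linearCombination R (fun g : G => m g)
  let Φ : LocalizedModule S (G →₀ R) →ₗ[Localization S] LocalizedModule S M := LocalizedModule.map S φ0
  have hΦsurj : Function.Surjective Φ := by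
    rw [← LinearMap.range_eq_top, eq_top_iff, ← hG, Submodule.span_le]
    intro g hg
    refine ⟨(Localization.mk (1:R) (s g)) •
      LocalizedModule.mk (Finsupp.single (⟨g, hg⟩ : G) (1 : R)) 1, ?_⟩
    rw [map_smul]
    show Localization.mk (1:R) (s g) • LocalizedModule.map S φ0 _ = g
    rw [LocalizedModule.map_mk, LocalizedModule.mk_smul_mk]
    have h0 : φ0 (Finsupp.single (⟨g, hg⟩ : G) (1 : R)) = m g := by simp [φ0]
    rw [h0, one_smul, mul_one]
    exact (hms g).symm
  have hker : (LinearMap.ker Φ).FG :=
    @Module.FinitePresentation.fg_ker (Localization S) (LocalizedModule S (G →₀ R))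
      (LocalizedModule S M) _ _ _ _ _ _ _ Φ hΦsurj
  obtain ⟨G', hG'⟩ := hker
  have hlift : ∀ x : LocalizedModule S (G →₀ R), Φ x = 0 → ∃ (w : G →₀ R) (t : S), φ0 w = 0 ∧
      x = LocalizedModule.mk w t := by
    intro x hx
    induction x using LocalizedModule.induction_on with
    | h v s0 =>
      have h1 : LocalizedModule.mk (φ0 v) s0 = (0 : LocalizedModule S M) := by
        rw [← LocalizedModule.map_mk]; exact hx
      obtain ⟨u, hu⟩ := (mk_eq_zero_iff' S _ _).mp h1
      refine ⟨u • v, u * s0, ?_, ?_⟩
      · rw [Submonoid.smul_def, map_smul, ← Submonoid.smul_def]; exact hu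
      · exact (LocalizedModule.mk_cancel_common_left u s0 v).symm
  choose w t hw hwt using hlift
  have hG'ker : ∀ g' ∈ G', Φ g' = 0 := by
    intro g' hg'
    have : g' ∈ LinearMap.ker Φ := hG' ▸ Submodule.subset_span hg'
    exact this
  let K0 : Submodule R (G →₀ R) := Submodule.span R (Set.range fun g' : G' => w g'.1 (hG'ker g'.1 g'.2))
  have hK0fg : K0.FG := Submodule.fg_span (Set.finite_range _)
  have hK0le : K0 ≤ LinearMap.ker φ0 := by
    rw [Submodule.span_le]
    rintro _ ⟨g', rfl⟩
    exact hw _ _
  refine ⟨(G →₀ R) ⧸ K0, inferInstance, inferInstance, K0.liftQ φ0 hK0le, ?_, ?_, ?_⟩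
  · exact Module.finitePresentation_of_free_of_surjective K0.mkQ K0.mkQ_surjective
      (by rw [Submodule.ker_mkQ]; exact hK0fg)
  · -- injective
    rw [injective_iff_map_eq_zero]
    intro x hx
    induction x using LocalizedModule.induction_on with
    | h q s0 =>
      obtain ⟨v, rfl⟩ := K0.mkQ_surjective q
      rw [LocalizedModule.map_mk] at hx
      have hx' : LocalizedModule.mk (φ0 v) s0 = (0 : LocalizedModule S M) := hx
      obtain ⟨u, hu⟩ := (mk_eq_zero_iff' S _ _).mp hx'
      have hmem : (LocalizedModule.mk v 1 : LocalizedModule S (G →₀ R)) ∈ LinearMap.ker Φ := by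
        show LocalizedModule.map S φ0 _ = 0
        rw [LocalizedModule.map_mk]
        exact (mk_eq_zero_iff' S _ _).mpr ⟨u, hu⟩
      have key : ∀ y ∈ LinearMap.ker Φ, ∃ (t0 : S) (k : G →₀ R), k ∈ K0 ∧
          y = LocalizedModule.mk k t0 := by
        intro y hy
        rw [← hG'] at hy
        induction hy using Submodule.span_induction with
        | mem g' hg' =>
          exact ⟨t g' (hG'ker g' hg'), w g' (hG'ker g' hg'),
            Submodule.subset_span ⟨⟨g', hg'⟩, rfl⟩, hwt g' (hG'ker g' hg')⟩
        | zero => exact ⟨1, 0, zero_mem _, (LocalizedModule.zero_mk 1).symm⟩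
        | add a b _ _ ha hb =>
          obtain ⟨t1, k1, hk1, rfl⟩ := ha
          obtain ⟨t2, k2, hk2, rfl⟩ := hb
          exact ⟨t1 * t2, t2 • k1 + t1 • k2,
            add_mem (K0.smul_mem _ hk1) (K0.smul_mem _ hk2), LocalizedModule.mk_add_mk⟩
        | smul a b _ hb =>
          obtain ⟨t1, k1, hk1, rfl⟩ := hb
          induction a using Localization.induction_on with
          | H rs =>
            exact ⟨rs.2 * t1, rs.1 • k1, K0.smul_mem _ hk1, LocalizedModule.mk_smul_mk _ _ _ _⟩
      obtain ⟨t0, k, hk, hvk⟩ := key _ hmem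
      obtain ⟨u', hu'⟩ := LocalizedModule.mk_eq.mp hvk
      refine (mk_eq_zero_iff' S _ _).mpr ⟨u' * t0, ?_⟩
      have : (u' * t0) • v ∈ K0 := by
        rw [mul_smul, hu']
        exact K0.smul_mem _ (K0.smul_mem _ hk)
      show (u' * t0) • K0.mkQ v = 0
      rw [Submonoid.smul_def, ← map_smul, ← Submonoid.smul_def]
      exact (Submodule.Quotient.mk_eq_zero _).mpr this
  · -- surjective
    intro y
    obtain ⟨x, rfl⟩ := hΦsurj y
    induction x using LocalizedModule.induction_on with
    | h v s0 =>
      refine ⟨LocalizedModule.mk (K0.mkQ v) s0, ?_⟩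
      rw [LocalizedModule.map_mk]
      show _ = LocalizedModule.map S φ0 _
      rw [LocalizedModule.map_mk]
      rfl

end Groth.Agent.S9157
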