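import Groth.Statements.S9159
import Groth.Agent.S2141
import Groth.Agent.S2082
import Groth.Agent.S9129
import Groth.Agent.Lib.lead.FieldDim
import Groth.Agent.Lib.Helper21.FlatLocal6
import Groth.Agent.Lib.Helper21.CMKit

set_option autoImplicit false
universe u
open CAlg

namespace Groth.Agent.S9159

open Cardinal Algebra IsLocalRing

attribute [local instance] Localization.AtPrime.algebraOfLiesOver

theorem height_fibre_eq_zero {A S : Type u} [CommRing A] [CommRing S] [Algebra A S]
    [Algebra.QuasiFinite A S] (p : Ideal A) [p.IsPrime] (q : Ideal S) [q.IsPrime] [q.LiesOver p] :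
    (q.map (Ideal.Quotient.mk (p.map (algebraMap A S)))).height = 0 := by
  have hle : p.map (algebraMap A S) ≤ q := by
    rw [Ideal.map_le_iff_le_comap, Ideal.LiesOver.over (p := p) (P := q)]
  haveI : (q.map (Ideal.Quotient.mk (p.map (algebraMap A S)))).IsPrime :=
    Ideal.map_isPrime_of_surjective Ideal.Quotient.mk_surjective (by simpa using hle)
  have h0 : (q.map (Ideal.Quotient.mk (p.map (algebraMap A S)))).height ≤ (0 : ℕ) := by
    rw [Ideal.height_le_iff]
    intro Q hQ hlt
    exfalso
    haveI := hQ
    have hcomap : (Q.comap (Ideal.Quotient.mk (p.map (algebraMap A S)))) ≤ q := by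
      have := Ideal.comap_mono (f := Ideal.Quotient.mk (p.map (algebraMap A S))) hlt.le
      rwa [Ideal.comap_map_of_surjective _ Ideal.Quotient.mk_surjective, ← RingHom.ker_eq_comap_bot,
        Ideal.mk_ker, sup_eq_left.2 hle] at this
    have hunder : (Q.comap (Ideal.Quotient.mk (p.map (algebraMap A S)))).under A = q.under A := by
      apply le_antisymm (Ideal.comap_mono hcomap)
      change q.under A ≤ _
      rw [← Ideal.LiesOver.over (p := p) (P := q)]
      intro a ha
      show algebraMap A S a ∈ Q.comap _
      rw [Ideal.mem_comap]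
      have : Ideal.Quotient.mk (p.map (algebraMap A S)) (algebraMap A S a) = 0 :=
        Ideal.Quotient.eq_zero_iff_mem.2 (Ideal.mem_map_of_mem _ ha)
      rw [this]; exact Q.zero_mem
    have heq := Algebra.QuasiFinite.eq_of_le_of_under_eq (R := A) _ q hcomap hunder
    apply hlt.ne
    rw [← heq, Ideal.map_comap_of_surjective _ Ideal.Quotient.mk_surjective]
  simpa using h0

/-- For a prime `p` of a polynomial ring in `d` variables over a field: `ht p + trdeg κ(p) = d`. -/
theorem exists_trdeg_residueField (k : Type u) [Field k] (d : ℕ)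
    (p : Ideal (MvPolynomial (Fin d) k)) [p.IsPrime] :
    ∃ h r : ℕ, p.height = h ∧ Algebra.trdeg k p.ResidueField = r ∧ h + r = d := by
  have h1 := Groth.Agent.Lib.lead.FieldDim.height_add_trdeg_eq k (MvPolynomial (Fin d) k) p
  rw [MvPolynomial.trdeg_of_isDomain] at h1
  haveI : IsScalarTower k (MvPolynomial (Fin d) k ⧸ p) p.ResidueField := inferInstance
  have hinj : Function.Injective (algebraMap (MvPolynomial (Fin d) k ⧸ p) p.ResidueField) :=
    IsFractionRing.injective _ _
  haveI : Algebra.IsAlgebraic (MvPolynomial (Fin d) k ⧸ p) p.ResidueField :=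
    IsLocalization.isAlgebraic _ (nonZeroDivisors (MvPolynomial (Fin d) k ⧸ p))
  haveI : FaithfulSMul (MvPolynomial (Fin d) k ⧸ p) p.ResidueField :=
    (faithfulSMul_iff_algebraMap_injective _ _).2 hinj
  have e1 := trdeg_add_eq k (MvPolynomial (Fin d) k ⧸ p) (A := p.ResidueField)
  rw [trdeg_eq_zero (R := MvPolynomial (Fin d) k ⧸ p) (A := p.ResidueField), add_zero] at e1
  rw [e1] at h1
  have hfin : p.height ≠ ⊤ := Ideal.height_ne_top (Ideal.IsPrime.ne_top inferInstance)
  obtain ⟨h, hh⟩ := ENat.ne_top_iff_exists.1 hfin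
  have hlt : Algebra.trdeg k p.ResidueField < ℵ₀ := by
    have : Algebra.trdeg k p.ResidueField ≤ lift.{u} (#(Fin d)) := by
      rw [← h1]; exact le_add_self
    exact lt_of_le_of_lt this (by simp)
  obtain ⟨r, hr⟩ := Cardinal.lt_aleph0.1 hlt
  refine ⟨h, r, hh.symm, hr, ?_⟩
  rw [← hh, hr] at h1
  simp at h1
  exact_mod_cast h1

theorem trdeg_residueField_eq {k A S : Type u} [Field k] [CommRing A] [CommRing S] [Algebra k A]
    [Algebra k S] [Algebra A S] [IsScalarTower k A S]
    [Algebra.QuasiFinite A S] (p : Ideal A) [p.IsPrime] (q : Ideal S) [q.IsPrime] [q.LiesOver p] :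
    Algebra.trdeg k q.ResidueField = Algebra.trdeg k p.ResidueField := by
  haveI : Module.Finite p.ResidueField q.ResidueField := inferInstance
  haveI : Algebra.IsAlgebraic p.ResidueField q.ResidueField := inferInstance
  haveI : IsScalarTower k p.ResidueField q.ResidueField := inferInstance
  have e1 := trdeg_add_eq k p.ResidueField (A := q.ResidueField)
  rw [trdeg_eq_zero (R := p.ResidueField) (A := q.ResidueField), add_zero] at e1
  exact e1.symm

theorem ringKrullDim_fibre_eq_zero {A S : Type u} [CommRing A] [CommRing S] [Algebra A S]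
    [Algebra.QuasiFinite A S] (p : Ideal A) [p.IsPrime] (q : Ideal S) [q.IsPrime] [q.LiesOver p] :
    ringKrullDim (Localization.AtPrime q ⧸ (maximalIdeal (Localization.AtPrime p)).map
      (algebraMap (Localization.AtPrime p) (Localization.AtPrime q))) = 0 := by
  set I := (maximalIdeal (Localization.AtPrime p)).map
      (algebraMap (Localization.AtPrime p) (Localization.AtPrime q)) with hI
  have hIle : I ≤ maximalIdeal (Localization.AtPrime q) :=
    Ideal.map_le_iff_le_comap.2 fun x hx => map_nonunit _ x hx
  haveI : Nontrivial (Localization.AtPrime q ⧸ I) :=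
    Ideal.Quotient.nontrivial_iff.2 (fun h => (Ideal.IsPrime.ne_top (inferInstance :
      (maximalIdeal (Localization.AtPrime q)).IsPrime)) (top_le_iff.1 (h ▸ hIle)))
  rw [← ringKrullDimZero_iff_ringKrullDim_eq_zero]
  refine Ring.KrullDimLE.mk₀ fun P hP => ?_
  haveI := hP
  set Q := P.comap (Ideal.Quotient.mk I) with hQ
  haveI : Q.IsPrime := Ideal.comap_isPrime _ _
  have hIQ : I ≤ Q := by
    intro x hx
    rw [hQ, Ideal.mem_comap, Ideal.Quotient.eq_zero_iff_mem.2 hx]
    exact P.zero_mem
  set Q' := Q.comap (algebraMap S (Localization.AtPrime q)) with hQ'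
  haveI : Q'.IsPrime := Ideal.comap_isPrime _ _
  have hQ'q : Q' ≤ q := by
    have h1 : Q ≤ maximalIdeal (Localization.AtPrime q) := IsLocalRing.le_maximalIdeal
      (Ideal.IsPrime.ne_top inferInstance)
    have h2 := Ideal.comap_mono (f := algebraMap S (Localization.AtPrime q)) h1
    have h3 := Localization.AtPrime.under_maximalIdeal (I := q)
    rw [Ideal.under_def] at h3
    rwa [h3] at h2
  have hunder : Q'.under A = q.under A := by
    apply le_antisymm (Ideal.comap_mono hQ'q)
    change q.under A ≤ _
    rw [← Ideal.LiesOver.over (p := p) (P := q)]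
    intro a ha
    show algebraMap A S a ∈ Q'
    rw [hQ', Ideal.mem_comap]
    apply hIQ
    rw [← IsScalarTower.algebraMap_apply A S (Localization.AtPrime q),
      IsScalarTower.algebraMap_apply A (Localization.AtPrime p) (Localization.AtPrime q)]
    apply Ideal.mem_map_of_mem
    rw [← Localization.AtPrime.map_eq_maximalIdeal]
    exact Ideal.mem_map_of_mem _ ha
  have heq := Algebra.QuasiFinite.eq_of_le_of_under_eq (R := A) Q' q hQ'q hunder
  have hQmax : Q = maximalIdeal (Localization.AtPrime q) := by
    have h1 : Q'.map (algebraMap S (Localization.AtPrime q)) = Q :=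
      IsLocalization.map_comap q.primeCompl _ Q
    rw [← h1, heq, Localization.AtPrime.map_eq_maximalIdeal]
  have hPeq : P = (maximalIdeal (Localization.AtPrime q)).map (Ideal.Quotient.mk I) := by
    rw [← hQmax, hQ, Ideal.map_comap_of_surjective _ Ideal.Quotient.mk_surjective]
  rcases Ideal.map_eq_top_or_isMaximal_of_surjective (Ideal.Quotient.mk I)
    Ideal.Quotient.mk_surjective (inferInstance : (maximalIdeal (Localization.AtPrime q)).IsMaximal)
    with h | h
  · exact absurd (hPeq.trans h) (Ideal.IsPrime.ne_top hP)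
  · rwa [hPeq]



/-- Fix a field k, a k-algebra S of finite type, and a quasi-finite map of k-algebras k[y_1, …, y_d] →
S. A prime q of S has S_q flat over k[y_1, …, y_d] exactly when S_q is Cohen–Macaulay and Spec S has
local dimension d at q. -/
theorem result (k S : Type u) [Field k] [CommRing S]
    [Algebra k S] [Algebra.FiniteType k S] (d : ℕ) [Algebra (MvPolynomial (Fin d) k) S]
    [IsScalarTower k (MvPolynomial (Fin d) k) S] [Algebra.QuasiFinite (MvPolynomial (Fin d) k) S]
    (q : Ideal S) [q.IsPrime] :
    Module.Flat (MvPolynomial (Fin d) k) (Localization.AtPrime q) ↔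
      (LocCoh.IsCohenMacaulayLocalRing (Localization.AtPrime q) ∧
        FlatMor.localDim (PrimeSpectrum S) ⟨q, inferInstance⟩ = (d : WithBot ℕ∞)) := by
  classical
  haveI : IsNoetherianRing S := Algebra.FiniteType.isNoetherianRing k S
  set p : Ideal (MvPolynomial (Fin d) k) := q.under (MvPolynomial (Fin d) k) with hp
  haveI : q.LiesOver p := ⟨rfl⟩
  haveI hCMA : LocCoh.IsCohenMacaulayLocalRing (Localization.AtPrime p) :=
    (Groth.Agent.Lib.Helper21.CMKit.isCM_of_isRegularRing
      (MvPolynomial (Fin d) k)).isCohenMacaulayLocalRing_localization p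
  haveI : IsRegularLocalRing (Localization.AtPrime p) := inferInstance
  rw [← Module.flat_iff_of_isLocalization (Localization.AtPrime p) p.primeCompl]
  obtain ⟨h, r, hh, hr, hhr⟩ := exists_trdeg_residueField k d p
  have hr' : Algebra.trdeg k q.ResidueField = r := (trdeg_residueField_eq p q).trans hr
  have hloc := Groth.Agent.S2141.result q r hr'
  have hdimS : ringKrullDim (Localization.AtPrime q) = q.height :=
    IsLocalization.AtPrime.ringKrullDim_eq_height q _
  have hdimA : ringKrullDim (Localization.AtPrime p) = p.height :=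
    IsLocalization.AtPrime.ringKrullDim_eq_height p _
  have hle : q.height ≤ p.height := by
    have := Ideal.height_le_height_add_of_liesOver p q
    rwa [height_fibre_eq_zero p q, add_zero] at this
  have hfib := ringKrullDim_fibre_eq_zero p q
  constructor
  · intro hflat
    have h1 := Groth.Agent.S9129.result (Localization.AtPrime p) (Localization.AtPrime q)
      (Or.inr (by rw [hdimS, hdimA]; exact_mod_cast hle))
    refine ⟨h1.1, ?_⟩
    rw [hloc, ← h1.2, hdimA, hh, ← hhr]
    push_cast
    rfl
  · rintro ⟨hCM, hd⟩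
    haveI := hCM
    rw [hloc, hdimS] at hd
    have hq : q.height = h := by
      have hfin : q.height ≠ ⊤ := ne_top_of_le_ne_top (by rw [hh]; exact ENat.coe_ne_top h) hle
      obtain ⟨h', hh'⟩ := ENat.ne_top_iff_exists.1 hfin
      rw [← hh', ← hhr] at hd
      have : h' + r = h + r := by exact_mod_cast hd
      rw [← hh']
      congr 1
      omega
    apply Groth.Agent.S2082.result
    rw [hfib, add_zero, hdimS, hdimA, hq, hh]

end Groth.Agent.S9159
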