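import Groth.Statements.S9160
import Mathlib
-- import your own Groth.Agent.* helpers here

set_option autoImplicit false
universe u
open CAlg

namespace Groth.Agent.S9160


theorem finite_length_quot (R : Type u) [CommRing R] [IsNoetherianRing R]
    (hdim : ringKrullDim R = 1) (a : R) (ha : IsRegular a) :
    Module.length R (R ⧸ Ideal.span ({a} : Set R)) ≠ ⊤ := by
  have ha' : a ∈ nonZeroDivisors R := ha.mem_nonZeroDivisors
  have h1 := ringKrullDim_quotient_succ_le_of_nonZeroDivisor ha'
  rw [hdim] at h1
  have h2 : ringKrullDim (R ⧸ Ideal.span ({a} : Set R)) ≤ 0 := by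
    generalize ringKrullDim (R ⧸ Ideal.span ({a} : Set R)) = x at h1
    induction x using WithBot.recBotCoe with
    | bot => exact bot_le
    | coe n =>
      induction n using ENat.recTopCoe with
      | top => exact absurd h1 (by decide)
      | coe k =>
        have : ((k + 1 : ℕ) : WithBot ℕ∞) ≤ ((1 : ℕ) : WithBot ℕ∞) := by exact_mod_cast h1
        have hk : k + 1 ≤ 1 := by exact_mod_cast this
        have : k = 0 := by omega
        subst this
        exact le_rfl
  have h3 : Ring.KrullDimLE 0 (R ⧸ Ideal.span ({a} : Set R)) :=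
    Ring.krullDimLE_iff.mpr (by simpa using h2)
  have h4 : IsArtinianRing (R ⧸ Ideal.span ({a} : Set R)) :=
    isArtinianRing_iff_krullDimLE_zero.mpr h3
  have h5 : IsArtinian R (R ⧸ Ideal.span ({a} : Set R)) :=
    isArtinian_of_surjective_algebraMap (R := R ⧸ Ideal.span ({a} : Set R))
      (M := R ⧸ Ideal.span ({a} : Set R)) (S := R) Ideal.Quotient.mk_surjective
  exact Module.length_ne_top

/-- In a semi-local Noetherian ring of dimension one, for nonzerodivisors a and b the length of R/(ab)
is the sum of the lengths of R/(a) and R/(b), and these lengths are finite. -/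
theorem result (R : Type u) [CommRing R] [IsNoetherianRing R]
    (hsemi : Finite (MaximalSpectrum R)) (hdim : ringKrullDim R = 1) (a b : R) (ha : IsRegular a)
    (hb : IsRegular b) :
    Module.length R (R ⧸ Ideal.span ({a * b} : Set R)) =
        Module.length R (R ⧸ Ideal.span ({a} : Set R)) + Module.length R (R ⧸ Ideal.span ({b} : Set R)) ∧
      Module.length R (R ⧸ Ideal.span ({a} : Set R)) ≠ ⊤ ∧
      Module.length R (R ⧸ Ideal.span ({b} : Set R)) ≠ ⊤ := by
  have hfa := finite_length_quot R hdim a ha
  have hfb := finite_length_quot R hdim b hb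
  refine ⟨?_, hfa, hfb⟩
  let f : (R ⧸ Ideal.span ({a} : Set R)) →ₗ[R] (R ⧸ Ideal.span ({a * b} : Set R)) :=
    Submodule.mapQ (Ideal.span ({a} : Set R)) (Ideal.span ({a * b} : Set R))
      (LinearMap.mulLeft R b) (by
        intro x hx
        obtain ⟨c, rfl⟩ := Ideal.mem_span_singleton'.mp hx
        show b * (c * a) ∈ Ideal.span ({a * b} : Set R)
        exact Ideal.mem_span_singleton'.mpr ⟨c, by ring⟩)
  let g : (R ⧸ Ideal.span ({a * b} : Set R)) →ₗ[R] (R ⧸ Ideal.span ({b} : Set R)) :=
    Submodule.mapQ (Ideal.span ({a * b} : Set R)) (Ideal.span ({b} : Set R))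
      LinearMap.id (by
        intro x hx
        obtain ⟨c, rfl⟩ := Ideal.mem_span_singleton'.mp hx
        show c * (a * b) ∈ Ideal.span ({b} : Set R)
        exact Ideal.mem_span_singleton'.mpr ⟨c * a, by ring⟩)
  have hfmk : ∀ x : R, f (Submodule.Quotient.mk x) = Submodule.Quotient.mk (b * x) := fun x => rfl
  have hgmk : ∀ x : R, g (Submodule.Quotient.mk x) = Submodule.Quotient.mk x := fun x => rfl
  have hf : Function.Injective f := by
    rw [injective_iff_map_eq_zero]
    intro q hq
    obtain ⟨x, rfl⟩ := Submodule.Quotient.mk_surjective _ q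
    rw [hfmk, Submodule.Quotient.mk_eq_zero] at hq
    obtain ⟨c, hc⟩ := Ideal.mem_span_singleton'.mp hq
    rw [Submodule.Quotient.mk_eq_zero]
    have : b * (c * a) = b * x := by rw [← hc]; ring
    have := hb.left this
    exact Ideal.mem_span_singleton'.mpr ⟨c, this⟩
  have hg : Function.Surjective g := by
    intro q
    obtain ⟨x, rfl⟩ := Submodule.Quotient.mk_surjective _ q
    exact ⟨Submodule.Quotient.mk x, hgmk x⟩
  have H : Function.Exact f g := by
    intro q
    obtain ⟨x, rfl⟩ := Submodule.Quotient.mk_surjective _ q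
    rw [hgmk, Submodule.Quotient.mk_eq_zero]
    constructor
    · intro hx
      obtain ⟨c, hc⟩ := Ideal.mem_span_singleton'.mp hx
      refine ⟨Submodule.Quotient.mk c, ?_⟩
      rw [hfmk, ← hc, mul_comm b c]
    · rintro ⟨q', hq'⟩
      obtain ⟨y, rfl⟩ := Submodule.Quotient.mk_surjective _ q'
      rw [hfmk, Submodule.Quotient.eq] at hq'
      obtain ⟨c, hc⟩ := Ideal.mem_span_singleton'.mp hq'
      have : x = b * y - c * (a * b) := by rw [hc]; ring
      rw [this]
      exact Ideal.mem_span_singleton'.mpr ⟨y - c * a, by ring⟩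
  exact Module.length_eq_add_of_exact f g hf hg H

end Groth.Agent.S9160
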