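import Groth.Statements.S9161
import Mathlib.Tactic.Abel
-- import your own Groth.Agent.* helpers here

set_option autoImplicit false
universe u
open CAlg

namespace Groth.Agent.S9161

/-- If two two-term complexes of R-modules A₁ → A₀ and B₁ → B₀ are homotopy equivalent (maps of
complexes both ways whose composites are homotopic to the identity maps), then A₁ ⊕ B₀ and B₁ ⊕ A₀
are isomorphic R-modules. -/
theorem result (R : Type u) [CommRing R]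
    (A₁ A₀ B₁ B₀ : Type u) [AddCommGroup A₁] [Module R A₁] [AddCommGroup A₀] [Module R A₀]
    [AddCommGroup B₁] [Module R B₁] [AddCommGroup B₀] [Module R B₀]
    (dA : A₁ →ₗ[R] A₀) (dB : B₁ →ₗ[R] B₀) (φ₁ : A₁ →ₗ[R] B₁) (φ₀ : A₀ →ₗ[R] B₀)
    (ψ₁ : B₁ →ₗ[R] A₁) (ψ₀ : B₀ →ₗ[R] A₀) (hφ : dB ∘ₗ φ₁ = φ₀ ∘ₗ dA) (hψ : dA ∘ₗ ψ₁ = ψ₀ ∘ₗ dB)
    (h : A₀ →ₗ[R] A₁) (hh₁ : LinearMap.id - ψ₁ ∘ₗ φ₁ = h ∘ₗ dA) (hh₀ : LinearMap.id - ψ₀ ∘ₗ φ₀ = dA ∘ₗ h)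
    (h' : B₀ →ₗ[R] B₁) (hh'₁ : LinearMap.id - φ₁ ∘ₗ ψ₁ = h' ∘ₗ dB)
    (hh'₀ : LinearMap.id - φ₀ ∘ₗ ψ₀ = dB ∘ₗ h') :
    Nonempty ((A₁ × B₀) ≃ₗ[R] (B₁ × A₀)) := by
  have e1 : ∀ a, ψ₁ (φ₁ a) = a - h (dA a) := fun a => by
    have := congr($hh₁ a); simp at this; rw [← this]; abel
  have e2 : ∀ a, ψ₀ (φ₀ a) = a - dA (h a) := fun a => by
    have := congr($hh₀ a); simp at this; rw [← this]; abel
  have e3 : ∀ b, φ₁ (ψ₁ b) = b - h' (dB b) := fun b => by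
    have := congr($hh'₁ b); simp at this; rw [← this]; abel
  have e4 : ∀ b, φ₀ (ψ₀ b) = b - dB (h' b) := fun b => by
    have := congr($hh'₀ b); simp at this; rw [← this]; abel
  have c1 : ∀ a, dB (φ₁ a) = φ₀ (dA a) := fun a => congr($hφ a)
  have c2 : ∀ b, dA (ψ₁ b) = ψ₀ (dB b) := fun b => congr($hψ b)
  let G : (A₁ × B₀) →ₗ[R] (B₁ × A₀) := (φ₁.coprod h').prod ((-dA).coprod ψ₀)
  have hG : ∀ a b, G (a, b) = (φ₁ a + h' b, -dA a + ψ₀ b) := fun a b => by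
    simp [G]
  refine ⟨LinearEquiv.ofBijective G ⟨?_, ?_⟩⟩
  · rw [injective_iff_map_eq_zero]
    rintro ⟨a, b⟩ hab
    rw [hG, Prod.mk_eq_zero] at hab
    obtain ⟨h1, h2⟩ := hab
    have hb : b = 0 := by
      have := congr(dB $h1 + φ₀ $h2)
      simp only [map_add, map_neg, map_zero, add_zero, c1, e4] at this
      rw [← this]; abel
    subst hb
    have ha : a = 0 := by
      have := congr(ψ₁ $h1 - h $h2)
      simp only [map_add, map_neg, map_zero, add_zero, sub_zero, e1] at this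
      rw [← this]; abel
    subst ha
    rfl
  · rintro ⟨b, a⟩
    obtain ⟨b', hb'⟩ : ∃ b', b = b' + h' (φ₀ a) - φ₁ (h a) :=
      ⟨b - h' (φ₀ a) + φ₁ (h a), by abel⟩
    subst hb'
    refine ⟨(ψ₁ b' - h a, dB b' + φ₀ a), ?_⟩
    rw [hG]
    simp only [map_add, map_sub, e2, e3, c2]
    ext
    · simp only; abel
    · simp only; abel

end Groth.Agent.S9161
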