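import Groth.Statements.S9162
import Groth.Agent.S9161
import Mathlib
-- import your own Groth.Agent.* helpers here

set_option autoImplicit false
universe u
open CAlg

namespace Groth.Agent.S9162

open KaehlerDifferential


theorem exists_hom {R S : Type u} [CommRing R] [CommRing S] [Algebra R S] {n m : ℕ}
    (α : MvPolynomial (Fin n) R →ₐ[R] S) (hα : Function.Surjective α)
    (β : MvPolynomial (Fin m) R →ₐ[R] S) (hβ : Function.Surjective β) :
    Nonempty ((Algebra.Extension.ofSurjective α hα).Hom (Algebra.Extension.ofSurjective β hβ)) := by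
  choose y hy using fun i : Fin n => hβ (α (MvPolynomial.X i))
  let F : MvPolynomial (Fin n) R →ₐ[R] MvPolynomial (Fin m) R := MvPolynomial.aeval y
  have hF : β.comp F = α := MvPolynomial.algHom_ext (fun i => by simp [F, hy])
  exact ⟨{ toRingHom := F.toRingHom
           toRingHom_algebraMap := fun x => F.commutes x
           algebraMap_toRingHom := fun x => DFunLike.congr_fun hF x }⟩

open Algebra Extension in
theorem homotopy_data {R S : Type u} [CommRing R] [CommRing S] [Algebra R S]
    (P Q : Algebra.Extension.{u} R S) (f : P.Hom Q) (g : Q.Hom P) :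
    ∃ h : P.CotangentSpace →ₗ[S] P.Cotangent,
      LinearMap.id - (Cotangent.map g) ∘ₗ (Cotangent.map f) = h ∘ₗ P.cotangentComplex ∧
      LinearMap.id - (CotangentSpace.map g) ∘ₗ (CotangentSpace.map f) = P.cotangentComplex ∘ₗ h := by
  refine ⟨(Hom.id P).sub (g.comp f), ?_, ?_⟩
  · have h1 := Cotangent.map_sub_map (Hom.id P) (g.comp f)
    rw [Cotangent.map_id, Cotangent.map_comp] at h1
    rw [← h1]
    rfl
  · have h1 := CotangentSpace.map_sub_map (Hom.id P) (g.comp f)
    rw [CotangentSpace.map_id, CotangentSpace.map_comp] at h1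
    rw [show P.cotangentComplex ∘ₗ (Hom.id P).sub (g.comp f) =
      P.cotangentComplex.restrictScalars S ∘ₗ (Hom.id P).sub (g.comp f) from rfl, ← h1]
    rfl

/-- Let S be an R-algebra and α : R[x_1, …, x_n] → S, β : R[y_1, …, y_m] → S surjective R-algebra maps
(presentations by polynomial rings in finitely many variables; the kernels I and J need not be
finitely generated). Then I/I² ⊕ S^m and J/J² ⊕ S^n are isomorphic S-modules. -/
theorem result (R S : Type u) [CommRing R] [CommRing S]
    [Algebra R S] (n m : ℕ) (α : MvPolynomial (Fin n) R →ₐ[R] S) (hα : Function.Surjective α)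
    (β : MvPolynomial (Fin m) R →ₐ[R] S) (hβ : Function.Surjective β) :
    Nonempty (((Algebra.Extension.ofSurjective α hα).Cotangent × (Fin m → S)) ≃ₗ[S]
      ((Algebra.Extension.ofSurjective β hβ).Cotangent × (Fin n → S))) := by
  classical
  obtain ⟨f⟩ := exists_hom α hα β hβ
  obtain ⟨g⟩ := exists_hom β hβ α hα
  obtain ⟨h, hh₁, hh₀⟩ := homotopy_data _ _ f g
  obtain ⟨h', hh'₁, hh'₀⟩ := homotopy_data _ _ g f
  have hφ : (Algebra.Extension.ofSurjective β hβ).cotangentComplex ∘ₗ
      (Algebra.Extension.Cotangent.map f) =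
      (Algebra.Extension.CotangentSpace.map f) ∘ₗ
        (Algebra.Extension.ofSurjective α hα).cotangentComplex := by
    rw [Algebra.Extension.CotangentSpace.map_comp_cotangentComplex f]; rfl
  have hψ : (Algebra.Extension.ofSurjective α hα).cotangentComplex ∘ₗ
      (Algebra.Extension.Cotangent.map g) =
      (Algebra.Extension.CotangentSpace.map g) ∘ₗ
        (Algebra.Extension.ofSurjective β hβ).cotangentComplex := by
    rw [Algebra.Extension.CotangentSpace.map_comp_cotangentComplex g]; rfl
  obtain ⟨e⟩ := Groth.Agent.S9161.result S _ _ _ _ _ _ _ _ _ _ hφ hψ h hh₁ hh₀ h' hh'₁ hh'₀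
  let bα : Module.Basis (Fin n) S (Algebra.Extension.ofSurjective α hα).CotangentSpace :=
    Module.Basis.baseChange (R := (Algebra.Extension.ofSurjective α hα).Ring) S
      (show Module.Basis (Fin n) (Algebra.Extension.ofSurjective α hα).Ring
        (Ω[(Algebra.Extension.ofSurjective α hα).Ring⁄R]) from
        KaehlerDifferential.mvPolynomialBasis R (Fin n))
  let bβ : Module.Basis (Fin m) S (Algebra.Extension.ofSurjective β hβ).CotangentSpace :=
    Module.Basis.baseChange (R := (Algebra.Extension.ofSurjective β hβ).Ring) S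
      (show Module.Basis (Fin m) (Algebra.Extension.ofSurjective β hβ).Ring
        (Ω[(Algebra.Extension.ofSurjective β hβ).Ring⁄R]) from
        KaehlerDifferential.mvPolynomialBasis R (Fin m))
  exact ⟨(LinearEquiv.prodCongr (LinearEquiv.refl S _) bβ.equivFun.symm).trans
    (e.trans (LinearEquiv.prodCongr (LinearEquiv.refl S _) bα.equivFun))⟩

end Groth.Agent.S9162
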