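import Groth.Statements.S9163
import Mathlib
-- import your own Groth.Agent.* helpers here

set_option autoImplicit false
universe u
open CAlg

namespace Groth.Agent.S9163

/-- If S is integral over R, then any finitely many elements of R and of S lie in a pair R₀ ⊆ R, S₀ ⊆ S
with R₀ a finite type ℤ-subalgebra, S₀ an R₀-subalgebra of S, and S₀ finite as an R₀-module; so R →
S is the directed colimit of finite maps between finite type ℤ-algebras. -/
theorem result (R S : Type u) [CommRing R] [CommRing S] [Algebra R S]
    [Algebra.IsIntegral R S] (E : Finset R) (F : Finset S) :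
    ∃ (R₀ : Subalgebra ℤ R) (S₀ : Subalgebra R₀ S), Algebra.FiniteType ℤ R₀ ∧ (E : Set R) ⊆ R₀ ∧
      (F : Set S) ⊆ S₀ ∧ Module.Finite R₀ S₀ := by
  classical
  choose p hpm hp using fun s : S => Algebra.IsIntegral.isIntegral (R := R) s
  let T : Finset R := E ∪ F.biUnion (fun s => (p s).coeffs)
  let R₀ : Subalgebra ℤ R := Algebra.adjoin ℤ (T : Set R)
  refine ⟨R₀, Algebra.adjoin R₀ (F : Set S), ?_, ?_, Algebra.subset_adjoin, ?_⟩
  · exact (Subalgebra.fg_iff_finiteType _).mp ⟨T, rfl⟩
  · intro x hx
    exact Algebra.subset_adjoin (by simp [T, Finset.mem_coe.mp hx])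
  · have hint : ∀ s ∈ (F : Set S), IsIntegral R₀ s := by
      intro s hs
      have hsub : ((p s).coeffs : Set R) ⊆ R₀.toSubring := by
        intro c hc
        refine Algebra.subset_adjoin ?_
        simp only [T, Finset.coe_union, Finset.coe_biUnion, Set.mem_union, Set.mem_iUnion]
        exact Or.inr ⟨s, hs, hc⟩
      refine ⟨(p s).toSubring R₀.toSubring hsub, ((p s).monic_toSubring _ _).mpr (hpm s), ?_⟩
      rw [IsScalarTower.algebraMap_eq R₀ R S, ← Polynomial.eval₂_map]
      convert hp s
      apply (p s).map_toSubring R₀.toSubring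
    have := fg_adjoin_of_finite F.finite_toSet hint
    exact ⟨(Subalgebra.toSubmodule _).fg_top.mpr this⟩

end Groth.Agent.S9163
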