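import Groth.Statements.S9164
import Mathlib
import Groth.Agent.Lib.Helper25.LatticeDist
import Groth.Agent.Lib.Helper25.CokerDetGlobal
-- import your own Groth.Agent.* helpers here

set_option autoImplicit false
set_option linter.unusedSectionVars false
set_option linter.style.haveILetI false
universe u
open CAlg

namespace Groth.Agent.S9164

open Groth.Agent.Lib.Helper25.LatticeDist Groth.Agent.Lib.Helper25.CokerDetGlobal Function

/-- a finite-length module over a domain which is not a field is killed by a nonzero element -/
lemma exists_ne_zero_smul_eq_zero (R : Type u) [CommRing R] [IsDomain R] (hR : ¬ IsField R)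
    (Q : Type u) [AddCommGroup Q] [Module R Q] (hQ : Module.length R Q ≠ ⊤) :
    ∃ a : R, a ≠ 0 ∧ ∀ q : Q, a • q = 0 := by
  have hfl : IsFiniteLength R Q := Module.length_ne_top_iff.1 hQ
  rw [isFiniteLength_iff_isNoetherian_isArtinian] at hfl
  haveI := hfl.1
  haveI : Module.Finite R Q := inferInstance
  have htors : Module.IsTorsion R Q := by
    intro q
    by_contra hcon
    push Not at hcon
    have hinj : Injective (LinearMap.toSpanSingleton R Q q) := by
      rw [← LinearMap.ker_eq_bot, LinearMap.ker_eq_bot']
      intro r hr
      by_contra hr0
      exact hcon ⟨r, mem_nonZeroDivisors_of_ne_zero hr0⟩ (by simpa using hr)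
    have := Module.length_le_of_injective _ hinj
    rw [length_self_eq_top_of_not_isField R hR, top_le_iff] at this
    exact hQ this
  obtain ⟨a, ha1, ha2⟩ := Submodule.annihilator_top_inter_nonZeroDivisors htors
  refine ⟨a, nonZeroDivisors.ne_zero ha2, fun q => ?_⟩
  exact Submodule.mem_annihilator.1 ha1 q trivial

/-- Let R be a one-dimensional Noetherian local domain with fraction field K and V a finite-dimensional
K-vector space; a lattice is a finitely generated R-submodule of V spanning V over K. (1) For a
lattice M and an R-submodule M' ⊇ M: M' is a lattice iff M'/M has finite length over R iff M' is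
finitely generated. (2) For a lattice M and M' ⊆ M: M' is a lattice iff M/M' has finite length. (3)
The intersection of two lattices is a lattice. (The published statement also asserts that the sum M
+ M' of two lattices is a lattice and two identities between lengths of quotients of nested
lattices; this row states (1), (2) and the intersection half of (3).) -/
theorem result (R K V : Type u) [CommRing R] [IsDomain R]
    [IsNoetherianRing R] [IsLocalRing R] (hdim : ringKrullDim R = 1) [Field K] [Algebra R K]
    [IsFractionRing R K] [AddCommGroup V] [Module K V] [Module R V] [IsScalarTower R K V]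
    [FiniteDimensional K V] (M : Submodule R V) [Submodule.IsLattice K M] :
    (∀ M' : Submodule R V, M ≤ M' →
        (Submodule.IsLattice K M' ↔ Module.length R (M' ⧸ Submodule.comap M'.subtype M) ≠ ⊤) ∧
          (Submodule.IsLattice K M' ↔ M'.FG)) ∧
      (∀ M' : Submodule R V, M' ≤ M →
        (Submodule.IsLattice K M' ↔ Module.length R (M ⧸ Submodule.comap M.subtype M') ≠ ⊤)) ∧
      ∀ M' : Submodule R V, Submodule.IsLattice K M' → Submodule.IsLattice K (M ⊓ M') := by
  haveI : Ring.KrullDimLE 1 R := by
    rw [Ring.krullDimLE_iff, hdim]; rfl
  have hM : Submodule.IsLattice K M := inferInstance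
  have hnf : ¬ IsField R := by
    intro hf
    have := ringKrullDim_eq_zero_of_isField hf
    rw [hdim] at this
    exact one_ne_zero this
  refine ⟨fun M' hle => ⟨⟨?_, ?_⟩, ⟨?_, ?_⟩⟩, fun M' hle => ⟨?_, ?_⟩,
    fun M' hM' => isLattice_inf M M' hM hM'⟩
  · intro hM'
    exact relLen_ne_top hM hM'
  · intro hfin
    have hfl : IsFiniteLength R (M' ⧸ Submodule.comap M'.subtype M) :=
      Module.length_ne_top_iff.1 hfin
    rw [isFiniteLength_iff_isNoetherian_isArtinian] at hfl
    haveI := hfl.1
    haveI : Module.Finite R (M' ⧸ Submodule.comap M'.subtype M) := inferInstance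
    haveI : Module.Finite R M := Module.Finite.iff_fg.2 hM.fg
    haveI : Module.Finite R (Submodule.comap M'.subtype M) :=
      Module.Finite.equiv (Submodule.submoduleOfEquivOfLe hle).symm
    haveI : Module.Finite R M' := Module.Finite.of_submodule_quotient (Submodule.comap M'.subtype M)
    exact Submodule.IsLattice.of_le_of_isLattice_of_fg K hle (Module.Finite.iff_fg.1 inferInstance)
  · intro hM'
    exact hM'.fg
  · intro hfg
    exact Submodule.IsLattice.of_le_of_isLattice_of_fg K hle hfg
  · intro hM'
    exact relLen_ne_top hM' hM
  · intro hfin
    obtain ⟨a, ha0, ha⟩ := exists_ne_zero_smul_eq_zero R hnf _ hfin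
    have haM : ∀ x ∈ M, a • x ∈ M' := by
      intro x hx
      have := ha (Submodule.Quotient.mk ⟨x, hx⟩)
      rw [← Submodule.Quotient.mk_smul, Submodule.Quotient.mk_eq_zero] at this
      exact this
    refine ⟨?_, ?_⟩
    · haveI : Module.Finite R M := Module.Finite.iff_fg.2 hM.fg
      haveI : IsNoetherian R M := inferInstance
      haveI : IsNoetherian R M' := isNoetherian_of_le hle
      exact Module.Finite.iff_fg.1 inferInstance
    · rw [eq_top_iff, ← hM.span_eq_top, Submodule.span_le]
      intro x hx
      have hmem : a • x ∈ Submodule.span K (M' : Set V) := Submodule.subset_span (haM x hx)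
      have ha' : algebraMap R K a ≠ 0 :=
        (map_ne_zero_iff _ (IsFractionRing.injective R K)).2 ha0
      have : x = (algebraMap R K a)⁻¹ • (a • x) := by
        rw [← algebraMap_smul K a x, smul_smul, inv_mul_cancel₀ ha', one_smul]
      rw [this]
      exact Submodule.smul_mem _ _ hmem

end Groth.Agent.S9164
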