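import Groth.Statements.S9168
-- import your own Groth.Agent.* helpers here

set_option autoImplicit false
universe u
open CAlg

namespace Groth.Agent.S9168

section
variable {T : Type u} [CommRing T]

/-- The subring of fractions `a / u` with `a, u ∈ T₁` and `u` a unit of `T`. -/
def locSub (T₁ : Subring T) : Subring T where
  carrier := {x | ∃ a u, a ∈ T₁ ∧ u ∈ T₁ ∧ IsUnit u ∧ x * u = a}
  mul_mem' := by
    rintro x y ⟨a, u, ha, hu, hu', hxa⟩ ⟨b, v, hb, hv, hv', hyb⟩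
    exact ⟨a * b, u * v, T₁.mul_mem ha hb, T₁.mul_mem hu hv, hu'.mul hv', by
      rw [← hxa, ← hyb]; ring⟩
  one_mem' := ⟨1, 1, T₁.one_mem, T₁.one_mem, isUnit_one, by ring⟩
  add_mem' := by
    rintro x y ⟨a, u, ha, hu, hu', hxa⟩ ⟨b, v, hb, hv, hv', hyb⟩
    exact ⟨a * v + b * u, u * v, T₁.add_mem (T₁.mul_mem ha hv) (T₁.mul_mem hb hu),
      T₁.mul_mem hu hv, hu'.mul hv', by rw [← hxa, ← hyb]; ring⟩
  zero_mem' := ⟨0, 1, T₁.zero_mem, T₁.one_mem, isUnit_one, by ring⟩
  neg_mem' := by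
    rintro x ⟨a, u, ha, hu, hu', hxa⟩
    exact ⟨-a, u, T₁.neg_mem ha, hu, hu', by rw [← hxa]; ring⟩

theorem le_locSub (T₁ : Subring T) : T₁ ≤ locSub T₁ :=
  fun x hx => ⟨x, 1, hx, T₁.one_mem, isUnit_one, by ring⟩

theorem isUnit_locSub (T₁ : Subring T) (x : locSub T₁) (hx : IsUnit (x : T)) : IsUnit x := by
  obtain ⟨x, a, u, ha, hu, hu', hxa⟩ := x
  have hau : IsUnit a := hxa ▸ hx.mul hu'
  obtain ⟨a', ha'⟩ := hau.exists_right_inv
  have hy : u * a' ∈ locSub T₁ := ⟨u, a, hu, ha, hau, by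
    rw [mul_assoc, mul_comm a' a, ha', mul_one]⟩
  refine IsUnit.of_mul_eq_one ⟨u * a', hy⟩ ?_
  apply Subtype.ext
  change x * (u * a') = 1
  rw [← mul_assoc, hxa, ha']

theorem isLocalHom_locSub (T₁ : Subring T) : IsLocalHom (locSub T₁).subtype :=
  ⟨fun x hx => isUnit_locSub T₁ x hx⟩

theorem isLocalRing_locSub [IsLocalRing T] (T₁ : Subring T) : IsLocalRing (locSub T₁) := by
  haveI : Nontrivial (locSub T₁) :=
    ⟨0, 1, fun h => zero_ne_one (α := T) (congrArg Subtype.val h)⟩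
  apply IsLocalRing.of_nonunits_add
  intro a b ha hb
  rw [mem_nonunits_iff] at ha hb ⊢
  have ha' : ¬ IsUnit (a : T) := fun h => ha (isUnit_locSub T₁ a h)
  have hb' : ¬ IsUnit (b : T) := fun h => hb (isUnit_locSub T₁ b h)
  intro hab
  have : IsUnit ((a + b : locSub T₁) : T) := hab.map (locSub T₁).subtype
  exact (IsLocalRing.nonunits_add ha' hb') this

theorem essFiniteType_locSub {T₀ : Type*} [CommRing T₀] (T₁ : Subring T)
    (ψ : T₀ →+* locSub T₁) (X : Set T) (σ : Finset T) (hT₁ : T₁ = Subring.closure (X ∪ σ))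
    (hX : ∀ x ∈ X, ∃ t, (ψ t : T) = x) : ψ.EssFiniteType := by
  classical
  letI := ψ.toAlgebra
  have hσmem : ∀ s ∈ σ, s ∈ locSub T₁ := fun s hs =>
    le_locSub T₁ (hT₁ ▸ Subring.subset_closure (Or.inr hs))
  let σ' : Finset (locSub T₁) := σ.attach.image fun s => ⟨s.1, hσmem s.1 s.2⟩
  change Algebra.EssFiniteType T₀ (locSub T₁)
  rw [Algebra.essFiniteType_iff]
  refine ⟨σ', ?_⟩
  have key : ∀ a ∈ T₁, ∃ a' ∈ Algebra.adjoin T₀ (σ' : Set (locSub T₁)), (a' : T) = a := by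
    intro a ha
    rw [hT₁] at ha
    induction ha using Subring.closure_induction with
    | mem x hx =>
      rcases hx with hx | hx
      · obtain ⟨t, ht⟩ := hX x hx
        exact ⟨ψ t, Subalgebra.algebraMap_mem _ t, ht⟩
      · refine ⟨⟨x, hσmem x hx⟩, Algebra.subset_adjoin ?_, rfl⟩
        simp only [σ', Finset.coe_image, Set.mem_image, Finset.mem_coe, Finset.mem_attach, true_and]
        exact ⟨⟨x, hx⟩, rfl⟩
    | zero => exact ⟨0, Subalgebra.zero_mem _, rfl⟩
    | one => exact ⟨1, Subalgebra.one_mem _, rfl⟩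
    | add x y _ _ hx hy =>
      obtain ⟨x', hx', rfl⟩ := hx
      obtain ⟨y', hy', rfl⟩ := hy
      exact ⟨x' + y', Subalgebra.add_mem _ hx' hy', rfl⟩
    | neg x _ hx =>
      obtain ⟨x', hx', rfl⟩ := hx
      exact ⟨-x', Subalgebra.neg_mem _ hx', rfl⟩
    | mul x y _ _ hx hy =>
      obtain ⟨x', hx', rfl⟩ := hx
      obtain ⟨y', hy', rfl⟩ := hy
      exact ⟨x' * y', Subalgebra.mul_mem _ hx' hy', rfl⟩
  rintro ⟨x, a, u, ha, hu, hu', hxa⟩
  obtain ⟨a', ha', haa⟩ := key a ha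
  obtain ⟨u', hu'', huu⟩ := key u hu
  refine ⟨u', hu'', isUnit_locSub T₁ u' (huu ▸ hu'), ?_⟩
  have : (⟨x, a, u, ha, hu, hu', hxa⟩ : locSub T₁) * u' = a' := by
    apply Subtype.ext
    change x * (u' : T) = a'
    rw [huu, haa, hxa]
  rw [this]
  exact ha'

end

/-- For a local homomorphism of local rings R → S and finite subsets E ⊆ R, F ⊆ S there are local
subrings R₀ ⊆ R and S₀ ⊆ S containing E and F, with R → S mapping R₀ into S₀, such that the
inclusions and the induced map R₀ → S₀ are local homomorphisms, R₀ is essentially of finite type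
over ℤ and S₀ is essentially of finite type over R₀. (So R → S is the directed colimit of such R₀ →
S₀.) -/
theorem result (R S : Type u) [CommRing R] [CommRing S] [IsLocalRing R]
    [IsLocalRing S] [Algebra R S] [IsLocalHom (algebraMap R S)] (E : Finset R) (F : Finset S) :
    ∃ (R₀ : Subring R) (S₀ : Subring S) (h : ∀ x ∈ R₀, algebraMap R S x ∈ S₀),
      (E : Set R) ⊆ R₀ ∧ (F : Set S) ⊆ S₀ ∧ ∃ (_ : IsLocalRing R₀) (_ : IsLocalRing S₀),
        IsLocalHom R₀.subtype ∧ IsLocalHom S₀.subtype ∧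
          IsLocalHom ((algebraMap R S).restrict R₀ S₀ h) ∧
          (algebraMap ℤ R₀).EssFiniteType ∧ ((algebraMap R S).restrict R₀ S₀ h).EssFiniteType := by
  classical
  let φ := algebraMap R S
  let R₁ : Subring R := Subring.closure (E : Set R)
  let R₀ : Subring R := locSub R₁
  let S₁ : Subring S := Subring.closure ((φ '' (R₀ : Set R)) ∪ (F : Set S))
  let S₀ : Subring S := locSub S₁
  have h : ∀ x ∈ R₀, algebraMap R S x ∈ S₀ := fun x hx =>
    le_locSub S₁ (Subring.subset_closure (Or.inl ⟨x, hx, rfl⟩))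
  refine ⟨R₀, S₀, h, ?_, ?_, isLocalRing_locSub R₁, isLocalRing_locSub S₁, isLocalHom_locSub R₁,
    isLocalHom_locSub S₁, ?_, ?_, ?_⟩
  · exact fun e he => le_locSub R₁ (Subring.subset_closure he)
  · exact fun s hs => le_locSub S₁ (Subring.subset_closure (Or.inr hs))
  · refine ⟨fun x hx => ?_⟩
    apply isUnit_locSub R₁
    have h1 : IsUnit (((algebraMap R S).restrict R₀ S₀ h x : S₀) : S) := hx.map S₀.subtype
    have h2 : IsUnit (algebraMap R S (x : R)) := h1
    exact isUnit_of_map_unit (algebraMap R S) _ h2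
  · refine essFiniteType_locSub R₁ (algebraMap ℤ R₀) ∅ E ?_ ?_
    · simp [R₁]
    · intro x hx; exact absurd hx (Set.notMem_empty x)
  · refine essFiniteType_locSub S₁ ((algebraMap R S).restrict R₀ S₀ h) (φ '' (R₀ : Set R)) F rfl ?_
    rintro _ ⟨x, hx, rfl⟩
    exact ⟨⟨x, hx⟩, rfl⟩

end Groth.Agent.S9168
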