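import Groth.Statements.S9171
import Groth.Agent.Lib.Helper5.CIFieldF

set_option autoImplicit false
universe u
open Synt

namespace Groth.Agent.S9171

/-- Let S = k[x_1, …, x_n]/I over a field k, q a prime of S, q' the corresponding prime of the
polynomial ring and c the integer with c + ht(q) = ht(q'). Equivalent: (1) S_g is a global complete
intersection over k for some g ∉ q; (2) the extension of I to the local ring k[x]_{q'} is generated
by c elements; (5) that extension is generated by a regular sequence. Stated as (1) ↔ (2) and (1) ↔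
(5). -/
theorem result (k : Type u) [Field k] (n : ℕ)
    (I : Ideal (MvPolynomial (Fin n) k)) (q : Ideal (MvPolynomial (Fin n) k ⧸ I)) [q.IsPrime] (c : ℕ)
    (hc : (c : ℕ∞) + q.height = (q.comap (Ideal.Quotient.mk I)).height) :
    ((∃ g : MvPolynomial (Fin n) k ⧸ I, g ∉ q ∧ Synt.IsGlobalCI k (Localization.Away g)) ↔
        ∃ s : Finset (Localization.AtPrime (q.comap (Ideal.Quotient.mk I))), s.card = c ∧
          Ideal.span (s : Set _) =
            I.map (algebraMap _ (Localization.AtPrime (q.comap (Ideal.Quotient.mk I))))) ∧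
      ((∃ g : MvPolynomial (Fin n) k ⧸ I, g ∉ q ∧ Synt.IsGlobalCI k (Localization.Away g)) ↔
        ∃ rs : List (Localization.AtPrime (q.comap (Ideal.Quotient.mk I))),
          RingTheory.Sequence.IsRegular (Localization.AtPrime (q.comap (Ideal.Quotient.mk I))) rs ∧
          Ideal.ofList rs =
            I.map (algebraMap _ (Localization.AtPrime (q.comap (Ideal.Quotient.mk I))))) := by
  classical
  obtain ⟨γ, hγdef⟩ : ∃ γ : MvPolynomial (Fin n) k →ₐ[k] MvPolynomial (Fin n) k ⧸ I,
      γ = Ideal.Quotient.mkₐ k I := ⟨_, rfl⟩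
  have hγ : Function.Surjective γ := hγdef ▸ Ideal.Quotient.mkₐ_surjective k I
  have hγa : ∀ x, γ x = Ideal.Quotient.mk I x := fun x => by rw [hγdef]; rfl
  have hker : RingHom.ker γ.toRingHom = I := by
    ext x
    rw [RingHom.mem_ker]
    change γ x = 0 ↔ _
    rw [hγa]
    exact Ideal.Quotient.eq_zero_iff_mem
  suffices key : ∀ (q' : Ideal (MvPolynomial (Fin n) k)) [q'.IsPrime],
      q' = q.comap (Ideal.Quotient.mk I) → (c : ℕ∞) + q.height = q'.height →
      ((∃ g : MvPolynomial (Fin n) k ⧸ I, g ∉ q ∧ Synt.IsGlobalCI k (Localization.Away g)) ↔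
        ∃ s : Finset (Localization.AtPrime q'), s.card = c ∧
          Ideal.span (s : Set _) = I.map (algebraMap _ (Localization.AtPrime q'))) ∧
      ((∃ g : MvPolynomial (Fin n) k ⧸ I, g ∉ q ∧ Synt.IsGlobalCI k (Localization.Away g)) ↔
        ∃ rs : List (Localization.AtPrime q'),
          RingTheory.Sequence.IsRegular (Localization.AtPrime q') rs ∧
          Ideal.ofList rs = I.map (algebraMap _ (Localization.AtPrime q'))) from
    key _ rfl hc
  intro q' hq'p hq'def hc
  have hIq' : I ≤ q' := by
    rw [hq'def]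
    intro x hx
    rw [Ideal.mem_comap, Ideal.Quotient.eq_zero_iff_mem.2 hx]
    exact Ideal.zero_mem _
  have hkq' : RingHom.ker γ.toRingHom ≤ q' := by rw [hker]; exact hIq'
  have hmap : q'.map (Ideal.Quotient.mk I) = q := by
    rw [hq'def, Ideal.map_comap_of_surjective _ Ideal.Quotient.mk_surjective]
  -- the two descriptions of the neighbourhood condition
  have hnbhd : (∃ g : MvPolynomial (Fin n) k ⧸ I, g ∉ q ∧
      Synt.IsGlobalCI k (Localization.Away g)) ↔
      ∃ G : MvPolynomial (Fin n) k, G ∉ q' ∧ Synt.IsGlobalCI k (Localization.Away (γ G)) := by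
    constructor
    · rintro ⟨g, hg, h⟩
      obtain ⟨G, rfl⟩ := Ideal.Quotient.mk_surjective g
      refine ⟨G, ?_, ?_⟩
      · rw [hq'def, Ideal.mem_comap]
        exact hg
      · rw [hγa]
        exact h
    · rintro ⟨G, hG, h⟩
      refine ⟨γ G, ?_, h⟩
      rw [hγa]
      rw [hq'def, Ideal.mem_comap] at hG
      exact hG
  have h15 : (∃ g : MvPolynomial (Fin n) k ⧸ I, g ∉ q ∧
      Synt.IsGlobalCI k (Localization.Away g)) ↔
      ∃ rs : List (Localization.AtPrime q'),
        RingTheory.Sequence.IsRegular (Localization.AtPrime q') rs ∧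
        Ideal.ofList rs = I.map (algebraMap _ (Localization.AtPrime q')) := by
    rw [hnbhd]
    constructor
    · rintro ⟨G, hG, h⟩
      obtain ⟨a, ha, hsp⟩ := Groth.Agent.Lib.Helper5.CIField.exists_isRegular_of_isGlobalCI_away
        γ hγ q' hkq' G hG h
      rw [hker] at hsp
      exact ⟨_, ha, hsp.symm⟩
    · rintro ⟨rs, hrs, hsp⟩
      exact Groth.Agent.Lib.Helper5.CIField.exists_isGlobalCI_away_of_isRegular γ hγ q' hkq' rs hrs
        (hker.symm ▸ hsp)
  refine ⟨?_, h15⟩
  rw [h15]
  -- dimension bookkeeping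
  have hreg : IsRegularLocalRing (Localization.AtPrime q') := inferInstance
  have hCM : LocCoh.IsCohenMacaulayModule (Localization.AtPrime q') (Localization.AtPrime q') :=
    Groth.Agent.S10834.isCM_of_isRegularLocalRing _
  have hJ : I.map (algebraMap _ (Localization.AtPrime q')) ≤
      IsLocalRing.maximalIdeal (Localization.AtPrime q') := by
    rw [← Localization.AtPrime.map_eq_maximalIdeal]
    exact Ideal.map_mono hIq'
  have h2 := IsLocalization.AtPrime.ringKrullDim_eq_height q' (Localization.AtPrime q')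
  have hP' : (q'.map (Ideal.Quotient.mk I)).IsPrime := by
    rw [hmap]; infer_instance
  have hloc' : IsLocalization.AtPrime
      (Localization.AtPrime q' ⧸ I.map (algebraMap _ (Localization.AtPrime q')))
      (q'.map (Ideal.Quotient.mk I)) := by
    unfold IsLocalization.AtPrime
    rw [← Groth.Agent.Lib.Helper7.LocQuotDim.algebraMapSubmonoid_primeCompl _ q' I hIq']
    infer_instance
  have h4 := IsLocalization.AtPrime.ringKrullDim_eq_height (q'.map (Ideal.Quotient.mk I))
    (Localization.AtPrime q' ⧸ I.map (algebraMap _ (Localization.AtPrime q')))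
  have hfin : q'.height ≠ ⊤ := Ideal.height_ne_top (Ideal.IsPrime.ne_top inferInstance)
  obtain ⟨b, hb⟩ := ENat.ne_top_iff_exists.1 hfin
  have hfin' : q.height ≠ ⊤ := by
    intro htop
    rw [htop, add_top] at hc
    exact hfin hc.symm
  obtain ⟨a, ha⟩ := ENat.ne_top_iff_exists.1 hfin'
  rw [← hb, ← ha] at hc
  have hcab : c + a = b := by exact_mod_cast hc
  rw [hmap, ← ha] at h4
  rw [← hb] at h2
  exact Groth.Agent.Lib.Helper5.CIField.regular_iff_card hCM _ hJ a b c h4 h2 hcab


end Groth.Agent.S9171
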