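import Groth.Statements.S9175
import Groth.Agent.Lib.Helper18.Chev.FibreLike
import Groth.Agent.Lib.Helper7.AffineChain

open Groth.Agent.Lib.Helper18.Chev
set_option linter.style.haveILetI false

set_option autoImplicit false
universe u
open CAlg

namespace Groth.Agent.S9175

/-- Let R → S be of finite type, q a prime of S over p, and Q the prime of the fibre ring κ(p) ⊗ S
pulling back to q. If Spec(κ(p) ⊗ S) has local dimension n at Q (the relative dimension of S over R
at q is n), then some S_g with g ∉ q admits an R-algebra map from the polynomial ring R[t_1, …, t_n]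
which is of finite type and quasi-finite. -/
theorem result (R S : Type u) [CommRing R] [CommRing S]
    [Algebra R S] [Algebra.FiniteType R S] (p : Ideal R) [p.IsPrime] (q : Ideal S) [q.IsPrime] [q.LiesOver p]
    (Q : PrimeSpectrum (p.Fiber S))
    (hQ : Q.asIdeal.comap (Algebra.TensorProduct.includeRight.toRingHom) = q) (n : ℕ)
    (hdim : FlatMor.localDim (PrimeSpectrum (p.Fiber S)) Q = (n : WithBot ℕ∞)) :
    ∃ g : S, g ∉ q ∧ ∃ φ : MvPolynomial (Fin n) R →ₐ[R] Localization.Away g,
      φ.toRingHom.FiniteType ∧ φ.toRingHom.QuasiFinite := by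
  classical
  have h1 := Groth.Agent.Lib.Helper24.LocalDim.localDim_eq p.ResidueField (p.Fiber S) Q
  rw [hdim] at h1
  have h1' : (n : ℕ∞) = Order.height Q + Order.coheight Q := by exact_mod_cast h1
  obtain ⟨r, hr⟩ : ∃ r : ℕ, Order.height Q = r := by
    have : Order.height Q ≠ ⊤ := by
      intro h; rw [h, top_add] at h1'; exact ENat.natCast_ne_top n h1'
    exact ⟨_, (ENat.natCast_toNat this).symm⟩
  obtain ⟨e, he⟩ : ∃ e : ℕ, Order.coheight Q = e := by
    have : Order.coheight Q ≠ ⊤ := by
      intro h; rw [h, add_top] at h1'; exact ENat.natCast_ne_top n h1'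
    exact ⟨_, (ENat.natCast_toNat this).symm⟩
  have hn : n = e + r := by
    rw [hr, he] at h1'
    have : (n : ℕ∞) = ((r + e : ℕ) : ℕ∞) := by rw [h1']; push_cast; rfl
    have := ENat.natCast_inj.1 this
    omega
  haveI hQp : Q.asIdeal.IsPrime := Q.isPrime
  -- Step 2: the height in the fibre
  let P : PrimeSpectrum S := ⟨q, inferInstance⟩
  let p₀ : PrimeSpectrum R := ⟨p, inferInstance⟩
  have hPp : PrimeSpectrum.comap (algebraMap R S) P = p₀ :=
    PrimeSpectrum.ext (q.over_def p).symm
  have hiso : (PrimeSpectrum.preimageOrderIsoFiber R S p₀).symm Q = ⟨P, hPp⟩ := by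
    apply Subtype.ext
    apply PrimeSpectrum.ext
    exact hQ
  have hr' : Order.height (⟨P, hPp⟩ : PrimeSpectrum.comap (algebraMap R S) ⁻¹' {p₀}) = r := by
    rw [← hiso, Order.height_orderIso, hr]
  rw [height_fibre_congr P p₀ hPp] at hr'
  -- Step 3: the transcendence degree
  have hco := Groth.Agent.Lib.Helper7.AffChain.ringKrullDim_quotient_eq_coheight Q
  haveI : IsDomain (p.Fiber S ⧸ Q.asIdeal) := Ideal.Quotient.isDomain _
  obtain ⟨n', hn1, hn2, -⟩ := Groth.Agent.S2680.result p.ResidueField (p.Fiber S ⧸ Q.asIdeal)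
  have hen' : n' = e := by
    rw [hco, he] at hn2
    exact_mod_cast hn2.symm
  subst hen'
  have htr : Algebra.trdeg (R ⧸ p) (S ⧸ q) = n' := by
    rw [← hn1]
    symm
    refine trdeg_eq_of_fibreLike (R := R) (S := S) (κ := p.ResidueField) (F := p.Fiber S)
      Algebra.TensorProduct.includeRight p q ?_ ?_ Q.asIdeal hQ ?_
    · exact Ideal.ker_algebraMap_residueField p
    · intro k
      obtain ⟨x, y, hy, rfl⟩ := IsFractionRing.div_surjective (A := R ⧸ p) k
      obtain ⟨x, rfl⟩ := Ideal.Quotient.mk_surjective x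
      obtain ⟨y, rfl⟩ := Ideal.Quotient.mk_surjective y
      refine ⟨x, y, ?_, ?_⟩
      · rw [IsScalarTower.algebraMap_apply R (R ⧸ p) p.ResidueField]
        exact (map_ne_zero_iff _ (IsFractionRing.injective (R ⧸ p) p.ResidueField)).2
          (nonZeroDivisors.ne_zero hy)
      · rw [IsScalarTower.algebraMap_apply R (R ⧸ p) p.ResidueField,
          IsScalarTower.algebraMap_apply R (R ⧸ p) p.ResidueField]
        rfl
    · intro x
      obtain ⟨r, hr, s, hs⟩ := Ideal.Fiber.exists_smul_eq_one_tmul p x
      exact ⟨r, hr, s, hs⟩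
  -- Step 4: the vector
  haveI : P.asIdeal.LiesOver p := ‹q.LiesOver p›
  obtain ⟨c, hc⟩ := exists_vec_quasiFiniteAt P p n' r htr hr' (finCongr hn.symm)
  -- Step 5: localise
  let ψ : MvPolynomial (Fin n) R →ₐ[R] S := MvPolynomial.aeval c
  letI : Algebra (MvPolynomial (Fin n) R) S := ψ.toRingHom.toAlgebra
  haveI : IsScalarTower R (MvPolynomial (Fin n) R) S :=
    IsScalarTower.of_algebraMap_eq fun x => (ψ.commutes x).symm
  haveI : Algebra.FiniteType (MvPolynomial (Fin n) R) S :=
    Algebra.FiniteType.of_restrictScalars_finiteType R _ _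
  haveI : Algebra.QuasiFiniteAt (MvPolynomial (Fin n) R) q := hc
  obtain ⟨g, hg, hqf⟩ := exists_away_quasiFinite (A := MvPolynomial (Fin n) R) q
  refine ⟨g, hg, IsScalarTower.toAlgHom R (MvPolynomial (Fin n) R) (Localization.Away g), ?_, ?_⟩
  · show (algebraMap (MvPolynomial (Fin n) R) (Localization.Away g)).FiniteType
    rw [RingHom.finiteType_algebraMap]
    haveI : Algebra.FiniteType S (Localization.Away g) :=
      IsLocalization.finiteType_of_monoid_fg (Submonoid.powers g) _
    exact Algebra.FiniteType.trans (R := MvPolynomial (Fin n) R) (S := S)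
      (A := Localization.Away g) inferInstance inferInstance
  · show (algebraMap (MvPolynomial (Fin n) R) (Localization.Away g)).QuasiFinite
    rw [RingHom.quasiFinite_algebraMap]
    exact hqf

end Groth.Agent.S9175
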