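import Groth.Statements.S9177
import Mathlib.Algebra.Colimit.Module
import Mathlib.LinearAlgebra.TensorProduct.DirectLimit
import Mathlib.RingTheory.Adjoin.Basic
import Mathlib.Data.Finset.Order

set_option autoImplicit false
universe u
open CAlg

namespace Groth.Agent.S9177

section aux
open TensorProduct

variable {ι : Type u} [DecidableEq ι] [Preorder ι] [Nonempty ι] [IsDirectedOrder ι]
  (G : ι → Type u) [∀ i, CommRing (G i)]
  (f : ∀ i j, i ≤ j → G i →+* G j) [DirectedSystem G (fun i j h => f i j h)]
  (A : Type u) [CommRing A] [∀ i, Algebra A (G i)]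
  (hf : ∀ i j (h : i ≤ j), (f i j h).comp (algebraMap A (G i)) = algebraMap A (G j))
  [Algebra A (Ring.DirectLimit G (fun i j h => f i j h))]
  (hof : ∀ i a, Ring.DirectLimit.of G (fun i j h => f i j h) i (algebraMap A (G i) a) =
    algebraMap A (Ring.DirectLimit G (fun i j h => f i j h)) a)

/-- transition maps as algebra homs -/
def fa (i j : ι) (h : i ≤ j) : G i →ₐ[A] G j :=
  { f i j h with commutes' := fun a => RingHom.congr_fun (hf i j h) a }

/-- structure maps as algebra homs -/
noncomputable def ofa (i : ι) : G i →ₐ[A] Ring.DirectLimit G (fun i j h => f i j h) :=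
  { Ring.DirectLimit.of G (fun i j h => f i j h) i with commutes' := hof i }

omit [DecidableEq ι] [Nonempty ι] [IsDirectedOrder ι] in
theorem fa_apply (i j : ι) (h : i ≤ j) (x : G i) : fa G f A hf i j h x = f i j h x := rfl

omit [DecidableEq ι] [Nonempty ι] [IsDirectedOrder ι] [DirectedSystem G (fun i j h => f i j h)] in
theorem ofa_apply (i : ι) (x : G i) :
    ofa G f A hof i x = Ring.DirectLimit.of G (fun i j h => f i j h) i x := rfl

omit [DecidableEq ι] [Nonempty ι] [IsDirectedOrder ι] in
theorem dsl : DirectedSystem G (fun i j h => ⇑((fa G f A hf i j h).toLinearMap)) :=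
  ⟨fun i x => DirectedSystem.map_self (f := fun i j h => f i j h) x,
   fun k j i hij hjk x => DirectedSystem.map_map (f := fun i j h => f i j h) hij hjk x⟩

theorem keyK (C : Type u) [CommRing C] [Algebra A C] (i : ι) (z : G i ⊗[A] C)
    (hz : (ofa G f A hof i).toLinearMap.rTensor C z = 0) :
    ∃ (j : ι) (h : i ≤ j), (fa G f A hf i j h).toLinearMap.rTensor C z = 0 := by
  haveI := dsl G f A hf
  let fl : ∀ i j, i ≤ j → G i →ₗ[A] G j := fun i j h => (fa G f A hf i j h).toLinearMap
  let Φ : Module.DirectLimit G fl →ₗ[A] Ring.DirectLimit G (fun i j h => f i j h) :=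
    Module.DirectLimit.lift A ι G fl (fun i => (ofa G f A hof i).toLinearMap)
      (fun i j hij x => Ring.DirectLimit.of_f hij x)
  have hΦof : ∀ i x, Φ (Module.DirectLimit.of A ι G fl i x) =
      Ring.DirectLimit.of G (fun i j h => f i j h) i x := fun i x => Module.DirectLimit.lift_of _ _ x
  have hΦinj : Function.Injective Φ := by
    rw [injective_iff_map_eq_zero]
    intro w hw
    obtain ⟨i, x, rfl⟩ := Module.DirectLimit.exists_of w
    rw [hΦof] at hw
    obtain ⟨j, hij, hx⟩ := Ring.DirectLimit.of.zero_exact hw
    rw [← Module.DirectLimit.of_f (hij := hij)]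
    change Module.DirectLimit.of A ι G fl j (f i j hij x) = 0
    rw [hx, map_zero]
  have hΦsurj : Function.Surjective Φ := by
    intro r
    obtain ⟨i, x, rfl⟩ := Ring.DirectLimit.exists_of r
    exact ⟨_, hΦof i x⟩
  let e := LinearEquiv.ofBijective Φ ⟨hΦinj, hΦsurj⟩
  have hesymm : ∀ i x, e.symm (Ring.DirectLimit.of G (fun i j h => f i j h) i x) =
      Module.DirectLimit.of A ι G fl i x := by
    intro i x
    rw [LinearEquiv.symm_apply_eq]
    exact (hΦof i x).symm
  let Θ : (Ring.DirectLimit G (fun i j h => f i j h)) ⊗[A] C →ₗ[A]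
      Module.DirectLimit (fun i => G i ⊗[A] C) (fun i j h => (fl i j h).rTensor C) :=
    (TensorProduct.directLimitLeft fl C).toLinearMap ∘ₗ (e.symm.toLinearMap.rTensor C)
  have hΘ : ∀ w : G i ⊗[A] C, Θ ((ofa G f A hof i).toLinearMap.rTensor C w) =
      Module.DirectLimit.of A ι (fun i => G i ⊗[A] C) (fun i j h => (fl i j h).rTensor C) i w := by
    intro w
    induction w using TensorProduct.induction_on with
    | zero => simp
    | tmul x c =>
      simp only [Θ, LinearMap.rTensor_tmul, LinearMap.comp_apply, AlgHom.toLinearMap_apply,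
        LinearEquiv.coe_coe, ofa_apply, hesymm]
      exact TensorProduct.directLimitLeft_tmul_of fl C x c
    | add w w' hw hw' => rw [map_add, map_add, hw, hw', map_add]
  have h0 : Module.DirectLimit.of A ι (fun i => G i ⊗[A] C) (fun i j h => (fl i j h).rTensor C) i z
      = 0 := by rw [← hΘ, hz, map_zero]
  haveI : DirectedSystem (fun i => G i ⊗[A] C) (fun i j h => ⇑((fl i j h).rTensor C)) := by
    constructor
    · intro i w
      induction w using TensorProduct.induction_on with
      | zero => simp
      | tmul x c =>
        simp only [LinearMap.rTensor_tmul]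
        congr 1
        exact DirectedSystem.map_self (f := fun i j h => f i j h) x
      | add w w' hw hw' => rw [map_add, hw, hw']
    · intro k j i hij hjk w
      induction w using TensorProduct.induction_on with
      | zero => simp
      | tmul x c =>
        simp only [LinearMap.rTensor_tmul]
        congr 1
        exact DirectedSystem.map_map (f := fun i j h => f i j h) hij hjk x
      | add w w' hw hw' => rw [map_add, map_add, map_add, hw, hw']
  exact Module.DirectLimit.of.zero_exact h0

end aux

open TensorProduct in
/-- Let R = colim R_i be a directed colimit of A-algebras (compatible transition maps), B and C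
A-algebras. (1) If B is of finite type over A, two A-algebra maps B → C whose base changes to R
coincide already have equal base changes to some R_i. (2) If C is of finite type over A and u : B →
C has surjective base change to R, then its base change to some R_i is surjective. (The A-algebra
structure on R is through any stage R_l; it does not depend on l.) -/
theorem result {ι : Type u} [Preorder ι]
    [Nonempty ι] [IsDirectedOrder ι] (G : ι → Type u) [∀ i, CommRing (G i)]
    (f : ∀ i j, i ≤ j → G i →+* G j) [DirectedSystem G (fun i j h => f i j h)]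
    (A : Type u) [CommRing A] [∀ i, Algebra A (G i)]
    (hf : ∀ i j (h : i ≤ j), (f i j h).comp (algebraMap A (G i)) = algebraMap A (G j)) (l : ι)
    (B C : Type u) [CommRing B] [CommRing C] [Algebra A B] [Algebra A C] :
    letI : Algebra A (Ring.DirectLimit G (fun i j h => f i j h)) :=
      ((Ring.DirectLimit.of G (fun i j h => f i j h) l).comp (algebraMap A (G l))).toAlgebra
    (Algebra.FiniteType A B → ∀ u u' : B →ₐ[A] C,
        Algebra.TensorProduct.map (AlgHom.id A (Ring.DirectLimit G (fun i j h => f i j h))) u =
            Algebra.TensorProduct.map (AlgHom.id A (Ring.DirectLimit G (fun i j h => f i j h))) u' →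
          ∃ i : ι, Algebra.TensorProduct.map (AlgHom.id A (G i)) u =
            Algebra.TensorProduct.map (AlgHom.id A (G i)) u') ∧
      (Algebra.FiniteType A C → ∀ u : B →ₐ[A] C,
        Function.Surjective
            (Algebra.TensorProduct.map (AlgHom.id A (Ring.DirectLimit G (fun i j h => f i j h))) u) →
          ∃ i : ι, Function.Surjective (Algebra.TensorProduct.map (AlgHom.id A (G i)) u)) := by
  classical
  letI inst : Algebra A (Ring.DirectLimit G (fun i j h => f i j h)) :=
    ((Ring.DirectLimit.of G (fun i j h => f i j h) l).comp (algebraMap A (G l))).toAlgebra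
  have hof : ∀ i a, Ring.DirectLimit.of G (fun i j h => f i j h) i (algebraMap A (G i) a) =
      algebraMap A (Ring.DirectLimit G (fun i j h => f i j h)) a := by
    intro i a
    obtain ⟨k, hik, hlk⟩ := exists_ge_ge i l
    change _ = Ring.DirectLimit.of G (fun i j h => f i j h) l (algebraMap A (G l) a)
    rw [← Ring.DirectLimit.of_f hik, ← Ring.DirectLimit.of_f hlk]
    congr 1
    have h1 := RingHom.congr_fun (hf i k hik) a
    have h2 := RingHom.congr_fun (hf l k hlk) a
    simp only [RingHom.comp_apply] at h1 h2
    rw [h1, h2]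
  -- naturality of the base change maps
  have hnat : ∀ (u : B →ₐ[A] C) (i j : ι) (h : i ≤ j) (w : G i ⊗[A] B),
      Algebra.TensorProduct.map (AlgHom.id A (G j)) u ((fa G f A hf i j h).toLinearMap.rTensor B w) =
        (fa G f A hf i j h).toLinearMap.rTensor C
          (Algebra.TensorProduct.map (AlgHom.id A (G i)) u w) := by
    intro u i j h w
    induction w using TensorProduct.induction_on with
    | zero => simp
    | tmul x b => simp
    | add w w' hw hw' => simp only [map_add, hw, hw']
  have hnat' : ∀ (u : B →ₐ[A] C) (i : ι) (w : G i ⊗[A] B),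
      Algebra.TensorProduct.map (AlgHom.id A (Ring.DirectLimit G (fun i j h => f i j h))) u
          ((ofa G f A hof i).toLinearMap.rTensor B w) =
        (ofa G f A hof i).toLinearMap.rTensor C
          (Algebra.TensorProduct.map (AlgHom.id A (G i)) u w) := by
    intro u i w
    induction w using TensorProduct.induction_on with
    | zero => simp
    | tmul x b => simp
    | add w w' hw hw' => simp only [map_add, hw, hw']
  constructor
  · intro hfin u u' heq
    obtain ⟨s, hs⟩ := hfin.out
    have key : ∀ b : B, ∃ (j : ι), (1 : G j) ⊗ₜ[A] u b = (1 : G j) ⊗ₜ[A] u' b := by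
      intro b
      have hz : (ofa G f A hof l).toLinearMap.rTensor C
          ((1 : G l) ⊗ₜ[A] u b - 1 ⊗ₜ[A] u' b) = 0 := by
        rw [map_sub, LinearMap.rTensor_tmul, LinearMap.rTensor_tmul, AlgHom.toLinearMap_apply,
          map_one, sub_eq_zero]
        have := AlgHom.congr_fun heq (1 ⊗ₜ b)
        simpa [Algebra.TensorProduct.map_tmul] using this
      obtain ⟨j, hlj, hj⟩ := keyK G f A hf hof C l _ hz
      refine ⟨j, ?_⟩
      rw [map_sub, LinearMap.rTensor_tmul, LinearMap.rTensor_tmul, AlgHom.toLinearMap_apply,
        map_one, sub_eq_zero] at hj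
      exact hj
    choose j hj using key
    obtain ⟨m, hm⟩ := Finset.exists_le (s.image j)
    refine ⟨m, ?_⟩
    apply Algebra.TensorProduct.ext
    · ext x; simp
    · apply AlgHom.ext_of_adjoin_eq_top hs
      intro b hb
      have hjm : j b ≤ m := hm _ (Finset.mem_image_of_mem j hb)
      have := congrArg ((fa G f A hf (j b) m hjm).toLinearMap.rTensor C) (hj b)
      simpa [Algebra.TensorProduct.map_tmul] using this
  · intro hfin u hsurj
    obtain ⟨s, hs⟩ := hfin.out
    -- every element of the limit tensor product comes from a finite stage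
    have hS : ∀ w : (Ring.DirectLimit G (fun i j h => f i j h)) ⊗[A] B,
        ∃ (i : ι) (w' : G i ⊗[A] B), (ofa G f A hof i).toLinearMap.rTensor B w' = w := by
      intro w
      induction w using TensorProduct.induction_on with
      | zero => exact ⟨l, 0, map_zero _⟩
      | tmul r b =>
        obtain ⟨i, x, rfl⟩ := Ring.DirectLimit.exists_of r
        exact ⟨i, x ⊗ₜ b, by simp [ofa_apply]⟩
      | add w₁ w₂ h₁ h₂ =>
        obtain ⟨i₁, w₁', rfl⟩ := h₁
        obtain ⟨i₂, w₂', rfl⟩ := h₂
        obtain ⟨k, h1k, h2k⟩ := exists_ge_ge i₁ i₂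
        refine ⟨k, (fa G f A hf i₁ k h1k).toLinearMap.rTensor B w₁' +
          (fa G f A hf i₂ k h2k).toLinearMap.rTensor B w₂', ?_⟩
        have hcomp : ∀ (i : ι) (hik : i ≤ k),
            (ofa G f A hof k).toLinearMap ∘ₗ (fa G f A hf i k hik).toLinearMap =
              (ofa G f A hof i).toLinearMap := by
          intro i hik
          ext x
          exact Ring.DirectLimit.of_f hik x
        rw [map_add, ← LinearMap.comp_apply, ← LinearMap.comp_apply, ← LinearMap.rTensor_comp,
          ← LinearMap.rTensor_comp, hcomp, hcomp]
    have key : ∀ c : C, ∃ (j : ι) (w : G j ⊗[A] B),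
        Algebra.TensorProduct.map (AlgHom.id A (G j)) u w = (1 : G j) ⊗ₜ[A] c := by
      intro c
      obtain ⟨w, hw⟩ := hsurj (1 ⊗ₜ c)
      obtain ⟨i, w', rfl⟩ := hS w
      rw [hnat'] at hw
      have hz : (ofa G f A hof i).toLinearMap.rTensor C
          (Algebra.TensorProduct.map (AlgHom.id A (G i)) u w' - (1 : G i) ⊗ₜ[A] c) = 0 := by
        rw [map_sub, hw, LinearMap.rTensor_tmul, AlgHom.toLinearMap_apply, map_one, sub_self]
      obtain ⟨j, hij, hj⟩ := keyK G f A hf hof C i _ hz
      refine ⟨j, (fa G f A hf i j hij).toLinearMap.rTensor B w', ?_⟩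
      rw [map_sub, sub_eq_zero, LinearMap.rTensor_tmul, AlgHom.toLinearMap_apply, map_one] at hj
      rw [hnat, hj]
    choose j w hw using key
    obtain ⟨m, hm⟩ := Finset.exists_le (s.image j)
    refine ⟨m, ?_⟩
    let φ := Algebra.TensorProduct.map (AlgHom.id A (G m)) u
    have hright : ∀ c : C, (1 : G m) ⊗ₜ[A] c ∈ φ.range := by
      have hle : Algebra.adjoin A (s : Set C) ≤ φ.range.comap Algebra.TensorProduct.includeRight := by
        apply Algebra.adjoin_le
        intro c hc
        have hjm : j c ≤ m := hm _ (Finset.mem_image_of_mem j hc)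
        refine ⟨(fa G f A hf (j c) m hjm).toLinearMap.rTensor B (w c), ?_⟩
        change Algebra.TensorProduct.map (AlgHom.id A (G m)) u _ = _
        rw [hnat, hw]
        simp
      intro c
      have : c ∈ Algebra.adjoin A (s : Set C) := hs ▸ Algebra.mem_top
      exact hle this
    have hleft : ∀ x : G m, x ⊗ₜ[A] (1 : C) ∈ φ.range := fun x => ⟨x ⊗ₜ 1, by simp [φ]⟩
    intro t
    have : t ∈ φ.range := by
      induction t using TensorProduct.induction_on with
      | zero => exact Subalgebra.zero_mem _
      | tmul x c =>
        have := Subalgebra.mul_mem _ (hleft x) (hright c)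
        simpa using this
      | add t t' ht ht' => exact Subalgebra.add_mem _ ht ht'
    exact this

end Groth.Agent.S9177
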