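import Groth.Statements.S9178
-- import your own Groth.Agent.* helpers here

set_option autoImplicit false
universe u
open CAlg

namespace Groth.Agent.S9178

/-- For ring maps A → B → C with A → C surjective, writing I = ker(A → C) and J = ker(B → C), the
sequence I/I² → J/J² → C ⊗_B Ω_{B/A} → 0 is exact. Stated: the image of I/I² in J/J² is exactly the
kernel of J/J² → C ⊗_B Ω_{B/A} (surjectivity of the latter map is the standard conormal sequence for
the surjection B → C). -/
theorem result (A B C : Type u) [CommRing A] [CommRing B]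
    [CommRing C] [Algebra A B] [Algebra B C] [Algebra A C] [IsScalarTower A B C]
    (hAC : Function.Surjective (algebraMap A C))
    (h : RingHom.ker (algebraMap A C) ≤ (RingHom.ker (algebraMap B C)).comap (Algebra.ofId A B)) :
    Function.Exact
      (Ideal.mapCotangent (RingHom.ker (algebraMap A C)) (RingHom.ker (algebraMap B C)) (Algebra.ofId A B) h)
      (KaehlerDifferential.kerCotangentToTensor A B C) := by
  classical
  set I := RingHom.ker (algebraMap A C) with hI
  set J := RingHom.ker (algebraMap B C) with hJ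
  set f := Ideal.mapCotangent I J (Algebra.ofId A B) h with hf
  have hφ : ∀ a : A, Algebra.ofId A B a = algebraMap A B a := fun a => rfl
  have hACB : ∀ a : A, algebraMap B C (algebraMap A B a) = algebraMap A C a :=
    fun a => (IsScalarTower.algebraMap_apply A B C a).symm
  have hmemJ : ∀ b : B, b ∈ J ↔ algebraMap B C b = 0 := fun b => RingHom.mem_ker
  have hmemI : ∀ a : A, a ∈ I ↔ algebraMap A C a = 0 := fun a => RingHom.mem_ker
  intro y
  constructor
  swap
  · rintro ⟨x, rfl⟩
    obtain ⟨i, rfl⟩ := Ideal.toCotangent_surjective _ x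
    rw [hf, Ideal.mapCotangent_toCotangent, KaehlerDifferential.kerCotangentToTensor_toCotangent]
    simp only [hφ, Derivation.map_algebraMap, TensorProduct.tmul_zero]
  intro hy
  -- the quotient module
  let P : Submodule B J.Cotangent := Submodule.span B (Set.range f)
  have hP : ∀ z ∈ P, z ∈ Set.range f := by
    intro z hz
    induction hz using Submodule.span_induction with
    | mem z hz => exact hz
    | zero => exact ⟨0, map_zero _⟩
    | add z w _ _ hz hw =>
      obtain ⟨z', rfl⟩ := hz
      obtain ⟨w', rfl⟩ := hw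
      exact ⟨z' + w', map_add _ _ _⟩
    | smul b z _ hz =>
      obtain ⟨z', rfl⟩ := hz
      obtain ⟨a, ha⟩ := hAC (algebraMap B C b)
      refine ⟨a • z', ?_⟩
      rw [map_smul]
      have hb : b - algebraMap A B a ∈ J := by
        rw [hmemJ, map_sub, hACB, ha, sub_self]
      have h0 := Ideal.Cotangent.smul_eq_zero_of_mem hb (f z')
      rw [sub_smul, sub_eq_zero] at h0
      rw [h0, algebraMap_smul]
  let N := J.Cotangent ⧸ P
  let π : J.Cotangent →ₗ[B] N := P.mkQ
  have hπ0 : ∀ z, π z = 0 → z ∈ Set.range f := fun z hz =>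
    hP z ((Submodule.Quotient.mk_eq_zero P).mp hz)
  have hπf : ∀ x, π (f x) = 0 := fun x =>
    (Submodule.Quotient.mk_eq_zero P).mpr (Submodule.subset_span ⟨x, rfl⟩)
  have hπsurj : Function.Surjective π := P.mkQ_surjective
  have hkill : ∀ b ∈ J, ∀ n : N, b • n = 0 := by
    intro b hb n
    obtain ⟨z, rfl⟩ := hπsurj n
    rw [← map_smul, Ideal.Cotangent.smul_eq_zero_of_mem hb, map_zero]
  have hkill' : ∀ b b' : B, algebraMap B C b = algebraMap B C b' → ∀ n : N, b • n = b' • n := by
    intro b b' hbb n
    have : (b - b') • n = 0 := hkill _ (by rw [hmemJ, map_sub, hbb, sub_self]) n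
    rwa [sub_smul, sub_eq_zero] at this
  -- the derivation
  let tc : ∀ b : B, b ∈ J → N := fun b hb => π (J.toCotangent ⟨b, hb⟩)
  have tc_add : ∀ b b' hb hb' hbb', tc (b + b') hbb' = tc b hb + tc b' hb' := by
    intro b b' hb hb' hbb'
    simp only [tc]
    rw [← map_add, ← map_add]
    rfl
  have tc_smul : ∀ (c b : B) hb hcb, tc (c * b) hcb = c • tc b hb := by
    intro c b hb hcb
    simp only [tc]
    rw [← map_smul, ← map_smul]
    rfl
  have tc_congr : ∀ b b' hb hb', b = b' → tc b hb = tc b' hb' := by
    intro b b' hb hb' hbb'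
    subst hbb'
    rfl
  have tc_map : ∀ (a : A) (ha : a ∈ I) hb, tc (algebraMap A B a) hb = 0 := by
    intro a ha hb
    exact hπf (I.toCotangent ⟨a, ha⟩)
  choose σ hσ using fun b : B => hAC (algebraMap B C b)
  have hsub : ∀ (b : B) (a : A), algebraMap A C a = algebraMap B C b → b - algebraMap A B a ∈ J := by
    intro b a ha
    rw [hmemJ, map_sub, hACB, ha, sub_self]
  let d₀ : B → N := fun b => tc (b - algebraMap A B (σ b)) (hsub b _ (hσ b))
  have hind : ∀ (b : B) (a : A) (ha : algebraMap A C a = algebraMap B C b),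
      d₀ b = tc (b - algebraMap A B a) (hsub b a ha) := by
    intro b a ha
    have haI : a - σ b ∈ I := by rw [hmemI, map_sub, ha, hσ, sub_self]
    have h1 : b - algebraMap A B (σ b) = (b - algebraMap A B a) + algebraMap A B (a - σ b) := by
      rw [map_sub]; ring
    have h2 : algebraMap A B (a - σ b) ∈ J := by
      rw [hmemJ, hACB]; exact (hmemI _).mp haI
    simp only [d₀]
    rw [tc_congr _ _ _ (J.add_mem (hsub b a ha) h2) h1, tc_add _ _ (hsub b a ha) h2,
      tc_map _ haI, add_zero]
  let dl : B →ₗ[A] N :=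
    { toFun := d₀
      map_add' := by
        intro b b'
        have ha : algebraMap A C (σ b + σ b') = algebraMap B C (b + b') := by
          rw [map_add, map_add, hσ, hσ]
        rw [hind (b + b') _ ha]
        have h1 : b + b' - algebraMap A B (σ b + σ b') =
            (b - algebraMap A B (σ b)) + (b' - algebraMap A B (σ b')) := by
          rw [map_add]; ring
        rw [tc_congr _ _ _ (J.add_mem (hsub b _ (hσ b)) (hsub b' _ (hσ b'))) h1,
          tc_add _ _ (hsub b _ (hσ b)) (hsub b' _ (hσ b'))]
      map_smul' := by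
        intro a b
        have ha : algebraMap A C (a * σ b) = algebraMap B C (a • b) := by
          rw [map_mul, hσ, Algebra.smul_def, map_mul, hACB]
        rw [hind (a • b) _ ha]
        have h1 : a • b - algebraMap A B (a * σ b) =
            algebraMap A B a * (b - algebraMap A B (σ b)) := by
          rw [map_mul, Algebra.smul_def]; ring
        rw [tc_congr _ _ _ (J.mul_mem_left _ (hsub b _ (hσ b))) h1,
          tc_smul _ _ (hsub b _ (hσ b))]
        simp only [RingHom.id_apply, algebraMap_smul]
        rfl }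
  have hdl : ∀ b, dl b = d₀ b := fun b => rfl
  let d : Derivation A B N := Derivation.mk' dl (by
    intro b b'
    rw [hdl, hdl, hdl]
    have ha : algebraMap A C (σ b * σ b') = algebraMap B C (b * b') := by
      rw [map_mul, map_mul, hσ, hσ]
    rw [hind (b * b') _ ha]
    have h1 : b * b' - algebraMap A B (σ b * σ b') =
        b * (b' - algebraMap A B (σ b')) + algebraMap A B (σ b') * (b - algebraMap A B (σ b)) := by
      rw [map_mul]; ring
    rw [tc_congr _ _ _ (J.add_mem (J.mul_mem_left _ (hsub b' _ (hσ b')))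
      (J.mul_mem_left _ (hsub b _ (hσ b)))) h1,
      tc_add _ _ (J.mul_mem_left _ (hsub b' _ (hσ b'))) (J.mul_mem_left _ (hsub b _ (hσ b))),
      tc_smul _ _ (hsub b' _ (hσ b')), tc_smul _ _ (hsub b _ (hσ b))]
    congr 1
    exact hkill' _ _ (by rw [hACB, hσ]) _)
  have hd : ∀ b, d b = d₀ b := fun b => rfl
  let L : Ω[B⁄A] →ₗ[B] N := d.liftKaehlerDifferential
  -- descend to the tensor product
  choose τ hτ using fun c : C => (hAC c)
  let τ' : C → B := fun c => algebraMap A B (τ c)
  have hτ' : ∀ c, algebraMap B C (τ' c) = c := fun c => by simp only [τ', hACB, hτ]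
  let Ψ₂ : C →ₗ[B] Ω[B⁄A] →ₗ[B] N := LinearMap.mk₂ B (fun c ω => τ' c • L ω)
    (by
      intro c c' ω
      rw [← add_smul]
      exact hkill' _ _ (by rw [map_add, hτ', hτ', hτ']) _)
    (by
      intro b c ω
      rw [← mul_smul]
      exact hkill' _ _ (by rw [map_mul, hτ', hτ', Algebra.smul_def]) _)
    (by intro c ω ω'; rw [map_add, smul_add])
    (by intro b c ω; rw [map_smul, smul_comm])
  let Ψ : TensorProduct B C Ω[B⁄A] →ₗ[B] N := TensorProduct.lift Ψ₂
  obtain ⟨j, rfl⟩ := Ideal.toCotangent_surjective _ y
  rw [KaehlerDifferential.kerCotangentToTensor_toCotangent] at hy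
  have h1 := congrArg Ψ hy
  rw [map_zero, TensorProduct.lift.tmul] at h1
  have h2 : Ψ₂ 1 (KaehlerDifferential.D A B j.1) = L (KaehlerDifferential.D A B j.1) := by
    change τ' 1 • L _ = _
    rw [hkill' (τ' 1) 1 (by rw [hτ', map_one]), one_smul]
  rw [h2] at h1
  have h3 : L (KaehlerDifferential.D A B j.1) = d j.1 :=
    Derivation.liftKaehlerDifferential_comp_D d j.1
  rw [h3, hd, hind j.1 0 (by rw [map_zero]; exact ((hmemJ _).mp j.2).symm)] at h1
  apply hπ0
  rw [← h1]
  simp only [tc]
  congr 2
  ext
  simp

end Groth.Agent.S9178
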