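import Groth.Statements.S9179
import Mathlib.Tactic

set_option autoImplicit false
universe u
open CategoryTheory CategoryTheory.Limits
open CAlg

namespace Groth.Agent.S9179

section
variable {R A : Type u} [CommRing R] [CommRing A] [Algebra R A]
variable {P : Type u} [CommRing P] [Algebra R P] (f : P →ₐ[R] A)

/-- finitely generated subideals of the kernel -/
abbrev FGK := {K : Ideal P // K.FG ∧ K ≤ RingHom.ker f.toRingHom}

instance : IsDirected (FGK f) (· ≤ ·) :=
  ⟨fun a b => ⟨⟨a.1 ⊔ b.1, Submodule.FG.sup a.2.1 b.2.1, sup_le a.2.2 b.2.2⟩,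
    le_sup_left (a := a.1), le_sup_right (b := b.1)⟩⟩

instance : Nonempty (FGK f) := ⟨⟨⊥, Submodule.fg_bot, bot_le⟩⟩

/-- the diagram `K ↦ P ⧸ K` -/
noncomputable def quotFunctor : FGK f ⥤ Under (CommRingCat.of R) where
  obj K := Under.mk (CommRingCat.ofHom (algebraMap R (P ⧸ K.1)))
  map {K L} g := Under.homMk (CommRingCat.ofHom (Ideal.Quotient.factor (show K.1 ≤ L.1 from leOfHom g)))
    (by
      ext x
      simp
      rfl)
  map_id K := by
    ext x
    obtain ⟨x, rfl⟩ := Ideal.Quotient.mk_surjective x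
    simp
  map_comp {K L S} g g' := by
    ext x
    obtain ⟨x, rfl⟩ := Ideal.Quotient.mk_surjective x
    simp


lemma quotFunctor_map_mk {K L : FGK f} (g : K ⟶ L) (x : P) :
    ((quotFunctor f).map g).right.hom (Ideal.Quotient.mk K.1 x) = Ideal.Quotient.mk L.1 x := rfl

lemma K_le (K : FGK f) : ∀ a ∈ K.1, f.toRingHom a = 0 :=
  fun a ha => (RingHom.mem_ker).mp (K.2.2 ha)

/-- the map `P ⧸ K → A` -/
noncomputable def liftK (K : FGK f) : P ⧸ K.1 →+* A := Ideal.Quotient.lift K.1 f.toRingHom (K_le f K)

lemma liftK_mk (K : FGK f) (x : P) : liftK f K (Ideal.Quotient.mk K.1 x) = f x := rfl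

/-- the cocone with point `A` -/
noncomputable def cocone : Cocone (quotFunctor f) where
  pt := Under.mk (CommRingCat.ofHom (algebraMap R A))
  ι :=
  { app := fun K => Under.homMk
      (CommRingCat.ofHom (liftK f K))
      (by
        ext x
        change liftK f K (algebraMap R (P ⧸ K.1) x) = algebraMap R A x
        have h1 : algebraMap R (P ⧸ K.1) x = Ideal.Quotient.mk K.1 (algebraMap R P x) := rfl
        rw [h1, liftK_mk]
        exact f.commutes x)
    naturality := by
      intro K L g
      ext x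
      obtain ⟨x, rfl⟩ := Ideal.Quotient.mk_surjective x
      rfl }

lemma cocone_ι_mk (K : FGK f) (x : P) :
    ((cocone f).ι.app K).right.hom (Ideal.Quotient.mk K.1 x) = f x := rfl

variable (hf : Function.Surjective f)

/-- bottom index -/
abbrev j0 : FGK f := ⟨⊥, Submodule.fg_bot, bot_le⟩

/-- the map `P → s.pt` -/
noncomputable def g0 (s : Cocone (quotFunctor f)) : P →+* s.pt.right :=
  (s.ι.app (j0 f)).right.hom.comp (Ideal.Quotient.mk (⊥ : Ideal P))

lemma g0_eq (s : Cocone (quotFunctor f)) (K : FGK f) (x : P) :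
    g0 f s x = (s.ι.app K).right.hom (Ideal.Quotient.mk K.1 x) := by
  let g : j0 f ⟶ K := homOfLE (show (j0 f).1 ≤ K.1 from bot_le)
  have hw := s.w g
  have h2 := congrArg (fun φ => φ.right.hom (Ideal.Quotient.mk (j0 f).1 x)) hw
  exact h2.symm

lemma g0_ker (s : Cocone (quotFunctor f)) (x : P) (hx : x ∈ RingHom.ker f.toRingHom) :
    g0 f s x = 0 := by
  let K : FGK f := ⟨Ideal.span {x}, ⟨{x}, by simp⟩, (Ideal.span_singleton_le_iff_mem _).mpr hx⟩
  rw [g0_eq f s K]
  have : Ideal.Quotient.mk K.1 x = 0 :=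
    Ideal.Quotient.eq_zero_iff_mem.mpr (Ideal.mem_span_singleton_self x)
  rw [this]
  exact map_zero (s.ι.app K).right.hom


/-- the descent map `A → s.pt` -/
noncomputable def dmap (s : Cocone (quotFunctor f)) : A →+* s.pt.right :=
  (Ideal.Quotient.lift (RingHom.ker f.toRingHom) (g0 f s) (fun x hx => g0_ker f s x hx)).comp
    (RingHom.quotientKerEquivOfSurjective (f := f.toRingHom) hf).symm.toRingHom

lemma dmap_f (s : Cocone (quotFunctor f)) (x : P) : dmap f hf s (f x) = g0 f s x := by
  have : (RingHom.quotientKerEquivOfSurjective (f := f.toRingHom) hf).symm (f x) =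
      Ideal.Quotient.mk _ x := by
    rw [RingEquiv.symm_apply_eq]
    rfl
  change (Ideal.Quotient.lift (RingHom.ker f.toRingHom) (g0 f s) (fun x hx => g0_ker f s x hx))
    ((RingHom.quotientKerEquivOfSurjective (f := f.toRingHom) hf).symm (f x)) = _
  rw [this, Ideal.Quotient.lift_mk]

/-- the descent morphism -/
noncomputable def desc (s : Cocone (quotFunctor f)) : (cocone f).pt ⟶ s.pt :=
  Under.homMk (CommRingCat.ofHom (dmap f hf s))
    (by
      ext r
      change dmap f hf s (algebraMap R A r) = s.pt.hom.hom r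
      rw [← f.commutes r, dmap_f]
      have hw := Under.w (s.ι.app (j0 f))
      have h2 := congrArg (fun φ => φ.hom r) hw
      exact h2)

noncomputable def isColimit : IsColimit (cocone f) where
  desc s := desc f hf s
  fac s K := by
    ext x
    obtain ⟨x, rfl⟩ := Ideal.Quotient.mk_surjective x
    change dmap f hf s (liftK f K (Ideal.Quotient.mk K.1 x)) = _
    rw [liftK_mk, dmap_f, g0_eq f s K]
  uniq s m hm := by
    ext a
    obtain ⟨x, rfl⟩ := hf a
    change m.right.hom (f x) = dmap f hf s (f x)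
    rw [dmap_f]
    have h1 := hm (j0 f)
    have h2 := congrArg (fun φ => φ.right.hom (Ideal.Quotient.mk (j0 f).1 x)) h1
    exact h2

end


/-- An R-algebra of finite type is the colimit of a filtered system of finitely presented R-algebras
whose transition maps are all surjective. -/
theorem result (R A : Type u) [CommRing R] [CommRing A]
    [Algebra R A] [Algebra.FiniteType R A] :
    ∃ (I : Type u) (_ : SmallCategory I) (_ : IsFiltered I) (D : I ⥤ Under (CommRingCat.of R))
      (c : Cocone D) (_ : IsColimit c),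
      (∀ i, (D.obj i).hom.hom.FinitePresentation) ∧
      (∀ (i j : I) (φ : i ⟶ j), Function.Surjective (D.map φ).right.hom) ∧
      Nonempty (c.pt ≅ Under.mk (CommRingCat.ofHom (algebraMap R A))) := by
  obtain ⟨n, f, hf⟩ := Algebra.FiniteType.iff_quotient_mvPolynomial''.mp
    (inferInstance : Algebra.FiniteType R A)
  refine ⟨FGK f, inferInstance, inferInstance, quotFunctor f, cocone f, isColimit f hf,
    ?_, ?_, ⟨Iso.refl _⟩⟩
  · intro K
    change (algebraMap R (MvPolynomial (Fin n) R ⧸ K.1)).FinitePresentation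
    rw [RingHom.finitePresentation_algebraMap]
    exact Algebra.FinitePresentation.quotient K.2.1
  · intro K L φ x
    obtain ⟨x, rfl⟩ := Ideal.Quotient.mk_surjective x
    exact ⟨Ideal.Quotient.mk K.1 x, rfl⟩

end Groth.Agent.S9179
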