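import Groth.Statements.S9181
import Groth.Agent.Lib.Helper18.Chev.FibreSplit
import Groth.Agent.Lib.Helper18.Chev.Preimage

open Groth.Agent.Lib.Helper18.Chev
set_option linter.style.haveILetI false

set_option autoImplicit false
universe u
open CAlg

namespace Groth.Agent.S9181

/-- Let R → S be of finite type, q a prime of S over p, Q the prime of κ(p) ⊗ S over q, with the fibre
of local dimension n at Q and κ(q) of transcendence degree r over κ(p). Then for some f ∉ p and g ∉
q there is an R-algebra map φ : R_f[x_1, …, x_n] → S_g, of finite type and quasi-finite, such that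
the inverse image of q S_g under φ is the ideal generated by p and the variables x_{r+1}, …, x_n. -/
theorem result (R S : Type u) [CommRing R] [CommRing S]
    [Algebra R S] [Algebra.FiniteType R S] (p : Ideal R) [p.IsPrime] (q : Ideal S) [q.IsPrime] [q.LiesOver p]
    [Algebra (Localization.AtPrime p) (Localization.AtPrime q)]
    [Localization.AtPrime.IsLiesOverAlgebra p q] (Q : PrimeSpectrum (p.Fiber S))
    (hQ : Q.asIdeal.comap (Algebra.TensorProduct.includeRight.toRingHom) = q) (n r : ℕ)
    (hdim : FlatMor.localDim (PrimeSpectrum (p.Fiber S)) Q = (n : WithBot ℕ∞))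
    (hr : Algebra.trdeg p.ResidueField q.ResidueField = r) :
    ∃ (f : R) (g : S), f ∉ p ∧ g ∉ q ∧
      ∃ φ : MvPolynomial (Fin n) (Localization.Away f) →ₐ[R] Localization.Away g,
        φ.toRingHom.FiniteType ∧ φ.toRingHom.QuasiFinite ∧
        (q.map (algebraMap S (Localization.Away g))).comap φ =
          p.map (algebraMap R (MvPolynomial (Fin n) (Localization.Away f))) ⊔
            Ideal.span (Set.range fun i : {i : Fin n // r ≤ (i : ℕ)} =>
              (MvPolynomial.X (i : Fin n) : MvPolynomial (Fin n) (Localization.Away f))) := by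
  classical
  obtain ⟨e, h, hn, htr, hht⟩ := fibre_localDim_split R S p q Q hQ n hdim
  have her : e = r := by
    rw [trdeg_residueField_eq R S p q, htr] at hr
    exact_mod_cast hr
  subst her
  subst hn
  let P : PrimeSpectrum S := ⟨q, inferInstance⟩
  haveI : P.asIdeal.LiesOver p := ‹q.LiesOver p›
  obtain ⟨a, b, hind, hbP, hqf⟩ := exists_vecs_quasiFiniteAt P p e h htr hht
  have hcomap := comap_aeval_append q p a b hind hbP
  let ψ : MvPolynomial (Fin (e + h)) R →ₐ[R] S := MvPolynomial.aeval (Fin.append a b)
  letI : Algebra (MvPolynomial (Fin (e + h)) R) S := ψ.toRingHom.toAlgebra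
  haveI : IsScalarTower R (MvPolynomial (Fin (e + h)) R) S :=
    IsScalarTower.of_algebraMap_eq fun x => (ψ.commutes x).symm
  haveI : Algebra.FiniteType (MvPolynomial (Fin (e + h)) R) S :=
    Algebra.FiniteType.of_restrictScalars_finiteType R _ _
  haveI : Algebra.QuasiFiniteAt (MvPolynomial (Fin (e + h)) R) q := hqf
  obtain ⟨g, hg, hqfg⟩ := exists_away_quasiFinite (A := MvPolynomial (Fin (e + h)) R) q
  let ε : MvPolynomial (Fin (e + h)) (Localization.Away (1 : R)) ≃ₐ[R]
      MvPolynomial (Fin (e + h)) R :=
    MvPolynomial.mapAlgEquiv (Fin (e + h)) (IsLocalization.atOne R (Localization.Away (1 : R))).symm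
  let φ₀ : MvPolynomial (Fin (e + h)) R →ₐ[R] Localization.Away g :=
    IsScalarTower.toAlgHom R (MvPolynomial (Fin (e + h)) R) (Localization.Away g)
  refine ⟨1, g, ?_, hg, φ₀.comp ε.toAlgHom, ?_, ?_, ?_⟩
  · exact fun h1 => (Ideal.IsPrime.ne_top ‹p.IsPrime›) ((Ideal.eq_top_iff_one p).2 h1)
  · have h0 : (algebraMap (MvPolynomial (Fin (e + h)) R) (Localization.Away g)).FiniteType := by
      rw [RingHom.finiteType_algebraMap]
      haveI : Algebra.FiniteType S (Localization.Away g) :=
        IsLocalization.finiteType_of_monoid_fg (Submonoid.powers g) _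
      exact Algebra.FiniteType.trans (R := MvPolynomial (Fin (e + h)) R) (S := S)
        (A := Localization.Away g) inferInstance inferInstance
    exact h0.comp (RingHom.FiniteType.of_surjective _ ε.surjective)
  · have h0 : (algebraMap (MvPolynomial (Fin (e + h)) R) (Localization.Away g)).QuasiFinite := by
      rw [RingHom.quasiFinite_algebraMap]
      exact hqfg
    exact h0.comp (RingHom.QuasiFinite.of_finite ε.toRingEquiv.finite)
  · have hdisj : Disjoint (Submonoid.powers g : Set S) (q : Set S) := by
      rw [Set.disjoint_left]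
      rintro _ ⟨k, rfl⟩ hk
      exact hg (Ideal.IsPrime.mem_of_pow_mem ‹q.IsPrime› k hk)
    have h2 : Ideal.comap (algebraMap S (Localization.Away g))
        (q.map (algebraMap S (Localization.Away g))) = q :=
      IsLocalization.comap_map_of_isPrime_disjoint (Submonoid.powers g) _ ‹q.IsPrime› hdisj
    let εr : MvPolynomial (Fin (e + h)) (Localization.Away (1 : R)) →+*
        MvPolynomial (Fin (e + h)) R := ε.toAlgHom.toRingHom
    have hεr : Function.Bijective εr := ε.bijective
    have h3 : (q.map (algebraMap S (Localization.Away g))).comap (φ₀.comp ε.toAlgHom) =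
        Ideal.comap εr (Ideal.comap ψ q) := by
      ext x
      simp only [Ideal.mem_comap]
      have : (φ₀.comp ε.toAlgHom) x = algebraMap S (Localization.Away g) (ψ (ε x)) := by
        show algebraMap (MvPolynomial (Fin (e + h)) R) (Localization.Away g) (ε x) = _
        rw [IsScalarTower.algebraMap_apply (MvPolynomial (Fin (e + h)) R) S (Localization.Away g)]
        rfl
      rw [this, ← Ideal.mem_comap, h2]
      rfl
    rw [h3, hcomap]
    have h4 : Ideal.map εr (p.map (algebraMap R (MvPolynomial (Fin (e + h)) (Localization.Away (1 : R)))) ⊔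
            Ideal.span (Set.range fun i : {i : Fin (e + h) // e ≤ (i : ℕ)} =>
              (MvPolynomial.X (i : Fin (e + h)) :
                MvPolynomial (Fin (e + h)) (Localization.Away (1 : R))))) =
        Ideal.map MvPolynomial.C p ⊔ Ideal.span (Set.range fun j : Fin h =>
          (MvPolynomial.X (Fin.natAdd e j) : MvPolynomial (Fin (e + h)) R)) := by
      rw [Ideal.map_sup, Ideal.map_map, Ideal.map_span]
      congr 1
      · congr 1
        refine RingHom.ext fun x => ?_
        show ε (algebraMap R _ x) = _
        rw [ε.commutes, MvPolynomial.algebraMap_eq]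
      · congr 1
        ext y
        constructor
        · rintro ⟨_, ⟨⟨i, hi⟩, rfl⟩, rfl⟩
          refine ⟨⟨(i : ℕ) - e, by omega⟩, ?_⟩
          have : Fin.natAdd e ⟨(i : ℕ) - e, by omega⟩ = i := by
            ext; simp; omega
          show MvPolynomial.X (Fin.natAdd e ⟨(i : ℕ) - e, by omega⟩) = ε (MvPolynomial.X i)
          rw [this]
          simp [ε]
        · rintro ⟨j, rfl⟩
          refine ⟨_, ⟨⟨Fin.natAdd e j, by simp⟩, rfl⟩, ?_⟩
          show ε (MvPolynomial.X (Fin.natAdd e j)) = _
          simp [ε]
    rw [← h4]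
    exact Ideal.comap_map_of_bijective _ hεr

end Groth.Agent.S9181
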