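import Groth.Statements.S9182
import Mathlib

set_option autoImplicit false
universe u
open CAlg

namespace Groth.Agent.S9182

open TensorProduct MvPolynomial Algebra

section Aux

attribute [local instance] SMulCommClass.of_commMonoid

section LemmaA

variable {R S T : Type u} [CommRing R] [CommRing S] [CommRing T] [Algebra R S] [Algebra R T]
  [Algebra S T] [IsScalarTower R S T]
variable {ι σ : Type} (g : S) [IsLocalization.Away g T] (Q : Generators S T ι)
  (P : Generators R S σ)

/-- a hom to Mathlib's standard composite. -/
noncomputable def hHom :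
    Generators.Hom (Q.comp P) ((Generators.localizationAway T g).comp P) where
  val := Sum.elim (fun j => ((Generators.localizationAway T g).comp P).σ (Q.val j))
    (fun i => X (Sum.inr i))
  aeval_val := by
    rintro (j | i)
    · simp
    · simp

theorem hHom_comp :
    (hHom g Q P).comp (Q.toComp P) = (Generators.localizationAway T g).toComp P := by
  ext i
  simp [hHom]

include g in
theorem inj_f : Function.Injective (LinearMap.liftBaseChange T
      (Extension.Cotangent.map (Q.toComp P).toExtensionHom)) := by
  have h0 := Generators.liftBaseChange_injective_of_isLocalizationAway (T := T) g P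
  rw [← hHom_comp g Q P, Generators.Hom.toExtensionHom_comp, Extension.Cotangent.map_comp] at h0
  have h1 : LinearMap.liftBaseChange T
      ((Extension.Cotangent.map (hHom g Q P).toExtensionHom).restrictScalars S ∘ₗ
        Extension.Cotangent.map (Q.toComp P).toExtensionHom) =
      (Extension.Cotangent.map (hHom g Q P).toExtensionHom) ∘ₗ
        LinearMap.liftBaseChange T (Extension.Cotangent.map (Q.toComp P).toExtensionHom) := by
    ext x
    simp
  rw [h1] at h0
  exact Function.Injective.of_comp h0

include g in
theorem lemmaA [Finite ι] : Nonempty ((Q.comp P).toExtension.Cotangent ≃ₗ[T]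
    (T ⊗[S] P.toExtension.Cotangent) × (ι → T)) := by
  classical
  haveI : Algebra.FormallyEtale S T := Algebra.FormallyEtale.of_isLocalization (Submonoid.powers g)
  have hinj : Function.Injective Q.toExtension.cotangentComplex := by
    haveI : Algebra.FormallySmooth S Q.toExtension.Ring :=
      inferInstanceAs (Algebra.FormallySmooth S (MvPolynomial ι S))
    rw [Extension.cotangentComplex_injective_iff]
    infer_instance
  have hsurj : Function.Surjective Q.toExtension.cotangentComplex := by
    have hex := Q.toExtension.exact_cotangentComplex_toKaehler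
    intro y
    exact (hex y).1 (Subsingleton.elim _ _)
  let eQ : Q.toExtension.Cotangent ≃ₗ[T] (ι → T) :=
    (LinearEquiv.ofBijective _ ⟨hinj, hsurj⟩) ≪≫ₗ Q.cotangentSpaceBasis.equivFun
  haveI : Module.Free T Q.toExtension.Cotangent := Module.Free.of_equiv eQ.symm
  obtain ⟨s, hs⟩ := Module.projective_lifting_property
    (Extension.Cotangent.map (Q.ofComp P).toExtensionHom) LinearMap.id
    (Generators.Cotangent.surjective_map_ofComp Q P)
  let e := ((Generators.Cotangent.exact Q P).splitSurjectiveEquiv (inj_f g Q P) ⟨s, hs⟩).1
  exact ⟨e ≪≫ₗ LinearEquiv.prodCongr (LinearEquiv.refl T _) eQ⟩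

end LemmaA

section LemmaB

variable {R T : Type u} [CommRing R] [CommRing T] [Algebra R T]
variable {ι₁ ι₂ : Type} (G₁ : Generators R T ι₁) (G₂ : Generators R T ι₂) (e : ι₁ ≃ ι₂)
  (h : ∀ i, G₂.val (e i) = G₁.val i)

include h in
theorem lemmaB : Nonempty (G₁.toExtension.Cotangent ≃ₗ[T] G₂.toExtension.Cotangent) := by
  let f : Generators.Hom G₁ G₂ := ⟨fun i => X (e i), fun i => by simp [h]⟩
  let f' : Generators.Hom G₂ G₁ := ⟨fun k => X (e.symm k), fun k => by simp [← h]⟩
  have h1 : f'.comp f = Generators.Hom.id G₁ := by ext i; simp [f, f']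
  have h2 : f.comp f' = Generators.Hom.id G₂ := by ext i; simp [f, f']
  refine ⟨LinearEquiv.ofLinearMap (Extension.Cotangent.map f.toExtensionHom)
    (Extension.Cotangent.map f'.toExtensionHom) ?_ ?_⟩
  · have := Extension.Cotangent.map_comp (f := f'.toExtensionHom) (g := f.toExtensionHom)
    rw [← Generators.Hom.toExtensionHom_comp, h2, Generators.Hom.toExtensionHom_id,
      Extension.Cotangent.map_id] at this
    exact this.symm
  · have := Extension.Cotangent.map_comp (f := f.toExtensionHom) (g := f'.toExtensionHom)
    rw [← Generators.Hom.toExtensionHom_comp, h1, Generators.Hom.toExtensionHom_id,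
      Extension.Cotangent.map_id] at this
    exact this.symm

end LemmaB

section LemmaC

variable {R S : Type u} [CommRing R] [CommRing S] [Algebra R S] {n : ℕ}
  (α : MvPolynomial (Fin n) R →ₐ[R] S) (hα : Function.Surjective α)

theorem lemmaC : Nonempty ((Extension.ofSurjective α hα).Cotangent ≃ₗ[S]
    (Generators.ofAlgHom α hα).toExtension.Cotangent) := by
  have key : ∀ p : MvPolynomial (Fin n) R, aeval (Generators.ofAlgHom α hα).val p = α p := by
    intro p
    have : aeval (R := R) (Generators.ofAlgHom α hα).val = α := by
      ext i; simp [Generators.ofAlgHom]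
    rw [this]
  let f : (Extension.ofSurjective α hα).Hom (Generators.ofAlgHom α hα).toExtension :=
    { toRingHom := RingHom.id _
      toRingHom_algebraMap := fun x => rfl
      algebraMap_toRingHom := fun x => by
        change aeval (Generators.ofAlgHom α hα).val x = α x
        exact key x }
  let f' : (Generators.ofAlgHom α hα).toExtension.Hom (Extension.ofSurjective α hα) :=
    { toRingHom := RingHom.id _
      toRingHom_algebraMap := fun x => rfl
      algebraMap_toRingHom := fun x => by
        change α x = aeval (Generators.ofAlgHom α hα).val x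
        exact (key x).symm }
  have h1 : f'.comp f = Extension.Hom.id _ := by ext x; rfl
  have h2 : f.comp f' = Extension.Hom.id _ := by ext x; rfl
  refine ⟨LinearEquiv.ofLinearMap (Extension.Cotangent.map f) (Extension.Cotangent.map f') ?_ ?_⟩
  · have := Extension.Cotangent.map_comp (f := f') (g := f)
    rw [h2, Extension.Cotangent.map_id] at this
    exact this.symm
  · have := Extension.Cotangent.map_comp (f := f) (g := f')
    rw [h1, Extension.Cotangent.map_id] at this
    exact this.symm

end LemmaC

theorem main (R S : Type u) [CommRing R] [CommRing S] [Algebra R S]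
    (g : S) (n m : ℕ) (α : MvPolynomial (Fin n) R →ₐ[R] S) (hα : Function.Surjective α)
    (β : MvPolynomial (Fin m) R →ₐ[R] Localization.Away g) (hβ : Function.Surjective β) :
    Nonempty ((LocalizedModule (Submonoid.powers g) (Algebra.Extension.ofSurjective α hα).Cotangent ×
        (Fin m → Localization.Away g)) ≃ₗ[Localization.Away g]
      ((Algebra.Extension.ofSurjective β hβ).Cotangent × (Fin n → Localization.Away g))) := by
  let P : Generators R S (Fin n) := Generators.ofAlgHom α hα
  let Pβ : Generators R (Localization.Away g) (Fin m) := Generators.ofAlgHom β hβ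
  have hQ' : Function.Surjective (aeval (R := S) (fun j : Fin m => β (X j))) := by
    intro t
    obtain ⟨p, rfl⟩ := hβ t
    refine ⟨MvPolynomial.map (algebraMap R S) p, ?_⟩
    rw [MvPolynomial.aeval_map_algebraMap]
    have : aeval (R := R) (fun j : Fin m => β (X j)) = β := by
      ext i; simp
    rw [this]
  let Q' : Generators S (Localization.Away g) (Fin m) := Generators.ofSurjective _ hQ'
  let Q'' : Generators (Localization.Away g) (Localization.Away g) (Fin n) :=
    Generators.ofSurjective (fun i => algebraMap S (Localization.Away g) (α (X i)))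
      (fun t => ⟨C t, by simp⟩)
  haveI : IsLocalization.Away (1 : Localization.Away g) (Localization.Away g) :=
    IsLocalization.away_of_isUnit_of_bijective _ isUnit_one Function.bijective_id
  obtain ⟨e1⟩ := lemmaA g Q' P
  obtain ⟨e2⟩ := lemmaA (1 : Localization.Away g) Q'' Pβ
  obtain ⟨e3⟩ := lemmaB (Q'.comp P) (Q''.comp Pβ) (Equiv.sumComm _ _) (by
    rintro (j | i)
    · rfl
    · rfl)
  obtain ⟨e4⟩ := lemmaC α hα
  obtain ⟨e5⟩ := lemmaC β hβ
  let e6 : Localization.Away g ⊗[S] (Algebra.Extension.ofSurjective α hα).Cotangent
      ≃ₗ[Localization.Away g]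
      LocalizedModule (Submonoid.powers g) (Algebra.Extension.ofSurjective α hα).Cotangent :=
    (IsLocalizedModule.isBaseChange (Submonoid.powers g) (Localization.Away g)
      (LocalizedModule.mkLinearMap (Submonoid.powers g) _)).equiv
  let e7 : Localization.Away g ⊗[S] (Algebra.Extension.ofSurjective α hα).Cotangent
      ≃ₗ[Localization.Away g] Localization.Away g ⊗[S] P.toExtension.Cotangent :=
    TensorProduct.AlgebraTensorModule.congr (LinearEquiv.refl _ _) e4
  let e8 : Localization.Away g ⊗[Localization.Away g] Pβ.toExtension.Cotangent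
      ≃ₗ[Localization.Away g] Pβ.toExtension.Cotangent := TensorProduct.lid _ _
  exact ⟨(LinearEquiv.prodCongr (e6.symm ≪≫ₗ e7) (LinearEquiv.refl _ _)) ≪≫ₗ e1.symm ≪≫ₗ e3 ≪≫ₗ e2
    ≪≫ₗ LinearEquiv.prodCongr (e8 ≪≫ₗ e5.symm) (LinearEquiv.refl _ _)⟩


end Aux

/-- For presentations α : R[x_1, …, x_n] → S and β : R[y_1, …, y_m] → S_g (g ∈ S) with kernels I and J,
the S_g-modules (I/I²)_g ⊕ S_g^m and J/J² ⊕ S_g^n are isomorphic. -/
theorem result (R S : Type u) [CommRing R] [CommRing S] [Algebra R S]
    (g : S) (n m : ℕ) (α : MvPolynomial (Fin n) R →ₐ[R] S) (hα : Function.Surjective α)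
    (β : MvPolynomial (Fin m) R →ₐ[R] Localization.Away g) (hβ : Function.Surjective β) :
    Nonempty ((LocalizedModule (Submonoid.powers g) (Algebra.Extension.ofSurjective α hα).Cotangent ×
        (Fin m → Localization.Away g)) ≃ₗ[Localization.Away g]
      ((Algebra.Extension.ofSurjective β hβ).Cotangent × (Fin n → Localization.Away g))) := by
  exact main R S g n m α hα β hβ

end Groth.Agent.S9182
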