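import Groth.Statements.S9185
import Groth.Agent.S3815

set_option autoImplicit false
universe u
open Diff16

namespace Groth.Agent.S9185


open PP16 Diff16 TensorProduct Groth.Agent.S3815

section aux

variable (k : ℕ) (R S : Type u) [CommRing R] [CommRing S] [Algebra R S] (M : Type u)
    [AddCommGroup M] [Module S M] [Module R M] [IsScalarTower R S M]

/-- `P^k(M)` with the first-factor structures. -/
def PS : Type u := PM k R S M

noncomputable instance : AddCommGroup (PS k R S M) := inferInstanceAs (AddCommGroup (PM k R S M))

noncomputable instance instModP : Module (P k R S) (PS k R S M) :=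
  inferInstanceAs (Module (P k R S) (PM k R S M))

noncomputable instance instModS : Module S (PS k R S M) :=
  Module.compHom (PS k R S M) (algebraMap S (P k R S))

noncomputable instance instModR : Module R (PS k R S M) :=
  Module.compHom (PS k R S M) (algebraMap R (P k R S))

lemma smulS_def (s : S) (t : PS k R S M) : s • t = algebraMap S (P k R S) s • t := rfl

lemma smulR_def (r : R) (t : PS k R S M) : r • t = algebraMap R (P k R S) r • t := rfl

instance : IsScalarTower R S (PS k R S M) where
  smul_assoc r s t := by
    change (algebraMap S (P k R S) (r • s) • (t : PM k R S M) : PM k R S M)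
      = algebraMap R (P k R S) r • (algebraMap S (P k R S) s • (t : PM k R S M))
    rw [Algebra.smul_def r s, map_mul, mul_smul, ← IsScalarTower.algebraMap_apply R S (P k R S)]

/-- identity `PM → PS` -/
noncomputable def toPS : PM k R S M →+ PS k R S M := AddMonoidHom.id _

lemma toPS_smul (b : S) (t : PM k R S M) :
    toPS k R S M (algebraMap S (P k R S) b • t) = b • toPS k R S M t := rfl

/-- the universal operator -/
noncomputable def D₀ : M →ₗ[R] PS k R S M where
  toFun m := toPS k R S M (dM k R S M m)
  map_add' x y := by rw [map_add, map_add]
  map_smul' r m := by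
    rw [RingHom.id_apply, smulR_def]
    change (toPr k (1 : P k R S) ⊗ₜ[S] (r • m) : PM k R S M)
      = algebraMap R (P k R S) r • (toPr k (1 : P k R S) ⊗ₜ[S] m : PM k R S M)
    rw [← algebraMap_smul S r m, tmul_smul_P, smul_tmul_P]
    congr 1
    change dn k R S (algebraMap R S r) * 1 = algebraMap R (P k R S) r * 1
    rw [AlgHom.commutes]

lemma D₀_apply (m : M) : D₀ k R S M m = toPS k R S M (dM k R S M m) := rfl

end aux

/-- For a ring map R → S, an S-module M and k ≥ 0 there is an S-module P together with a differential
operator D : M → P of order at most k (relative to R → S) such that every differential operator of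
order at most k from M to an S-module N is α ∘ D for a unique S-linear map α : P → N; that is,
differential operators of order ≤ k out of M are represented by P. (Target modules N are taken in
the same universe.) -/
theorem result (R S : Type u) [CommRing R] [CommRing S] [Algebra R S] (M : Type u)
    [AddCommGroup M] [Module S M] [Module R M] [IsScalarTower R S M] (k : ℕ) :
    ∃ (P : Type u) (_ : AddCommGroup P) (_ : Module S P) (_ : Module R P) (_ : IsScalarTower R S P)
      (D : M →ₗ[R] P), Diff16.IsDiffOpLE R S M P k D ∧
        ∀ (N : Type u) [AddCommGroup N] [Module S N] [Module R N] [IsScalarTower R S N] (D' : M →ₗ[R] N),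
          Diff16.IsDiffOpLE R S M N k D' → ∃! α : P →ₗ[S] N, α.restrictScalars R ∘ₗ D = D' := by
  refine ⟨PS k R S M, inferInstance, instModS k R S M, instModR k R S M, inferInstance,
    D₀ k R S M, ?_, ?_⟩
  · exact Groth.Agent.S3815.DO_of_u k (toPS k R S M) (toPS_smul k R S M) k 0 (by omega) 1
      (Groth.Agent.S3815.one_mem_Fil_zero k) (D₀ k R S M) (fun m => rfl)
  · intro N _ _ _ _ D' hD'
    obtain ⟨u, ⟨h1, h2⟩, huniq⟩ := (Groth.Agent.S3815.result k R S M N D').1 hD'
    let α : PS k R S M →ₗ[S] N :=
      { toFun := fun t => u t
        map_add' := fun x y => u.map_add x y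
        map_smul' := fun s t => h1 s t }
    refine ⟨α, ?_, ?_⟩
    · ext m
      exact h2 m
    · intro α' hα'
      have : (α'.toAddMonoidHom : PM k R S M →+ N) = u := by
        apply huniq
        refine ⟨fun b t => ?_, fun m => ?_⟩
        · exact α'.map_smul b t
        · exact LinearMap.congr_fun hα' m
      ext t
      exact DFunLike.congr_fun this t

end Groth.Agent.S9185
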