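import Groth.Statements.S9198
import Groth.Agent.Lib.Helper5.SyntLimC

set_option autoImplicit false
universe u
open CategoryTheory AlgebraicGeometry
open Lim

namespace Groth.Agent.S9198

/-- Let S = lim S_i be a cofiltered limit of schemes with affine transition morphisms, S_{i₀} a
quasi-compact quasi-separated stage, f₀ : X₀ → Y₀ a morphism of quasi-compact quasi-separated
schemes over S_{i₀}, and f : X → Y its base change along S → S_{i₀} (base changes expressed by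
pullback squares). If f₀ is locally of finite presentation and f is syntomic (flat, locally of
finite presentation, with local complete intersection fibres, tested on affine opens around each
point), then for some index i over i₀ the base change f_i : X_i → Y_i of f₀ along S_i → S_{i₀} is
syntomic. -/
theorem result {I : Type u} [SmallCategory I] [IsCofiltered I]
    (D : I ⥤ Scheme.{u}) (c : Limits.Cone D) (hc : Limits.IsLimit c)
    [∀ (i j : I) (f : i ⟶ j), IsAffineHom (D.map f)] (i₀ : I) [CompactSpace (D.obj i₀)]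
    [QuasiSeparatedSpace (D.obj i₀)] {X₀ Y₀ : Scheme.{u}} (f₀ : X₀ ⟶ Y₀) (g₀ : Y₀ ⟶ D.obj i₀)
    [CompactSpace X₀] [QuasiSeparatedSpace X₀] [CompactSpace Y₀] [QuasiSeparatedSpace Y₀]
    [LocallyOfFinitePresentation f₀]
    {X Y : Scheme.{u}} (f : X ⟶ Y) (g : Y ⟶ c.pt) (qY : Y ⟶ Y₀) (qX : X ⟶ X₀)
    (hY : IsPullback qY g g₀ (c.π.app i₀)) (hX : IsPullback qX f f₀ qY) (hf : Synt.IsSyntomicMor f) :
    ∃ (i : I) (φ : i ⟶ i₀) (Xi Yi : Scheme.{u}) (fi : Xi ⟶ Yi) (gi : Yi ⟶ D.obj i) (pY : Yi ⟶ Y₀)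
      (pX : Xi ⟶ X₀), IsPullback pY gi g₀ (D.map φ) ∧ IsPullback pX fi f₀ pY ∧ Synt.IsSyntomicMor fi := by
  rw [Lib.Helper25.SyntLocal.isSyntomicMor_iff] at hf
  have hcore : ∀ (a : X₀ ⟶ (Lib.Helper22.bcDiag D i₀ g₀).obj (Lib.Helper13.LimDescend.top i₀)),
      a ≫ Limits.pullback.snd (D.map (Lib.Helper13.LimDescend.top i₀).hom) g₀ = f₀ →
      Lib.Helper25.SyntLocal.SyntMor (Limits.pullback.fst
        ((Lib.Helper22.bcCone D c i₀ g₀).π.app (Lib.Helper13.LimDescend.top i₀)) a) →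
      ∃ (j : Over i₀) (ψ : j ⟶ Lib.Helper13.LimDescend.top i₀),
        Lib.Helper25.SyntLocal.SyntMor
          (Limits.pullback.fst ((Lib.Helper22.bcDiag D i₀ g₀).map ψ) a) := by
    intro a ha hP
    have : ∀ (j k : Over i₀) (φ : j ⟶ k),
        IsAffineHom ((Lib.Helper22.bcDiag D i₀ g₀).map φ) := fun _ _ φ => inferInstance
    obtain ⟨s, hs, rfl⟩ := Lib.Helper13.LimDescend.exists_iso_eq_comp D i₀ f₀ g₀ a ha
    exact Lib.Helper5.SyntLim.core_syntomic (Lib.Helper22.bcDiag D i₀ g₀)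
      (Lib.Helper22.bcCone D c i₀ g₀) (Lib.Helper22.bcIsLimit D hc i₀ g₀)
      (Lib.Helper13.LimDescend.top i₀) (f₀ ≫ s) hP
  obtain ⟨i, φ, Xi, Yi, fi, gi, pY, pX, h1, h2, h3⟩ :=
    Lib.Helper13.LimDescend.descend_of_core D c Lib.Helper25.SyntLocal.SyntMor
      i₀ f₀ g₀ hcore f g qY qX hY hX hf
  exact ⟨i, φ, Xi, Yi, fi, gi, pY, pX, h1, h2,
    (Lib.Helper25.SyntLocal.isSyntomicMor_iff fi).mpr h3⟩

end Groth.Agent.S9198
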