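import Groth.Statements.S9206
-- import your own Groth.Agent.* helpers here

set_option autoImplicit false
universe u
open CategoryTheory AlgebraicGeometry
open Lim

namespace Groth.Agent.S9206

open Limits in
/-- elements of the residue field are quotients of evaluations of sections over an affine open -/
lemma exists_eval_div {X : Scheme.{u}} {U : X.Opens} (hU : IsAffineOpen U) (x : X) (hx : x ∈ U)
    (a : X.residueField x) :
    ∃ f g : Γ(X, U), (X.evaluation U x hx).hom g ≠ 0 ∧
      a * (X.evaluation U x hx).hom g = (X.evaluation U x hx).hom f := by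
  obtain ⟨α, rfl⟩ := X.residue_surjective x a
  letI := X.presheaf.algebra_section_stalk ⟨x, hx⟩
  have hloc := hU.isLocalization_stalk ⟨x, hx⟩
  obtain ⟨f, g, hfg⟩ := IsLocalization.exists_mk'_eq (hU.primeIdealOf ⟨x, hx⟩).asIdeal.primeCompl α
  refine ⟨f, g.1, ?_, ?_⟩
  · have hu : IsUnit (algebraMap Γ(X, U) (X.presheaf.stalk x) g.1) :=
      IsLocalization.map_units (M := (hU.primeIdealOf ⟨x, hx⟩).asIdeal.primeCompl) _ g
    have hu' := hu.map (X.residue x).hom
    exact hu'.ne_zero
  · have := IsLocalization.mk'_spec (M := (hU.primeIdealOf ⟨x, hx⟩).asIdeal.primeCompl)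
      (X.presheaf.stalk x) f g
    rw [hfg] at this
    have h2 := congrArg (X.residue x).hom this
    rw [map_mul] at h2
    exact h2

lemma eval_res {X : Scheme.{u}} {U V : X.Opens} (e : V ≤ U) (x : X) (hx : x ∈ V) (σ : Γ(X, U)) :
    (X.evaluation V x hx).hom ((X.presheaf.map (homOfLE e).op).hom σ) =
      (X.evaluation U x (e hx)).hom σ := by
  change (X.residue x).hom ((X.presheaf.germ V x hx).hom ((X.presheaf.map (homOfLE e).op).hom σ)) =
    (X.residue x).hom ((X.presheaf.germ U x (e hx)).hom σ)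
  congr 1
  exact X.presheaf.germ_res_apply (homOfLE e) x hx σ

open Limits in
/-- two global sections of a limit come from a common stage -/
lemma exists_appTop_π_eq₂ {J : Type u} [SmallCategory J] [IsCofiltered J]
    (E : J ⥤ Scheme.{u}) (d : Cone E) (hd : IsLimit d)
    [∀ {i j : J} (f : i ⟶ j), IsAffineHom (E.map f)] [∀ i, CompactSpace (E.obj i)]
    [∀ i, QuasiSeparatedSpace (E.obj i)] (σ₁ σ₂ : Γ(d.pt, ⊤)) :
    ∃ (k : J) (τ₁ τ₂ : Γ(E.obj k, ⊤)), σ₁ = (d.π.app k).appTop.hom τ₁ ∧
      σ₂ = (d.π.app k).appTop.hom τ₂ := by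
  obtain ⟨j₁, t₁, h₁⟩ := exists_appTop_π_eq_of_isLimit E d hd σ₁
  obtain ⟨j₂, t₂, h₂⟩ := exists_appTop_π_eq_of_isLimit E d hd σ₂
  refine ⟨IsCofiltered.min j₁ j₂, (E.map (IsCofiltered.minToLeft j₁ j₂)).appTop.hom t₁,
    (E.map (IsCofiltered.minToRight j₁ j₂)).appTop.hom t₂, ?_, ?_⟩
  · rw [h₁, ← d.w (IsCofiltered.minToLeft j₁ j₂), Scheme.Hom.comp_appTop]
    rfl
  · rw [h₂, ← d.w (IsCofiltered.minToRight j₁ j₂), Scheme.Hom.comp_appTop]
    rfl

/-- Let S = lim S_i be a cofiltered limit of schemes with affine transition morphisms and let s be a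
point of S with images s_i in S_i. Then the residue field κ(s) is the colimit of the residue fields
κ(s_i): every element of κ(s) is the image of an element of κ(s_i) for some i under the map of
residue fields induced by S → S_i (the maps κ(s_i) → κ(s) being injective, this says that the
canonical map from the colimit is an isomorphism). -/
theorem result {I : Type u} [SmallCategory I] [IsCofiltered I]
    (D : I ⥤ Scheme.{u}) (c : Limits.Cone D) (hc : Limits.IsLimit c)
    [∀ (i j : I) (f : i ⟶ j), IsAffineHom (D.map f)] (s : c.pt) (a : c.pt.residueField s) :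
    ∃ (i : I) (b : (D.obj i).residueField ((c.π.app i).base s)), ((c.π.app i).residueFieldMap s).hom b = a := by
  classical
  obtain ⟨i₀⟩ := IsCofiltered.nonempty (C := I)
  have haff : ∀ i, IsAffineHom (c.π.app i) := fun i => isAffineHom_π_app D c hc i
  obtain ⟨V₀, hV₀, hsV₀, -⟩ := exists_isAffineOpen_mem_and_subset
    (x := (c.π.app i₀).base s) (U := ⊤) trivial
  let W : c.pt.Opens := c.π.app i₀ ⁻¹ᵁ V₀
  have hW : IsAffineOpen W := hV₀.preimage (c.π.app i₀)
  have hsW : s ∈ W := hsV₀
  obtain ⟨F, G, hG, hFG⟩ := exists_eval_div hW s hsW a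
  -- the restricted diagram
  have hstage : ∀ j : Over i₀, IsAffine ((opensDiagram D i₀ V₀).obj j) :=
    fun j => hV₀.preimage (D.map j.hom)
  obtain ⟨k, τ₁, τ₂, h₁, h₂⟩ := exists_appTop_π_eq₂ (opensDiagram D i₀ V₀) (opensCone D c i₀ V₀)
    (isLimitOpensCone D c hc i₀ V₀) (W.topIso.inv.hom F) (W.topIso.inv.hom G)
  let Vk : (D.obj k.left).Opens := D.map k.hom ⁻¹ᵁ V₀
  have hle : W ≤ c.π.app k.left ⁻¹ᵁ Vk := by
    rw [← Scheme.Hom.comp_preimage, c.w]
  have hsk : (c.π.app k.left).base s ∈ Vk := hle hsW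
  let fk : Γ(D.obj k.left, Vk) := Vk.topIso.hom.hom τ₁
  let gk : Γ(D.obj k.left, Vk) := Vk.topIso.hom.hom τ₂
  have key : ∀ (τ : Γ(Vk, ⊤)) (H : Γ(c.pt, W)),
      W.topIso.inv.hom H = ((opensCone D c i₀ V₀).π.app k).appTop.hom τ →
      ((c.π.app k.left).residueFieldMap s).hom
        (((D.obj k.left).evaluation Vk _ hsk).hom (Vk.topIso.hom.hom τ)) =
      (c.pt.evaluation W s hsW).hom H := by
    intro τ H hH
    have hcomp : ((c.π.app k.left).resLE Vk W hle).appTop ≫ W.topIso.hom =
        Vk.topIso.hom ≫ (c.π.app k.left).appLE Vk W hle := by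
      rw [← cancel_mono W.topIso.inv]
      simp only [Category.assoc, Iso.hom_inv_id, Category.comp_id]
      exact Scheme.Hom.resLE_app_top (c.π.app k.left) hle
    refine (Scheme.evaluation_naturality_apply (c.π.app k.left) s hsk
      (Vk.topIso.hom.hom τ)).trans ?_
    have h3 : H = ((c.π.app k.left).appLE Vk W hle).hom (Vk.topIso.hom.hom τ) := by
      have := congrArg W.topIso.hom.hom hH
      rw [← CommRingCat.comp_apply, Iso.inv_hom_id] at this
      rw [CommRingCat.id_apply] at this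
      rw [this]
      change _ = (Vk.topIso.hom ≫ (c.π.app k.left).appLE Vk W hle).hom τ
      change (((c.π.app k.left).resLE Vk W hle).appTop ≫ W.topIso.hom).hom τ = _
      rw [hcomp]
    rw [h3, Scheme.Hom.appLE, CommRingCat.comp_apply]
    exact (eval_res hle s hsW _).symm
  refine ⟨k.left, ((D.obj k.left).evaluation Vk _ hsk).hom fk /
    ((D.obj k.left).evaluation Vk _ hsk).hom gk, ?_⟩
  rw [map_div₀, key τ₁ F h₁, key τ₂ G h₂]
  exact (eq_div_of_mul_eq hG hFG).symm

end Groth.Agent.S9206
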