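import Groth.Statements.S9211
-- import your own Groth.Agent.* helpers here
import Groth.Agent.S4450

set_option autoImplicit false
universe u
open CategoryTheory CategoryTheory.Limits AlgebraicGeometry
open Lim

namespace Groth.Agent.S9211

section
open IsLocalRing

/-- every point is a specialization of the generic point of an irreducible component -/
theorem exists_generic_specializes {X : Scheme.{u}} (x : X) :
    ∃ η : X, closure {η} ∈ irreducibleComponents (X : Type u) ∧ η ⤳ x := by
  obtain ⟨η, hη⟩ := QuasiSober.sober (isIrreducible_irreducibleComponent (x := x))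
    isClosed_irreducibleComponent
  refine ⟨η, ?_, ?_⟩
  · rw [hη.def]; exact irreducibleComponent_mem_irreducibleComponents x
  · rw [specializes_iff_mem_closure, hη.def]; exact mem_irreducibleComponent

theorem specializingMap_diagonal {X S : Scheme.{u}} [IsLocallyNoetherian S] (f : X ⟶ S)
    [LocallyOfFiniteType f]
    (H : ∀ (η : X), closure {η} ∈ irreducibleComponents (X : Type u) →
      ∀ (A : ValuationSubring (X.residueField η)), IsDiscreteValuationRing A →
        ∀ l₁ l₂ : Spec (CommRingCat.of A) ⟶ X, l₁ ≫ f = l₂ ≫ f →
          Spec.map (CommRingCat.ofHom A.subtype) ≫ l₁ = X.fromSpecResidueField η →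
          Spec.map (CommRingCat.ofHom A.subtype) ≫ l₂ = X.fromSpecResidueField η → l₁ = l₂) :
    SpecializingMap (pullback.diagonal f).base := by
  have hX : IsLocallyNoetherian X := LocallyOfFiniteType.isLocallyNoetherian f
  have hΔlft : LocallyOfFiniteType (pullback.diagonal f) := by
    have : LocallyOfFiniteType (pullback.diagonal f ≫ pullback.fst f f) := by
      rw [pullback.diagonal_fst]; infer_instance
    exact locallyOfFiniteType_of_comp (pullback.diagonal f) (pullback.fst f f)
  intro x z' hsp
  by_cases hne : z' = (pullback.diagonal f).base x
  · exact ⟨x, specializes_rfl, hne.symm⟩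
  obtain ⟨η, hη, hηx⟩ := exists_generic_specializes x
  have hsp' : (pullback.diagonal f).base η ⤳ z' :=
    (hηx.map (pullback.diagonal f).continuous).trans hsp
  have hne' : z' ≠ (pullback.diagonal f).base η := by
    intro h
    apply hne
    have h1 : (pullback.diagonal f).base x ⤳ (pullback.diagonal f).base η := h ▸ hsp
    have h2 := hηx.map (pullback.diagonal f).continuous
    rw [h]
    exact (h2.antisymm h1).eq
  obtain ⟨A, h, hA, hcl, hcomp⟩ := Groth.Agent.S4450.result (pullback.diagonal f) η z' hsp' hne'
  have e1 : Spec.map (CommRingCat.ofHom A.subtype) ≫ h ≫ pullback.fst f f =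
      X.fromSpecResidueField η := by
    rw [← Category.assoc, hcomp, Category.assoc, pullback.diagonal_fst, Category.comp_id]
  have e2 : Spec.map (CommRingCat.ofHom A.subtype) ≫ h ≫ pullback.snd f f =
      X.fromSpecResidueField η := by
    rw [← Category.assoc, hcomp, Category.assoc, pullback.diagonal_snd, Category.comp_id]
  have h12 : h ≫ pullback.fst f f = h ≫ pullback.snd f f := by
    apply H η hη A hA
    · rw [Category.assoc, Category.assoc, pullback.condition]
    · exact e1
    · exact e2
  have hfac : h = (h ≫ pullback.fst f f) ≫ pullback.diagonal f := by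
    apply pullback.hom_ext
    · simp
    · simp [h12]
  have hz' : (pullback.diagonal f).base ((h ≫ pullback.fst f f).base (closedPoint A)) = z' := by
    rw [← Scheme.Hom.comp_apply, ← hfac, hcl]
  refine ⟨(h ≫ pullback.fst f f).base (closedPoint A), ?_, hz'⟩
  have hind : Topology.IsInducing (pullback.diagonal f).base :=
    (pullback.diagonal f).isEmbedding.isInducing
  change x ⤳ _
  rw [← hind.specializes_iff, hz']
  exact hsp

end

/-- Let S be a locally Noetherian scheme and f : X → S a morphism locally of finite type. Then f is
separated if and only if the following uniqueness holds: for every generic point η of an irreducible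
component of X, every discrete valuation ring A contained in the residue field κ(η) with fraction
field κ(η) (a valuation subring of κ(η) which is a discrete valuation ring), and every pair of
morphisms Spec A → X with the same composite to S and both restricting on Spec κ(η) to the canonical
morphism Spec κ(η) → X, the two morphisms coincide. -/
theorem result {X S : Scheme.{u}} [IsLocallyNoetherian S] (f : X ⟶ S)
    [LocallyOfFiniteType f] :
    IsSeparated f ↔ ∀ (η : X), closure {η} ∈ irreducibleComponents (X : Type u) →
      ∀ (A : ValuationSubring (X.residueField η)), IsDiscreteValuationRing A →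
        ∀ l₁ l₂ : Spec (CommRingCat.of A) ⟶ X, l₁ ≫ f = l₂ ≫ f →
          Spec.map (CommRingCat.ofHom A.subtype) ≫ l₁ = X.fromSpecResidueField η →
          Spec.map (CommRingCat.ofHom A.subtype) ≫ l₂ = X.fromSpecResidueField η → l₁ = l₂ := by
  constructor
  · intro hsep η _ A hA l₁ l₂ h12 h1 h2
    have huniq := IsSeparated.valuativeCriterion f
    let Sq : ValuativeCommSq f :=
      { R := A, K := X.residueField η,
        i₁ := X.fromSpecResidueField η,
        i₂ := l₁ ≫ f, commSq := ⟨by rw [← h1, Category.assoc]; rfl⟩ }
    have := huniq Sq
    let m₁ : Sq.commSq.LiftStruct := ⟨l₁, h1, rfl⟩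
    let m₂ : Sq.commSq.LiftStruct := ⟨l₂, h2, h12.symm⟩
    exact congrArg CommSq.LiftStruct.l (Subsingleton.elim m₁ m₂)
  · intro H
    have hX : IsLocallyNoetherian X := LocallyOfFiniteType.isLocallyNoetherian f
    have hspec := specializingMap_diagonal f H
    have hqc : QuasiCompact (pullback.diagonal f) := by
      rw [← (pullback.diagonal f).liftCoborder_ι]
      infer_instance
    have hclosed : IsClosedMap (pullback.diagonal f).base :=
      (isClosedMap_iff_specializingMap (pullback.diagonal f)).mpr hspec
    exact ⟨IsClosedImmersion.of_isPreimmersion _ hclosed.isClosed_range⟩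

end Groth.Agent.S9211
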