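import Groth.Statements.S9209
-- import your own Groth.Agent.* helpers here
import Groth.Agent.S9211
import Groth.Agent.Lib.Helper13.Dominant

set_option autoImplicit false
universe u
open CategoryTheory CategoryTheory.Limits AlgebraicGeometry
open Lim

namespace Groth.Agent.S9209

/-- Let S be a locally Noetherian scheme, f : X → S a separated morphism of finite type and h : U → X a
morphism of finite type whose image is dense in X. Suppose that for every discrete valuation ring A
with fraction field K and every commutative square formed by a morphism Spec K → U → X and a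
morphism Spec A → S, there is a morphism Spec A → X making the resulting diagram commute. Then f is
proper. -/
theorem result {X S U : Scheme.{u}} [IsLocallyNoetherian S] (f : X ⟶ S)
    [IsSeparated f] [LocallyOfFiniteType f] [QuasiCompact f] (h : U ⟶ X) [LocallyOfFiniteType h] [QuasiCompact h]
    (hd : DenseRange h.base)
    (H : ∀ (A : Type u) [CommRing A] [IsDomain A] [IsDiscreteValuationRing A]
      (u : Spec (CommRingCat.of (FractionRing A)) ⟶ U) (y : Spec (CommRingCat.of A) ⟶ S),
      u ≫ h ≫ f = Spec.map (CommRingCat.ofHom (algebraMap A (FractionRing A))) ≫ y →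
        ∃ l : Spec (CommRingCat.of A) ⟶ X, l ≫ f = y ∧ Spec.map (CommRingCat.ofHom (algebraMap A (FractionRing A))) ≫ l = u ≫ h) :
    IsProper f := by
  have hgen : ∀ η : X, closure {η} ∈ irreducibleComponents (X : Type u) →
      Groth.Agent.Lib.Helper13.ValCrit.ResExistenceAt f η := by
    intro η hη
    apply Groth.Agent.Lib.Helper13.ValCrit.resExistenceAt_of_dvr
    obtain ⟨u₀, rfl⟩ :=
      Groth.Agent.Lib.Helper13.Dominant.exists_eq_of_mem_irreducibleComponents h hd hη
    intro A hA yA hyA
    haveI := hA
    obtain ⟨R, ι, hRdvr, hι, hRA⟩ :=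
      Groth.Agent.Lib.Helper13.Dominant.exists_dvr_extension h u₀ A
    have hιR : CommRingCat.ofHom ι ≫ CommRingCat.ofHom R.subtype =
        CommRingCat.ofHom A.subtype ≫ h.residueFieldMap u₀ := by
      ext a
      exact hι a
    have hiso := Groth.Agent.Lib.Helper13.Dominant.isIso_specMap_algEquiv_symm R
    obtain ⟨φ', hφ'2, hφ'1⟩ := H R (Spec.map (CommRingCat.ofHom
        ((FractionRing.algEquiv R (U.residueField u₀)).symm :
          U.residueField u₀ →+* FractionRing R)) ≫ U.fromSpecResidueField u₀)
      (Spec.map (CommRingCat.ofHom ι) ≫ yA) (by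
        rw [Groth.Agent.Lib.Helper13.DvrProper.specMap_algebraMap_fractionRing, Category.assoc,
          Category.assoc, ← Category.assoc (Spec.map (CommRingCat.ofHom R.subtype)),
          ← Spec.map_comp, hιR, Spec.map_comp, Category.assoc, ← hyA,
          ← Category.assoc (Spec.map (h.residueFieldMap u₀)),
          Scheme.Hom.SpecMap_residueFieldMap_fromSpecResidueField, Category.assoc])
    rw [Groth.Agent.Lib.Helper13.DvrProper.specMap_algebraMap_fractionRing, Category.assoc,
      Category.assoc] at hφ'1
    have hφ'1' := (cancel_epi _).mp hφ'1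
    obtain ⟨l, hl1, hl2, -⟩ :=
      Groth.Agent.Lib.Helper13.Dominant.exists_lift_of_extension h f u₀ A yA R ι hι hRA φ'
        hφ'1' hφ'2
    exact ⟨l, hl1, hl2⟩
  have hall : ∀ x : X, Groth.Agent.Lib.Helper13.ValCrit.ResExistenceAt f x := by
    intro x
    obtain ⟨η, hη, hηx⟩ := Groth.Agent.S9211.exists_generic_specializes x
    exact Groth.Agent.Lib.Helper13.ValCrit.resExistenceAt_of_specializes f hηx (hgen η hη)
  have huc : UniversallyClosed f :=
    UniversallyClosed.of_valuativeCriterion f fun Sq =>
      Groth.Agent.Lib.Helper13.ValCrit.hasLift_of_resExistenceAt f Sq (hall _)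
  exact { }

end Groth.Agent.S9209
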