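import Groth.Statements.S9210
-- import your own Groth.Agent.* helpers here
import Groth.Agent.S9211
import Groth.Agent.Lib.Helper13.Dominant

set_option autoImplicit false
universe u
open CategoryTheory CategoryTheory.Limits AlgebraicGeometry
open Lim

namespace Groth.Agent.S9210

/-- Let S be a locally Noetherian scheme, f : X → S a morphism locally of finite type and h : U → X a
morphism of finite type whose image is dense in X. Suppose that for every discrete valuation ring A
with fraction field K and every commutative square formed by a morphism Spec K → U → X and a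
morphism Spec A → S, there is at most one morphism Spec A → X making the resulting diagram commute.
Then f is separated. -/
theorem result {X S U : Scheme.{u}} [IsLocallyNoetherian S] (f : X ⟶ S)
    [LocallyOfFiniteType f] (h : U ⟶ X) [LocallyOfFiniteType h] [QuasiCompact h] (hd : DenseRange h.base)
    (H : ∀ (A : Type u) [CommRing A] [IsDomain A] [IsDiscreteValuationRing A]
      (u : Spec (CommRingCat.of (FractionRing A)) ⟶ U) (y : Spec (CommRingCat.of A) ⟶ S),
      u ≫ h ≫ f = Spec.map (CommRingCat.ofHom (algebraMap A (FractionRing A))) ≫ y →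
        ∀ l₁ l₂ : Spec (CommRingCat.of A) ⟶ X, l₁ ≫ f = y → Spec.map (CommRingCat.ofHom (algebraMap A (FractionRing A))) ≫ l₁ = u ≫ h →
          l₂ ≫ f = y → Spec.map (CommRingCat.ofHom (algebraMap A (FractionRing A))) ≫ l₂ = u ≫ h → l₁ = l₂) :
    IsSeparated f := by
  rw [Groth.Agent.S9211.result f]
  intro η hη A hA l₁ l₂ h12 h1 h2
  obtain ⟨u₀, rfl⟩ :=
    Groth.Agent.Lib.Helper13.Dominant.exists_eq_of_mem_irreducibleComponents h hd hη
  haveI := hA
  obtain ⟨R, ι, hRdvr, hι, hRA⟩ :=
    Groth.Agent.Lib.Helper13.Dominant.exists_dvr_extension h u₀ A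
  obtain ⟨hιinj, hιloc⟩ :=
    Groth.Agent.Lib.Helper13.Dominant.extension_injective_local h u₀ A R ι hι hRA
  have hιR : CommRingCat.ofHom ι ≫ CommRingCat.ofHom R.subtype =
      CommRingCat.ofHom A.subtype ≫ h.residueFieldMap u₀ := by
    ext a
    exact hι a
  -- restrictions to the generic point
  have hres : ∀ l : Spec (CommRingCat.of A) ⟶ X,
      Spec.map (CommRingCat.ofHom A.subtype) ≫ l = X.fromSpecResidueField (h.base u₀) →
      Spec.map (CommRingCat.ofHom R.subtype) ≫ Spec.map (CommRingCat.ofHom ι) ≫ l =
        U.fromSpecResidueField u₀ ≫ h := by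
    intro l hl
    rw [← Category.assoc, ← Spec.map_comp, hιR, Spec.map_comp, Category.assoc, hl,
      Scheme.Hom.SpecMap_residueFieldMap_fromSpecResidueField]
  have hiso := Groth.Agent.Lib.Helper13.Dominant.isIso_specMap_algEquiv_symm R
  have key : Spec.map (CommRingCat.ofHom ι) ≫ l₁ = Spec.map (CommRingCat.ofHom ι) ≫ l₂ := by
    apply H R (Spec.map (CommRingCat.ofHom
        ((FractionRing.algEquiv R (U.residueField u₀)).symm :
          U.residueField u₀ →+* FractionRing R)) ≫ U.fromSpecResidueField u₀)
      ((Spec.map (CommRingCat.ofHom ι) ≫ l₁) ≫ f)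
    · rw [Groth.Agent.Lib.Helper13.DvrProper.specMap_algebraMap_fractionRing, Category.assoc,
        Category.assoc, ← Category.assoc (Spec.map (CommRingCat.ofHom R.subtype)),
        ← Category.assoc (Spec.map (CommRingCat.ofHom R.subtype)),
        Category.assoc (Spec.map (CommRingCat.ofHom R.subtype)), hres l₁ h1, Category.assoc]
    · rfl
    · rw [Groth.Agent.Lib.Helper13.DvrProper.specMap_algebraMap_fractionRing, Category.assoc,
        Category.assoc, hres l₁ h1]
    · rw [Category.assoc, Category.assoc, h12]
    · rw [Groth.Agent.Lib.Helper13.DvrProper.specMap_algebraMap_fractionRing, Category.assoc,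
        Category.assoc, hres l₂ h2]
  exact Groth.Agent.Lib.Helper13.Dominant.cancel_specMap_of_injective ι hιinj l₁ l₂ key

end Groth.Agent.S9210
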