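import Groth.Statements.S9212
-- import your own Groth.Agent.* helpers here
import Groth.Agent.S9211
import Groth.Agent.Lib.Helper13.ValCrit

set_option autoImplicit false
universe u
open CategoryTheory CategoryTheory.Limits AlgebraicGeometry
open Lim

namespace Groth.Agent.S9212

/-- Let S be a locally Noetherian scheme and f : X → S a morphism of finite type. Then f is proper if
and only if: for every generic point η of an irreducible component of X, every discrete valuation
ring A contained in the residue field κ(η) with fraction field κ(η) (a valuation subring of κ(η)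
which is a discrete valuation ring), and every morphism Spec A → S whose restriction to Spec κ(η) is
the canonical morphism Spec κ(η) → X followed by f, there is exactly one morphism Spec A → X over S
restricting to the canonical morphism on Spec κ(η). -/
theorem result {X S : Scheme.{u}} [IsLocallyNoetherian S] (f : X ⟶ S)
    [LocallyOfFiniteType f] [QuasiCompact f] :
    IsProper f ↔ ∀ (η : X), closure {η} ∈ irreducibleComponents (X : Type u) →
      ∀ (A : ValuationSubring (X.residueField η)), IsDiscreteValuationRing A →
        ∀ y : Spec (CommRingCat.of A) ⟶ S,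
          Spec.map (CommRingCat.ofHom A.subtype) ≫ y = X.fromSpecResidueField η ≫ f →
          ∃! l : Spec (CommRingCat.of A) ⟶ X,
            l ≫ f = y ∧ Spec.map (CommRingCat.ofHom A.subtype) ≫ l = X.fromSpecResidueField η := by
  constructor
  · intro hproper η _ A hA y hy
    have hex : ValuativeCriterion f := by
      have h1 := hproper
      rw [IsProper.eq_valuativeCriterion] at h1
      exact h1.1.1.1
    let Sq : ValuativeCommSq f :=
      { R := A, K := X.residueField η, i₁ := X.fromSpecResidueField η, i₂ := y,
        commSq := ⟨hy.symm⟩ }
    obtain ⟨⟨l⟩⟩ := hex.existence Sq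
    refine ⟨l.l, ⟨l.fac_right, l.fac_left⟩, ?_⟩
    rintro l' ⟨h1, h2⟩
    have := hex.uniqueness Sq
    let l₂ : Sq.commSq.LiftStruct := ⟨l', h2, h1⟩
    exact congrArg CommSq.LiftStruct.l (Subsingleton.elim l₂ l)
  · intro H
    have hsep : IsSeparated f := by
      rw [Groth.Agent.S9211.result f]
      intro η hη A hA l₁ l₂ h12 h1 h2
      obtain ⟨l, -, hl⟩ := H η hη A hA (l₁ ≫ f) (by rw [← Category.assoc, h1])
      rw [hl l₁ ⟨rfl, h1⟩, hl l₂ ⟨h12.symm, h2⟩]
    have hgen : ∀ η : X, closure {η} ∈ irreducibleComponents (X : Type u) →
        Groth.Agent.Lib.Helper13.ValCrit.ResExistenceAt f η := by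
      intro η hη
      apply Groth.Agent.Lib.Helper13.ValCrit.resExistenceAt_of_dvr
      intro A hA y hy
      obtain ⟨l, hl, -⟩ := H η hη A hA y hy.symm
      exact ⟨l, hl⟩
    have hall : ∀ x : X, Groth.Agent.Lib.Helper13.ValCrit.ResExistenceAt f x := by
      intro x
      obtain ⟨η, hη, hηx⟩ := Groth.Agent.S9211.exists_generic_specializes x
      exact Groth.Agent.Lib.Helper13.ValCrit.resExistenceAt_of_specializes f hηx (hgen η hη)
    have huc : UniversallyClosed f :=
      UniversallyClosed.of_valuativeCriterion f fun Sq =>
        Groth.Agent.Lib.Helper13.ValCrit.hasLift_of_resExistenceAt f Sq (hall _)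
    exact { }

end Groth.Agent.S9212
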