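import Groth.Statements.S9220
import Groth.Agent.Lib.Helper13.LimModelCover
import Groth.Agent.Lib.Helper13.LimDescendClosedImm

set_option autoImplicit false
universe u
open CategoryTheory AlgebraicGeometry
open Lim

namespace Groth.Agent.S9220

/-- Let S = lim S_i be a cofiltered limit of quasi-compact quasi-separated schemes with affine
transition morphisms, and let I be a quasi-coherent sheaf of ideals of finite type on S (its ideal
of sections on every affine open is finitely generated). Then for some index i there is a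
quasi-coherent sheaf of ideals of finite type I_i on S_i such that I = I_i · O_S, the pullback ideal
sheaf along S → S_i. -/
theorem result {I : Type u} [SmallCategory I] [IsCofiltered I]
    (D : I ⥤ Scheme.{u}) (c : Limits.Cone D) (hc : Limits.IsLimit c)
    [∀ (i j : I) (f : i ⟶ j), IsAffineHom (D.map f)] [∀ i, CompactSpace (D.obj i)]
    [∀ i, QuasiSeparatedSpace (D.obj i)] (J : c.pt.IdealSheafData)
    (hJ : ∀ U : c.pt.affineOpens, (J.ideal U).FG) :
    ∃ (i : I) (Ji : (D.obj i).IdealSheafData), (∀ U : (D.obj i).affineOpens, (Ji.ideal U).FG) ∧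
      Ji.comap (c.π.app i) = J := by
  classical
  -- `V(J) → S` is a finitely presented closed immersion
  have hfp : LocallyOfFinitePresentation J.subschemeι := by
    rw [HasRingHomProperty.iff_exists_appLE (P := @LocallyOfFinitePresentation)
      (RingHom.finitePresentation_stableUnderComposition.stableUnderCompositionWithLocalizationAway
        RingHom.finitePresentation_holdsForLocalizationAway).1]
    intro x
    obtain ⟨U, hU, hxU, -⟩ := TopologicalSpace.Opens.isBasis_iff_nbhd.mp c.pt.isBasis_affineOpens
      (TopologicalSpace.Opens.mem_top (J.subschemeι x))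
    refine ⟨⟨U, hU⟩, ⟨J.subschemeι ⁻¹ᵁ U, hU.preimage J.subschemeι⟩, hxU, le_rfl, ?_⟩
    rw [← Scheme.Hom.app_eq_appLE]
    refine RingHom.FinitePresentation.of_surjective _ (J.subschemeι_app_surjective ⟨U, hU⟩) ?_
    rw [J.ker_subschemeι_app ⟨U, hU⟩]
    exact hJ ⟨U, hU⟩
  obtain ⟨k, M, hM⟩ := Lib.Helper13.LimModel.exists_modelAt_prop D c hc @IsClosedImmersion
    (fun j₀ X₀ _ _ a _ h => Lib.Helper13.LimDescend.core_isClosedImmersion D c hc j₀ a h)
    J.subschemeι inferInstance
  have : IsClosedImmersion M.h₀ := hM
  have : LocallyOfFinitePresentation M.h₀ := M.lfp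
  refine ⟨k, M.h₀.ker, ?_, ?_⟩
  · intro U
    rw [Scheme.Hom.ker_apply]
    have hs : Function.Surjective (M.h₀.app U.1).hom := M.h₀.app_surjective U.1 U.2
    have hfpU : (M.h₀.app U.1).hom.FinitePresentation := by
      have := HasRingHomProperty.appLE (P := @LocallyOfFinitePresentation) M.h₀ M.lfp U
        ⟨M.h₀ ⁻¹ᵁ U.1, U.2.preimage M.h₀⟩ le_rfl
      rwa [← Scheme.Hom.app_eq_appLE] at this
    generalize (M.h₀.app U.1).hom = φ at hs hfpU
    algebraize [φ]
    have := Algebra.FinitePresentation.ker_fG_of_surjective (Algebra.ofId _ _) hs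
    exact this
  · rw [← Scheme.IdealSheafData.ker_fst_of_isClosedImmersion]
    have h1 : M.pb.flip.isoPullback.hom ≫ Limits.pullback.fst (c.π.app k) M.h₀ = J.subschemeι :=
      M.pb.flip.isoPullback_hom_fst
    rw [← Scheme.Hom.ker_comp_of_isIso M.pb.flip.isoPullback.hom, h1, J.ker_subschemeι]

end Groth.Agent.S9220
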