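import Groth.Statements.S9221
import Mathlib
import Groth.Agent.S0020
import Groth.Agent.S4357
import Groth.Agent.Lib.Helper9.ProperOver2
import Groth.Agent.Lib.lead.LimProper
import Groth.Prelude.Def_ClSub2
import Groth.Prelude.Def_Coh
import Groth.Prelude.Def_CohB1

set_option autoImplicit false
universe u
open CategoryTheory AlgebraicGeometry
open Lim

namespace Groth.Agent.S9221

section helpers
set_option linter.unusedSectionVars false
set_option linter.style.haveILetI false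
set_option linter.unusedVariables false
open CategoryTheory Limits AlgebraicGeometry


open Groth.Agent.Lib.Helper9.ProperOver

theorem range_snd_of_isPullback {P X Y Z : Scheme.{u}} {fst : P ⟶ X} {snd : P ⟶ Y} {f : X ⟶ Z}
    {g : Y ⟶ Z} (h : IsPullback fst snd f g) :
    Set.range snd.base = g.base ⁻¹' Set.range f.base := by
  have h1 : snd = h.isoPullback.hom ≫ pullback.snd f g := (h.isoPullback_hom_snd).symm
  rw [h1, ← Scheme.Pullback.range_snd]
  ext y
  constructor
  · rintro ⟨p, rfl⟩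
    exact ⟨h.isoPullback.hom.base p, rfl⟩
  · rintro ⟨p, rfl⟩
    refine ⟨h.isoPullback.inv.base p, ?_⟩
    rw [← Scheme.Hom.comp_apply, Iso.inv_hom_id_assoc]

set_option maxHeartbeats 800000 in
theorem main {I : Type u} [SmallCategory I] [IsCofiltered I]
    (D : I ⥤ Scheme.{u}) (c : Limits.Cone D) (hc : Limits.IsLimit c)
    [∀ (i j : I) (f : i ⟶ j), IsAffineHom (D.map f)] (i₀ : I) [CompactSpace (D.obj i₀)]
    [QuasiSeparatedSpace (D.obj i₀)] {X₀ Y₀ : Scheme.{u}} (f₀ : X₀ ⟶ Y₀) (g₀ : Y₀ ⟶ D.obj i₀)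
    [CompactSpace X₀] [QuasiSeparatedSpace X₀] [CompactSpace Y₀] [QuasiSeparatedSpace Y₀]
    [LocallyOfFiniteType f₀] (F₀ : X₀.Modules) [Coh.IsQCoh F₀] (hF₀ : CohB1.IsFT F₀)
    {X Y : Scheme.{u}} (f : X ⟶ Y) (g : Y ⟶ c.pt) (qY : Y ⟶ Y₀) (qX : X ⟶ X₀)
    (hY : IsPullback qY g g₀ (c.π.app i₀)) (hX : IsPullback qX f f₀ qY) (hF : ClSub.IsProperOver f (CohB1.support ((Scheme.Modules.pullback qX).obj F₀))) :
    ∃ (i : I) (φ : i ⟶ i₀) (Xi Yi : Scheme.{u}) (fi : Xi ⟶ Yi) (gi : Yi ⟶ D.obj i) (pY : Yi ⟶ Y₀)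
      (pX : Xi ⟶ X₀), IsPullback pY gi g₀ (D.map φ) ∧ IsPullback pX fi f₀ pY ∧ ClSub.IsProperOver fi (CohB1.support ((Scheme.Modules.pullback pX).obj F₀)) := by
  have hZ₀ : IsClosed (CohB1.support F₀) := Groth.Agent.S0020.result X₀ F₀ hF₀
  let T₀ : Scheme.{u} := (red _ hZ₀).subscheme
  let ι₀ : T₀ ⟶ X₀ := (red _ hZ₀).subschemeι
  haveI : IsClosedImmersion ι₀ := inferInstance
  let j : pullback ι₀ qX ⟶ X := pullback.snd ι₀ qX
  haveI hj : IsClosedImmersion j := inferInstance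
  have hrange : Set.range j.base = CohB1.support ((Scheme.Modules.pullback qX).obj F₀) := by
    rw [Groth.Agent.S4357.result qX F₀ hF₀, Scheme.Pullback.range_snd, range_redι]
  haveI : LocallyOfFiniteType f :=
    MorphismProperty.of_isPullback (P := @LocallyOfFiniteType) hX inferInstance
  haveI hproper : IsProper (j ≫ f) := (isProper_iff_of_range_eq f j _ hF.1 hrange).mpr hF.2
  haveI : CompactSpace T₀ := QuasiCompact.compactSpace_of_compactSpace ι₀
  haveI : QuasiSeparatedSpace T₀ := quasiSeparatedSpace_of_quasiSeparated ι₀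
  have hT : IsPullback (pullback.fst ι₀ qX) (j ≫ f) (ι₀ ≫ f₀) qY :=
    (IsPullback.of_hasPullback ι₀ qX).paste_vert hX
  obtain ⟨i, φ, Ti, Yi, fi', gi, pY, pT, h1, h2, h3⟩ :=
    Groth.Agent.Lib.lead.LimProper.descend_isProper D c hc i₀ (ι₀ ≫ f₀) g₀ (j ≫ f) g qY
      (pullback.fst ι₀ qX) hY hT
  let ji : Ti ⟶ pullback f₀ pY := pullback.lift (pT ≫ ι₀) fi' (by rw [Category.assoc]; exact h2.w)
  have hji2 : ji ≫ pullback.snd f₀ pY = fi' := pullback.lift_snd _ _ _
  have hji1 : pT ≫ ι₀ = ji ≫ pullback.fst f₀ pY := (pullback.lift_fst _ _ _).symm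
  have hbig : IsPullback pT (ji ≫ pullback.snd f₀ pY) (ι₀ ≫ f₀) pY := by rw [hji2]; exact h2
  have hsq : IsPullback pT ji ι₀ (pullback.fst f₀ pY) :=
    IsPullback.of_bot hbig hji1 (IsPullback.of_hasPullback f₀ pY)
  haveI : IsClosedImmersion ji :=
    MorphismProperty.of_isPullback (P := @IsClosedImmersion) hsq inferInstance
  have hrange' : Set.range ji.base =
      CohB1.support ((Scheme.Modules.pullback (pullback.fst f₀ pY)).obj F₀) := by
    rw [Groth.Agent.S4357.result (pullback.fst f₀ pY) F₀ hF₀, range_snd_of_isPullback hsq,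
      range_redι]
  have hcl : IsClosed (CohB1.support ((Scheme.Modules.pullback (pullback.fst f₀ pY)).obj F₀)) := by
    rw [Groth.Agent.S4357.result (pullback.fst f₀ pY) F₀ hF₀]
    exact hZ₀.preimage (pullback.fst f₀ pY).continuous
  haveI : LocallyOfFiniteType (pullback.snd f₀ pY) := inferInstance
  have hp : IsProper (ji ≫ pullback.snd f₀ pY) := by rw [hji2]; exact h3
  refine ⟨i, φ, pullback f₀ pY, Yi, pullback.snd f₀ pY, gi, pY, pullback.fst f₀ pY, h1,
    IsPullback.of_hasPullback f₀ pY, hcl, ?_⟩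
  exact (isProper_iff_of_range_eq (pullback.snd f₀ pY) ji _ hcl hrange').mp hp


end helpers

/-- Let S = lim S_i be a cofiltered limit of schemes with affine transition morphisms, S_{i₀} a
quasi-compact quasi-separated stage, f₀ : X₀ → Y₀ a morphism of quasi-compact quasi-separated
schemes over S_{i₀}, and f : X → Y its base change along S → S_{i₀} (base changes expressed by
pullback squares). Let F₀ be a quasi-coherent O_{X₀}-module of finite type, with pullbacks F to X
and F_i to X_i, and assume f₀ is locally of finite type. If the support of F (a closed subset of X,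
taken with its reduced structure; equivalently the scheme-theoretic support of F) is proper over Y,
then for some index i over i₀, with f_i : X_i → Y_i the base change of f₀ along S_i → S_{i₀}, the
support of F_i is proper over Y_i. -/
theorem result {I : Type u} [SmallCategory I] [IsCofiltered I]
    (D : I ⥤ Scheme.{u}) (c : Limits.Cone D) (hc : Limits.IsLimit c)
    [∀ (i j : I) (f : i ⟶ j), IsAffineHom (D.map f)] (i₀ : I) [CompactSpace (D.obj i₀)]
    [QuasiSeparatedSpace (D.obj i₀)] {X₀ Y₀ : Scheme.{u}} (f₀ : X₀ ⟶ Y₀) (g₀ : Y₀ ⟶ D.obj i₀)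
    [CompactSpace X₀] [QuasiSeparatedSpace X₀] [CompactSpace Y₀] [QuasiSeparatedSpace Y₀]
    [LocallyOfFiniteType f₀] (F₀ : X₀.Modules) [Coh.IsQCoh F₀] (hF₀ : CohB1.IsFT F₀)
    {X Y : Scheme.{u}} (f : X ⟶ Y) (g : Y ⟶ c.pt) (qY : Y ⟶ Y₀) (qX : X ⟶ X₀)
    (hY : IsPullback qY g g₀ (c.π.app i₀)) (hX : IsPullback qX f f₀ qY) (hF : ClSub.IsProperOver f (CohB1.support ((Scheme.Modules.pullback qX).obj F₀))) :
    ∃ (i : I) (φ : i ⟶ i₀) (Xi Yi : Scheme.{u}) (fi : Xi ⟶ Yi) (gi : Yi ⟶ D.obj i) (pY : Yi ⟶ Y₀)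
      (pX : Xi ⟶ X₀), IsPullback pY gi g₀ (D.map φ) ∧ IsPullback pX fi f₀ pY ∧ ClSub.IsProperOver fi (CohB1.support ((Scheme.Modules.pullback pX).obj F₀)) := by
  exact main D c hc i₀ f₀ g₀ F₀ hF₀ f g qY qX hY hX hF

end Groth.Agent.S9221
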