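import Groth.Statements.S9226
import Groth.Agent.Lib.Helper12.DerivRegB
import Groth.Agent.S5779

set_option autoImplicit false
universe u
open CAlg

namespace Groth.Agent.S9226

/-- Let R be a regular local ring, m ≥ 1, f_1, ..., f_m elements of the maximal ideal, and D_1, ..., D_m
derivations of R such that the determinant of the matrix (D_i(f_j)) is a unit of R. Then R/(f_1,
..., f_m) is a regular local ring and f_1, ..., f_m is a regular sequence on R. -/
theorem result (R : Type u) [CommRing R]
    [IsRegularLocalRing R] (m : ℕ) (hm : 1 ≤ m) (f : Fin m → R)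
    (hf : ∀ i, f i ∈ IsLocalRing.maximalIdeal R) (D : Fin m → Derivation ℤ R R)
    (hdet : IsUnit (Matrix.det (Matrix.of (fun i j : Fin m => D i (f j))))) :
    IsRegularLocalRing (R ⧸ Ideal.span (Set.range f)) ∧
      RingTheory.Sequence.IsRegular R (List.ofFn f) := by
  let x : Fin m → IsLocalRing.maximalIdeal R := fun i => ⟨f i, hf i⟩
  have hli := Groth.Agent.Lib.Helper12.DerivReg.linearIndependent_toCotangent_of_det_unit x D hdet
  have hJ : Ideal.span (Set.range fun i => (x i : R)) = Ideal.span (Set.range f) := rfl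
  obtain ⟨hdim, hreg⟩ := (Groth.Agent.S5779.result R m x).1.mp ⟨inferInstance, hli⟩
  rw [hJ] at hdim hreg
  refine ⟨hreg, ?_⟩
  -- regular sequence
  obtain ⟨y, hy⟩ := Groth.Agent.Lib.Helper12.RegQuot.exists_lift_gens (Ideal.span (Set.range f))
  have hspan : Ideal.ofList (List.ofFn f ++ List.ofFn (fun i => (y i : R))) =
      IsLocalRing.maximalIdeal R := by
    rw [Ideal.ofList_append, Groth.Agent.Lib.Helper12.DerivReg.ofList_ofFn,
      Groth.Agent.Lib.Helper12.DerivReg.ofList_ofFn, sup_comm]
    exact hy
  have hlen : ringKrullDim R =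
      ((List.ofFn f ++ List.ofFn (fun i => (y i : R))).length : ℕ) := by
    rw [List.length_append, List.length_ofFn, List.length_ofFn, ← hdim,
      ← hreg.spanFinrank_maximalIdeal]
    push_cast
    rw [add_comm]
  have h1 := Groth.Agent.Lib.helper19.isRegular_of_ofList_eq_maximalIdeal R _ hspan hlen
  have h2 := ((RingTheory.Sequence.isWeaklyRegular_append_iff R _ _).mp h1.toIsWeaklyRegular).1
  rw [IsLocalRing.isRegular_iff_isWeaklyRegular_of_subset_maximalIdeal]
  · exact h2
  · intro r hr
    rw [List.mem_ofFn] at hr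
    obtain ⟨i, rfl⟩ := hr
    exact hf i

end Groth.Agent.S9226
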