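import Groth.Statements.S9227
import Groth.Agent.Lib.Helper12.DerivRegA

set_option autoImplicit false
universe u
open CAlg

namespace Groth.Agent.S9227

/-- Let R be a regular ring, f an element of R and D a derivation of R with D(f) a unit of R. Then for
every polynomial p with integer coefficients the ring R[z]/(p(z) - f) is regular; in particular
R[z]/(z^n - f) is regular for every n ≥ 1. -/
theorem result (R : Type u) [CommRing R]
    [IsRegularRing R] (f : R) (D : Derivation ℤ R R) (hD : IsUnit (D f)) (p : Polynomial ℤ) :
    IsRegularRing (Polynomial R ⧸
      Ideal.span ({Polynomial.map (Int.castRingHom R) p - Polynomial.C f} : Set (Polynomial R))) := by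
  letI : Differential R := ⟨D⟩
  apply Groth.Agent.Lib.Helper12.DerivReg.isRegularRing_quotient_of_derivation_unit _
    (Differential.mapCoeffs (A := R))
  have h1 : Differential.mapCoeffs (A := R)
      (Polynomial.map (Int.castRingHom R) p - Polynomial.C f) = - Polynomial.C (D f) := by
    ext i
    rw [Differential.coeff_mapCoeffs, Polynomial.coeff_sub, Polynomial.coeff_map,
      Polynomial.coeff_neg, Polynomial.coeff_C]
    show D _ = _
    rw [map_sub, eq_intCast, Derivation.map_intCast, zero_sub, Polynomial.coeff_C]
    split_ifs with h
    · rfl
    · rw [map_zero]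
  rw [h1]
  exact ((hD.map Polynomial.C).neg).map _

end Groth.Agent.S9227
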