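import Groth.Statements.S9232
import Mathlib
import Groth.Agent.Lib.helper19.ComplUnram6

set_option autoImplicit false
universe u
open CAlg

namespace Groth.Agent.S9232

/-- Suppose A → B is a flat local ring map between Noetherian local rings, the maximal ideal of A
generates that of B, and the residue field map is bijective. Then the induced map between the
completions of A and B (a ring map of the completions compatible with A → B; it is unique since A is
Noetherian) is an isomorphism. -/
theorem result (A B : Type u) [CommRing A]
    [CommRing B] [IsLocalRing A] [IsLocalRing B] [IsNoetherianRing A] [IsNoetherianRing B]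
    [Algebra A B] [IsLocalHom (algebraMap A B)] [Module.Flat A B]
    (hm : Ideal.map (algebraMap A B) (IsLocalRing.maximalIdeal A) = IsLocalRing.maximalIdeal B)
    (hk : Function.Bijective (IsLocalRing.ResidueField.map (algebraMap A B)))
    (ψ : AdicCompletion (IsLocalRing.maximalIdeal A) A →+* AdicCompletion (IsLocalRing.maximalIdeal B) B)
    (hψ : ψ.comp (algebraMap A (AdicCompletion (IsLocalRing.maximalIdeal A) A)) =
      (algebraMap B (AdicCompletion (IsLocalRing.maximalIdeal B) B)).comp (algebraMap A B)) :
    Function.Bijective ψ := by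
  classical
  letI : Algebra (AdicCompletion (IsLocalRing.maximalIdeal A) A)
      (AdicCompletion (IsLocalRing.maximalIdeal B) B) := ψ.toAlgebra
  haveI : IsLocalHom (algebraMap (AdicCompletion (IsLocalRing.maximalIdeal A) A)
      (AdicCompletion (IsLocalRing.maximalIdeal B) B)) :=
    Groth.Agent.Lib.Helper19.ComplUnram.isLocalHom_of_compat ψ hψ
  haveI : IsNoetherianRing (AdicCompletion (IsLocalRing.maximalIdeal A) A) :=
    Groth.Agent.Lib.helper19.isNoetherianRing_adicCompletion A (IsLocalRing.maximalIdeal A)
  haveI : IsScalarTower A (AdicCompletion (IsLocalRing.maximalIdeal A) A)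
      (AdicCompletion (IsLocalRing.maximalIdeal B) B) :=
    .of_algebraMap_eq (fun a => (RingHom.congr_fun hψ a).symm)
  haveI : IsScalarTower A B (AdicCompletion (IsLocalRing.maximalIdeal B) B) :=
    .of_algebraMap_eq (fun _ => rfl)
  have hmA : (IsLocalRing.maximalIdeal A).map
      (algebraMap A (AdicCompletion (IsLocalRing.maximalIdeal A) A)) =
      IsLocalRing.maximalIdeal (AdicCompletion (IsLocalRing.maximalIdeal A) A) :=
    AdicCompletion.maximalIdeal_eq_map.symm
  have hmψ : (IsLocalRing.maximalIdeal (AdicCompletion (IsLocalRing.maximalIdeal A) A)).map ψ =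
      IsLocalRing.maximalIdeal (AdicCompletion (IsLocalRing.maximalIdeal B) B) :=
    (Groth.Agent.Lib.Helper19.ComplUnram.map_eq_iff ψ hψ).mpr hm
  -- surjectivity
  have hsurj : Function.Surjective ψ := by
    haveI : IsHausdorff ((IsLocalRing.maximalIdeal
        (AdicCompletion (IsLocalRing.maximalIdeal A) A)).map ψ)
        (AdicCompletion (IsLocalRing.maximalIdeal B) B) := by
      rw [hmψ]
      infer_instance
    apply surjective_of_mk_map_comp_surjective ψ
      (I := IsLocalRing.maximalIdeal (AdicCompletion (IsLocalRing.maximalIdeal A) A))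
    intro z
    obtain ⟨y, rfl⟩ := Ideal.Quotient.mk_surjective z
    obtain ⟨b, hb⟩ := Ideal.Quotient.mk_surjective
      (AdicCompletion.evalOneₐ (IsLocalRing.maximalIdeal B) y)
    obtain ⟨a', ha'⟩ := hk.2 (IsLocalRing.residue B b)
    obtain ⟨a, rfl⟩ := IsLocalRing.residue_surjective a'
    refine ⟨algebraMap A _ a, ?_⟩
    rw [RingHom.comp_apply, Ideal.Quotient.mk_eq_mk_iff_sub_mem, hmψ,
      AdicCompletion.maximalIdeal_eq_map,
      ← AdicCompletion.ker_evalOneₐ_eq_map _ (IsNoetherian.noetherian _), RingHom.mem_ker]
    have h1 : ψ (algebraMap A _ a) = algebraMap B _ (algebraMap A B a) :=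
      RingHom.congr_fun hψ a
    rw [h1]
    simp only [AlgHom.toRingHom_eq_coe, RingHom.coe_coe, map_sub, AlgHom.commutes]
    rw [← hb, Ideal.Quotient.algebraMap_eq, ← map_sub, Ideal.Quotient.eq_zero_iff_mem,
      ← IsLocalRing.residue_eq_zero_iff, map_sub, ← ha', IsLocalRing.ResidueField.map_residue,
      sub_self]
  refine ⟨?_, hsurj⟩
  -- injectivity via freeness
  haveI : Module.Finite (AdicCompletion (IsLocalRing.maximalIdeal A) A)
      (AdicCompletion (IsLocalRing.maximalIdeal B) B) :=
    Module.Finite.of_surjective (Algebra.linearMap _ _) hsurj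
  haveI : Module.Flat B (AdicCompletion (IsLocalRing.maximalIdeal B) B) := inferInstance
  haveI : Module.Flat A (AdicCompletion (IsLocalRing.maximalIdeal B) B) :=
    Module.Flat.trans A B (AdicCompletion (IsLocalRing.maximalIdeal B) B)
  haveI : Module.FinitePresentation (AdicCompletion (IsLocalRing.maximalIdeal A) A)
      (AdicCompletion (IsLocalRing.maximalIdeal B) B) := Module.finitePresentation_of_finite _ _
  haveI : Module.Free (AdicCompletion (IsLocalRing.maximalIdeal A) A)
      (AdicCompletion (IsLocalRing.maximalIdeal B) B) :=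
    Groth.Agent.Lib.Helper19.ComplUnram.free_of_flat_base (R := A) hmA
  exact FaithfulSMul.algebraMap_injective (AdicCompletion (IsLocalRing.maximalIdeal A) A)
    (AdicCompletion (IsLocalRing.maximalIdeal B) B)

end Groth.Agent.S9232
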