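import Groth.Statements.S9241
import Mathlib
import Groth.Agent.Lib.Helper12.BrnchDimG

set_option autoImplicit false
universe u
open Brnch

namespace Groth.Agent.S9241

/-- For a Noetherian local ring A of dimension 1, A and its completion A^ have the same number of
branches and the same number of geometric branches. -/
theorem result (A : Type u) [CommRing A] [IsLocalRing A]
    [IsNoetherianRing A] (hA : ringKrullDim A = 1) :
    Brnch.numBranches (AdicCompletion (IsLocalRing.maximalIdeal A) A) = Brnch.numBranches A ∧
      Brnch.numGeomBranches (AdicCompletion (IsLocalRing.maximalIdeal A) A) =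
        Brnch.numGeomBranches A := by
  refine ⟨?_, Groth.Agent.Lib.Helper12.BrnchDim.numGeomBranches_completion_eq_of_dim_one A hA⟩
  symm
  have hψ : (Groth.Agent.Lib.Helper12.Henselization.toCompletion A).toRingHom.comp
      (algebraMap A (Groth.Agent.Lib.Helper12.Henselization A)) =
      algebraMap A (AdicCompletion (IsLocalRing.maximalIdeal A) A) :=
    RingHom.ext fun a => (Groth.Agent.Lib.Helper12.Henselization.toCompletion A).commutes a
  rw [Groth.Agent.S9243.result A (Groth.Agent.Lib.Helper12.Henselization A)
    (Groth.Agent.Lib.Helper12.Henselization.toCompletion A).toRingHom hψ]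
  intro q' hq'
  obtain ⟨hflat, hloc⟩ := Groth.Agent.Lib.Helper12.HensCompl.flat_and_isLocalHom A
    (Groth.Agent.Lib.Helper12.Henselization A)
    (Groth.Agent.Lib.Helper12.Henselization.toCompletion A).toRingHom hψ
  haveI : IsNoetherianRing (Groth.Agent.Lib.Helper12.Henselization A) :=
    Groth.Agent.Lib.Helper12.HensFibre.isNoetherianRing_of_isHenselization A _
  haveI : HenselianLocalRing (Groth.Agent.Lib.Helper12.Henselization A) :=
    Hensel.IsHenselization.henselian A
  letI := (Groth.Agent.Lib.Helper12.Henselization.toCompletion A).toRingHom.toAlgebra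
  haveI : Module.Flat (Groth.Agent.Lib.Helper12.Henselization A)
      (AdicCompletion (IsLocalRing.maximalIdeal A) A) := hflat
  haveI : IsLocalHom (algebraMap (Groth.Agent.Lib.Helper12.Henselization A)
      (AdicCompletion (IsLocalRing.maximalIdeal A) A)) := hloc
  have hmapmk : (IsLocalRing.maximalIdeal A).map
      (algebraMap A (Groth.Agent.Lib.Helper12.Henselization A)) ≤
      IsLocalRing.maximalIdeal (Groth.Agent.Lib.Helper12.Henselization A) :=
    ((IsLocalRing.local_hom_TFAE (algebraMap A (Groth.Agent.Lib.Helper12.Henselization A))).out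
      0 2).mp (show IsLocalHom (algebraMap A (Groth.Agent.Lib.Helper12.Henselization A)) from
        inferInstance)
  refine Groth.Agent.Lib.Helper12.BrnchDim.radical_isPrime_of_dim_one
    (S := Groth.Agent.Lib.Helper12.Henselization A)
    (T := AdicCompletion (IsLocalRing.maximalIdeal A) A) ?_
    (by rw [Groth.Agent.S0547.result A, hA]) hq'
  intro N y
  obtain ⟨a, ha⟩ := Groth.Agent.Lib.Helper12.Henselization.exists_sub_algebraMap_mem N y
  refine ⟨algebraMap A _ a, ?_⟩
  have h1 : algebraMap (Groth.Agent.Lib.Helper12.Henselization A)
      (AdicCompletion (IsLocalRing.maximalIdeal A) A)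
      (algebraMap A (Groth.Agent.Lib.Helper12.Henselization A) a) =
      algebraMap A (AdicCompletion (IsLocalRing.maximalIdeal A) A) a :=
    RingHom.congr_fun hψ a
  rw [h1]
  have h2 : (IsLocalRing.maximalIdeal A ^ N).map
      (algebraMap A (AdicCompletion (IsLocalRing.maximalIdeal A) A)) =
      ((IsLocalRing.maximalIdeal A ^ N).map
        (algebraMap A (Groth.Agent.Lib.Helper12.Henselization A))).map
        (Groth.Agent.Lib.Helper12.Henselization.toCompletion A).toRingHom := by
    rw [Ideal.map_map, hψ]
  rw [h2] at ha
  refine Ideal.map_mono ?_ ha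
  rw [Ideal.map_pow]
  exact Ideal.pow_right_mono hmapmk N

end Groth.Agent.S9241
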