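import Groth.Statements.S9242
import Mathlib
import Groth.Agent.Lib.Helper12.BrnchDimE
import Groth.Agent.Lib.Helper12.HensCompl
import Groth.Agent.Lib.Helper12.HensFibre
import Groth.Agent.S9240

set_option autoImplicit false
universe u
open Brnch

namespace Groth.Agent.S9242

/-- Let A be a Noetherian local ring with henselization S and completion A^, let ψ : S → A^ be the ring
map compatible with the structure maps from A, and let q be a minimal prime of A^ with dim(A^/q) =
1. Then q is the radical of the extension along ψ of some minimal prime of S. -/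
theorem result (A S : Type u) [CommRing A]
    [IsLocalRing A] [IsNoetherianRing A] [CommRing S] [IsLocalRing S] [Algebra A S]
    [IsLocalHom (algebraMap A S)] [Hensel.IsHenselization A S]
    (ψ : S →+* AdicCompletion (IsLocalRing.maximalIdeal A) A)
    (hψ : ψ.comp (algebraMap A S) = algebraMap A (AdicCompletion (IsLocalRing.maximalIdeal A) A))
    (q : Ideal (AdicCompletion (IsLocalRing.maximalIdeal A) A))
    (hq : q ∈ minimalPrimes (AdicCompletion (IsLocalRing.maximalIdeal A) A))
    (hdim : ringKrullDim (AdicCompletion (IsLocalRing.maximalIdeal A) A ⧸ q) = 1) :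
    ∃ q' ∈ minimalPrimes S, (Ideal.map ψ q').radical = q := by
  obtain ⟨hflat, hloc⟩ := Groth.Agent.Lib.Helper12.HensCompl.flat_and_isLocalHom A S ψ hψ
  haveI : IsNoetherianRing S :=
    Groth.Agent.Lib.Helper12.HensFibre.isNoetherianRing_of_isHenselization A S
  haveI : HenselianLocalRing S := Hensel.IsHenselization.henselian A
  letI := ψ.toAlgebra
  haveI : Module.Flat S (AdicCompletion (IsLocalRing.maximalIdeal A) A) := hflat
  haveI : IsLocalHom (algebraMap S (AdicCompletion (IsLocalRing.maximalIdeal A) A)) := hloc
  haveI hqprime : q.IsPrime := hq.1.1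
  have hmapmk : (IsLocalRing.maximalIdeal A).map (algebraMap A S) ≤ IsLocalRing.maximalIdeal S :=
    ((IsLocalRing.local_hom_TFAE (algebraMap A S)).out 0 2).mp ‹IsLocalHom (algebraMap A S)›
  have happrox : ∀ (N : ℕ) (y : AdicCompletion (IsLocalRing.maximalIdeal A) A), ∃ s : S,
      y - algebraMap S (AdicCompletion (IsLocalRing.maximalIdeal A) A) s ∈
        (IsLocalRing.maximalIdeal S ^ N).map
          (algebraMap S (AdicCompletion (IsLocalRing.maximalIdeal A) A)) := by
    intro N y
    obtain ⟨a, ha⟩ := Groth.Agent.Lib.Helper12.Henselization.exists_sub_algebraMap_mem N y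
    refine ⟨algebraMap A S a, ?_⟩
    have h1 : algebraMap S (AdicCompletion (IsLocalRing.maximalIdeal A) A) (algebraMap A S a) =
        algebraMap A (AdicCompletion (IsLocalRing.maximalIdeal A) A) a :=
      RingHom.congr_fun hψ a
    rw [h1]
    have h2 : (IsLocalRing.maximalIdeal A ^ N).map
        (algebraMap A (AdicCompletion (IsLocalRing.maximalIdeal A) A)) =
        ((IsLocalRing.maximalIdeal A ^ N).map (algebraMap A S)).map ψ := by
      rw [Ideal.map_map, hψ]
    rw [h2] at ha
    refine Ideal.map_mono ?_ ha
    rw [Ideal.map_pow]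
    exact Ideal.pow_right_mono hmapmk N
  have hsurj : Function.Surjective (Ideal.Quotient.mk q) := Ideal.Quotient.mk_surjective
  have hqm : q ≠ IsLocalRing.maximalIdeal (AdicCompletion (IsLocalRing.maximalIdeal A) A) := by
    intro h
    have hmax : q.IsMaximal := h ▸ IsLocalRing.maximalIdeal.isMaximal _
    have hfield := (Ideal.Quotient.maximal_ideal_iff_isField_quotient q).mp hmax
    rw [ringKrullDim_eq_zero_of_isField hfield] at hdim
    exact zero_ne_one hdim
  have hdimT : ∀ P : Ideal (AdicCompletion (IsLocalRing.maximalIdeal A) A), P.IsPrime → q ≤ P →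
      P = q ∨ P = IsLocalRing.maximalIdeal (AdicCompletion (IsLocalRing.maximalIdeal A) A) := by
    intro P hP hle
    haveI := hP
    by_cases hPq : P = q
    · exact Or.inl hPq
    · right
      haveI : Ring.KrullDimLE 1 (AdicCompletion (IsLocalRing.maximalIdeal A) A ⧸ q) :=
        Ring.krullDimLE_iff.mpr (by rw [hdim]; exact le_refl _)
      have hker : RingHom.ker (Ideal.Quotient.mk q) ≤ P := by
        rw [Ideal.mk_ker]
        exact hle
      have hcm : (P.map (Ideal.Quotient.mk q)).comap (Ideal.Quotient.mk q) = P := by
        rw [Ideal.comap_map_of_surjective _ hsurj, ← RingHom.ker_eq_comap_bot]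
        exact sup_eq_left.mpr hker
      have hprime : (P.map (Ideal.Quotient.mk q)).IsPrime :=
        Ideal.map_isPrime_of_surjective hsurj hker
      have hne : P.map (Ideal.Quotient.mk q) ≠ ⊥ := by
        intro h0
        apply hPq
        rw [← hcm, h0, ← RingHom.ker_eq_comap_bot, Ideal.mk_ker]
      have hmax := Ring.krullDimLE_one_iff_of_noZeroDivisors.mp inferInstance _ hne hprime
      have hPmax : P.IsMaximal := by
        rw [← hcm]
        exact Ideal.comap_isMaximal_of_surjective _ hsurj
      exact IsLocalRing.eq_maximalIdeal hPmax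
  refine ⟨q.comap ψ, (Groth.Agent.S9240.result A S ψ hψ).1 hq, ?_⟩
  exact Groth.Agent.Lib.Helper12.BrnchDim.radical_map_comap_eq happrox hq hdimT hqm

end Groth.Agent.S9242
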