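import Groth.Statements.S9248
import Groth.Agent.Lib.Helper7.PicGenFibre

set_option autoImplicit false
universe u
open CAlg

namespace Groth.Agent.S9248

/-- Let R be a valuation ring, K its field of fractions and κ its residue field, and let A be a local
ring with a flat, local homomorphism R → A essentially of finite type such that κ ⊗_R A is a regular
ring. Then K ⊗_R A has trivial Picard group. -/
theorem result (R A : Type u) [CommRing R] [IsDomain R]
    [ValuationRing R] [CommRing A] [IsLocalRing A] [Algebra R A] [IsLocalHom (algebraMap R A)]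
    [Module.Flat R A] [Algebra.EssFiniteType R A]
    (hreg : IsRegularRing (TensorProduct R (IsLocalRing.ResidueField R) A)) :
    Subsingleton (CommRing.Pic (TensorProduct R (FractionRing R) A)) := by
  letI aT : Algebra A (TensorProduct R (FractionRing R) A) := Algebra.TensorProduct.rightAlgebra
  haveI hloc : IsLocalization (Algebra.algebraMapSubmonoid A (nonZeroDivisors R))
      (TensorProduct R (FractionRing R) A) :=
    IsLocalization.tensorRight (R := R) (S := A) (FractionRing R) (nonZeroDivisors R)
  have hle : (IsLocalRing.maximalIdeal R).map (algebraMap R A) ≤ IsLocalRing.maximalIdeal A :=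
    IsLocalRing.map_maximalIdeal_le (algebraMap R A)
  have hIne : (IsLocalRing.maximalIdeal R).map (algebraMap R A) ≠ ⊤ := fun h =>
    (IsLocalRing.maximalIdeal.isMaximal A).ne_top (top_le_iff.1 (h ▸ hle))
  haveI : Nontrivial (A ⧸ (IsLocalRing.maximalIdeal R).map (algebraMap R A)) :=
    Ideal.Quotient.nontrivial_iff.2 hIne
  haveI : IsLocalRing (A ⧸ (IsLocalRing.maximalIdeal R).map (algebraMap R A)) :=
    IsLocalRing.of_surjective' (Ideal.Quotient.mk _) Ideal.Quotient.mk_surjective
  have e : (A ⧸ (IsLocalRing.maximalIdeal R).map (algebraMap R A)) ≃+*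
      TensorProduct R (IsLocalRing.ResidueField R) A :=
    (Algebra.TensorProduct.quotIdealMapEquivQuotTensor A (IsLocalRing.maximalIdeal R)).toRingEquiv
  haveI := hreg
  haveI : IsRegularRing (A ⧸ (IsLocalRing.maximalIdeal R).map (algebraMap R A)) :=
    IsRegularRing.of_ringEquiv e.symm
  exact Groth.Agent.Lib.Helper7.PicGenFibre.main R A (TensorProduct R (FractionRing R) A)
    (IsRegularLocalRing.of_isRegularRing_of_isLocalRing _)

end Groth.Agent.S9248
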