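import Groth.Statements.S9261
import Mathlib
-- import your own Groth.Agent.* helpers here

set_option autoImplicit false
universe u
open CAlg

namespace Groth.Agent.S9261

/-- Let G be a finite group acting on a ring R, S = R^G its ring of invariants (here: S → R injective
with image the invariants) and A a flat S-algebra. Then the map A → A ⊗_S R is injective with image
the invariants of G acting on A ⊗_S R through the second factor; that is, A → (A ⊗_S R)^G is an
isomorphism. -/
theorem result (S R A G : Type u) [CommRing S] [CommRing R] [Algebra S R]
    [FaithfulSMul S R] [Group G] [Finite G] [MulSemiringAction G R] [SMulCommClass G S R]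
    [Algebra.IsInvariant S R G] [CommRing A] [Algebra S A] [Module.Flat S A] :
    Function.Injective (algebraMap A (TensorProduct S A R)) ∧
      ∀ x : TensorProduct S A R,
        (∀ σ : G, Algebra.TensorProduct.map (AlgHom.id S A) (MulSemiringAction.toAlgHom S R σ) x = x) →
          x ∈ Set.range (algebraMap A (TensorProduct S A R)) := by
  classical
  haveI : Fintype G := Fintype.ofFinite G
  -- the exact sequence `0 → S → R → G → R`
  let f : S →ₗ[S] R := Algebra.linearMap S R
  let g : R →ₗ[S] (G → R) :=
    LinearMap.pi fun σ => (MulSemiringAction.toAlgHom S R σ).toLinearMap - LinearMap.id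
  have hg : ∀ (r : R) (σ : G), g r σ = σ • r - r := fun r σ => rfl
  have hf_inj : Function.Injective f := FaithfulSMul.algebraMap_injective S R
  have hexact : Function.Exact f g := by
    intro r
    constructor
    · intro h
      have h' : ∀ σ : G, σ • r = r := fun σ => by
        have := congrFun h σ
        rw [hg] at this
        exact sub_eq_zero.mp this
      obtain ⟨a, ha⟩ := Algebra.IsInvariant.isInvariant (A := S) (B := R) (G := G) r h'
      exact ⟨a, ha⟩
    · rintro ⟨a, rfl⟩
      funext σ
      rw [hg]
      show σ • algebraMap S R a - algebraMap S R a = 0
      rw [smul_algebraMap, sub_self]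
  have hexact' : Function.Exact (f.lTensor A) (g.lTensor A) := Module.Flat.lTensor_exact A hexact
  have hinj' : Function.Injective (f.lTensor A) :=
    Module.Flat.lTensor_preserves_injective_linearMap f hf_inj
  have halg : ∀ a : A, algebraMap A (TensorProduct S A R) a = (f.lTensor A) (a ⊗ₜ[S] (1 : S)) := by
    intro a
    rw [LinearMap.lTensor_tmul, Algebra.TensorProduct.algebraMap_apply]
    simp [f]
  constructor
  · intro a a' h
    rw [halg, halg] at h
    have h2 := hinj' h
    have h3 := congrArg (TensorProduct.rid S A) h2
    simpa using h3
  · intro x hx
    have hkey : ∀ (y : TensorProduct S A R) (σ : G),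
        TensorProduct.piRight S S A (fun _ : G => R) ((g.lTensor A) y) σ =
          Algebra.TensorProduct.map (AlgHom.id S A) (MulSemiringAction.toAlgHom S R σ) y - y := by
      intro y σ
      induction y using TensorProduct.induction_on with
      | zero => simp
      | tmul a r =>
        rw [LinearMap.lTensor_tmul, TensorProduct.piRight_apply, TensorProduct.piRightHom_tmul]
        show a ⊗ₜ[S] g r σ = _
        rw [hg, Algebra.TensorProduct.map_tmul, TensorProduct.tmul_sub]
        rfl
      | add y z hy hz =>
        rw [map_add, map_add, Pi.add_apply, hy, hz, map_add]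
        abel
    have hzero : (g.lTensor A) x = 0 := by
      apply (TensorProduct.piRight S S A (fun _ : G => R)).injective
      rw [map_zero]
      funext σ
      rw [hkey, hx σ, sub_self]
      rfl
    obtain ⟨z, hz⟩ := (hexact' x).mp hzero
    obtain ⟨a, rfl⟩ := (TensorProduct.rid S A).symm.surjective z
    refine ⟨a, ?_⟩
    rw [halg, ← hz]
    simp

end Groth.Agent.S9261
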