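import Groth.Statements.S9262
import Groth.Agent.S0511
import Groth.Agent.S0512
import Groth.Agent.S0513
import Groth.Agent.S0540
import Groth.Agent.S0541
import Groth.Agent.S2743
import Groth.Agent.Lib.helper19.CompletionLocal

set_option autoImplicit false
universe u
open Hensel

namespace Groth.Agent.S9262

/-- Let R be a Noetherian local ring with henselization S and strict henselization T. Then R is a
discrete valuation ring exactly when S is one, and exactly when T is one. -/
theorem result (R S T : Type u)
    [CommRing R] [IsLocalRing R] [IsNoetherianRing R] [CommRing S] [IsLocalRing S] [Algebra R S]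
    [IsLocalHom (algebraMap R S)] [Hensel.IsHenselization R S] [CommRing T] [IsLocalRing T]
    [Algebra R T] [IsLocalHom (algebraMap R T)] [Hensel.IsStrictHenselization R T] :
    ((∃ _ : IsDomain R, IsDiscreteValuationRing R) ↔ (∃ _ : IsDomain S, IsDiscreteValuationRing S)) ∧
      ((∃ _ : IsDomain R, IsDiscreteValuationRing R) ↔
        (∃ _ : IsDomain T, IsDiscreteValuationRing T)) := by
  haveI : IsNoetherianRing S := (Groth.Agent.S0511.result R S).mp inferInstance
  haveI : IsNoetherianRing T := (Groth.Agent.S0540.result R T).mp inferInstance
  constructor
  · rw [Groth.Agent.Lib.helper19.isDiscreteValuationRing_iff_isRegularLocalRing_and_dim_eq_one,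
      Groth.Agent.Lib.helper19.isDiscreteValuationRing_iff_isRegularLocalRing_and_dim_eq_one,
      Groth.Agent.S0513.result R S, Groth.Agent.S0512.result R S]
  · rw [Groth.Agent.Lib.helper19.isDiscreteValuationRing_iff_isRegularLocalRing_and_dim_eq_one,
      Groth.Agent.Lib.helper19.isDiscreteValuationRing_iff_isRegularLocalRing_and_dim_eq_one,
      Groth.Agent.S2743.result R T, Groth.Agent.S0541.result R T]

end Groth.Agent.S9262
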