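import Groth.Statements.S9263
-- import your own Groth.Agent.* helpers here

set_option autoImplicit false
universe u
attribute [local instance] HasDerivedCategory.standard
open CategoryTheory
open DerCA

namespace Groth.Agent.S9263

section helpers
open Limits Pretriangulated

section gen
variable {C : Type*} [Category C] [Preadditive C] [HasBinaryBiproducts C] [HasZeroObject C]

theorem mappingCone_contractible {K L : CochainComplex C ℤ} (φ : K ⟶ L)
    (h : IsIso ((HomotopyCategory.quotient C (ComplexShape.up ℤ)).map φ)) :
    Nonempty (Homotopy (𝟙 (CochainComplex.mappingCone φ)) 0) := by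
  rw [← HomotopyCategory.isZero_quotient_obj_iff]
  have hd := HomotopyCategory.mappingCone_triangleh_distinguished φ
  exact (Triangle.isZero₃_iff_isIso₁ _ hd).2 h

theorem mappingCocone_contractible {K L : CochainComplex C ℤ} (φ : K ⟶ L)
    (h : IsIso ((HomotopyCategory.quotient C (ComplexShape.up ℤ)).map φ)) :
    Nonempty (Homotopy (𝟙 (CochainComplex.mappingCocone φ)) 0) := by
  rw [← HomotopyCategory.isZero_quotient_obj_iff]
  have h1 := (HomotopyCategory.isZero_quotient_obj_iff _).2 (mappingCone_contractible φ h)
  have e := ((HomotopyCategory.quotient C (ComplexShape.up ℤ)).commShiftIso (-1 : ℤ)).app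
    (CochainComplex.mappingCone φ)
  exact IsZero.of_iso ((shiftFunctor _ (-1 : ℤ)).map_isZero h1) e

omit [HasBinaryBiproducts C] [HasZeroObject C] in
theorem isIso_quotient_map_of_contractible {K L : CochainComplex C ℤ} (φ : K ⟶ L)
    (hK : Nonempty (Homotopy (𝟙 K) 0)) (hL : Nonempty (Homotopy (𝟙 L) 0)) :
    IsIso ((HomotopyCategory.quotient C (ComplexShape.up ℤ)).map φ) := by
  rw [← HomotopyCategory.isZero_quotient_obj_iff] at hK hL
  exact ⟨0, hK.eq_of_src _ _, hL.eq_of_src _ _⟩

end gen

variable {R : Type u} [CommRing R]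

theorem mkLinearMap_bijective (S : Submonoid R) (hS : ∀ s ∈ S, IsUnit s) (M : Type u)
    [AddCommGroup M] [Module R M] :
    Function.Bijective (LocalizedModule.mkLinearMap S M) := by
  have : IsLocalizedModule S (LinearMap.id : M →ₗ[R] M) :=
    { map_units := fun s => (hS s.1 s.2).map _
      surj := fun m => ⟨(m, 1), one_smul _ _⟩
      exists_of_eq := fun h => ⟨1, congr_arg _ h⟩ }
  have e := IsLocalizedModule.iso S (LinearMap.id : M →ₗ[R] M)
  have he : ∀ x, (IsLocalizedModule.iso S (LinearMap.id : M →ₗ[R] M))
      (LocalizedModule.mkLinearMap S M x) = x := fun x => by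
    simp [LocalizedModule.mkLinearMap_apply]
  have : (LocalizedModule.mkLinearMap S M : M → LocalizedModule S M) =
      (IsLocalizedModule.iso S (LinearMap.id : M →ₗ[R] M)).symm := by
    funext x
    rw [LinearEquiv.eq_symm_apply]
    exact he x
  rw [this]
  exact LinearEquiv.bijective _

theorem isIso_locCxUnit (S : Submonoid R) (hS : ∀ s ∈ S, IsUnit s) (K : DRing.Cx R) :
    IsIso (locCxUnit S K) := by
  have : ∀ i, IsIso ((locCxUnit S K).f i) := fun i => by
    change IsIso (ModuleCat.ofHom (LocalizedModule.mkLinearMap S (K.X i)))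
    rw [ConcreteCategory.isIso_iff_bijective]
    exact mkLinearMap_bijective S hS _
  exact HomologicalComplex.Hom.isIso_of_components _

theorem contr (M : ModuleCat.{u} R) (fs : List R) (hf : ∃ f ∈ fs, IsUnit f) :
    Nonempty (Homotopy (𝟙 (DerCA.extCech M fs)) 0) := by
  induction fs with
  | nil => obtain ⟨f, hf, _⟩ := hf; simp at hf
  | cons f fs ih =>
    apply mappingCocone_contractible
    by_cases hu : IsUnit f
    · have := isIso_locCxUnit (Submonoid.powers f) (by
        rintro s ⟨n, rfl⟩
        exact hu.pow n) (extCech M fs)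
      infer_instance
    · have hfs : ∃ g ∈ fs, IsUnit g := by
        obtain ⟨g, hg, hgu⟩ := hf
        rcases List.mem_cons.1 hg with rfl | hg
        · exact absurd hgu hu
        · exact ⟨g, hg, hgu⟩
      obtain ⟨H⟩ := ih hfs
      refine isIso_quotient_map_of_contractible _ ⟨H⟩ ⟨?_⟩
      have H' := (locFunctor (Submonoid.powers f)).mapHomotopy (c := ComplexShape.up ℤ) H
      rw [CategoryTheory.Functor.map_id, CategoryTheory.Functor.map_zero] at H'
      exact H'

end helpers

theorem aux (R : Type u) [CommRing R] (fs : List R)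
    (hf : ∃ f ∈ fs, IsUnit f) (M : ModuleCat.{u} R) :
    Nonempty (Homotopy (𝟙 (DerCA.extCech M fs)) 0) := contr M fs hf

/-- Let R be a ring, f_1, ..., f_r elements of R such that some f_i is a unit, and M an R-module. Then
the extended alternating Cech complex of M with respect to f_1, ..., f_r is homotopy equivalent to
zero: its identity map is null-homotopic. -/
theorem result (R : Type u) [CommRing R] (fs : List R)
    (hf : ∃ f ∈ fs, IsUnit f) (M : ModuleCat.{u} R) :
    Nonempty (Homotopy (𝟙 (DerCA.extCech M fs)) 0) := by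
  exact aux R fs hf M

end Groth.Agent.S9263
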