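import Groth.Statements.S9267
import Groth.Agent.Lib.Helper2.KosReg4
import Groth.Agent.S9264
import Groth.Agent.S9265

set_option autoImplicit false
universe u
attribute [local instance] HasDerivedCategory.standard
open CategoryTheory
open DerCA

namespace Groth.Agent.S9267

open CategoryTheory.Limits CochainComplex Groth.Agent.Lib.Helper2.KosReg2
  Groth.Agent.Lib.Helper2.KosReg3 Groth.Agent.Lib.Helper2.KosReg4
  Groth.Agent.Lib.Helper2.LCCech1

theorem koszul_eq (R : Type u) [CommRing R] (l : List R) :
    Koszul.koszul R l = Tl l ((HomologicalComplex.single (ModuleCat.{u} R)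
      (ComplexShape.up ℤ) 0).obj (ModuleCat.of R R)) := by
  induction l with
  | nil => rfl
  | cons f l ih =>
    change mappingCone (f • 𝟙 (Koszul.koszul R l)) = mappingCone (f • 𝟙 (Tl l _))
    rw [ih]


/-- For a Koszul-regular sequence f_1, ..., f_r in a ring R, the extended alternating Cech complex R → ⊕
R_{f_i} → ... → R_{f_1 ... f_r} has cohomology only in degree r. -/
theorem result (R : Type u) [CommRing R] (fs : List R)
    (hfs : LCI.IsKoszulRegularSeq R fs) (q : ℤ) (hq : q ≠ (fs.length : ℤ)) :
    Limits.IsZero (DerCA.extCechH fs (ModuleCat.of R R) q) := by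
  have hQ : ∀ n : ℤ, n ≠ 0 →
      IsZero ((Tl fs (extCech (ModuleCat.of R R) fs)).homology n) := by
    intro n hn
    rw [extCech_eq]
    apply steps fs _ n _ fs (fun g hg => hg)
    rw [← koszul_eq]
    exact hfs n hn
  have hX := Groth.Agent.S9264.isZero_X R (ModuleCat.of R R) fs
  have hout : ∀ n : ℤ, (n < 0 ∨ (fs.length : ℤ) < n) →
      IsZero (extCechH fs (ModuleCat.of R R) n) := by
    intro n hn
    exact (HomologicalComplex.exactAt_iff_isZero_homology _ _).1
      (HomologicalComplex.ExactAt.of_isZero (hX n hn))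
  by_contra hne
  have hq0 : 0 ≤ q := by
    by_contra h
    exact hne (hout q (Or.inl (by omega)))
  have hqr : q < fs.length := by
    by_contra h
    exact hne (hout q (Or.inr (by omega)))
  have hex : ∃ k : ℕ, ¬ IsZero (extCechH fs (ModuleCat.of R R) (k : ℤ)) :=
    ⟨q.toNat, by rwa [Int.toNat_of_nonneg hq0]⟩
  classical
  have hq0ne : ¬ IsZero (extCechH fs (ModuleCat.of R R) ((Nat.find hex : ℕ) : ℤ)) :=
    Nat.find_spec hex
  have hmin : ∀ k : ℕ, k < Nat.find hex → IsZero (extCechH fs (ModuleCat.of R R) (k : ℤ)) :=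
    fun k hk => not_not.1 (Nat.find_min hex hk)
  have hq0q : ((Nat.find hex : ℕ) : ℤ) ≤ q := by
    have : Nat.find hex ≤ q.toNat := Nat.find_min' hex (by rwa [Int.toNat_of_nonneg hq0])
    omega
  have hlow : Low fs (extCech (ModuleCat.of R R) fs) ((Nat.find hex : ℕ) : ℤ) :=
    { tors := fun n z g hg => by
        obtain ⟨k, _, hk⟩ := Groth.Agent.S9265.result R fs (ModuleCat.of R R) n z
        exact ⟨k, hk g hg⟩
      van := fun n hn => by
        by_cases h0 : n < 0
        · exact hout n (Or.inl h0)
        · have := hmin n.toNat (by omega)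
          rwa [Int.toNat_of_nonneg (by omega)] at this
      ne := hq0ne }
  have h2 := (hlow.Tl fs (fun f hf => hf)).ne
  exact h2 (hQ _ (by omega))

end Groth.Agent.S9267
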