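import Groth.Statements.S9268
import Groth.Agent.Lib.Helper5.AdicStalk2
import Mathlib.RingTheory.Smooth.Locus

set_option autoImplicit false
universe u
open CAlg

namespace Groth.Agent.S9268

/-- Suppose A is a Noetherian ring and B is a finitely generated A-algebra, and consider a prime q of B
lying over p in A. Then A → B is smooth at q (meaning some g not in q makes A → B_g smooth) exactly
when the induced map A_p → B_q is formally smooth with respect to the adic topology defined by the
maximal ideal of B_q. -/
theorem result (A B : Type u) [CommRing A] [IsNoetherianRing A]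
    [CommRing B] [Algebra A B] [Algebra.FiniteType A B] (q : Ideal B) [q.IsPrime] :
    (∃ g : B, g ∉ q ∧ Algebra.Smooth A (Localization.Away g)) ↔
      letI := (Localization.localRingHom (Ideal.comap (algebraMap A B) q) q (algebraMap A B) rfl).toAlgebra
      CAlgX.IsAdicFormallySmooth (Localization.AtPrime (Ideal.comap (algebraMap A B) q))
        (Localization.AtPrime q) (IsLocalRing.maximalIdeal (Localization.AtPrime q)) := by
  let _ : Algebra (Localization.AtPrime (Ideal.comap (algebraMap A B) q)) (Localization.AtPrime q) :=
    (Localization.localRingHom (Ideal.comap (algebraMap A B) q) q (algebraMap A B) rfl).toAlgebra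
  have _ : IsScalarTower A (Localization.AtPrime (q.comap (algebraMap A B)))
      (Localization.AtPrime q) := by
    refine IsScalarTower.of_algebraMap_eq (fun a => ?_)
    change _ = Localization.localRingHom (q.comap (algebraMap A B)) q (algebraMap A B) rfl
      (algebraMap A _ a)
    rw [Localization.localRingHom_to_map, ← IsScalarTower.algebraMap_apply]
  have htfae := Lib.Helper5.AdicStalk.tfae_of_finiteType (A := A) (C := B) q
  have _ : Algebra.FinitePresentation A B := Algebra.FinitePresentation.of_finiteType.1 inferInstance
  constructor
  · rintro ⟨g, hg, hsm⟩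
    have h3 : ∃ f : B, f ∉ q ∧ Algebra.FormallySmooth A (Localization.Away f) :=
      ⟨g, hg, hsm.formallySmooth⟩
    exact (htfae.out 2 1).1 h3
  · intro h
    have h1 : Algebra.FormallySmooth A (Localization.AtPrime q) := (htfae.out 1 0).1 h
    have _ : Algebra.IsSmoothAt A q := h1
    obtain ⟨f, hf, hsm⟩ := Algebra.IsSmoothAt.exists_notMem_smooth A q
    exact ⟨f, hf, hsm⟩

end Groth.Agent.S9268
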