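import Groth.Statements.S9275
-- import your own Groth.Agent.* helpers here
import Mathlib

set_option autoImplicit false
universe u
open EtAlg

namespace Groth.Agent.S9275

/-- Let A → B be a ring map and J an ideal of B such that A → B is étale at every prime of V(J), in the
sense that every prime q ⊇ J has some h ∉ q with A → B_h étale. Then there is g ∈ B mapping to a
unit of B/J such that A → B_g is étale. -/
theorem result (A B : Type u) [CommRing A] [CommRing B]
    [Algebra A B] (J : Ideal B)
    (h : ∀ (q : Ideal B) [q.IsPrime], J ≤ q → ∃ h : B, h ∉ q ∧ Algebra.Etale A (Localization.Away h)) :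
    ∃ g : B, IsUnit (Ideal.Quotient.mk J g) ∧ Algebra.Etale A (Localization.Away g) := by
  classical
  let E : Set B := {h | Algebra.Etale A (Localization.Away h)}
  have htop : J ⊔ Ideal.span E = ⊤ := by
    by_contra hne
    obtain ⟨q, hq, hle⟩ := Ideal.exists_le_maximal _ hne
    have := hq.isPrime
    obtain ⟨h0, hnot, het⟩ := h q (le_sup_left.trans hle)
    exact hnot (hle (Ideal.mem_sup_right (Ideal.subset_span het)))
  obtain ⟨j, hj, g, hg, hjg⟩ := Submodule.mem_sup.1 ((Ideal.eq_top_iff_one _).1 htop)
  refine ⟨g, ?_, ?_⟩
  · have : Ideal.Quotient.mk J g = 1 := by
      rw [← map_one (Ideal.Quotient.mk J), ← hjg, map_add, Ideal.Quotient.eq_zero_iff_mem.2 hj,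
        zero_add]
    rw [this]
    exact isUnit_one
  · rw [← RingHom.etale_algebraMap]
    apply RingHom.Etale.ofLocalizationSpanTarget _ (algebraMap B (Localization.Away g) '' E)
    · rw [← Ideal.map_span]
      have : algebraMap B (Localization.Away g) g ∈
          Ideal.map (algebraMap B (Localization.Away g)) (Ideal.span E) :=
        Ideal.mem_map_of_mem _ hg
      exact Ideal.eq_top_of_isUnit_mem _ this (IsLocalization.Away.algebraMap_isUnit g)
    · rintro ⟨_, h0, hh0, rfl⟩
      have het : Algebra.Etale A (Localization.Away h0) := hh0
      let T' := Localization.Away (algebraMap B (Localization.Away h0) g)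
      let T := Localization.Away (algebraMap B (Localization.Away g) h0)
      have hT' : Algebra.Etale A T' := inferInstance
      have i1 : IsLocalization.Away (g * h0) T' := inferInstance
      have i2 : IsLocalization.Away (g * h0) T := inferInstance
      have t1 : IsScalarTower A B T' := IsScalarTower.of_algebraMap_eq (R := A) (S := B) (A := T') fun a => by
        have e1 := IsScalarTower.algebraMap_apply A (Localization.Away h0) T' a
        have e2 := IsScalarTower.algebraMap_apply A B (Localization.Away h0) a
        have e3 := IsScalarTower.algebraMap_apply B (Localization.Away h0) T' (algebraMap A B a)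
        rw [e1, e2, e3]
      have t2 : IsScalarTower A B T := IsScalarTower.of_algebraMap_eq (R := A) (S := B) (A := T) fun a => by
        have e1 := IsScalarTower.algebraMap_apply A (Localization.Away g) T a
        have e2 := IsScalarTower.algebraMap_apply A B (Localization.Away g) a
        have e3 := IsScalarTower.algebraMap_apply B (Localization.Away g) T (algebraMap A B a)
        rw [e1, e2, e3]
      let e : T' ≃ₐ[B] T := IsLocalization.algEquiv (Submonoid.powers (g * h0)) T' T
      have hT : Algebra.Etale A T := Algebra.Etale.of_equiv (e.restrictScalars A)
      have := RingHom.etale_algebraMap.2 hT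
      convert this using 1
      exact (IsScalarTower.algebraMap_eq A (Localization.Away g) T).symm

end Groth.Agent.S9275
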