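import Groth.Statements.S9278
import Mathlib
import Groth.Agent.Lib.Helper22.McCoy

set_option autoImplicit false
universe u
open CAlgX

namespace Groth.Agent.S9278

open Matrix Groth.Agent.Lib.Helper22.McCoy

theorem minorIdeal_eq_bot_of_lt {R : Type u} [CommRing R] {m n : ℕ} (M : Matrix (Fin n) (Fin m) R)
    (r : ℕ) (hr : m < r) : CAlgX.minorIdeal M r = ⊥ := by
  unfold CAlgX.minorIdeal
  rw [Ideal.span_eq_bot]
  rintro x ⟨⟨f, g⟩, rfl⟩
  have hg : ¬ Function.Injective g := by
    intro h
    have := Fintype.card_le_of_injective g h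
    simp at this
    omega
  rw [Function.Injective] at hg
  push Not at hg
  obtain ⟨j₁, j₂, hj, hne⟩ := hg
  exact Matrix.det_zero_of_column_eq hne (fun i => by simp [hj])

theorem matrixRank_eq {R : Type u} [CommRing R] {m n : ℕ} (M : Matrix (Fin n) (Fin m) R)
    (h : CAlgX.minorIdeal M m ≠ ⊥) : CAlgX.matrixRank M = m := by
  unfold CAlgX.matrixRank
  apply IsGreatest.csSup_eq
  refine ⟨h, ?_⟩
  intro r hr
  by_contra hlt
  push Not at hlt
  exact hr (minorIdeal_eq_bot_of_lt M r hlt)

theorem matrixRank_le {R : Type u} [CommRing R] {m n : ℕ} (M : Matrix (Fin n) (Fin m) R) :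
    CAlgX.matrixRank M ≤ m := by
  unfold CAlgX.matrixRank
  apply csSup_le'
  intro r hr
  by_contra hlt
  push Not at hlt
  exact hr (minorIdeal_eq_bot_of_lt M r hlt)

/-- Let R be a Noetherian local ring and φ : R^m → R^n a map of finite free modules with matrix M. Then
φ is injective if and only if the rank of M is m and the determinantal ideal I(M) is the unit ideal
or contains a nonzerodivisor. -/
theorem result (R : Type u) [CommRing R]
    [IsLocalRing R] [IsNoetherianRing R] (m n : ℕ) (M : Matrix (Fin n) (Fin m) R) :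
    Function.Injective (Matrix.mulVecLin M) ↔
      CAlgX.matrixRank M = m ∧ (CAlgX.detIdeal M = ⊤ ∨ ∃ a ∈ CAlgX.detIdeal M, IsRegular a) := by
  constructor
  · intro hinj
    have hmc := eq_zero_of_injective M hinj
    have hne : CAlgX.minorIdeal M m ≠ ⊥ := by
      intro h0
      have := hmc 1 (fun x hx => by
        rw [h0, Ideal.mem_bot] at hx
        rw [hx, mul_zero])
      exact one_ne_zero this
    have hrank := matrixRank_eq M hne
    refine ⟨hrank, Or.inr ?_⟩
    unfold CAlgX.detIdeal
    rw [hrank]
    by_contra hcon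
    push Not at hcon
    have hdisj : Disjoint (CAlgX.minorIdeal M m : Set R) (nonZeroDivisors R) := by
      rw [Set.disjoint_left]
      intro a ha hnz
      exact hcon a ha (isRegular_iff_mem_nonZeroDivisors.mpr hnz)
    have hlt := Ideal.bot_lt_annihilator_of_disjoint_nonZeroDivisors hdisj
    obtain ⟨a, ha, ha0⟩ := SetLike.exists_of_lt hlt
    apply ha0
    rw [Ideal.mem_bot]
    apply hmc a
    intro x hx
    rw [Module.mem_annihilator] at ha
    have := ha ⟨x, hx⟩
    exact congrArg Subtype.val this
  · rintro ⟨hrank, h⟩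
    unfold CAlgX.detIdeal at h
    rw [hrank] at h
    rcases h with h | ⟨a, ha, hreg⟩
    · exact injective_of_isRegular_mem M 1 (by rw [h]; exact Submodule.mem_top) isRegular_one
    · exact injective_of_isRegular_mem M a ha hreg

end Groth.Agent.S9278
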