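import Groth.Statements.S9284
import Mathlib
import Groth.Agent.Lib.Helper22.McCoy2

set_option autoImplicit false
universe u
open CAlgX

namespace Groth.Agent.S9284

open TensorProduct Groth.Agent.Lib.Helper22.McCoy

/-- Let R be a ring such that every proper finitely generated ideal of R has a nonzero annihilator, and
let u : N → M be an R-linear map between projective R-modules. Then u stays injective after
tensoring with every R-module exactly when u is injective. -/
theorem result (R : Type u) [CommRing R]
    (hP : (∀ I : Ideal R, I.FG → I ≠ ⊤ → I.annihilator ≠ ⊥))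
    (N M : Type u) [AddCommGroup N] [Module R N] [Module.Projective R N] [AddCommGroup M]
    [Module R M] [Module.Projective R M] (u : N →ₗ[R] M) :
    CAlgX.UniversallyInjective R u ↔ Function.Injective u := by
  constructor
  · intro h
    have hR := h R
    intro x y hxy
    have h1 : u.rTensor R (x ⊗ₜ 1) = u.rTensor R (y ⊗ₜ 1) := by
      rw [LinearMap.rTensor_tmul, LinearMap.rTensor_tmul, hxy]
    have h2 := hR h1
    have h3 := congrArg (TensorProduct.rid R N) h2
    simpa using h3
  · intro hinj Q _ _
    obtain ⟨s₁, hs₁⟩ := (Module.projective_def' (R := R) (P := N)).mp inferInstance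
    obtain ⟨s₂, hs₂⟩ := (Module.projective_def' (R := R) (P := M)).mp inferInstance
    set π₁ : (N →₀ R) →ₗ[R] N := Finsupp.linearCombination R id with hπ₁
    set π₂ : (M →₀ R) →ₗ[R] M := Finsupp.linearCombination R id with hπ₂
    have hps₁ : ∀ x, π₁ (s₁ x) = x := fun x => LinearMap.congr_fun hs₁ x
    have hps₂ : ∀ x, π₂ (s₂ x) = x := fun x => LinearMap.congr_fun hs₂ x
    let e := Finsupp.sumFinsuppLEquivProdFinsupp (α := M) (β := N) (M := R) R
    let ũ : (N →₀ R) →ₗ[R] ((M ⊕ N) →₀ R) :=
      e.symm.toLinearMap ∘ₗ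
        (LinearMap.prod (s₂ ∘ₗ u ∘ₗ π₁) (LinearMap.id - s₁ ∘ₗ π₁))
    have hũinj : Function.Injective ũ := by
      rw [injective_iff_map_eq_zero]
      intro x hx
      have hx' : (LinearMap.prod (s₂ ∘ₗ u ∘ₗ π₁) (LinearMap.id - s₁ ∘ₗ π₁)) x = 0 := by
        apply e.symm.injective
        rw [map_zero]
        exact hx
      have h1 : s₂ (u (π₁ x)) = 0 := congrArg Prod.fst hx'
      have h2 : x - s₁ (π₁ x) = 0 := congrArg Prod.snd hx'
      have h3 : u (π₁ x) = 0 := by
        rw [← hps₂ (u (π₁ x)), h1, map_zero]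
      have h4 : π₁ x = 0 := by
        apply hinj
        rw [h3, map_zero]
      rw [h4, map_zero, sub_zero] at h2
      exact h2
    have hfree := rTensor_injective_of_injective hP ũ hũinj Q
    have hcomp : ũ ∘ₗ s₁ = (e.symm.toLinearMap ∘ₗ LinearMap.inl R _ _ ∘ₗ s₂) ∘ₗ u := by
      apply LinearMap.ext
      intro x
      simp only [ũ, LinearMap.comp_apply, LinearMap.prod_apply, LinearMap.inl_apply]
      congr 1
      show (s₂ (u (π₁ (s₁ x))), s₁ x - s₁ (π₁ (s₁ x))) = (s₂ (u x), 0)
      rw [hps₁, sub_self]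
    rw [injective_iff_map_eq_zero]
    intro z hz
    have h1 : ũ.rTensor Q (s₁.rTensor Q z) = 0 := by
      rw [← LinearMap.rTensor_comp_apply, hcomp, LinearMap.rTensor_comp_apply, hz, map_zero]
    have h2 : s₁.rTensor Q z = 0 := by
      apply hfree
      rw [h1, map_zero]
    have h3 : π₁.rTensor Q (s₁.rTensor Q z) = z := by
      rw [← LinearMap.rTensor_comp_apply, hs₁, LinearMap.rTensor_id_apply]
    rw [← h3, h2, map_zero]

end Groth.Agent.S9284
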