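import Groth.Statements.S9285
import Mathlib.RingTheory.Finiteness.Basic
-- import your own Groth.Agent.* helpers here

set_option autoImplicit false
universe u
open CAlg

namespace Groth.Agent.S9285

/-- A ring R has the property that every proper finitely generated ideal has a nonzero annihilator if
and only if every injective linear map R → R^n admits a retraction. -/
theorem result (R : Type u) [CommRing R] :
    (∀ I : Ideal R, I.FG → I ≠ ⊤ → I.annihilator ≠ ⊥) ↔
      ∀ (n : ℕ) (u : R →ₗ[R] (Fin n → R)), Function.Injective u →
        ∃ v : (Fin n → R) →ₗ[R] R, v.comp u = LinearMap.id := by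
  constructor
  · intro hP n u hu
    let a : Fin n → R := u 1
    have hua : ∀ r : R, u r = r • a := fun r => by
      rw [← LinearMap.map_smul, smul_eq_mul, mul_one]
    have hann : (Ideal.span (Set.range a)).annihilator = ⊥ := by
      rw [eq_bot_iff]
      intro r hr
      rw [Ideal.mem_bot]
      apply hu
      rw [map_zero, hua]
      ext i
      rw [Pi.smul_apply, smul_eq_mul, Pi.zero_apply]
      have := Submodule.mem_annihilator.mp hr (a i) (Ideal.subset_span ⟨i, rfl⟩)
      simpa using this
    have htop : Ideal.span (Set.range a) = ⊤ := by
      by_contra hne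
      exact hP _ (Submodule.fg_span (Set.finite_range a)) hne hann
    have h1 : (1 : R) ∈ Ideal.span (Set.range a) := by rw [htop]; trivial
    obtain ⟨b, hb⟩ := (Ideal.mem_span_range_iff_exists_fun).mp h1
    refine ⟨∑ i, b i • LinearMap.proj i, ?_⟩
    ext
    simp only [LinearMap.comp_apply, LinearMap.sum_apply, LinearMap.smul_apply, LinearMap.proj_apply,
      LinearMap.id_apply, smul_eq_mul]
    exact hb
  · intro h I hfg hne hann
    obtain ⟨s, rfl⟩ := hfg
    classical
    let n := s.card
    let a : Fin n → R := fun i => (s.equivFin.symm i : R)
    have hspan : Ideal.span (Set.range a) = Ideal.span (s : Set R) := by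
      congr 1
      ext x
      constructor
      · rintro ⟨i, rfl⟩
        exact (s.equivFin.symm i).2
      · intro hx
        exact ⟨s.equivFin ⟨x, hx⟩, by simp [a]⟩
    let u : R →ₗ[R] (Fin n → R) := LinearMap.toSpanSingleton R (Fin n → R) a
    have hu : Function.Injective u := by
      rw [injective_iff_map_eq_zero]
      intro r hr
      have : r ∈ (Ideal.span (s : Set R)).annihilator := by
        rw [← hspan, Submodule.mem_annihilator_span]
        rintro ⟨_, i, rfl⟩
        have := congrFun hr i
        simpa [u] using this
      rw [hann] at this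
      simpa using this
    obtain ⟨v, hv⟩ := h n u hu
    apply hne
    rw [Ideal.eq_top_iff_one, ← hspan]
    have h1 : v (u 1) = 1 := by
      have := LinearMap.congr_fun hv 1
      simpa using this
    have hu1 : u 1 = ∑ i, a i • (Pi.single i (1 : R) : Fin n → R) := by
      ext j
      simp [u, Finset.sum_apply, Pi.single_apply]
    rw [hu1, map_sum] at h1
    rw [← h1]
    refine Submodule.sum_mem _ (fun i _ => ?_)
    rw [LinearMap.map_smul, smul_eq_mul]
    exact Ideal.mul_mem_right _ _ (Ideal.subset_span ⟨i, rfl⟩)

end Groth.Agent.S9285
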