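import Groth.Statements.S9286
import Mathlib.RingTheory.Finiteness.Projective
import Mathlib.RingTheory.Finiteness.Prod
import Mathlib.LinearAlgebra.LinearIndependent.Defs
import Mathlib.LinearAlgebra.LinearIndependent.Basic
import Mathlib.LinearAlgebra.Quotient.Basic
import Mathlib.LinearAlgebra.Pi
import Mathlib.LinearAlgebra.Prod
import Mathlib.LinearAlgebra.FreeModule.Basic
import Mathlib.RingTheory.Ideal.Span
import Mathlib.RingTheory.Ideal.Maps

set_option autoImplicit false
universe u
open CAlg

namespace Groth.Agent.S9286

section helpers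

variable {R : Type u} [CommRing R]

theorem exists_retraction (hP : ∀ I : Ideal R, I.FG → I ≠ ⊤ → I.annihilator ≠ ⊥)
    {M : Type u} [AddCommGroup M] [Module R M] [Module.Finite R M] [Module.Projective R M]
    (x₀ : M) (hx₀ : ∀ c : R, c • x₀ = 0 → c = 0) : ∃ φ : M →ₗ[R] R, φ x₀ = 1 := by
  classical
  obtain ⟨n, f, g, -, hg, hfg⟩ := Module.Finite.exists_comp_eq_id_of_projective R M
  set a : Fin n → R := g x₀ with ha
  have hIfg : (Ideal.span (Set.range a)).FG := Submodule.fg_span (Set.finite_range a)
  have hann : (Ideal.span (Set.range a)).annihilator = ⊥ := by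
    rw [eq_bot_iff]
    intro c hc
    rw [Submodule.mem_annihilator] at hc
    have h1 : c • x₀ = 0 := by
      apply hg
      rw [map_smul, map_zero]
      funext j
      simpa using hc (a j) (Ideal.subset_span ⟨j, rfl⟩)
    simpa using hx₀ c h1
  have hI : Ideal.span (Set.range a) = ⊤ := by
    by_contra h
    exact hP _ hIfg h hann
  have h1 : (1 : R) ∈ Ideal.span (Set.range a) := by rw [hI]; trivial
  rw [Ideal.mem_span_range_iff_exists_fun] at h1
  obtain ⟨b, hb⟩ := h1
  refine ⟨(∑ j, b j • LinearMap.proj j) ∘ₗ g, ?_⟩
  simp [← hb, ha]

theorem projective_quot_span (hP : ∀ I : Ideal R, I.FG → I ≠ ⊤ → I.annihilator ≠ ⊥) :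
    ∀ (n : ℕ) (M : Type u) [AddCommGroup M] [Module R M] [Module.Finite R M]
      [Module.Projective R M] (x : Fin n → M), LinearIndependent R x →
      Module.Projective R (M ⧸ Submodule.span R (Set.range x)) := by
  intro n
  induction n with
  | zero =>
    intro M _ _ _ _ x _
    have h0 : Submodule.span R (Set.range x) = ⊥ := by
      rw [Submodule.span_eq_bot]
      rintro _ ⟨i, rfl⟩
      exact i.elim0
    exact Module.Projective.of_equiv (Submodule.quotEquivOfEqBot _ h0).symm
  | succ n ih =>
    intro M _ _ _ _ x hx
    have hx' := hx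
    rw [Fintype.linearIndependent_iff] at hx'
    have hx₀ : ∀ c : R, c • x 0 = 0 → c = 0 := by
      intro c hc
      have := hx' (Pi.single 0 c) (by
        rw [Finset.sum_eq_single 0]
        · simpa using hc
        · intro j _ hj; simp [Pi.single_eq_of_ne hj]
        · simp) 0
      simpa using this
    obtain ⟨φ, hφ⟩ := exists_retraction hP (x 0) hx₀
    let p : M →ₗ[R] LinearMap.ker φ :=
      LinearMap.codRestrict (LinearMap.ker φ)
        (LinearMap.id - (LinearMap.toSpanSingleton R M (x 0)) ∘ₗ φ) (by
          intro m
          simp [hφ])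
    have hp : ∀ m, (p m : M) = m - φ m • x 0 := fun m => by simp [p]
    have hp_sub : p ∘ₗ (LinearMap.ker φ).subtype = LinearMap.id := by
      ext ⟨m, hm⟩
      simp [hp, LinearMap.mem_ker.mp hm]
    have hproj : Module.Projective R (LinearMap.ker φ) :=
      Module.Projective.of_split (LinearMap.ker φ).subtype p hp_sub
    have hfin : Module.Finite R (LinearMap.ker φ) :=
      Module.Finite.of_surjective p (fun m' => ⟨m', by
        have := LinearMap.congr_fun hp_sub m'
        simpa using this⟩)
    let y : Fin n → LinearMap.ker φ := fun i => p (x i.succ)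
    have hy : LinearIndependent R y := by
      rw [Fintype.linearIndependent_iff]
      intro g hg i
      have h2 := congrArg (LinearMap.ker φ).subtype hg
      simp only [map_sum, map_smul, Submodule.subtype_apply, map_zero, y, hp] at h2
      have := hx' (Fin.cons (- ∑ i, g i * φ (x i.succ)) g) (by
        rw [Fin.sum_univ_succ]
        simp only [Fin.cons_zero, Fin.cons_succ]
        rw [← h2]
        simp only [smul_sub, Finset.sum_sub_distrib, neg_smul, Finset.sum_smul, mul_smul]
        abel) i.succ
      simpa using this
    have ih' := ih (LinearMap.ker φ) y hy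
    have h1 : Submodule.span R (Set.range y) ≤
        (Submodule.span R (Set.range x)).comap (LinearMap.ker φ).subtype := by
      rw [Submodule.span_le]
      rintro _ ⟨i, rfl⟩
      show ((y i : LinearMap.ker φ) : M) ∈ Submodule.span R (Set.range x)
      simp only [y, hp]
      exact Submodule.sub_mem _ (Submodule.subset_span ⟨_, rfl⟩)
        (Submodule.smul_mem _ _ (Submodule.subset_span ⟨0, rfl⟩))
    have h2 : Submodule.span R (Set.range x) ≤ (Submodule.span R (Set.range y)).comap p := by
      rw [Submodule.span_le]
      rintro _ ⟨i, rfl⟩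
      show p (x i) ∈ Submodule.span R (Set.range y)
      refine Fin.cases ?_ ?_ i
      · have : p (x 0) = 0 := by
          ext
          simp [hp, hφ]
        rw [this]
        exact Submodule.zero_mem _
      · intro j
        exact Submodule.subset_span ⟨j, rfl⟩
    refine Module.Projective.of_split
      ((Submodule.span R (Set.range x)).mapQ (Submodule.span R (Set.range y)) p h2)
      ((Submodule.span R (Set.range y)).mapQ (Submodule.span R (Set.range x))
        (LinearMap.ker φ).subtype h1) ?_
    apply Submodule.linearMap_qext
    ext m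
    simp only [LinearMap.comp_apply, Submodule.mkQ_apply, Submodule.mapQ_apply,
      Submodule.subtype_apply, hp, LinearMap.id_apply]
    rw [Submodule.Quotient.eq]
    have : m - φ m • x 0 - m = - (φ m • x 0) := by abel
    rw [this]
    exact Submodule.neg_mem _ (Submodule.smul_mem _ _ (Submodule.subset_span ⟨0, rfl⟩))

end helpers

/-- Let R be a ring in which every proper finitely generated ideal has a nonzero annihilator. Given an
injective R-linear map u : N → M, where both N and M are finite and projective over R, the quotient
Coker(u) = M/u(N) is again projective as an R-module. -/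
theorem result (R : Type u) [CommRing R]
    (hP : (∀ I : Ideal R, I.FG → I ≠ ⊤ → I.annihilator ≠ ⊥))
    (N M : Type u) [AddCommGroup N] [Module R N] [Module.Finite R N] [Module.Projective R N]
    [AddCommGroup M] [Module R M] [Module.Finite R M] [Module.Projective R M]
    (u : N →ₗ[R] M) (hu : Function.Injective u) :
    Module.Projective R (M ⧸ LinearMap.range u) := by
  classical
  obtain ⟨n, π, s, hπ, hs, hπs⟩ := Module.Finite.exists_comp_eq_id_of_projective R N
  have hπs' : ∀ y, π (s y) = y := fun y => LinearMap.congr_fun hπs y
  let v : (Fin n → R) →ₗ[R] M × (Fin n → R) :=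
    LinearMap.prod (u ∘ₗ π) (LinearMap.id - s ∘ₗ π)
  have hv : ∀ y, v y = (u (π y), y - s (π y)) := fun y => rfl
  have hvinj : Function.Injective v := by
    rw [injective_iff_map_eq_zero]
    intro y hy
    rw [hv] at hy
    have h1 : u (π y) = 0 := congrArg Prod.fst hy
    have h2 : y - s (π y) = 0 := congrArg Prod.snd hy
    have h3 : π y = 0 := hu (by simpa using h1)
    simpa [h3] using h2
  let x : Fin n → M × (Fin n → R) := fun j => v (Pi.single j 1)
  have hsum : ∀ g : Fin n → R, ∑ j, g j • x j = v g := by
    intro g
    simp only [x, ← map_smul, ← map_sum]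
    congr 1
    funext k
    simp [Finset.sum_apply, Pi.single_apply]
  have hx : LinearIndependent R x := by
    rw [Fintype.linearIndependent_iff]
    intro g hg i
    rw [hsum] at hg
    have := hvinj (hg.trans (map_zero v).symm)
    rw [this]; rfl
  have key := projective_quot_span hP n (M × (Fin n → R)) x hx
  have h1 : LinearMap.range u ≤
      (Submodule.span R (Set.range x)).comap (LinearMap.inl R M (Fin n → R)) := by
    rintro _ ⟨y, rfl⟩
    show (u y, (0 : Fin n → R)) ∈ Submodule.span R (Set.range x)
    have : (u y, (0 : Fin n → R)) = ∑ j, (s y) j • x j := by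
      rw [hsum, hv, hπs', sub_self]
    rw [this]
    exact Submodule.sum_mem _ fun j _ =>
      Submodule.smul_mem _ _ (Submodule.subset_span ⟨j, rfl⟩)
  have h2 : Submodule.span R (Set.range x) ≤
      (LinearMap.range u).comap (LinearMap.fst R M (Fin n → R)) := by
    rw [Submodule.span_le]
    rintro _ ⟨j, rfl⟩
    exact ⟨π (Pi.single j 1), rfl⟩
  refine Module.Projective.of_split
    ((LinearMap.range u).mapQ (Submodule.span R (Set.range x)) _ h1)
    ((Submodule.span R (Set.range x)).mapQ (LinearMap.range u) _ h2) ?_
  apply Submodule.linearMap_qext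
  ext m
  simp

end Groth.Agent.S9286
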