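import Groth.Statements.S9296
import Groth.Agent.Lib.Helper5.RegGen
import Groth.Agent.Lib.helper11.ConstrTop

set_option autoImplicit false
universe u
open EGA4

namespace Groth.Agent.S9296

/-- For a Noetherian ring R, the set of primes at which R is regular is open in Spec R (R is J-1)
exactly when, for each such prime p, some nonempty open part of the closed set V(p) consists of
primes at which R is regular. Stated with an open U of Spec R whose trace on V(p) is nonempty and
contained in the regular locus. -/
theorem result (R : Type u) [CommRing R] [IsNoetherianRing R] :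
    IsOpen (EGA4.regLocus R) ↔
      ∀ p ∈ EGA4.regLocus R, ∃ U : Set (PrimeSpectrum R), IsOpen U ∧
        (U ∩ PrimeSpectrum.zeroLocus (p.asIdeal : Set R)).Nonempty ∧
        U ∩ PrimeSpectrum.zeroLocus (p.asIdeal : Set R) ⊆ EGA4.regLocus R := by
  constructor
  · intro hE p hp
    exact ⟨_, hE, ⟨p, hp, fun x hx => hx⟩, Set.inter_subset_left⟩
  · intro H
    rw [Lib.helper11.ConstrTop.isOpen_iff_forall_irreducible]
    intro Y hYc hYi hne
    have hprime : (PrimeSpectrum.vanishingIdeal Y).IsPrime :=
      PrimeSpectrum.isIrreducible_iff_vanishingIdeal_isPrime.1 hYi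
    have hY : PrimeSpectrum.zeroLocus (PrimeSpectrum.vanishingIdeal Y : Set R) = Y := by
      rw [PrimeSpectrum.zeroLocus_vanishingIdeal_eq_closure, hYc.closure_eq]
    obtain ⟨q, hqE, hqY⟩ := hne
    let p : PrimeSpectrum R := ⟨PrimeSpectrum.vanishingIdeal Y, hprime⟩
    have hpq : p.asIdeal ≤ q.asIdeal := by
      rw [← hY] at hqY
      exact hqY
    have hp : p ∈ EGA4.regLocus R := by
      have : IsRegularLocalRing (Localization.AtPrime q.asIdeal) := hqE
      exact Lib.Helper5.RegCompletion.regular_of_le R p.asIdeal q.asIdeal hpq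
    obtain ⟨U, hU, hne', hsub⟩ := H p hp
    change (U ∩ PrimeSpectrum.zeroLocus (PrimeSpectrum.vanishingIdeal Y : Set R)).Nonempty at hne'
    rw [hY] at hne'
    refine ⟨U, hU, hne', ?_⟩
    have := hsub
    change U ∩ PrimeSpectrum.zeroLocus (PrimeSpectrum.vanishingIdeal Y : Set R) ⊆ _ at this
    rwa [hY] at this

end Groth.Agent.S9296
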