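import Groth.Statements.S9299
import Mathlib
import Groth.Agent.Lib.Helper22.GPolyC
-- import your own Groth.Agent.* helpers here

set_option autoImplicit false
universe u
open CAlg

namespace Groth.Agent.S9299

/-- Let k be a field of characteristic p, A = k[[x_1, ..., x_n]][y_1, ..., y_m] with fraction field K,
and P a prime of A. Then A_P^ ⊗_A K, the generic formal fibre of the local ring A_P, is
geometrically regular over K. (The ring A is a domain; this is recorded as an instance hypothesis.) -/
theorem result (p : ℕ) [Fact p.Prime]
    (k : Type u) [Field k] [CharP k p] (n m : ℕ)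
    [IsDomain (MvPolynomial (Fin m) (MvPowerSeries (Fin n) k))]
    (P : Ideal (MvPolynomial (Fin m) (MvPowerSeries (Fin n) k))) [P.IsPrime] :
    CAlg.IsGeometricallyRegular (@Ideal.ResidueField (Localization.AtPrime P) _ ⊥ _)
      (EGA4.formalFibre (Localization.AtPrime P) (⊥ : Ideal (Localization.AtPrime P))) := by
  have hΛ : IsField k ∨ CAlg.IsCohenRing k := Or.inl (Field.toIsField k)
  haveI hrl := Groth.Agent.Lib.Helper22.J0Root.isRegularLocalRing_mvPowerSeries k hΛ n
  haveI : IsRegularRing (MvPowerSeries (Fin n) k) :=
    Groth.Agent.Lib.Helper22.GenFib.isRegularRing_of_isRegularLocalRing _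
  haveI hregA : IsRegularRing (MvPolynomial (Fin m) (MvPowerSeries (Fin n) k)) := inferInstance
  haveI : IsRegularLocalRing (Localization.AtPrime P) := isRegularRing_iff.mp hregA P
  apply Groth.Agent.Lib.Helper22.GRing.geomRegular_generic_formalFibre_of_tensor
  intro L _ _ hinj _ _ _
  exact Groth.Agent.Lib.Helper22.GRing.isRegularRing_tensor_cpl_of_finiteType k hΛ n _
    (MvPolynomial.C_injective _ _) P L hinj

end Groth.Agent.S9299
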