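import Groth.Statements.S9300
-- import your own Groth.Agent.* helpers here

set_option autoImplicit false
universe u
open CAlg

namespace Groth.Agent.S9300

/-- Let A and B be domains and A → B a ring map for which the generic point of Spec(A) has a unique
preimage in Spec(B). Then every nonzero ideal of B has nonzero preimage in A. -/
theorem result (A B : Type u) [CommRing A] [IsDomain A]
    [CommRing B] [IsDomain B] (φ : A →+* B)
    (h : ∃! q : PrimeSpectrum B, Ideal.comap φ q.asIdeal = ⊥) (J : Ideal B) (hJ : J ≠ ⊥) :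
    Ideal.comap φ J ≠ ⊥ := by
  obtain ⟨q, hq, huniq⟩ := h
  -- φ is injective
  have hinj : Function.Injective φ := by
    rw [injective_iff_map_eq_zero]
    intro a ha
    have : a ∈ Ideal.comap φ q.asIdeal := by
      rw [Ideal.mem_comap, ha]
      exact zero_mem _
    rw [hq] at this
    simpa using this
  -- the zero ideal is the unique such prime
  have hbot : Ideal.comap φ (⊥ : Ideal B) = ⊥ := by
    rw [eq_bot_iff]
    intro a ha
    rw [Ideal.mem_comap, Ideal.mem_bot] at ha
    rw [Ideal.mem_bot]
    exact hinj (by rw [ha, map_zero])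
  have hq0 : q = ⟨⊥, Ideal.isPrime_bot⟩ := (huniq ⟨⊥, Ideal.isPrime_bot⟩ hbot).symm
  intro hJ0
  let S : Submonoid B := (nonZeroDivisors A).map φ
  have hdisj : Disjoint (J : Set B) S := by
    rw [Set.disjoint_left]
    rintro _ hbJ ⟨a, ha, rfl⟩
    have : a ∈ Ideal.comap φ J := hbJ
    rw [hJ0, Ideal.mem_bot] at this
    exact (nonZeroDivisors.ne_zero ha) this
  obtain ⟨p, hp, hJp, hpS⟩ := Ideal.exists_le_prime_disjoint J S hdisj
  have hp0 : Ideal.comap φ p = ⊥ := by
    rw [eq_bot_iff]
    intro a ha
    rw [Ideal.mem_bot]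
    by_contra hne
    exact Set.disjoint_left.mp hpS ha ⟨a, mem_nonZeroDivisors_of_ne_zero hne, rfl⟩
  have := huniq ⟨p, hp⟩ hp0
  rw [hq0] at this
  have hpbot : p = ⊥ := congrArg PrimeSpectrum.asIdeal this
  apply hJ
  rw [eq_bot_iff, ← hpbot]
  exact hJp

end Groth.Agent.S9300
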