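import Groth.Statements.S9301
import Mathlib.RingTheory.QuasiFinite.Basic
import Mathlib.RingTheory.Flat.TorsionFree
import Mathlib.RingTheory.Ideal.GoingUp
import Mathlib.RingTheory.Algebraic.Integral
import Mathlib.RingTheory.Localization.FractionRing

set_option autoImplicit false
universe u
open CAlg

namespace Groth.Agent.S9301

/-- Let A and B be domains and A → B a flat ring map which is the localization of a quasi-finite ring
map A → B₀ (of finite type with finite fibres). Then every nonzero ideal of B has nonzero preimage
in A. -/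
theorem result (A B₀ B : Type u) [CommRing A] [IsDomain A]
    [CommRing B₀] [CommRing B] [IsDomain B] [Algebra A B₀] [Algebra.FiniteType A B₀]
    [Algebra.QuasiFinite A B₀] (S : Submonoid B₀) [Algebra B₀ B] [IsLocalization S B] [Algebra A B]
    [IsScalarTower A B₀ B] [Module.Flat A B] (J : Ideal B) (hJ : J ≠ ⊥) :
    Ideal.comap (algebraMap A B) J ≠ ⊥ := by
  classical
  have hQF : Algebra.QuasiFinite A B := Algebra.QuasiFinite.of_isLocalization (R := A) (S := B₀) S
  -- `A → B` is injective
  have hinjAB : Function.Injective (algebraMap A B) := by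
    rw [injective_iff_map_eq_zero]
    intro a ha
    by_contra ha0
    have hreg : IsSMulRegular B a :=
      Module.Flat.isSMulRegular_of_nonZeroDivisors (mem_nonZeroDivisors_of_ne_zero ha0)
    have h1 : a • (1 : B) = a • (0 : B) := by
      rw [Algebra.smul_def, ha]; simp
    exact one_ne_zero (hreg h1)
  obtain ⟨b, hbJ, hb0⟩ := Submodule.exists_mem_ne_zero_of_ne_bot hJ
  refine Ideal.comap_ne_bot_of_algebraic_mem hb0 hbJ ?_
  let K := FractionRing A
  have hfin : Module.Finite K (TensorProduct A K B) := Module.Finite.of_quasiFinite
  have hint : IsIntegral K ((1 : K) ⊗ₜ[A] b) := Algebra.IsIntegral.isIntegral _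
  have hAK : Algebra.IsAlgebraic A K := IsLocalization.isAlgebraic K (nonZeroDivisors A)
  have halg : IsAlgebraic A ((1 : K) ⊗ₜ[A] b) := IsIntegral.trans_isAlgebraic A hint
  obtain ⟨p, hp0, hp⟩ := halg
  refine ⟨p, hp0, ?_⟩
  have hinj : Function.Injective (Algebra.TensorProduct.includeRight : B →ₐ[A] TensorProduct A K B) :=
    Algebra.TensorProduct.includeRight_injective (IsFractionRing.injective A K)
  apply hinj
  rw [map_zero, ← Polynomial.aeval_algHom_apply]
  exact hp

end Groth.Agent.S9301
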