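import Groth.Statements.S9302
import Mathlib.RingTheory.Henselian
import Mathlib.Algebra.Polynomial.Div
import Mathlib.Algebra.Polynomial.Identities
import Mathlib.Algebra.Category.Ring.Limits
import Mathlib.CategoryTheory.Limits.Types.Limits
import Mathlib.CategoryTheory.Limits.ConcreteCategory.Basic

set_option autoImplicit false
universe u
open CategoryTheory
open EtAlg

namespace Groth.Agent.S9302

section helpers
open CategoryTheory.Limits

theorem exists_of_compatible (J : Type u) [Preorder J] (F : J ⥤ CommRingCat.{u})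
    (x : ∀ j, F.obj j) (hx : ∀ (i j : J) (φ : i ⟶ j), (F.map φ).hom (x i) = x j) :
    ∃ z : (limit F : CommRingCat.{u}), ∀ j, (limit.π F j).hom z = x j := by
  have t := isLimitOfPreserves (forget CommRingCat.{u}) (limit.isLimit F)
  refine ⟨(Types.isLimitEquivSections t).symm ⟨x, fun {i j} φ => hx i j φ⟩, fun j => ?_⟩
  exact Types.isLimitEquivSections_symm_apply t _ j

theorem limit_ext' (J : Type u) [Preorder J] (F : J ⥤ CommRingCat.{u})
    (x y : (limit F : CommRingCat.{u})) (h : ∀ j, (limit.π F j).hom x = (limit.π F j).hom y) : x = y :=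
  Concrete.limit_ext F x y h

theorem map_π (J : Type u) [Preorder J] (F : J ⥤ CommRingCat.{u}) (i j : J) (φ : i ⟶ j)
    (x : (limit F : CommRingCat.{u})) : (F.map φ).hom ((limit.π F i).hom x) = (limit.π F j).hom x := by
  rw [← limit.w F φ]
  rfl

theorem isUnit_of_forall (J : Type u) [Preorder J] (F : J ⥤ CommRingCat.{u})
    (z : (limit F : CommRingCat.{u})) (hz : ∀ j, IsUnit ((limit.π F j).hom z)) : IsUnit z := by
  choose w hw using fun j => (hz j)
  obtain ⟨v, hv⟩ := exists_of_compatible J F (fun j => ((w j)⁻¹ : (F.obj j)ˣ))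
    (fun i j φ => by
      have h1 : (F.map φ).hom ((limit.π F i).hom z) * (F.map φ).hom (((w i)⁻¹ : (F.obj i)ˣ) : F.obj i) = 1 := by
        rw [← map_mul, ← hw i, Units.mul_inv, map_one]
      rw [map_π, ← hw j] at h1
      have h2 : ((w j : (F.obj j)ˣ) : F.obj j) * (((w j)⁻¹ : (F.obj j)ˣ) : F.obj j) = 1 := Units.mul_inv _
      have : (((w j)⁻¹ : (F.obj j)ˣ) : F.obj j) * ((w j : (F.obj j)ˣ) : F.obj j) = 1 := Units.inv_mul _
      calc (F.map φ).hom (((w i)⁻¹ : (F.obj i)ˣ) : F.obj i)
          = (((w j)⁻¹ : (F.obj j)ˣ) : F.obj j) * ((w j : (F.obj j)ˣ) : F.obj j) * (F.map φ).hom (((w i)⁻¹ : (F.obj i)ˣ) : F.obj i) := by rw [this, one_mul]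
        _ = (((w j)⁻¹ : (F.obj j)ˣ) : F.obj j) := by rw [mul_assoc, h1, mul_one])
  refine IsUnit.of_mul_eq_one v ?_
  apply limit_ext'
  intro j
  rw [map_mul, map_one, hv, ← hw j, Units.mul_inv]

open Polynomial in
theorem root_unique {A : Type u} [CommRing A] (I : Ideal A) (hI : I ≤ Ideal.jacobson ⊥)
    (g : A[X]) (a₀ a a' : A) (hu : IsUnit (Ideal.Quotient.mk I (g.derivative.eval a₀)))
    (ha : g.IsRoot a) (ha' : g.IsRoot a') (h : a - a₀ ∈ I) (h' : a' - a₀ ∈ I) : a = a' := by
  obtain ⟨k, hk⟩ := g.binomExpansion a (a' - a)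
  have e1 : g.eval a = 0 := ha
  have e2 : g.eval a' = 0 := ha'
  rw [add_sub_cancel, e1, e2, zero_add] at hk
  have hloc := isLocalHom_of_le_jacobson_bot I hI
  have hunit : IsUnit (g.derivative.eval a + k * (a' - a)) := by
    apply IsUnit.of_map (Ideal.Quotient.mk I)
    convert hu using 1
    rw [Ideal.Quotient.eq]
    have h3 : g.derivative.eval a - g.derivative.eval a₀ ∈ I :=
      Ideal.mem_of_dvd _ (Polynomial.sub_dvd_eval_sub a a₀ g.derivative) h
    have h4 : a' - a ∈ I := by
      have : a' - a = (a' - a₀) - (a - a₀) := by ring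
      rw [this]; exact I.sub_mem h' h
    have : g.derivative.eval a + k * (a' - a) - g.derivative.eval a₀ =
        (g.derivative.eval a - g.derivative.eval a₀) + k * (a' - a) := by ring
    rw [this]
    exact I.add_mem h3 (I.mul_mem_left _ h4)
  have h5 : (a' - a) * (g.derivative.eval a + k * (a' - a)) = 0 := by
    rw [hk]; ring
  have h6 : a' - a = 0 := by
    rcases hunit with ⟨v, hv⟩
    rw [← hv] at h5
    exact (Units.mul_left_eq_zero v).mp h5
  exact (sub_eq_zero.mp h6).symm

theorem isUnit_mk_iff {A : Type u} [CommRing A] (I : Ideal A) (x : A) :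
    IsUnit (Ideal.Quotient.mk I x) ↔ ∃ y, x * y - 1 ∈ I := by
  constructor
  · rintro ⟨u, hu⟩
    obtain ⟨y, hy⟩ := Ideal.Quotient.mk_surjective (↑u⁻¹ : A ⧸ I)
    refine ⟨y, ?_⟩
    rw [← Ideal.Quotient.eq_zero_iff_mem, map_sub, map_mul, map_one, hy, ← hu, Units.mul_inv,
      sub_self]
  · rintro ⟨y, hy⟩
    rw [← Ideal.Quotient.eq_zero_iff_mem, map_sub, map_mul, map_one, sub_eq_zero] at hy
    exact IsUnit.of_mul_eq_one _ hy


end helpers

open CategoryTheory.Limits in
/-- Henselian pairs are preserved under limits: for an inverse system (A_j, I_j) of henselian pairs over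
a preordered set J, the limit A = lim A_j with the ideal I = lim I_j (elements all of whose
projections lie in the I_j) is a henselian pair. -/
theorem result (J : Type u) [Preorder J] (F : J ⥤ CommRingCat.{u})
    (I : ∀ j : J, Ideal (F.obj j))
    (hI : ∀ (i j : J) (φ : i ⟶ j), Ideal.map (F.map φ).hom (I i) ≤ I j)
    (h : ∀ j : J, HenselianRing (F.obj j) (I j)) :
    HenselianRing ((Limits.limit F : CommRingCat.{u}) : Type u)
      (⨅ j : J, Ideal.comap (Limits.limit.π F j).hom (I j)) := by
  have hmem : ∀ x : (limit F : CommRingCat.{u}),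
      x ∈ (⨅ j : J, Ideal.comap (Limits.limit.π F j).hom (I j)) ↔
        ∀ j, (limit.π F j).hom x ∈ I j := by
    intro x; simp [Ideal.mem_comap]
  constructor
  · intro x hx
    rw [hmem] at hx
    rw [Ideal.mem_jacobson_bot]
    intro y
    apply isUnit_of_forall
    intro j
    rw [map_add, map_mul, map_one]
    exact Ideal.mem_jacobson_bot.mp ((h j).jac (hx j)) _
  · intro f hf a₀ h₁ h₂
    rw [hmem] at h₁
    rw [isUnit_mk_iff] at h₂
    obtain ⟨y, hy⟩ := h₂
    rw [hmem] at hy
    have hunit : ∀ j, IsUnit (Ideal.Quotient.mk (I j)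
        ((f.map (limit.π F j).hom).derivative.eval ((limit.π F j).hom a₀))) := by
      intro j
      rw [isUnit_mk_iff]
      refine ⟨(limit.π F j).hom y, ?_⟩
      rw [Polynomial.derivative_map, Polynomial.eval_map_apply, ← map_mul,
        ← map_one (limit.π F j).hom, ← map_sub]
      exact hy j
    have key : ∀ j, ∃ a : F.obj j, (f.map (limit.π F j).hom).IsRoot a ∧
        a - (limit.π F j).hom a₀ ∈ I j := by
      intro j
      refine (h j).is_henselian (f.map (limit.π F j).hom) (hf.map _) _ ?_ (hunit j)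
      rw [Polynomial.eval_map_apply]; exact h₁ j
    choose a ha ha' using key
    obtain ⟨z, hz⟩ := exists_of_compatible J F a (fun i j φ => by
      refine root_unique (I j) (h j).jac (f.map (limit.π F j).hom) ((limit.π F j).hom a₀) _ _
        (hunit j) ?_ (ha j) ?_ (ha' j)
      · have : f.map (limit.π F j).hom = (f.map (limit.π F i).hom).map (F.map φ).hom := by
          rw [Polynomial.map_map]
          congr 1
          ext x
          exact (map_π J F i j φ x).symm
        rw [Polynomial.IsRoot.def, this, Polynomial.eval_map_apply, ha i, map_zero]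
      · rw [← map_π J F i j φ a₀, ← map_sub]
        exact hI i j φ (Ideal.mem_map_of_mem _ (ha' i)))
    refine ⟨z, ?_, ?_⟩
    · apply limit_ext'
      intro j
      rw [map_zero, ← Polynomial.eval_map_apply, hz]
      exact ha j
    · rw [hmem]
      intro j
      rw [map_sub, hz]
      exact ha' j

end Groth.Agent.S9302
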