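import Groth.Statements.S9303
import Mathlib

set_option autoImplicit false
universe u
open CAlg

namespace Groth.Agent.S9303

section idem
variable {B D : Type u} [CommRing B] [CommRing D] [Algebra B D] (e : B) (he : IsIdempotentElem e)
  [IsLocalization.Away e D]
include he

lemma F1 : algebraMap B D e = 1 := by
  have hu : IsUnit (algebraMap B D e) := IsLocalization.Away.algebraMap_isUnit e
  have h2 : algebraMap B D e * algebraMap B D e = algebraMap B D e * 1 := by
    rw [← map_mul, he.eq, mul_one]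
  exact hu.mul_left_cancel h2

lemma F2 : Function.Surjective (algebraMap B D) := by
  intro y
  obtain ⟨x, s, rfl⟩ := IsLocalization.exists_mk'_eq (Submonoid.powers e) y
  obtain ⟨n, hn⟩ := s.2
  refine ⟨x, ?_⟩
  have h1 := IsLocalization.mk'_spec D x s
  rw [← hn, map_pow, F1 e he, one_pow, mul_one] at h1
  exact h1.symm

lemma F3 (x : B) : algebraMap B D x = 0 ↔ e * x = 0 := by
  rw [IsLocalization.map_eq_zero_iff (Submonoid.powers e) D x]
  constructor
  · rintro ⟨⟨m, n, hn⟩, hm⟩
    change m * x = 0 at hm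
    change e ^ n = m at hn
    rw [← hn] at hm
    rcases n with _ | n
    · simp only [pow_zero, one_mul] at hm
      rw [hm, mul_zero]
    · rwa [he.pow_succ_eq] at hm
  · intro h
    exact ⟨⟨e, 1, pow_one e⟩, h⟩

end idem

section loc
variable {A : Type u} [CommRing A] (f : A) (D : Type u) [CommRing D] [Algebra A D]

local notation "Df" => Localization (Algebra.algebraMapSubmonoid D (Submonoid.powers f))

lemma G1 (y : Df) : ∃ (d : D) (n : ℕ), algebraMap A Df (f ^ n) * y = algebraMap D Df d := by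
  obtain ⟨d, s, rfl⟩ := IsLocalization.exists_mk'_eq
    (Algebra.algebraMapSubmonoid D (Submonoid.powers f)) y
  obtain ⟨_, ⟨n, rfl⟩, hn⟩ := s.2
  refine ⟨d, n, ?_⟩
  rw [IsScalarTower.algebraMap_apply A D Df, hn, mul_comm]
  exact IsLocalization.mk'_spec _ d s

lemma G3 (d : D) : algebraMap D Df d = 0 ↔ ∃ m : ℕ, algebraMap A D (f ^ m) * d = 0 := by
  rw [IsLocalization.map_eq_zero_iff (Algebra.algebraMapSubmonoid D (Submonoid.powers f)) Df d]
  constructor
  · rintro ⟨⟨_, ⟨_, ⟨m, rfl⟩, rfl⟩⟩, hm⟩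
    exact ⟨m, hm⟩
  · rintro ⟨m, hm⟩
    exact ⟨⟨algebraMap A D (f ^ m), ⟨f ^ m, ⟨m, rfl⟩, rfl⟩⟩, hm⟩

lemma G4 (a : A) : algebraMap (Localization.Away f) Df (algebraMap A (Localization.Away f) a) =
    algebraMap D Df (algebraMap A D a) := by
  rw [← IsScalarTower.algebraMap_apply A (Localization.Away f) Df,
    ← IsScalarTower.algebraMap_apply A D Df]

lemma G5 : IsUnit (algebraMap A Df f) := by
  rw [IsScalarTower.algebraMap_apply A D Df]
  exact IsLocalization.map_units Df (⟨algebraMap A D f, ⟨f, ⟨1, pow_one f⟩, rfl⟩⟩ :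
    Algebra.algebraMapSubmonoid D (Submonoid.powers f))

end loc

section away
variable {A : Type u} [CommRing A] (f : A)

lemma H1 (x : Localization.Away f) : ∃ (a : A) (n : ℕ),
    algebraMap A (Localization.Away f) (f ^ n) * x = algebraMap A (Localization.Away f) a := by
  obtain ⟨a, s, rfl⟩ := IsLocalization.exists_mk'_eq (Submonoid.powers f) x
  obtain ⟨n, hn⟩ := s.2
  refine ⟨a, n, ?_⟩
  change f ^ n = (s : A) at hn
  rw [hn, mul_comm]
  exact IsLocalization.mk'_spec _ a s

lemma H3 (a : A) : algebraMap A (Localization.Away f) a = 0 ↔ ∃ m : ℕ, f ^ m * a = 0 := by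
  rw [IsLocalization.map_eq_zero_iff (Submonoid.powers f) (Localization.Away f) a]
  constructor
  · rintro ⟨⟨c, m, hm⟩, hc⟩
    change c * a = 0 at hc
    change f ^ m = c at hm
    exact ⟨m, by rw [hm]; exact hc⟩
  · rintro ⟨m, hm⟩
    exact ⟨⟨f ^ m, m, rfl⟩, hm⟩

lemma H5 (n : ℕ) : IsUnit (algebraMap A (Localization.Away f) (f ^ n)) := by
  rw [map_pow]
  exact (IsLocalization.Away.algebraMap_isUnit f).pow n

end away

section main
variable {A : Type u} [CommRing A] (I : Ideal A) (C : Type u) [CommRing C] [Algebra A C]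

/-- the ideal `K = (Γ_I(A) : ker (A → C))` -/
def Kideal : Ideal A where
  carrier := {a | ∀ ν ∈ RingHom.ker (algebraMap A C), ∀ g ∈ I, ∃ m : ℕ, g ^ m * (ν * a) = 0}
  add_mem' := by
    intro a b ha hb ν hν g hg
    obtain ⟨m₁, h₁⟩ := ha ν hν g hg
    obtain ⟨m₂, h₂⟩ := hb ν hν g hg
    refine ⟨m₁ + m₂, ?_⟩
    rw [pow_add]
    linear_combination g ^ m₂ * h₁ + g ^ m₁ * h₂
  zero_mem' := fun ν _ g _ => ⟨0, by simp⟩
  smul_mem' := by
    intro c a ha ν hν g hg
    obtain ⟨m, hm⟩ := ha ν hν g hg
    refine ⟨m, ?_⟩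
    rw [smul_eq_mul]
    linear_combination c * hm

lemma mem_Kideal {a : A} : a ∈ Kideal I C ↔
    ∀ ν ∈ RingHom.ker (algebraMap A C), ∀ g ∈ I, ∃ m : ℕ, g ^ m * (ν * a) = 0 := Iff.rfl

variable {I C}

/-- data attached to `f ∈ I` -/
structure Dat (f : A) where
  e : Localization.Away f
  he : IsIdempotentElem e
  loc : IsLocalization.Away e (Localization (Algebra.algebraMapSubmonoid C (Submonoid.powers f)))

variable {f : A} (dat : Dat (C := C) f)

lemma P1 (ν : A) (hν : ν ∈ RingHom.ker (algebraMap A C)) :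
    dat.e * algebraMap A (Localization.Away f) ν = 0 := by
  haveI := dat.loc
  rw [← F3 dat.e dat.he (D := Localization (Algebra.algebraMapSubmonoid C (Submonoid.powers f))),
    G4 f C ν, (RingHom.mem_ker).mp hν, map_zero]

lemma P2 : ∃ (a : A) (n : ℕ), a ∈ RingHom.ker (algebraMap A C) ∧
    algebraMap A (Localization.Away f) (f ^ n) * (1 - dat.e) =
      algebraMap A (Localization.Away f) a := by
  haveI := dat.loc
  obtain ⟨a₀, n₀, h₀⟩ := H1 f (1 - dat.e)
  have h1 : algebraMap (Localization.Away f)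
      (Localization (Algebra.algebraMapSubmonoid C (Submonoid.powers f)))
      (algebraMap A (Localization.Away f) a₀) = 0 := by
    rw [← h₀, map_mul, map_sub, map_one, F1 dat.e dat.he, sub_self, mul_zero]
  rw [G4 f C a₀, G3 f C] at h1
  obtain ⟨m, hm⟩ := h1
  refine ⟨f ^ m * a₀, n₀ + m, ?_, ?_⟩
  · rw [RingHom.mem_ker, map_mul]; exact hm
  · rw [pow_add, map_mul, map_mul, ← h₀]; ring

lemma K1 (hf : f ∈ I) (b : A) (hb : b ∈ Kideal I C) :
    (1 - dat.e) * algebraMap A (Localization.Away f) b = 0 := by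
  obtain ⟨a, n, ha, han⟩ := P2 dat
  obtain ⟨m, hm⟩ := hb a ha f hf
  have h0 : algebraMap A (Localization.Away f) (a * b) = 0 := (H3 f (a * b)).mpr ⟨m, hm⟩
  have h1 : algebraMap A (Localization.Away f) (f ^ n) *
      ((1 - dat.e) * algebraMap A (Localization.Away f) b) = 0 := by
    rw [← mul_assoc, han, ← map_mul, h0]
  exact (H5 f n).mul_right_eq_zero.mp h1

lemma Pstar (d : A) (hd : (1 - dat.e) * algebraMap A (Localization.Away f) d = 0)
    (ν : A) (hν : ν ∈ RingHom.ker (algebraMap A C)) : ∃ m : ℕ, f ^ m * (ν * d) = 0 := by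
  rw [← H3 f (ν * d), map_mul]
  have h1 : algebraMap A (Localization.Away f) d = dat.e * algebraMap A (Localization.Away f) d := by
    linear_combination hd
  rw [h1, ← mul_assoc, mul_comm _ dat.e, P1 dat ν hν, zero_mul]

lemma Kg (d : A) (hd : (1 - dat.e) * algebraMap A (Localization.Away f) d = 0) {g : A}
    (datg : Dat (C := C) g) :
    ∃ M : ℕ, ∀ M' ≥ M, ∀ ν ∈ RingHom.ker (algebraMap A C),
      ∃ m : ℕ, g ^ m * (ν * (f ^ M' * d)) = 0 := by
  obtain ⟨a, n, ha, han⟩ := P2 datg
  obtain ⟨M, hM⟩ := Pstar dat d hd a ha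
  refine ⟨M, fun M' hM' ν hν => ?_⟩
  have hM'' : f ^ M' * (a * d) = 0 := by
    obtain ⟨k, rfl⟩ := Nat.exists_eq_add_of_le hM'
    rw [pow_add]; linear_combination f ^ k * hM
  rw [← H3 g]
  have h1 : algebraMap A (Localization.Away g) ν =
      (1 - datg.e) * algebraMap A (Localization.Away g) ν := by
    have := P1 datg ν hν
    linear_combination this
  have h2 : algebraMap A (Localization.Away g) (g ^ n) *
      algebraMap A (Localization.Away g) (ν * (f ^ M' * d)) = 0 := by
    rw [map_mul (algebraMap A (Localization.Away g)) ν, h1]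
    have h3 : algebraMap A (Localization.Away g) (g ^ n) *
        ((1 - datg.e) * algebraMap A (Localization.Away g) ν *
          algebraMap A (Localization.Away g) (f ^ M' * d)) =
        algebraMap A (Localization.Away g) (ν * (f ^ M' * (a * d))) := by
      simp only [map_mul]
      rw [← han]
      ring
    rw [h3, hM'', mul_zero, map_zero]
  exact (H5 g n).mul_right_eq_zero.mp h2

lemma K2 (hI : I.FG) (hall : ∀ g ∈ I, Nonempty (Dat (C := C) g)) (d : A)
    (hd : (1 - dat.e) * algebraMap A (Localization.Away f) d = 0) :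
    ∃ M : ℕ, f ^ M * d ∈ Kideal I C := by
  obtain ⟨s, hs⟩ := hI
  have hsI : ∀ g ∈ s, g ∈ I := fun g hg => hs ▸ Ideal.subset_span hg
  have hex : ∀ g : A, ∃ M : ℕ, g ∈ s → ∀ M' ≥ M, ∀ ν ∈ RingHom.ker (algebraMap A C),
      ∃ m : ℕ, g ^ m * (ν * (f ^ M' * d)) = 0 := by
    intro g
    by_cases hg : g ∈ s
    · obtain ⟨datg⟩ := hall g (hsI g hg)
      obtain ⟨M, hM⟩ := Kg dat d hd datg
      exact ⟨M, fun _ => hM⟩
    · exact ⟨0, fun h => absurd h hg⟩
  choose Mf hMf using hex
  refine ⟨s.sup Mf, ?_⟩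
  intro ν hν g hg
  set y := ν * (f ^ (s.sup Mf) * d) with hy
  let ann : Ideal A := LinearMap.ker (LinearMap.toSpanSingleton A A y)
  have hann : ∀ c, c ∈ ann ↔ c * y = 0 := fun c => by
    simp [ann, LinearMap.mem_ker, LinearMap.toSpanSingleton_apply]
  have hle : I ≤ ann.radical := by
    rw [← hs, Ideal.span_le]
    intro g' hg'
    obtain ⟨m, hm⟩ := hMf g' hg' (s.sup Mf) (Finset.le_sup hg') ν hν
    exact ⟨m, (hann _).mpr hm⟩
  obtain ⟨k, hk⟩ := Ideal.exists_pow_le_of_le_radical_of_fg hle ⟨s, hs⟩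
  exact ⟨k, (hann _).mp (hk (Ideal.pow_mem_pow hg k))⟩

end main

/-- Let A be a ring, I a finitely generated ideal and A → C a ring map such that for every f ∈ I the map
A_f → C_f is the localization of A_f at an idempotent. Then there is a surjection A → C' (C' = A/K
for an ideal K) such that A_f → (C × C')_f is an isomorphism for every f ∈ I. -/
theorem result (A : Type u) [CommRing A]
    (I : Ideal A) (hI : I.FG) (C : Type u) [CommRing C] [Algebra A C]
    (h : ∀ f ∈ I, ∃ e : Localization.Away f, IsIdempotentElem e ∧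
      IsLocalization.Away e (Localization (Algebra.algebraMapSubmonoid C (Submonoid.powers f)))) :
    ∃ K : Ideal A, ∀ f ∈ I, Function.Bijective
      (algebraMap (Localization.Away f)
        (Localization (Algebra.algebraMapSubmonoid (C × (A ⧸ K)) (Submonoid.powers f)))) := by
  refine ⟨Kideal I C, fun f hf => ?_⟩
  obtain ⟨e, he, hloc⟩ := h f hf
  let dat : Dat (C := C) f := ⟨e, he, hloc⟩
  have hall : ∀ g ∈ I, Nonempty (Dat (C := C) g) := fun g hg =>
    let ⟨e, he, hl⟩ := h g hg; ⟨⟨e, he, hl⟩⟩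
  constructor
  · rw [injective_iff_map_eq_zero]
    intro x hx
    obtain ⟨a, n, han⟩ := H1 f x
    have h1 : algebraMap (Localization.Away f)
        (Localization (Algebra.algebraMapSubmonoid (C × (A ⧸ Kideal I C)) (Submonoid.powers f)))
        (algebraMap A (Localization.Away f) a) = 0 := by
      rw [← han, map_mul, hx, mul_zero]
    rw [G4 f (C × (A ⧸ Kideal I C)) a, G3 f (C × (A ⧸ Kideal I C))] at h1
    obtain ⟨m, hm⟩ := h1
    rw [← map_mul] at hm
    have hC : algebraMap A C (f ^ m * a) = 0 := congrArg Prod.fst hm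
    have hK : f ^ m * a ∈ Kideal I C := by
      have := congrArg Prod.snd hm
      exact Ideal.Quotient.eq_zero_iff_mem.mp this
    have hb1 : e * algebraMap A (Localization.Away f) (f ^ m * a) = 0 :=
      P1 dat _ (RingHom.mem_ker.mpr hC)
    have hb2 : (1 - e) * algebraMap A (Localization.Away f) (f ^ m * a) = 0 := K1 dat hf _ hK
    have hb : algebraMap A (Localization.Away f) (f ^ m * a) = 0 := by
      linear_combination hb1 + hb2
    rw [map_mul] at hb
    have ha0 := (H5 f m).mul_right_eq_zero.mp hb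
    rw [ha0] at han
    exact (H5 f n).mul_right_eq_zero.mp han
  · intro y
    obtain ⟨t, n, htn⟩ := G1 f (C × (A ⧸ Kideal I C)) y
    obtain ⟨c, abar⟩ := t
    obtain ⟨a, rfl⟩ := Ideal.Quotient.mk_surjective abar
    haveI := hloc
    obtain ⟨x₁, hx₁⟩ := F2 e he
      (D := Localization (Algebra.algebraMapSubmonoid C (Submonoid.powers f)))
      (algebraMap C _ c)
    set x₂ := e * x₁ + (1 - e) * algebraMap A (Localization.Away f) a with hx₂
    have claim : algebraMap (Localization.Away f)
        (Localization (Algebra.algebraMapSubmonoid (C × (A ⧸ Kideal I C)) (Submonoid.powers f))) x₂ =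
        algebraMap (C × (A ⧸ Kideal I C)) _ (c, Ideal.Quotient.mk _ a) := by
      obtain ⟨b, N, hbN⟩ := H1 f x₂
      have hu : IsUnit (algebraMap A
          (Localization (Algebra.algebraMapSubmonoid (C × (A ⧸ Kideal I C)) (Submonoid.powers f)))
          (f ^ N)) := by
        rw [map_pow]; exact (G5 f (C × (A ⧸ Kideal I C))).pow N
      apply hu.mul_left_cancel
      have e1 : algebraMap A
          (Localization (Algebra.algebraMapSubmonoid (C × (A ⧸ Kideal I C)) (Submonoid.powers f)))
          (f ^ N) * algebraMap (Localization.Away f) _ x₂ =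
          algebraMap (C × (A ⧸ Kideal I C)) _ (algebraMap A (C × (A ⧸ Kideal I C)) b) := by
        rw [IsScalarTower.algebraMap_apply A (Localization.Away f), ← map_mul, hbN, G4]
      have e2 : algebraMap A
          (Localization (Algebra.algebraMapSubmonoid (C × (A ⧸ Kideal I C)) (Submonoid.powers f)))
          (f ^ N) * algebraMap (C × (A ⧸ Kideal I C)) _ (c, Ideal.Quotient.mk _ a) =
          algebraMap (C × (A ⧸ Kideal I C)) _
            (algebraMap A (C × (A ⧸ Kideal I C)) (f ^ N) * (c, Ideal.Quotient.mk _ a)) := by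
        rw [IsScalarTower.algebraMap_apply A (C × (A ⧸ Kideal I C)), map_mul]
      rw [e1, e2, ← sub_eq_zero, ← map_sub, G3 f (C × (A ⧸ Kideal I C))]
      have hCcomp : ∃ m₁ : ℕ, algebraMap A C (f ^ m₁) *
          (algebraMap A C b - algebraMap A C (f ^ N) * c) = 0 := by
        rw [← G3 f C, map_sub, map_mul, ← hx₁, ← G4 f C b, ← hbN, ← G4 f C (f ^ N), ← map_mul,
          ← map_sub]
        have : algebraMap A (Localization.Away f) (f ^ N) * x₂ -
            algebraMap A (Localization.Away f) (f ^ N) * x₁ =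
            (1 - e) * (algebraMap A (Localization.Away f) (f ^ N) *
              (algebraMap A (Localization.Away f) a - x₁)) := by
          rw [hx₂]; ring
        rw [this, map_mul, map_sub, map_one, F1 e he, sub_self, zero_mul]
      have hKcomp : ∃ m₂ : ℕ, f ^ m₂ * (b - f ^ N * a) ∈ Kideal I C := by
        apply K2 dat hI hall
        rw [map_sub, ← hbN, map_mul]
        have hee : (1 - e) * e = 0 := by rw [sub_mul, one_mul, he.eq, sub_self]
        rw [hx₂]
        linear_combination (algebraMap A (Localization.Away f) (f ^ N) *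
          (x₁ - algebraMap A (Localization.Away f) a)) * hee
      obtain ⟨m₁, hm₁⟩ := hCcomp
      obtain ⟨m₂, hm₂⟩ := hKcomp
      refine ⟨m₁ + m₂, ?_⟩
      apply Prod.ext
      · change algebraMap A C (f ^ (m₁ + m₂)) *
          (algebraMap A C b - algebraMap A C (f ^ N) * c) = 0
        rw [pow_add, map_mul]
        linear_combination algebraMap A C (f ^ m₂) * hm₁
      · change Ideal.Quotient.mk (Kideal I C) (f ^ (m₁ + m₂)) *
          (Ideal.Quotient.mk (Kideal I C) b - Ideal.Quotient.mk (Kideal I C) (f ^ N) *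
            Ideal.Quotient.mk (Kideal I C) a) = 0
        rw [← map_mul, ← map_sub, ← map_mul, Ideal.Quotient.eq_zero_iff_mem, pow_add, mul_assoc]
        exact Ideal.mul_mem_left _ _ hm₂
    obtain ⟨u, hu⟩ := H5 f n
    refine ⟨↑u⁻¹ * x₂, ?_⟩
    have hu' : IsUnit (algebraMap A
        (Localization (Algebra.algebraMapSubmonoid (C × (A ⧸ Kideal I C)) (Submonoid.powers f)))
        (f ^ n)) := by
      rw [map_pow]; exact (G5 f (C × (A ⧸ Kideal I C))).pow n
    apply hu'.mul_left_cancel
    rw [htn, map_mul, claim, ← mul_assoc,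
      IsScalarTower.algebraMap_apply A (Localization.Away f), ← hu, ← map_mul, Units.mul_inv,
      map_one, one_mul]

end Groth.Agent.S9303
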