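import Groth.Statements.S9305
import Mathlib
import Groth.Agent.Lib.Helper12.NormRedMaxC

set_option autoImplicit false
universe u
open CAlg

namespace Groth.Agent.S9305

open TensorProduct in
/-- Let A be a local ring with finitely many minimal primes, A' the integral closure of A_red in its
total ring of fractions and A^sh a strict henselization of A. In the ring A' ⊗_A A^sh, each minimal
prime lies in exactly one maximal ideal and each maximal ideal contains exactly one minimal prime. -/
theorem result {A Ash : Type u} [CommRing A]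
    [IsLocalRing A] (hfin : (minimalPrimes A).Finite) [CommRing Ash] [IsLocalRing Ash] [Algebra A Ash]
    [IsLocalHom (algebraMap A Ash)] [Hensel.IsStrictHenselization A Ash] :
    (∀ q ∈ minimalPrimes ((CAlg2.normRed A) ⊗[A] Ash),
        ∃! m : Ideal ((CAlg2.normRed A) ⊗[A] Ash), m.IsMaximal ∧ q ≤ m) ∧
      (∀ m : Ideal ((CAlg2.normRed A) ⊗[A] Ash), m.IsMaximal →
        ∃! q : Ideal ((CAlg2.normRed A) ⊗[A] Ash), q ∈ minimalPrimes ((CAlg2.normRed A) ⊗[A] Ash) ∧ q ≤ m) := by
  classical
  constructor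
  · intro q hq
    haveI : q.IsPrime := hq.1.1
    obtain ⟨m, hm, hqm⟩ := Ideal.exists_le_maximal q (Ideal.IsPrime.ne_top ‹_›)
    refine ⟨m, ⟨hm, hqm⟩, ?_⟩
    rintro m' ⟨hm', hqm'⟩
    exact Groth.Agent.Lib.Helper12.NormRedMax.maximal_unique A Ash hm' hm hqm' hqm
  · intro m hm
    haveI : m.IsPrime := hm.isPrime
    obtain ⟨q, hq, hqm⟩ := Ideal.exists_minimalPrimes_le (bot_le : (⊥ : Ideal _) ≤ m)
    refine ⟨q, ⟨hq, hqm⟩, ?_⟩
    rintro q' ⟨hq', hqm'⟩
    exact Groth.Agent.Lib.Helper12.NormRedMax.minimalPrime_unique A Ash hfin hq' hq hm.ne_top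
      hqm' hqm

end Groth.Agent.S9305
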