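import Groth.Statements.S9313
import Mathlib

set_option autoImplicit false
universe u
open CAlg

namespace Groth.Agent.S9313

section Good

variable (A : Type u) {B : Type u} [CommRing A] [CommRing B] [Algebra A B]

/-- The ideal `{x ∈ B' | x b ∈ B'}` of `B'`. -/
def colon (b : B) : Ideal (integralClosure A B) where
  carrier := {x | (x : B) * b ∈ integralClosure A B}
  add_mem' := by
    intro x y hx hy
    simp only [Set.mem_setOf_eq] at *
    rw [Subalgebra.coe_add, add_mul]
    exact add_mem hx hy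
  zero_mem' := by simp
  smul_mem' := by
    intro c x hx
    simp only [Set.mem_setOf_eq, smul_eq_mul, Subalgebra.coe_mul, mul_assoc] at *
    exact mul_mem c.2 hx

/-- The ideal of "good" elements: `g ∈ B'` such that `B'_g = B_g`. -/
def J : Ideal (integralClosure A B) := ⨅ b : B, (colon A b).radical

variable {A}

theorem mem_J {g : integralClosure A B} :
    g ∈ J (B := B) A ↔ ∀ b : B, ∃ m : ℕ, (g : B) ^ m * b ∈ integralClosure A B := by
  simp only [J, Ideal.mem_iInf, Ideal.mem_radical_iff]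
  rfl

/-- The ideal `{x ∈ B' | x b ∈ J}`. -/
def colonJ (A : Type u) {B : Type u} [CommRing A] [CommRing B] [Algebra A B] (b : B) :
    Ideal (integralClosure A B) where
  carrier := {x | ∃ c ∈ J (B := B) A, (c : B) = (x : B) * b}
  add_mem' := by
    rintro x y ⟨c, hc, hcx⟩ ⟨d, hd, hdy⟩
    exact ⟨c + d, add_mem hc hd, by rw [Subalgebra.coe_add, Subalgebra.coe_add, add_mul, hcx, hdy]⟩
  zero_mem' := ⟨0, zero_mem _, by simp⟩
  smul_mem' := by
    rintro y x ⟨c, hc, hcx⟩
    exact ⟨y * c, Ideal.mul_mem_left _ _ hc, by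
      simp only [smul_eq_mul, Subalgebra.coe_mul, hcx, mul_assoc]⟩

theorem J_le_radical_colonJ (b : B) : J (B := B) A ≤ (colonJ A b).radical := by
  intro g hg
  obtain ⟨m, hm⟩ := mem_J.mp hg b
  refine ⟨m + 1, ⟨g * ⟨_, hm⟩, Ideal.mul_mem_right _ _ hg, ?_⟩⟩
  simp only [Subalgebra.coe_mul, Subalgebra.coe_pow, pow_succ]
  ring

end Good

section WQF

variable (A B : Type u) [CommRing A] [CommRing B] [Algebra A B] (I : Ideal A)
  (e : B ⧸ Ideal.map (algebraMap A B) I)

/-- The projection `B → C₁ = (B/IB)/(1-e)`. -/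
def toC : B →ₐ[A] ((B ⧸ Ideal.map (algebraMap A B) I) ⧸ Ideal.span {1 - e}) :=
  (Ideal.Quotient.mkₐ A _).comp (Ideal.Quotient.mkₐ A _)

theorem toC_apply (b : B) : toC A B I e b =
    Ideal.Quotient.mk _ (Ideal.Quotient.mk (Ideal.map (algebraMap A B) I) b) := rfl

theorem toC_surjective : Function.Surjective (toC A B I e) := by
  intro x
  obtain ⟨y, rfl⟩ := Ideal.Quotient.mk_surjective x
  obtain ⟨b, rfl⟩ := Ideal.Quotient.mk_surjective y
  exact ⟨b, rfl⟩

variable {A B I e}

theorem weaklyQuasiFiniteAt_of (he : IsIdempotentElem e)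
    [Module.Finite A ((B ⧸ Ideal.map (algebraMap A B) I) ⧸ Ideal.span {1 - e})]
    (q : Ideal B) [q.IsPrime] (hIq : I.map (algebraMap A B) ≤ q) (e' : B)
    (he' : Ideal.Quotient.mk _ e' = e) (he'q : e' ∉ q) :
    Algebra.WeaklyQuasiFiniteAt A q := by
  have hI : I.map (algebraMap A B) ≤ (q.under A).map (algebraMap A B) := by
    apply Ideal.map_mono
    intro i hi
    exact hIq (Ideal.mem_map_of_mem _ hi)
  have hpq : (q.under A).map (algebraMap A B) ≤ q := Ideal.map_comap_le
  -- the map ψ₀ : B → L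
  let ψ₀ : B →ₐ[A] Localization.AtPrime
      (q.map (Ideal.Quotient.mk ((q.under A).map (algebraMap A B)))) :=
    (IsScalarTower.toAlgHom A (B ⧸ (q.under A).map (algebraMap A B)) _).comp
      (Ideal.Quotient.mkₐ A _)
  have hψ₀ : ∀ b : B, ψ₀ b = algebraMap (B ⧸ (q.under A).map (algebraMap A B)) _
      (Ideal.Quotient.mk _ b) := fun b => rfl
  have hunit : ∀ s : B, s ∉ q → IsUnit (ψ₀ s) := by
    intro s hs
    rw [hψ₀]
    refine IsLocalization.map_units _ (⟨Ideal.Quotient.mk _ s, ?_⟩ :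
      (q.map (Ideal.Quotient.mk ((q.under A).map (algebraMap A B)))).primeCompl)
    show _ ∉ (q.map (Ideal.Quotient.mk ((q.under A).map (algebraMap A B))))
    rwa [Ideal.mem_quotient_iff_mem hpq]
  have hkill : ∀ a ∈ I.map (algebraMap A B), ψ₀ a = 0 := by
    intro a ha
    rw [hψ₀, Ideal.Quotient.eq_zero_iff_mem.mpr (hI ha), map_zero]
  let ψ₁ : (B ⧸ I.map (algebraMap A B)) →ₐ[A] Localization.AtPrime
      (q.map (Ideal.Quotient.mk ((q.under A).map (algebraMap A B)))) :=
    Ideal.Quotient.liftₐ _ ψ₀ hkill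
  have hψ₁ : ∀ b : B, ψ₁ (Ideal.Quotient.mk _ b) = ψ₀ b := fun b => rfl
  have hkill₁ : ∀ a ∈ Ideal.span {1 - e}, ψ₁ a = 0 := by
    intro a ha
    obtain ⟨c, rfl⟩ := Ideal.mem_span_singleton'.mp ha
    have h1 : ψ₁ e * ψ₁ (1 - e) = 0 := by
      rw [← map_mul, mul_sub, mul_one, he.eq, sub_self, map_zero]
    have h2 : IsUnit (ψ₁ e) := by
      rw [← he', hψ₁]
      exact hunit e' he'q
    rw [map_mul, (h2.mul_right_eq_zero).mp h1, mul_zero]
  let ψ : ((B ⧸ I.map (algebraMap A B)) ⧸ Ideal.span {1 - e}) →ₐ[A] Localization.AtPrime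
      (q.map (Ideal.Quotient.mk ((q.under A).map (algebraMap A B)))) :=
    Ideal.Quotient.liftₐ _ ψ₁ hkill₁
  have hψ : ∀ b : B, ψ (toC A B I e b) = ψ₀ b := fun b => rfl
  refine Algebra.QuasiFinite.of_forall_exists_mul_mem_range ψ fun x => ?_
  obtain ⟨t, ⟨s, hs⟩, rfl⟩ := IsLocalization.exists_mk'_eq
    (q.map (Ideal.Quotient.mk ((q.under A).map (algebraMap A B)))).primeCompl x
  obtain ⟨t, rfl⟩ := Ideal.Quotient.mk_surjective t
  obtain ⟨s, rfl⟩ := Ideal.Quotient.mk_surjective s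
  have hsq : s ∉ q := by
    intro h
    exact hs ((Ideal.mem_quotient_iff_mem hpq).mpr h)
  refine ⟨toC A B I e s, ?_, toC A B I e t, ?_⟩
  · rw [hψ]
    exact hunit s hsq
  · show ψ (toC A B I e t) = _
    rw [hψ, hψ, hψ₀, hψ₀]
    exact (IsLocalization.mk'_spec _ _ _).symm

end WQF

section ZMT

variable {A B : Type u} [CommRing A] [CommRing B] [Algebra A B]

theorem exists_mem_J_notMem [Algebra.FiniteType A B] (q : Ideal B) [q.IsPrime]
    [Algebra.WeaklyQuasiFiniteAt A q] : ∃ g ∈ J (B := B) A, (g : B) ∉ q := by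
  obtain ⟨r, hrq, hrint, H⟩ := Algebra.zariskisMainProperty_iff.mp
    (Algebra.ZariskisMainProperty.of_finiteType_of_weaklyQuasiFiniteAt (R := A) q)
  exact ⟨⟨r, hrint⟩, mem_J.mpr H, hrq⟩

theorem bijective_of_mem_J {g : integralClosure A B} (hg : g ∈ J (B := B) A) :
    Function.Bijective (algebraMap (Localization.Away g)
      (Localization (Algebra.algebraMapSubmonoid B (Submonoid.powers g)))) := by
  refine ⟨localizationAlgebra_injective _ _ Subtype.val_injective, fun x => ?_⟩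
  obtain ⟨⟨b, s⟩, rfl⟩ := IsLocalization.mk'_surjective
    (Algebra.algebraMapSubmonoid B (Submonoid.powers g)) x
  obtain ⟨s, hs⟩ := s
  obtain ⟨_, ⟨k, rfl⟩, rfl⟩ := hs
  obtain ⟨m, hm⟩ := mem_J.mp hg b
  refine ⟨IsLocalization.mk' _ (⟨_, hm⟩ : integralClosure A B)
    (⟨g ^ (m + k), ⟨m + k, rfl⟩⟩ : Submonoid.powers g), ?_⟩
  rw [localizationAlgebraMap_def, IsLocalization.map_mk', IsLocalization.mk'_eq_iff_eq]
  congr 1
  simp only [Subalgebra.algebraMap_def, map_pow, pow_add]
  show (g : B) ^ k * ((g : B) ^ m * b) = (g : B) ^ m * (g : B) ^ k * b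
  ring

/-- Multiplying an element of `IB` by a power of a good element lands in `IB'`. -/
theorem exists_pow_mul_mem (I : Ideal A) {g : integralClosure A B} (hg : g ∈ J (B := B) A)
    {z : B} (hz : z ∈ I.map (algebraMap A B)) :
    ∃ (m : ℕ) (w : integralClosure A B), w ∈ I.map (algebraMap A (integralClosure A B)) ∧
      (w : B) = (g : B) ^ m * z := by
  induction hz using Submodule.span_induction with
  | mem x hx =>
    obtain ⟨i, hi, rfl⟩ := hx
    exact ⟨0, algebraMap A _ i, Ideal.mem_map_of_mem _ hi, by simp⟩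
  | zero => exact ⟨0, 0, zero_mem _, by simp⟩
  | add x y _ _ hx hy =>
    obtain ⟨m₁, w₁, hw₁, h₁⟩ := hx
    obtain ⟨m₂, w₂, hw₂, h₂⟩ := hy
    refine ⟨m₁ + m₂, g ^ m₂ * w₁ + g ^ m₁ * w₂,
      add_mem (Ideal.mul_mem_left _ _ hw₁) (Ideal.mul_mem_left _ _ hw₂), ?_⟩
    simp only [Subalgebra.coe_add, Subalgebra.coe_mul, Subalgebra.coe_pow, h₁, h₂, pow_add]
    ring
  | smul b x _ hx =>
    obtain ⟨m, w, hw, h⟩ := hx
    obtain ⟨k, hk⟩ := mem_J.mp hg b
    refine ⟨m + k, ⟨_, hk⟩ * w, Ideal.mul_mem_left _ _ hw, ?_⟩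
    simp only [Subalgebra.coe_mul, h, pow_add, smul_eq_mul]
    ring

theorem fix_idempotent (I : Ideal A) (e : B ⧸ I.map (algebraMap A B)) (he : IsIdempotentElem e)
    {g : integralClosure A B} (hg : g ∈ J (B := B) A)
    (hge : Ideal.Quotient.mk (I.map (algebraMap A B)) (g : B) = e) :
    ∃ g' ∈ J (B := B) A,
      IsIdempotentElem (Ideal.Quotient.mk (I.map (algebraMap A (integralClosure A B))) g') ∧
      Ideal.Quotient.mk (I.map (algebraMap A B)) (g' : B) = e := by
  have hz : (g : B) ^ 2 - g ∈ I.map (algebraMap A B) := by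
    rw [← Ideal.Quotient.eq_zero_iff_mem, map_sub, map_pow, hge, pow_two, he.eq, sub_self]
  obtain ⟨m, w, hw, hwz⟩ := exists_pow_mul_mem I hg hz
  have hw' : g ^ m * (g ^ 2 - g) = w := Subtype.ext (by
    simp only [Subalgebra.coe_mul, Subalgebra.coe_pow, Subalgebra.coe_sub, hwz])
  have h1 : g ^ (m + 1) * (1 - g) ^ (m + 1) ∈ I.map (algebraMap A (integralClosure A B)) := by
    have : g ^ (m + 1) * (1 - g) ^ (m + 1) = (-(1 - g) ^ m) * (g ^ m * (g ^ 2 - g)) := by ring
    rw [this, hw']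
    exact Ideal.mul_mem_left _ _ hw
  have hd1 : g ^ (m + 1) ∣ 1 - (1 - g ^ (m + 1)) ^ (m + 1) := by
    have := sub_dvd_pow_sub_pow 1 (1 - g ^ (m + 1)) (m + 1)
    simpa using this
  have hd2 : (1 - g) ^ (m + 1) ∣ (1 - g ^ (m + 1)) ^ (m + 1) := by
    apply pow_dvd_pow_of_dvd
    have := sub_dvd_pow_sub_pow 1 g (m + 1)
    simpa using this
  refine ⟨1 - (1 - g ^ (m + 1)) ^ (m + 1), ?_, ?_, ?_⟩
  · obtain ⟨t, ht⟩ := hd1
    rw [ht, pow_succ, mul_assoc, mul_comm (g ^ m), mul_assoc]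
    exact Ideal.mul_mem_right _ _ hg
  · have hmem : (1 - (1 - g ^ (m + 1)) ^ (m + 1)) * ((1 - g ^ (m + 1)) ^ (m + 1)) ∈
        I.map (algebraMap A (integralClosure A B)) :=
      Ideal.mem_of_dvd _ (mul_dvd_mul hd1 hd2) h1
    show _ * _ = _
    rw [← map_mul, ← sub_eq_zero, ← map_sub, Ideal.Quotient.eq_zero_iff_mem]
    have : (1 - (1 - g ^ (m + 1)) ^ (m + 1)) * (1 - (1 - g ^ (m + 1)) ^ (m + 1)) -
        (1 - (1 - g ^ (m + 1)) ^ (m + 1)) =
        -((1 - (1 - g ^ (m + 1)) ^ (m + 1)) * ((1 - g ^ (m + 1)) ^ (m + 1))) := by ring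
    rw [this]
    exact neg_mem hmem
  · simp only [Subalgebra.coe_sub, Subalgebra.coe_one, Subalgebra.coe_pow, map_sub, map_one,
      map_pow, hge]
    rw [he.pow_succ_eq, he.one_sub.pow_succ_eq, sub_sub_cancel]

end ZMT

section Main

variable {A B : Type u} [CommRing A] [CommRing B] [Algebra A B] (I : Ideal A)
  (e : B ⧸ Ideal.map (algebraMap A B) I)

/-- Elements of `C₁` which are images of good elements of `B'` lying in `e (B/IB)`. -/
def N : Submodule A ((B ⧸ Ideal.map (algebraMap A B) I) ⧸ Ideal.span {1 - e}) where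
  carrier := {y | ∃ g ∈ J (B := B) A, toC A B I e (g : B) = y ∧
    Ideal.Quotient.mk (I.map (algebraMap A B)) (g : B) * e = Ideal.Quotient.mk _ (g : B)}
  add_mem' := by
    rintro x y ⟨g, hg, rfl, hge⟩ ⟨h, hh, rfl, hhe⟩
    exact ⟨g + h, add_mem hg hh, by simp, by
      rw [Subalgebra.coe_add, map_add, add_mul, hge, hhe]⟩
  zero_mem' := ⟨0, zero_mem _, by simp, by simp⟩
  smul_mem' := by
    rintro a x ⟨g, hg, rfl, hge⟩
    refine ⟨a • g, ?_, ?_, ?_⟩
    · rw [Algebra.smul_def]
      exact Ideal.mul_mem_left _ _ hg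
    · rw [Subalgebra.coe_smul, map_smul]
    · rw [Subalgebra.coe_smul, Algebra.smul_def, map_mul, mul_assoc, hge]

variable {I e}

theorem exists_mem_J_lift [Algebra.FiniteType A B] (he : IsIdempotentElem e)
    [Module.Finite A ((B ⧸ Ideal.map (algebraMap A B) I) ⧸ Ideal.span {1 - e})] :
    ∃ g ∈ J (B := B) A, Ideal.Quotient.mk (I.map (algebraMap A B)) (g : B) = e := by
  classical
  obtain ⟨e', he'⟩ := Ideal.Quotient.mk_surjective e
  have htoCe : toC A B I e e' = 1 := by
    rw [toC_apply, he']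
    have h0 : Ideal.Quotient.mk (Ideal.span {1 - e}) (1 - e) = 0 :=
      Ideal.Quotient.eq_zero_iff_mem.mpr (Ideal.mem_span_singleton_self _)
    rw [map_sub, map_one, sub_eq_zero] at h0
    exact h0.symm
  obtain ⟨sgen, hsgen⟩ := Module.Finite.fg_top (R := A)
    (M := (B ⧸ Ideal.map (algebraMap A B) I) ⧸ Ideal.span {1 - e})
  have hlift : ∀ c : (B ⧸ Ideal.map (algebraMap A B) I) ⧸ Ideal.span {1 - e},
      ∃ b : B, toC A B I e b = c ∧ Ideal.Quotient.mk (I.map (algebraMap A B)) b * e =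
        Ideal.Quotient.mk (I.map (algebraMap A B)) b := by
    intro c
    obtain ⟨b₀, rfl⟩ := toC_surjective A B I e c
    refine ⟨e' * b₀, by rw [map_mul, htoCe, one_mul], ?_⟩
    rw [map_mul, he', mul_comm e, mul_assoc, he.eq]
  choose D hD₁ hD₂ using hlift
  have hK : (J (B := B) A ⊓ sgen.inf (fun c => colonJ A (D c))).map
      ((toC A B I e).comp (integralClosure A B).val) = ⊤ := by
    by_contra hne
    obtain ⟨M, hM, hKM⟩ := Ideal.exists_le_maximal _ hne
    have hMp := hM.isPrime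
    have hP : (M.comap ((toC A B I e).comp (integralClosure A B).val)).IsPrime :=
      Ideal.comap_isPrime _ M
    have hJP : J (B := B) A ≤ M.comap ((toC A B I e).comp (integralClosure A B).val) := by
      have h1 := Ideal.map_le_iff_le_comap.mp hKM
      rcases (Ideal.IsPrime.inf_le hP).mp h1 with h | h
      · exact h
      · obtain ⟨c, _, hc⟩ := (Ideal.IsPrime.inf_le' hP).mp h
        exact (J_le_radical_colonJ (D c)).trans ((Ideal.IsPrime.radical_le_iff hP).mpr hc)
    have hqp : (M.comap (toC A B I e).toRingHom).IsPrime := Ideal.comap_isPrime _ _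
    have hIq : I.map (algebraMap A B) ≤ M.comap (toC A B I e).toRingHom := by
      intro a ha
      show toC A B I e a ∈ M
      rw [toC_apply, Ideal.Quotient.eq_zero_iff_mem.mpr ha, map_zero]
      exact zero_mem _
    have he'q : e' ∉ M.comap (toC A B I e).toRingHom := by
      intro h
      have h2 : toC A B I e e' ∈ M := h
      rw [htoCe] at h2
      exact hM.ne_top ((Ideal.eq_top_iff_one _).mpr h2)
    have hwqf := weaklyQuasiFiniteAt_of he (M.comap (toC A B I e).toRingHom) hIq e' he' he'q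
    obtain ⟨g, hgJ, hgq⟩ := exists_mem_J_notMem (A := A) (M.comap (toC A B I e).toRingHom)
    exact hgq (hJP hgJ)
  -- key: for x ∈ K and all y, y * f x ∈ N
  have hkey : ∀ x ∈ (J (B := B) A ⊓ sgen.inf (fun c => colonJ A (D c))),
      ∀ y : (B ⧸ Ideal.map (algebraMap A B) I) ⧸ Ideal.span {1 - e},
        y * toC A B I e (x : B) ∈ N I e := by
    intro x hx y
    have hy : y ∈ Submodule.span A (sgen : Set _) := by rw [hsgen]; trivial
    induction hy using Submodule.span_induction with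
    | mem c hc =>
      have hle : sgen.inf (fun c => colonJ A (D c)) ≤ colonJ A (D c) := Finset.inf_le hc
      have hxc : x ∈ colonJ A (D c) := hle hx.2
      obtain ⟨c', hc'J, hc'⟩ := hxc
      refine ⟨c', hc'J, ?_, ?_⟩
      · rw [hc', map_mul, hD₁, mul_comm]
      · rw [hc', map_mul, mul_assoc, hD₂]
    | zero => rw [zero_mul]; exact zero_mem _
    | add y₁ y₂ _ _ h₁ h₂ => rw [add_mul]; exact add_mem h₁ h₂
    | smul a y₁ _ h₁ => rw [smul_mul_assoc]; exact Submodule.smul_mem _ _ h₁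
  have hone : ∀ z ∈ (J (B := B) A ⊓ sgen.inf (fun c => colonJ A (D c))).map
      ((toC A B I e).comp (integralClosure A B).val),
      ∀ y : (B ⧸ Ideal.map (algebraMap A B) I) ⧸ Ideal.span {1 - e}, y * z ∈ N I e := by
    intro z hz
    induction hz using Submodule.span_induction with
    | mem z hz =>
      obtain ⟨x, hx, rfl⟩ := hz
      exact hkey x hx
    | zero => intro y; rw [mul_zero]; exact zero_mem _
    | add z₁ z₂ _ _ h₁ h₂ => intro y; rw [mul_add]; exact add_mem (h₁ y) (h₂ y)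
    | smul r z₁ _ h₁ => intro y; rw [smul_eq_mul, ← mul_assoc]; exact h₁ _
  obtain ⟨g, hgJ, hg1, hge⟩ := hone 1 (by rw [hK]; trivial) 1
  refine ⟨g, hgJ, ?_⟩
  rw [mul_one, toC_apply] at hg1
  have h3 : Ideal.Quotient.mk (I.map (algebraMap A B)) (g : B) - 1 ∈ Ideal.span {1 - e} := by
    rw [← Ideal.Quotient.eq_zero_iff_mem, map_sub, hg1, map_one, sub_self]
  obtain ⟨c, hc⟩ := Ideal.mem_span_singleton'.mp h3
  have h4 : (Ideal.Quotient.mk (I.map (algebraMap A B)) (g : B) - 1) * e = 0 := by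
    rw [← hc, mul_assoc, sub_mul, one_mul, he.eq, sub_self, mul_zero]
  rw [sub_mul, one_mul, hge, sub_eq_zero] at h4
  exact h4

end Main


/-- Let A be a ring with an ideal I and A → B a ring map of finite type, and suppose B/IB = C_1 × C_2
(given by an idempotent e of B/IB with C_1 = (B/IB)/(1 - e)) where C_1 is finite over A/I. Writing
B' for the integral closure of A in B, some g ∈ B' has idempotent image in B'/IB' lifting e (so
B'/IB' = C_1' × C_2' compatibly with the decomposition of B/IB), and the map B'_g → B_g is an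
isomorphism (whence C_1' = C_1). -/
theorem result (A B : Type u) [CommRing A] [CommRing B]
    [Algebra A B] [Algebra.FiniteType A B] (I : Ideal A) (e : B ⧸ Ideal.map (algebraMap A B) I)
    (he : IsIdempotentElem e)
    (hfin : Module.Finite (A ⧸ I) ((B ⧸ Ideal.map (algebraMap A B) I) ⧸ Ideal.span {1 - e})) :
    ∃ g : integralClosure A B,
      IsIdempotentElem (Ideal.Quotient.mk (Ideal.map (algebraMap A (integralClosure A B)) I) g) ∧
      Ideal.Quotient.mk (Ideal.map (algebraMap A B) I) (g : B) = e ∧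
      Function.Bijective (algebraMap (Localization.Away g)
        (Localization (Algebra.algebraMapSubmonoid B (Submonoid.powers g)))) := by
  have hfinA : Module.Finite A ((B ⧸ Ideal.map (algebraMap A B) I) ⧸ Ideal.span {1 - e}) :=
    Module.Finite.trans (A ⧸ I) _
  obtain ⟨g, hgJ, hge⟩ := exists_mem_J_lift (A := A) (B := B) (I := I) (e := e) he
  obtain ⟨g', hg'J, hg'i, hg'e⟩ := fix_idempotent I e he hgJ hge
  exact ⟨g', hg'i, hg'e, bijective_of_mem_J hg'J⟩

end Groth.Agent.S9313
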