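import Groth.Statements.S9319
import Groth.Agent.Lib.Helper5.JZNat
import Groth.Agent.Lib.Helper5.AdicRegE
import Groth.Agent.Lib.Helper5.SepSmooth
import Groth.Agent.Lib.Helper5.CohenEqui

set_option autoImplicit false
universe u
open CAlg

namespace Groth.Agent.S9319

open TensorProduct KaehlerDifferential Groth.Agent.Lib.Helper5 in
theorem cancel_eq {F K L M : Type u} [Field F] [Field K] [Field L] [Field M] [Algebra F K]
    [Algebra K L] [Algebra L M] [Algebra K M] [IsScalarTower K L M] [Algebra F L] [Algebra F M]
    [IsScalarTower F K L] [IsScalarTower F K M] (m : M) (y : L ⊗[K] Ω[K⁄F]) :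
    TensorProduct.AlgebraTensorModule.cancelBaseChange K L M M Ω[K⁄F] (m ⊗ₜ[L] y) =
      m • JZNat.phi F K L M y := by
  induction y using TensorProduct.induction_on with
  | zero => rw [TensorProduct.tmul_zero, map_zero, map_zero, smul_zero]
  | add a b ha hb => rw [TensorProduct.tmul_add, map_add, map_add, smul_add, ha, hb]
  | tmul l ω =>
    rw [TensorProduct.AlgebraTensorModule.cancelBaseChange_tmul, JZNat.phi_tmul,
      TensorProduct.smul_tmul', Algebra.smul_def, smul_eq_mul, mul_comm]

open TensorProduct in
/-- For a tower of fields `K ⊆ L ⊆ M`, the first map of the Jacobi–Zariski sequence, from `H_1(L_{L/K})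
⊗_L M` to `H_1(L_{M/K})`, is injective; here `H_1(L)` denotes the first homology of the naive
cotangent complex and the map is the `M`-linear extension of the functoriality map. (The rest of the
six-term sequence is exact for any three rings, so for fields it is exact with a zero on the left.) -/
theorem result {K L M : Type u} [Field K] [Field L]
    [Field M] [Algebra K L] [Algebra L M] [Algebra K M] [IsScalarTower K L M] :
    Function.Injective ((Algebra.H1Cotangent.map K K L M).liftBaseChange M) := by
  let F := Groth.Agent.Lib.Helper5.AdicReg.PF K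
  let _ : Algebra F L := ((algebraMap K L).comp (algebraMap F K)).toAlgebra
  let _ : Algebra F M := ((algebraMap K M).comp (algebraMap F K)).toAlgebra
  have hst1 : IsScalarTower F K L := IsScalarTower.of_algebraMap_eq fun _ => rfl
  have hst2 : IsScalarTower F K M := IsScalarTower.of_algebraMap_eq fun _ => rfl
  have hgL : Algebra.IsGeometricallyReduced F L :=
    Groth.Agent.Lib.Helper5.CohenEqui.geomReduced_of_perfect _ _
  have hsL : Algebra.FormallySmooth F L :=
    Groth.Agent.Lib.Helper5.SepSmooth.formallySmooth_of_geomReduced
  have hsub : Subsingleton (Algebra.H1Cotangent F L) :=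
    Algebra.FormallySmooth.subsingleton_h1Cotangent
  have hδL : Function.Injective (Algebra.H1Cotangent.δ F K L) := by
    rw [injective_iff_map_eq_zero]
    intro x hx
    obtain ⟨y, rfl⟩ := (Algebra.H1Cotangent.exact_map_δ F K L x).mp hx
    rw [Subsingleton.elim y 0, map_zero]
  have hflat : Function.Injective ((Algebra.H1Cotangent.δ F K L).baseChange M) := by
    rw [LinearMap.baseChange_eq_ltensor]
    exact Module.Flat.lTensor_preserves_injective_linearMap _ hδL
  have hcomm : ∀ z : M ⊗[L] Algebra.H1Cotangent K L,
      Algebra.H1Cotangent.δ F K M ((Algebra.H1Cotangent.map K K L M).liftBaseChange M z) =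
        TensorProduct.AlgebraTensorModule.cancelBaseChange K L M M Ω[K⁄F]
          ((Algebra.H1Cotangent.δ F K L).baseChange M z) := by
    intro z
    induction z using TensorProduct.induction_on with
    | zero => rw [map_zero, map_zero, map_zero, map_zero]
    | add a b ha hb => rw [map_add, map_add, map_add, map_add, ha, hb]
    | tmul m x =>
      rw [LinearMap.liftBaseChange_tmul, map_smul, Groth.Agent.Lib.Helper5.JZNat.δ_map,
        LinearMap.baseChange_tmul, cancel_eq]
  rw [injective_iff_map_eq_zero]
  intro z hz
  have h1 := hcomm z
  rw [hz, map_zero] at h1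
  have h2 : (Algebra.H1Cotangent.δ F K L).baseChange M z = 0 :=
    (LinearEquiv.map_eq_zero_iff _).mp h1.symm
  exact (injective_iff_map_eq_zero _).mp hflat z h2

end Groth.Agent.S9319
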