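import Groth.Statements.S9323
import Groth.Agent.Lib.Helper5.CohenRingSmooth

set_option autoImplicit false
open CAlg

namespace Groth.Agent.S9323

/-- Let `Λ` be a Cohen ring (a complete discrete valuation ring whose maximal ideal is generated by a
prime number) and `n ≥ 0`. Then `ℤ → Λ[[x_1, …, x_n]]` is formally smooth for the adic topology of
the maximal ideal of the power series ring. (`Λ` is taken in the lowest universe, where `ℤ` lives.) -/
theorem result (Λ : Type) [CommRing Λ] [IsLocalRing Λ]
    (hΛ : CAlg.IsCohenRing Λ) (n : ℕ) :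
    CAlgX.IsAdicFormallySmooth ℤ (MvPowerSeries (Fin n) Λ)
      (IsLocalRing.maximalIdeal (MvPowerSeries (Fin n) Λ)) := by
  have h0 := Groth.Agent.Lib.Helper5.CohenRingSmooth.adicSmooth_int_of_isCohenRing Λ hΛ
  refine Groth.Agent.Lib.Helper5.PowSer.adicSmooth_of_adicSmooth (IsLocalRing.maximalIdeal Λ) h0 _ ?_ ?_
  · rw [Ideal.span_le]
    rintro _ ⟨i, rfl⟩
    rw [SetLike.mem_coe, IsLocalRing.mem_maximalIdeal, mem_nonunits_iff,
      MvPowerSeries.isUnit_iff_constantCoeff, MvPowerSeries.constantCoeff_X]
    exact not_isUnit_zero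
  · rw [Ideal.map_le_iff_le_comap]
    intro c hc
    rw [Ideal.mem_comap, IsLocalRing.mem_maximalIdeal, mem_nonunits_iff,
      MvPowerSeries.isUnit_iff_constantCoeff]
    have : MvPowerSeries.constantCoeff (algebraMap Λ (MvPowerSeries (Fin n) Λ) c) = c :=
      MvPowerSeries.constantCoeff_C c
    rw [this]
    exact (IsLocalRing.mem_maximalIdeal c).mp hc

end Groth.Agent.S9323
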