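import Groth.Statements.S9324
import Groth.Agent.Lib.Helper12.HenselRadical
import Groth.Agent.Lib.Helper12.HenselPairOps

set_option autoImplicit false
universe u
open Hensel

namespace Groth.Agent.S9324

open TensorProduct in
/-- Let `(A, I) → (B, J)` be a map of pairs, i.e. `I B ⊆ J`, such that `J` and `I B` have the same
radical, and suppose `A → B` is integral. Let `A^h` be a henselization of the pair `(A, I)`, `B^h` a
henselization of the pair `(B, J)`, and `φ : A^h → B^h` an `A`-algebra homomorphism (there is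
exactly one, by the universal property of `A^h`). Then the induced map `A^h ⊗_A B → B^h` is
bijective: henselization commutes with integral base change. -/
theorem result {A B Ah Bh : Type u} [CommRing A]
    [CommRing B] [CommRing Ah] [CommRing Bh] [Algebra A B] (I : Ideal A) (J : Ideal B)
    (hIJ : I.map (algebraMap A B) ≤ J) (hrad : J.radical = (I.map (algebraMap A B)).radical)
    [Algebra.IsIntegral A B] [Algebra A Ah] (hA : Hens2.IsPairHenselization A I Ah)
    [Algebra B Bh] [Algebra A Bh] [IsScalarTower A B Bh] (hB : Hens2.IsPairHenselization B J Bh)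
    (φ : Ah →ₐ[A] Bh) :
    Function.Bijective (Algebra.TensorProduct.productMap φ (IsScalarTower.toAlgHom A B Bh)) := by
  classical
  let ιA : Ah →ₐ[A] Ah ⊗[A] B := Algebra.TensorProduct.includeLeft
  let ιB : B →ₐ[A] Ah ⊗[A] B := Algebra.TensorProduct.includeRight
  let P : Ah ⊗[A] B →ₐ[A] Bh :=
    Algebra.TensorProduct.productMap φ (IsScalarTower.toAlgHom A B Bh)
  have hPA : ∀ a : Ah, P (ιA a) = φ a := fun a => by
    show Algebra.TensorProduct.productMap φ (IsScalarTower.toAlgHom A B Bh) (a ⊗ₜ 1) = φ a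
    simp
  have hPB : ∀ b : B, P (ιB b) = algebraMap B Bh b := fun b => by
    show Algebra.TensorProduct.productMap φ (IsScalarTower.toAlgHom A B Bh) (1 ⊗ₜ b) = _
    simp
  -- `T` is henselian along `I T`
  haveI hAh : HenselianRing Ah (I.map (algebraMap A Ah)) := hA.1
  have hT0 : HenselianRing (Ah ⊗[A] B) ((I.map (algebraMap A Ah)).map (algebraMap Ah (Ah ⊗[A] B))) :=
    Groth.Agent.Lib.Helper12.henselianRing_map_of_isIntegral Ah (I.map (algebraMap A Ah)) (Ah ⊗[A] B)
  have hK0 : (I.map (algebraMap A Ah)).map (algebraMap Ah (Ah ⊗[A] B)) =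
      (I.map (algebraMap A B)).map (ιB : B →+* Ah ⊗[A] B) := by
    rw [Ideal.map_map, Ideal.map_map]
    congr 1
    ext a
    show algebraMap Ah (Ah ⊗[A] B) (algebraMap A Ah a) = ιB (algebraMap A B a)
    rw [AlgHom.commutes, ← IsScalarTower.algebraMap_apply]
  rw [hK0] at hT0
  have hle1 : (I.map (algebraMap A B)).map (ιB : B →+* Ah ⊗[A] B) ≤ J.map (ιB : B →+* Ah ⊗[A] B) :=
    Ideal.map_mono hIJ
  have hle2 : J.map (ιB : B →+* Ah ⊗[A] B) ≤
      ((I.map (algebraMap A B)).map (ιB : B →+* Ah ⊗[A] B)).radical := by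
    have : J ≤ (I.map (algebraMap A B)).radical := by
      rw [← hrad]
      exact Ideal.le_radical
    exact (Ideal.map_mono this).trans (Ideal.map_radical_le _)
  have hT : HenselianRing (Ah ⊗[A] B) (J.map (ιB : B →+* Ah ⊗[A] B)) :=
    haveI := hT0
    Groth.Agent.Lib.Helper12.henselianRing_of_le_radical _ _ hle1 hle2
  -- the inverse
  obtain ⟨ψ, hψ, -⟩ := hB.2 (Ah ⊗[A] B) (J.map (ιB : B →+* Ah ⊗[A] B)) (ιB : B →+* Ah ⊗[A] B)
    hT le_rfl
  have hψB : ∀ b : B, ψ (algebraMap B Bh b) = ιB b := fun b => RingHom.congr_fun hψ b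
  -- `P ∘ ψ = id`
  have h1 : ∀ x : Bh, P (ψ x) = x := by
    obtain ⟨k, -, hkuniq⟩ := hB.2 Bh (J.map (algebraMap B Bh)) (algebraMap B Bh) hB.1 le_rfl
    have e1 : (P : Ah ⊗[A] B →+* Bh).comp ψ = k := hkuniq _ (by
      ext b
      show P (ψ (algebraMap B Bh b)) = algebraMap B Bh b
      rw [hψB, hPB])
    have e2 : RingHom.id Bh = k := hkuniq _ (by ext b; rfl)
    intro x
    exact RingHom.congr_fun (e1.trans e2.symm) x
  -- `ψ ∘ φ = ιA`
  have h2 : ∀ a : Ah, ψ (φ a) = ιA a := by
    have hleA : I.map (algebraMap A (Ah ⊗[A] B)) ≤ J.map (ιB : B →+* Ah ⊗[A] B) := by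
      refine le_trans ?_ hle1
      rw [Ideal.map_map]
      have : (ιB : B →+* Ah ⊗[A] B).comp (algebraMap A B) = algebraMap A (Ah ⊗[A] B) :=
        ιB.comp_algebraMap
      rw [this]
    obtain ⟨k, -, hkuniq⟩ := hA.2 (Ah ⊗[A] B) (J.map (ιB : B →+* Ah ⊗[A] B))
      (algebraMap A (Ah ⊗[A] B)) hT hleA
    have e1 : ψ.comp (φ : Ah →+* Bh) = k := hkuniq _ (by
      ext a
      show ψ (φ (algebraMap A Ah a)) = algebraMap A (Ah ⊗[A] B) a
      rw [AlgHom.commutes, IsScalarTower.algebraMap_apply A B Bh, hψB, AlgHom.commutes])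
    have e2 : (ιA : Ah →+* Ah ⊗[A] B) = k := hkuniq _ (by
      ext a
      exact ιA.commutes a)
    intro a
    exact RingHom.congr_fun (e1.trans e2.symm) a
  have h3 : ∀ x : Ah ⊗[A] B, ψ (P x) = x := by
    intro x
    induction x using TensorProduct.induction_on with
    | zero => simp
    | tmul a b =>
      have : a ⊗ₜ[A] b = ιA a * ιB b := by
        show a ⊗ₜ[A] b = (a ⊗ₜ[A] (1 : B)) * ((1 : Ah) ⊗ₜ[A] b)
        rw [Algebra.TensorProduct.tmul_mul_tmul, mul_one, one_mul]
      rw [this, map_mul, map_mul, hPA, hPB, h2, hψB]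
    | add x y hx hy => rw [map_add, map_add, hx, hy]
  exact ⟨fun x y hxy => by rw [← h3 x, ← h3 y]; exact congrArg ψ hxy, fun y => ⟨ψ y, h1 y⟩⟩

end Groth.Agent.S9324
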