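import Groth.Statements.S9329
import Groth.Agent.Lib.Helper18.Unram.AbhMain

set_option autoImplicit false
universe u
open EtRam

namespace Groth.Agent.S9329

open Polynomial IsLocalRing in
/-- Let `K` be the fraction field of a discrete valuation ring `A`, let `π` be a uniformizer of `A`, and
let `L` be a finite separable extension of `K` which is tamely ramified with respect to `A`. Then
there is `e₀ ≥ 1` invertible in the residue field of `A` such that for each `d ≥ 1` that is also
invertible in the residue field, setting `e = d e₀` and `A' = A[z]/(z^e - π)`, there is a finite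
separable extension `L'` of `K` into which `L` embeds over `K`, carrying an `A'`-algebra structure
extending `A → K → L'`, such that `L'` is unramified with respect to `A'`. (The local-ring instance
on `A'`, which holds, is quantified as a hypothesis.) -/
theorem result
    {A K L : Type u} [CommRing A] [IsDomain A]
    [IsDiscreteValuationRing A] [Field K] [Algebra A K] [IsFractionRing A K] [Field L] [Algebra K L]
    [Algebra A L] [IsScalarTower A K L] [FiniteDimensional K L] [Algebra.IsSeparable K L]
    (π : A) (hπ : maximalIdeal A = Ideal.span {π}) (h : EtRam.IsTamelyRamified A (algebraMap A L)) :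
    ∃ e₀ : ℕ, 0 < e₀ ∧ (e₀ : ResidueField A) ≠ 0 ∧
      ∀ d : ℕ, 0 < d → (d : ResidueField A) ≠ 0 →
        ∃ (L' : Type u) (_ : Field L') (_ : Algebra K L')
          (_ : Algebra (AdjoinRoot (X ^ (d * e₀) - C π : A[X])) L') (_ : L →ₐ[K] L'),
          FiniteDimensional K L' ∧ Algebra.IsSeparable K L' ∧
          (algebraMap (AdjoinRoot (X ^ (d * e₀) - C π : A[X])) L').comp (AdjoinRoot.of (X ^ (d * e₀) - C π)) =
            (algebraMap K L').comp (algebraMap A K) ∧
          ∀ [IsLocalRing (AdjoinRoot (X ^ (d * e₀) - C π : A[X]))],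
            EtRam.IsUnramifiedExt (AdjoinRoot (X ^ (d * e₀) - C π : A[X]))
              (algebraMap (AdjoinRoot (X ^ (d * e₀) - C π : A[X])) L') := by
  classical
  have hπirr : Irreducible π := (IsDiscreteValuationRing.irreducible_iff_uniformizer π).mpr hπ
  have hg : algebraMap A L = (algebraMap K L).comp (algebraMap A K) :=
    IsScalarTower.algebraMap_eq A K L
  rw [hg] at h
  set n := Module.finrank K L with hn
  set s : Finset ℕ := (Finset.range (n + 1)).filter (fun m => (m : ResidueField A) ≠ 0) with hs
  refine ⟨∏ m ∈ s, m, ?_, ?_, ?_⟩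
  · apply Finset.prod_pos
    intro m hm
    rw [hs, Finset.mem_filter] at hm
    rcases Nat.eq_zero_or_pos m with h0 | h0
    · exfalso; apply hm.2; rw [h0, Nat.cast_zero]
    · exact h0
  · rw [Nat.cast_prod, Finset.prod_ne_zero_iff]
    intro m hm
    rw [hs, Finset.mem_filter] at hm
    exact hm.2
  intro d hd hd0
  set e₀ := ∏ m ∈ s, m with he₀
  have he₀0 : (e₀ : ResidueField A) ≠ 0 := by
    rw [he₀, Nat.cast_prod, Finset.prod_ne_zero_iff]
    intro m hm
    rw [hs, Finset.mem_filter] at hm
    exact hm.2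
  have he₀pos : 0 < e₀ := by
    rcases Nat.eq_zero_or_pos e₀ with h0 | h0
    · exfalso; apply he₀0; rw [h0, Nat.cast_zero]
    · exact h0
  have he : 0 < d * e₀ := Nat.mul_pos hd he₀pos
  have hdiv : ∀ m : ℕ, 0 < m → m ≤ Module.finrank K L → (m : ResidueField A) ≠ 0 →
      m ∣ d * e₀ := by
    intro m _ hmle hm0
    apply dvd_mul_of_dvd_right
    apply Finset.dvd_prod_of_mem
    rw [hs, Finset.mem_filter, Finset.mem_range]
    exact ⟨by omega, hm0⟩
  have heκ : ((d * e₀ : ℕ) : ResidueField A) ≠ 0 := by
    rw [Nat.cast_mul]; exact mul_ne_zero hd0 he₀0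
  set e := d * e₀ with hedef
  have hALinj : Function.Injective (algebraMap A L) := by
    rw [hg]
    exact (algebraMap K L).injective.comp (IsFractionRing.injective A K)
  have heL : ((e : ℕ) : L) ≠ 0 := by
    intro h0
    have h1 : algebraMap A L ((e : ℕ) : A) = 0 := by rw [map_natCast]; exact h0
    have h2 : ((e : ℕ) : A) = 0 := hALinj (h1.trans (map_zero _).symm)
    apply heκ
    have := congrArg (residue A) h2
    rwa [map_natCast, map_zero] at this
  have hπL0 : algebraMap A L π ≠ 0 := fun h0 =>
    hπirr.ne_zero (hALinj (h0.trans (map_zero _).symm))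
  -- an irreducible factor
  set PL : L[X] := X ^ e - C (algebraMap A L π) with hPL
  have hPLsep : PL.Separable := separable_X_pow_sub_C _ heL hπL0
  have hPLdeg : 0 < PL.natDegree := by
    rw [hPL, natDegree_X_pow_sub_C]; exact he
  obtain ⟨Q, hQirr, hQdvd⟩ := Polynomial.exists_irreducible_of_natDegree_pos hPLdeg
  haveI : Fact (Irreducible Q) := ⟨hQirr⟩
  haveI hfinLL' : FiniteDimensional L (AdjoinRoot Q) := (AdjoinRoot.powerBasis hQirr.ne_zero).finite
  have hζ : (AdjoinRoot.root Q) ^ e = algebraMap L (AdjoinRoot Q) (algebraMap A L π) := by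
    have h1 : AdjoinRoot.mk Q PL = 0 := AdjoinRoot.mk_eq_zero.mpr hQdvd
    rw [hPL, map_sub, map_pow, AdjoinRoot.mk_X, AdjoinRoot.mk_C, sub_eq_zero] at h1
    exact h1
  have hgA' : ∀ a : A, ((algebraMap K (AdjoinRoot Q)).comp (algebraMap A K)) a =
      algebraMap L (AdjoinRoot Q) (algebraMap A L a) := by
    intro a
    show algebraMap K (AdjoinRoot Q) (algebraMap A K a) = _
    rw [IsScalarTower.algebraMap_apply A K L, ← IsScalarTower.algebraMap_apply K L (AdjoinRoot Q)]
  have hroot : Polynomial.eval₂ ((algebraMap K (AdjoinRoot Q)).comp (algebraMap A K))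
      (AdjoinRoot.root Q) (X ^ e - C π : A[X]) = 0 := by
    rw [eval₂_sub, eval₂_pow, eval₂_X, eval₂_C, hgA', hζ, sub_self]
  letI algA'L' : Algebra (AdjoinRoot (X ^ e - C π : A[X])) (AdjoinRoot Q) :=
    (AdjoinRoot.lift ((algebraMap K (AdjoinRoot Q)).comp (algebraMap A K))
      (AdjoinRoot.root Q) hroot).toAlgebra
  haveI hfinKL' : FiniteDimensional K (AdjoinRoot Q) := FiniteDimensional.trans K L (AdjoinRoot Q)
  haveI hsepLL' : Algebra.IsSeparable L (AdjoinRoot Q) := by
    rw [← separableClosure.eq_top_iff]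
    have hmem : AdjoinRoot.root Q ∈ separableClosure L (AdjoinRoot Q) := by
      rw [mem_separableClosure_iff]
      have h1 : Polynomial.aeval (AdjoinRoot.root Q) PL = 0 := by
        rw [hPL, map_sub, map_pow, aeval_X, aeval_C, hζ, sub_self]
      exact hPLsep.of_dvd (minpoly.dvd L _ h1)
    have hle : Algebra.adjoin L {AdjoinRoot.root Q} ≤
        (separableClosure L (AdjoinRoot Q)).toSubalgebra :=
      Algebra.adjoin_le (by
        intro x hx
        rw [Set.mem_singleton_iff] at hx
        rw [hx]; exact hmem)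
    rw [AdjoinRoot.adjoinRoot_eq_top] at hle
    rw [eq_top_iff]
    intro x _
    exact hle (Algebra.mem_top)
  haveI hsepKL' : Algebra.IsSeparable K (AdjoinRoot Q) :=
    Algebra.IsSeparable.trans K L (AdjoinRoot Q)
  have hcompat : (algebraMap (AdjoinRoot (X ^ e - C π : A[X])) (AdjoinRoot Q)).comp
      (AdjoinRoot.of (X ^ e - C π)) = (algebraMap K (AdjoinRoot Q)).comp (algebraMap A K) :=
    AdjoinRoot.lift_comp_of hroot
  have hgenL : Algebra.adjoin L
      {algebraMap (AdjoinRoot (X ^ e - C π : A[X])) (AdjoinRoot Q) (AdjoinRoot.root _)} = ⊤ := by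
    have : algebraMap (AdjoinRoot (X ^ e - C π : A[X])) (AdjoinRoot Q) (AdjoinRoot.root _) =
        AdjoinRoot.root Q := AdjoinRoot.lift_root hroot
    rw [this]
    exact AdjoinRoot.adjoinRoot_eq_top
  refine ⟨AdjoinRoot Q, inferInstance, inferInstance, algA'L',
    IsScalarTower.toAlgHom K L (AdjoinRoot Q), hfinKL', hsepKL', hcompat, ?_⟩
  intro _inst
  exact Groth.Agent.Lib.Helper18.Unram.unramified_over_root π hπirr h e he hdiv hcompat hgenL

end Groth.Agent.S9329
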