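import Groth.Statements.S9332
import Mathlib.AlgebraicGeometry.Morphisms.Finite
import Mathlib.AlgebraicGeometry.Fiber
-- import your own Groth.Agent.* helpers here

set_option autoImplicit false
universe u
open QFin

namespace Groth.Agent.S9332

open AlgebraicGeometry CategoryTheory in
/-- Let f : X → S be locally of finite type and x ∈ X. Then x is closed in its fibre X_{f x} if and only
if κ(x) is a finite extension of κ(f x) (via the residue field map of f at x). -/
theorem result {X S : Scheme.{u}} (f : X ⟶ S) [LocallyOfFiniteType f] (x : X) :
    IsClosed ({f.asFiber x} : Set ↑(f.fiber (f.base x))) ↔ (f.residueFieldMap x).hom.Finite := by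
  have hcomp := f.asFiberHom_fiberToSpecResidueField x
  constructor
  · intro hcl
    have hcl' : IsClosed (Set.range (f.asFiberHom x)) := by
      rw [Scheme.Hom.range_asFiberHom]
      exact hcl
    have : IsClosedImmersion (f.asFiberHom x) := IsClosedImmersion.of_isPreimmersion _ hcl'
    have hft : LocallyOfFiniteType (f.fiberToSpecResidueField (f.base x)) :=
      MorphismProperty.pullback_snd _ _ inferInstance
    have h1 : LocallyOfFiniteType (f.asFiberHom x ≫ f.fiberToSpecResidueField (f.base x)) :=
      inferInstance
    rw [hcomp] at h1
    have h2 : IsFinite (Spec.map (f.residueFieldMap x)) :=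
      isFinite_iff_locallyOfFiniteType_of_jacobsonSpace.mpr h1
    exact (IsFinite.SpecMap_iff _).mp h2
  · intro hfin
    have h2 : IsFinite (Spec.map (f.residueFieldMap x)) := (IsFinite.SpecMap_iff _).mpr hfin
    have h1 : LocallyOfFiniteType (f.asFiberHom x ≫ f.fiberToSpecResidueField (f.base x)) := by
      rw [hcomp]
      infer_instance
    have h3 : LocallyOfFiniteType (f.asFiberHom x) := locallyOfFiniteType_of_comp _
      (f.fiberToSpecResidueField (f.base x))
    have := (f.asFiberHom x).closePoints_subset_preimage_closedPoints
      (IsLocalRing.isClosed_singleton_closedPoint _)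
    simpa using this

end Groth.Agent.S9332
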