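import Groth.Statements.S9343
import Groth.Agent.Lib.Helper1.QcSpecialization
import Groth.Agent.S9344

set_option autoImplicit false
universe u
open Dom

namespace Groth.Agent.S9343

open AlgebraicGeometry CategoryTheory in
/-- The base change of a quasi-compact dominant morphism f : X → S along a morphism g : S' → S along
which generalizations lift is dominant. -/
theorem result {X S X' S' : Scheme.{u}} (f : X ⟶ S) [QuasiCompact f] [IsDominant f]
    (g : S' ⟶ S) (g' : X' ⟶ X) (f' : X' ⟶ S') (hsq : IsPullback g' f' f g) (hg : GeneralizingMap g.base) :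
    IsDominant f' := by
  constructor
  intro s'
  have h1 : g s' ∈ closure (f '' Set.univ) := by
    rw [Set.image_univ]; exact f.denseRange (g s')
  obtain ⟨x, -, hx⟩ := Groth.Agent.Lib.Helper1.exists_specializes_of_mem_closure_image f
    Set.univ isClosed_univ (g s') h1
  obtain ⟨s'', hs'', hgs''⟩ := hg hx
  have hmem : s'' ∈ Set.range f' := by
    rw [Groth.Agent.S9344.range_snd_of_isPullback f g g' f' hsq]
    exact ⟨x, hgs''.symm⟩
  exact closure_mono (Set.singleton_subset_iff.mpr hmem) (specializes_iff_mem_closure.mp hs'')

end Groth.Agent.S9343
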