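import Groth.Statements.S9346
import Mathlib

set_option autoImplicit false
universe u
open Dom

namespace Groth.Agent.S9346

section helpers
open AlgebraicGeometry CategoryTheory

lemma germ_appLE {X Y : Scheme.{u}} (f : X ⟶ Y) (U : X.Opens) (V : Y.Opens) (e : U ≤ f ⁻¹ᵁ V)
    (x : X) (hx : x ∈ U) (s : Γ(Y, V)) :
    X.presheaf.germ U x hx (f.appLE V U e s) =
      f.stalkMap x (Y.presheaf.germ V (f x) (show f x ∈ V from e hx) s) := by
  rw [Scheme.Hom.germ_stalkMap_apply]
  simp only [Scheme.Hom.appLE, CommRingCat.comp_apply]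
  exact TopCat.Presheaf.germ_res_apply X.presheaf (homOfLE e) x hx _

lemma injective_of_isField {R S : Type*} [CommRing R] [CommRing S] [Nontrivial S]
    (h : IsField R) (φ : R →+* S) : Function.Injective φ := by
  let _ := h.toField
  exact φ.injective

end helpers

open AlgebraicGeometry CategoryTheory in
/-- For a morphism f : X → Y between integral schemes, these six conditions coincide: (1) f is dominant;
(2) f sends the generic point of X to that of Y; (3) there exist affine opens U ⊆ X, V ⊆ Y with U
nonempty and U ⊆ f⁻¹V such that the induced ring map on sections is injective; (4) the same for all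
such pairs; (5) for some x ∈ X the map of local rings O_{Y,f x} → O_{X,x} is injective; (6) the same
for all x. -/
theorem result {X Y : Scheme.{u}} [AlgebraicGeometry.IsIntegral X] [AlgebraicGeometry.IsIntegral Y] (f : X ⟶ Y) :
    [IsDominant f,
      f.base (genericPoint ↑X) = genericPoint ↑Y,
      ∃ (U : X.Opens) (V : Y.Opens) (hUV : U ≤ f ⁻¹ᵁ V), IsAffineOpen U ∧ IsAffineOpen V ∧ (U : Set ↑X).Nonempty ∧
        Function.Injective (f.appLE V U hUV),
      ∀ (U : X.Opens) (V : Y.Opens) (hUV : U ≤ f ⁻¹ᵁ V), IsAffineOpen U → IsAffineOpen V → (U : Set ↑X).Nonempty →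
        Function.Injective (f.appLE V U hUV),
      ∃ x : ↑X, Function.Injective (f.stalkMap x),
      ∀ x : ↑X, Function.Injective (f.stalkMap x)].TFAE := by
  have hηX : ∀ U : X.Opens, (U : Set X).Nonempty → genericPoint X ∈ U := fun U hU =>
    ((genericPoint_spec X).mem_open_set_iff U.2).mpr (by simpa [Set.univ_inter] using hU)
  have hηY : ∀ U : Y.Opens, (U : Set Y).Nonempty → genericPoint Y ∈ U := fun U hU =>
    ((genericPoint_spec Y).mem_open_set_iff U.2).mpr (by simpa [Set.univ_inter] using hU)
  tfae_have 1 → 2 := by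
    intro h
    have h1 : IsGenericPoint (f.base (genericPoint X)) (closure (Set.range f.base)) := by
      have := (genericPoint_spec X).image f.continuous
      simpa [Set.image_univ] using this
    rw [h.denseRange.closure_range] at h1
    exact h1.eq (genericPoint_spec Y)
  tfae_have 2 → 1 := by
    intro h
    refine ⟨?_⟩
    rw [DenseRange, Dense]
    intro y
    have h1 : closure {genericPoint Y} ⊆ closure (Set.range f.base) :=
      closure_mono (by rintro _ rfl; exact ⟨_, h⟩)
    apply h1
    rw [(genericPoint_spec Y).def]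
    trivial
  tfae_have 2 → 4 := by
    intro h U V hUV hU hV hne
    rw [injective_iff_map_eq_zero]
    intro t ht
    have hx := hηX U hne
    have h1 := germ_appLE f U V hUV _ hx t
    rw [ht, map_zero] at h1
    have hfield : IsField (Y.presheaf.stalk (f.base (genericPoint X))) := by
      rw [h]
      exact Field.toIsField Y.functionField
    have hinj := injective_of_isField hfield (f.stalkMap (genericPoint X)).hom
    have h2 : Y.presheaf.germ V (f.base (genericPoint X)) (hUV hx) t = 0 := by
      apply hinj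
      rw [map_zero]
      exact h1.symm
    exact (germ_injective_of_isIntegral Y _ (hUV hx)) (by rw [h2, map_zero])
  tfae_have 4 → 3 := by
    intro h
    obtain ⟨x⟩ : Nonempty X := inferInstance
    obtain ⟨V, hV, hxV, -⟩ := exists_isAffineOpen_mem_and_subset (X := Y) (x := f.base x) (U := ⊤) trivial
    obtain ⟨U, hU, hxU, hUV⟩ := exists_isAffineOpen_mem_and_subset (X := X) (x := x) (U := f ⁻¹ᵁ V) hxV
    exact ⟨U, V, hUV, hU, hV, ⟨x, hxU⟩, h U V hUV hU hV ⟨x, hxU⟩⟩
  tfae_have 3 → 2 := by
    rintro ⟨U, V, hUV, hU, hV, hne, hinj⟩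
    have hx := hηX U hne
    have h1 : f.base (genericPoint X) ⤳ genericPoint Y := by
      rw [specializes_iff_forall_open]
      intro W hW hyW
      have hyV : genericPoint Y ∈ V := hηY V ⟨_, hUV hx⟩
      obtain ⟨s, hsW, hys⟩ := hV.exists_basicOpen_le (V := ⟨W, hW⟩) ⟨genericPoint Y, hyW⟩ hyV
      have hs0 : s ≠ 0 := by
        rintro rfl
        rw [Scheme.basicOpen_zero] at hys
        exact hys
      have hs1 : f.appLE V U hUV s ≠ 0 := fun h0 => hs0 (hinj (by rw [h0, map_zero]))
      have hs2 : X.basicOpen (f.appLE V U hUV s) ≠ ⊥ := by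
        rwa [Ne, basicOpen_eq_bot_iff]
      have hs3 : genericPoint X ∈ X.basicOpen (f.appLE V U hUV s) := by
        apply hηX
        exact (TopologicalSpace.Opens.ne_bot_iff_nonempty _).mp hs2
      rw [Scheme.basicOpen_appLE] at hs3
      exact hsW hs3.2
    exact (h1.antisymm (genericPoint_specializes _)).eq
  tfae_have 4 → 6 := by
    intro h x
    rw [injective_iff_map_eq_zero]
    intro s hs
    obtain ⟨W, hxW, t, rfl⟩ := TopCat.Presheaf.exists_germ_eq Y.presheaf s
    obtain ⟨V, hV, hxV, hVW⟩ := exists_isAffineOpen_mem_and_subset (X := Y) (x := f.base x) (U := W) hxW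
    obtain ⟨U, hU, hxU, hUV⟩ := exists_isAffineOpen_mem_and_subset (X := X) (x := x) (U := f ⁻¹ᵁ V) hxV
    have hVW' : V ≤ W := hVW
    have e1 : Y.presheaf.germ W (f.base x) hxW t
        = Y.presheaf.germ V (f.base x) hxV (Y.presheaf.map (homOfLE hVW').op t) :=
      (TopCat.Presheaf.germ_res_apply Y.presheaf (homOfLE hVW') (f.base x) hxV t).symm
    rw [e1] at hs ⊢
    have h1 := germ_appLE f U V hUV x hxU (Y.presheaf.map (homOfLE hVW').op t)
    rw [hs] at h1
    have h2 : f.appLE V U hUV (Y.presheaf.map (homOfLE hVW').op t) = 0 :=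
      (germ_injective_of_isIntegral X x hxU) (by rw [h1, map_zero])
    have h3 := h U V hUV hU hV ⟨x, hxU⟩ (by rw [h2, map_zero] :
      f.appLE V U hUV (Y.presheaf.map (homOfLE hVW').op t) = f.appLE V U hUV 0)
    rw [h3, map_zero]
  tfae_have 6 → 5 := by
    intro h
    obtain ⟨x⟩ : Nonempty X := inferInstance
    exact ⟨x, h x⟩
  tfae_have 5 → 3 := by
    rintro ⟨x, hx⟩
    obtain ⟨V, hV, hxV, -⟩ := exists_isAffineOpen_mem_and_subset (X := Y) (x := f.base x) (U := ⊤) trivial
    obtain ⟨U, hU, hxU, hUV⟩ := exists_isAffineOpen_mem_and_subset (X := X) (x := x) (U := f ⁻¹ᵁ V) hxV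
    refine ⟨U, V, hUV, hU, hV, ⟨x, hxU⟩, ?_⟩
    rw [injective_iff_map_eq_zero]
    intro t ht
    have h1 := germ_appLE f U V hUV x hxU t
    rw [ht, map_zero] at h1
    have h2 : Y.presheaf.germ V (f.base x) (hUV hxU) t = 0 := hx (by rw [map_zero]; exact h1.symm)
    exact (germ_injective_of_isIntegral Y _ (hUV hxU)) (by rw [h2, map_zero])
  tfae_finish

end Groth.Agent.S9346
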