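import Groth.Statements.S9348
import Mathlib.AlgebraicGeometry.PullbackCarrier

set_option autoImplicit false
universe u
open Dom

namespace Groth.Agent.S9348

open AlgebraicGeometry CategoryTheory in
/-- Let f : X → Y be a morphism and g : Y' → Y open and surjective. If the base change f' : X ×_Y Y' →
Y' of f is quasi-compact, then so is f. -/
theorem result {X Y X' Y' : Scheme.{u}} (f : X ⟶ Y) (g : Y' ⟶ Y) [Surjective g]
    (hg : IsOpenMap g.base) (g' : X' ⟶ X) (f' : X' ⟶ Y') (hsq : IsPullback g' f' f g) [QuasiCompact f'] :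
    QuasiCompact f := by
  constructor
  intro V hVo hVc
  -- for each y ∈ V choose an affine open of Y' inside g⁻¹ V whose image contains y
  have hpt : ∀ y ∈ V, ∃ W : Y'.Opens, IsCompact (W : Set Y') ∧ (W : Set Y') ⊆ g.base ⁻¹' V ∧
      y ∈ g.base '' (W : Set Y') := by
    intro y hy
    obtain ⟨y', rfl⟩ := g.surjective y
    obtain ⟨_, ⟨W, hW, rfl⟩, hy'W, hWV⟩ :=
      Y'.isBasis_affineOpens.exists_subset_of_mem_open (show y' ∈ g.base ⁻¹' V from hy)
        (hVo.preimage g.continuous)
    exact ⟨W, hW.isCompact, hWV, ⟨y', hy'W, rfl⟩⟩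
  choose! W hWc hWV hyW using hpt
  obtain ⟨t, htV, htcover⟩ := hVc.elim_nhds_subcover (fun y => g.base '' (W y : Set Y'))
    (fun y hy => (hg _ (W y).isOpen).mem_nhds (hyW y hy))
  let T : Set Y' := ⋃ y ∈ t, (W y : Set Y')
  have hTc : IsCompact T := t.isCompact_biUnion (fun y hy => hWc y (htV y hy))
  have hTo : IsOpen T := isOpen_biUnion (fun y _ => (W y).isOpen)
  have hgT : g.base '' T = V := by
    apply subset_antisymm
    · rintro _ ⟨y', hy', rfl⟩
      simp only [T, Set.mem_iUnion] at hy'
      obtain ⟨y, hyt, hy'W⟩ := hy'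
      exact hWV y (htV y hyt) hy'W
    · intro y hy
      have := htcover hy
      simp only [Set.mem_iUnion] at this
      obtain ⟨z, hzt, y', hy'W, rfl⟩ := this
      exact ⟨y', Set.mem_biUnion hzt hy'W, rfl⟩
  have hcomp : IsCompact (f'.base ⁻¹' T) := QuasiCompact.isCompact_preimage T hTo hTc
  have himg := Scheme.image_preimage_eq_of_isPullback hsq.flip T
  rw [hgT] at himg
  rw [← himg]
  exact hcomp.image g'.continuous

end Groth.Agent.S9348
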