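import Groth.Statements.S9364
import Groth.Agent.Lib.Helper5.StdSynt

set_option autoImplicit false
universe u
open Synt

namespace Groth.Agent.S9364

open AlgebraicGeometry CategoryTheory in
/-- Let f : X → S, x ∈ X and V ⊆ S an affine open neighbourhood of f x. Then f is syntomic at x if and
only if some affine open U ∋ x with f(U) ⊆ V has f|_U : U → V standard syntomic. -/
theorem result {X S : Scheme.{u}} (f : X ⟶ S) (x : X) (V : S.affineOpens)
    (hV : f.base x ∈ V.1) :
    Synt.IsSyntomicAt f x ↔
      ∃ (U : X.affineOpens) (e : U.1 ≤ f ⁻¹ᵁ V.1), x ∈ U.1 ∧ Synt.IsStandardSyntomic (f.resLE V.1 U.1 e) := by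
  constructor
  · intro h
    exact Groth.Agent.Lib.Helper5.StdSynt.exists_standardSyntomic_nhd f x V hV h
  · rintro ⟨U, e, hx, h⟩
    exact Groth.Agent.Lib.Helper5.StdSynt.isSyntomicAt_of_standardSyntomic f x V U e hx h

end Groth.Agent.S9364
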