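import Groth.Statements.S9368
import Groth.Agent.Lib.Helper5.CIFieldM

set_option autoImplicit false
universe u
open Synt

namespace Groth.Agent.S9368

open AlgebraicGeometry CategoryTheory in
/-- For X locally of finite type over a field k with structure morphism p, the following are equivalent:
(1) p is syntomic; (2) every x ∈ X has an affine open neighbourhood whose coordinate ring is a
global complete intersection over k; (3) each stalk O_{X,x} is a complete intersection ring over k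
(k-algebra structures induced by p). -/
theorem result (k : Type u) [Field k] (X : Scheme.{u}) (p : X ⟶ Spec (CommRingCat.of k)) [LocallyOfFiniteType p] :
    [Synt.IsSyntomicMor p,
      ∀ x : ↑X, ∃ U : X.affineOpens, x ∈ U.1 ∧
        letI := ((Scheme.ΓSpecIso (CommRingCat.of k)).inv ≫ p.appLE ⊤ U.1 le_top).hom.toAlgebra
        Synt.IsGlobalCI k Γ(X, U.1),
      ∀ x : ↑X,
        letI := ((Scheme.ΓSpecIso (CommRingCat.of k)).inv ≫ p.appLE ⊤ ⊤ le_top ≫ X.presheaf.germ ⊤ x trivial).hom.toAlgebra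
        Synt.IsCIOver k (X.presheaf.stalk x)].TFAE := by
  have hmem : ∀ {U : X.Opens} (hU : IsAffineOpen U) (x : X) (hx : x ∈ U) (g : Γ(X, U)),
      x ∈ X.basicOpen g ↔ g ∉ (hU.primeIdealOf ⟨x, hx⟩).asIdeal := by
    intro U hU x hx g
    rw [Scheme.mem_basicOpen _ _ x hx]
    let := X.presheaf.algebra_section_stalk ⟨x, hx⟩
    have := hU.isLocalization_stalk ⟨x, hx⟩
    exact IsLocalization.AtPrime.isUnit_to_map_iff (X.presheaf.stalk x)
      (hU.primeIdealOf ⟨x, hx⟩).asIdeal g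
  have haff : ∀ x : X, ∃ W : X.Opens, IsAffineOpen W ∧ x ∈ W := by
    intro x
    obtain ⟨W, hW, hxW, -⟩ := AlgebraicGeometry.exists_isAffineOpen_mem_and_subset (X := X) (x := x) (U := ⊤) trivial
    exact ⟨W, hW, hxW⟩
  tfae_have 1 → 2 := by
    intro h x
    obtain ⟨W, hW, hxW⟩ := haff x
    have h1 := (Groth.Agent.Lib.Helper25.SyntLocal.isSyntomicMor_iff_forall p).1 h ⟨W, hW⟩
      ⟨⊤, isAffineOpen_top _⟩ le_top
    have h2 := (Groth.Agent.Lib.Helper5.CIField.isSyntomic_appLE_iff p W).1 h1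
    obtain ⟨g, hg, hG⟩ := h2.2 (hW.primeIdealOf ⟨x, hxW⟩)
    refine ⟨⟨X.basicOpen g, hW.basicOpen g⟩, (hmem hW x hxW g).2 hg, ?_⟩
    exact (Groth.Agent.Lib.Helper5.CIField.isGlobalCI_basicOpen_iff p hW g).1 hG
  tfae_have 2 → 3 := by
    intro h x
    obtain ⟨U, hxU, hG⟩ := h x
    rw [Groth.Agent.Lib.Helper5.CIField.isCIOver_stalk_iff p U.2 x hxU]
    let a1 : Algebra k Γ(X, U.1) := Groth.Agent.Lib.Helper5.CIField.algU p U.1
    have hft : Algebra.FiniteType k Γ(X, U.1) :=
      Groth.Agent.Lib.Helper5.CIField.finiteType_sections p U.2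
    exact (Groth.Agent.Lib.Helper5.CIField.isCIOver_atPrime_iff _).2
      ⟨1, (Ideal.ne_top_iff_one _).1 (Ideal.IsPrime.ne_top inferInstance),
        Groth.Agent.Lib.Helper25.GlobalCI.isGlobalCI_away hG 1⟩
  tfae_have 3 → 1 := by
    intro h x
    obtain ⟨W, hW, hxW⟩ := haff x
    have h1 := (Groth.Agent.Lib.Helper5.CIField.isCIOver_stalk_iff p hW x hxW).1 (h x)
    let a1 : Algebra k Γ(X, W) := Groth.Agent.Lib.Helper5.CIField.algU p W
    have hft : Algebra.FiniteType k Γ(X, W) :=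
      Groth.Agent.Lib.Helper5.CIField.finiteType_sections p hW
    obtain ⟨g, hg, hG⟩ := (Groth.Agent.Lib.Helper5.CIField.isCIOver_atPrime_iff _).1 h1
    have hG' := (Groth.Agent.Lib.Helper5.CIField.isGlobalCI_basicOpen_iff p hW g).1 hG
    let a2 : Algebra k Γ(X, X.basicOpen g) :=
      Groth.Agent.Lib.Helper5.CIField.algU p (X.basicOpen g)
    have hft' : Algebra.FiniteType k Γ(X, X.basicOpen g) :=
      Groth.Agent.Lib.Helper5.CIField.finiteType_sections p (hW.basicOpen g)
    have hL : Synt.IsLCIOver k Γ(X, X.basicOpen g) :=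
      Groth.Agent.Lib.Helper5.CIField.isLCIOver_of_isGlobalCI hG'
    refine ⟨⟨X.basicOpen g, hW.basicOpen g⟩, ⟨⊤, isAffineOpen_top _⟩, le_top,
      (hmem hW x hxW g).2 hg, ?_⟩
    exact (Groth.Agent.Lib.Helper5.CIField.isSyntomic_appLE_iff p (X.basicOpen g)).2 hL
  tfae_finish

end Groth.Agent.S9368
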