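import Groth.Statements.S9372
import Groth.Agent.Lib.Helper29.ConormalBC

set_option autoImplicit false
universe u
open OmegaSh

namespace Groth.Agent.S9372




open AlgebraicGeometry CategoryTheory in
/-- In a cartesian square with i : Z → X, i' : Z' → X' quasi-compact immersions, g : X → X', gZ : Z →
Z', the canonical map gZ^* C_{Z'/X'} → C_{Z/X} is surjective, and an isomorphism when g is flat.
(The published statement allows arbitrary immersions; this row assumes i and i' quasi-compact.) -/
theorem result {Z X Z' X' : Scheme.{u}} (i : Z ⟶ X) (i' : Z' ⟶ X') [IsImmersion i] [IsImmersion i']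
    [QuasiCompact i] [QuasiCompact i'] (g : X ⟶ X') (gZ : Z ⟶ Z') (hsq : IsPullback i gZ g i')
    (φ : (Scheme.Modules.pullback gZ).obj (Omega.conormal i') ⟶ Omega.conormal i) (hφ : OmegaSh.IsConormalMap i i' g gZ φ) :
    Epi φ ∧ (Flat g → IsIso φ) := by
  have h := Groth.Agent.Lib.Helper29.ConormalMap.conormalMap_unique i i' g gZ hsq.w.symm φ hφ
  rw [h]
  refine ⟨Groth.Agent.Lib.Helper29.ConormalBC.epi_conormalMap hsq, fun hflat => ?_⟩
  haveI := hflat
  exact Groth.Agent.Lib.Helper29.ConormalBC.isIso_conormalMap_of_flat hsq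



end Groth.Agent.S9372
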