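import Groth.Statements.S9375
import Groth.Agent.Lib.Helper29.OmegaChart
import Groth.Agent.Lib.Helper28.ModExact

set_option autoImplicit false
universe u
open OmegaSh

namespace Groth.Agent.S9375

open Groth.Agent.Lib.Helper28.QCohLoc Groth.Agent.Lib.Helper29.ConormalMap
  Groth.Agent.Lib.Helper29.ConormalBC Groth.Agent.Lib.Helper29.ConormalChart
  Groth.Agent.Lib.Helper29.OmegaChart Groth.Agent.Lib.Helper28.PullbackInv
  Groth.Agent.Lib.Helper29.OmegaLoc


open AlgebraicGeometry CategoryTheory Limits in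
/-- For quasi-compact immersions i : Z → X and j : Z → Y with j = i ≫ p for p : X → Y, there is an exact
sequence C_{Z/Y} → C_{Z/X} → i^*Ω_{X/Y} → 0 with the canonical maps; Ω_{X/Y} is any receptacle of a
universal derivation. (The published statement allows arbitrary immersions; this row assumes i and j
quasi-compact.) -/
theorem result {Z X Y : Scheme.{u}} (p : X ⟶ Y) (i : Z ⟶ X) (j : Z ⟶ Y) [IsImmersion i] [IsImmersion j]
    [QuasiCompact i] [QuasiCompact j] (hij : i ≫ p = j)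
    (Ω : X.Modules) (d : OmegaSh.Der p Ω) (hd : OmegaSh.IsUniversal d)
    (ψ : (Scheme.Modules.pullback (𝟙 Z)).obj (Omega.conormal j) ⟶ Omega.conormal i) (hψ : OmegaSh.IsConormalMap i j p (𝟙 Z) ψ)
    (φ : Omega.conormal i ⟶ (Scheme.Modules.pullback i).obj Ω) (hφ : OmegaSh.IsConormalDiff i d φ) :
    ∃ w : ψ ≫ φ = 0, (ShortComplex.mk ψ φ w).Exact ∧ Epi φ := by
  have hsq : 𝟙 Z ≫ j = i ≫ p := by rw [Category.id_comp, hij]
  -- the complex
  have w : ψ ≫ φ = 0 := by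
    refine conormal_pullback_hom_ext j (𝟙 Z) _ _ ?_
    intro U' s'
    rw [Scheme.Modules.Hom.comp_app, Scheme.Modules.Hom.zero_app]
    change φ.app _ (ψ.app _ _) = 0
    rw [isConormalMap_app i j p (𝟙 Z) ψ hψ hsq U' s', map_eqToHom_eq_res, app_res, hφ,
      idealSect_pushSect]
    have h0 : d.app (p ⁻¹ᵁ U') (p.app U' (OmegaSh.idealSect j.ker U' s')) = 0 :=
      d.d_app (X := Opposite.op U') _
    rw [h0, map_zero, res_zero]
  refine ⟨w, ?_, ?_⟩
  · refine exact_of_locally ψ φ w ?_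
    intro U x hx pt hpt
    obtain ⟨WY, WX, hWY, hWX, e, hcX, hcY, heq, hptW, hWU⟩ := exists_chart_over p i j hij U pt hpt
    obtain ⟨hV, hsurj⟩ := affine_surjective_of_le_coborder i hWX hcX
    obtain ⟨s, hs⟩ := conormalSect_surjective i hWX hcX (res (Omega.conormal i) hWU x)
    have hx' : φ.app (i ⁻¹ᵁ WX) (OmegaSh.conormalSect i WX s) = 0 := by
      rw [hs, app_res, hx, res_zero]
    rw [hφ] at hx'
    letI := alg p e
    have hD := D_mem_of_pullSect_eq_zero p d hd i hWX hWY e hV hsurj _ hx'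
    have hker : RingHom.ker (i.app WX).hom = i.ker.ideal ⟨WX, hWX⟩ :=
      (Scheme.Hom.ker_apply i ⟨WX, hWX⟩).symm
    rw [hker] at hD
    set I := i.ker.ideal ⟨WX, hWX⟩ with hI
    set J := j.ker.ideal ⟨WY, hWY⟩ with hJ
    have hbI : OmegaSh.idealSect i.ker WX s ∈ I := by
      rw [hI, ← range_idealιLin i.ker hWX]
      exact ⟨s, rfl⟩
    have hmem := mem_of_D_mem I J (map_le hij hWY hWX e heq)
      (exists_sub_mem hij hWY hWX e heq hcY) (comap_le hij hWY hWX e heq) _ hbI hD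
    -- the image of ψ on the chart
    have claim₁ : ∀ b ∈ J.map (p.appLE WY WX e).hom,
        ∃ (s₁ : Γ(ClSub.idealMod i.ker, WX))
          (y : Γ((Scheme.Modules.pullback (𝟙 Z)).obj (Omega.conormal j), i ⁻¹ᵁ WX)),
          OmegaSh.idealSect i.ker WX s₁ = b ∧ ψ.app (i ⁻¹ᵁ WX) y = OmegaSh.conormalSect i WX s₁ := by
      intro b hb
      refine Submodule.span_induction ?_ ?_ ?_ ?_ hb
      · rintro _ ⟨a, ha, rfl⟩
        rw [SetLike.mem_coe, hJ, ← range_idealιLin j.ker hWY] at ha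
        obtain ⟨s', rfl⟩ := ha
        exact ⟨tmap' hsq e s', _, idealSect_tmap' hsq e s', isConormalMap_app_chart hsq e ψ hψ s'⟩
      · exact ⟨0, 0, map_zero _, by rw [map_zero, map_zero]⟩
      · rintro y z _ _ ⟨s₁, m₁, rfl, h₁⟩ ⟨s₂, m₂, rfl, h₂⟩
        exact ⟨s₁ + s₂, m₁ + m₂, map_add _ _ _, by rw [map_add, h₁, h₂, map_add]⟩
      · rintro c y _ ⟨s₁, m₁, rfl, h₁⟩
        refine ⟨c • s₁, i.app WX c • m₁, idealSect_smul _ _ _ _, ?_⟩
        rw [conormalSect_eq_c₃, c₃_smul, ← conormalSect_eq_c₃, ← h₁]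
        exact Scheme.Modules.Hom.app_smul _ _ _
    obtain ⟨b₁, hb₁, b₂, hb₂, hsum⟩ := Submodule.mem_sup.1 hmem
    obtain ⟨s₁, y, hs₁, hy⟩ := claim₁ b₁ hb₁
    have hb₂I : b₂ ∈ I := Ideal.mul_le_right hb₂
    rw [hI, ← range_idealιLin i.ker hWX] at hb₂I
    obtain ⟨s₂, hs₂⟩ := hb₂I
    have hs₂0 : OmegaSh.conormalSect i WX s₂ = 0 := by
      rw [conormalSect_eq_zero_iff i hWX hcX]
      have : OmegaSh.idealSect i.ker WX s₂ = b₂ := hs₂
      rw [this]
      exact hb₂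
    have hss : s = s₁ + s₂ := by
      apply idealSect_injective
      rw [map_add, hs₁]
      have : OmegaSh.idealSect i.ker WX s₂ = b₂ := hs₂
      rw [this, hsum]
    refine ⟨i ⁻¹ᵁ WX, hWU, hptW, y, ?_⟩
    rw [hy, ← hs, hss, map_add, hs₂0, add_zero]
  · refine epi_of_locally_in_range φ ?_
    intro U x pt hpt
    obtain ⟨WY, WX, hWY, hWX, e, hcX, hcY, heq, hptW, hWU⟩ := exists_chart_over p i j hij U pt hpt
    obtain ⟨hV, hsurj⟩ := affine_surjective_of_le_coborder i hWX hcX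
    obtain ⟨ω, hω⟩ := surjective_of_isBC_of_surjective (i.app WX).hom hsurj _
      (isBC_pullSect p d hd i hWX hV) (res ((Scheme.Modules.pullback i).obj Ω) hWU x)
    have hspan := span_d p d hd hWX hWY e ω
    have claim : ∀ ω' ∈ Submodule.span Γ(X, WX) (Set.range (d.app WX)),
        ∃ y : Γ(Omega.conormal i, i ⁻¹ᵁ WX), φ.app (i ⁻¹ᵁ WX) y = OmegaSh.pullSect i Ω WX ω' := by
      intro ω' hω'
      refine Submodule.span_induction ?_ ?_ ?_ ?_ hω'
      · rintro _ ⟨b, rfl⟩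
        obtain ⟨a, ha⟩ := exists_sub_mem hij hWY hWX e heq hcY b
        rw [← range_idealιLin i.ker hWX] at ha
        obtain ⟨t, ht⟩ := ha
        refine ⟨OmegaSh.conormalSect i WX t, ?_⟩
        rw [hφ]
        have ht' : OmegaSh.idealSect i.ker WX t = b - p.appLE WY WX e a := ht
        rw [ht', map_sub, Groth.Agent.Lib.Helper29.OmegaUniv.der_appLE, sub_zero]
      · exact ⟨0, by rw [map_zero, map_zero]⟩
      · rintro y z _ _ ⟨m₁, h₁⟩ ⟨m₂, h₂⟩
        exact ⟨m₁ + m₂, by rw [map_add, h₁, h₂, map_add]⟩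
      · rintro c y _ ⟨m₁, h₁⟩
        refine ⟨i.app WX c • m₁, ?_⟩
        have h2 : OmegaSh.pullSect i Ω WX (c • y) = i.app WX c • OmegaSh.pullSect i Ω WX y :=
          pbs_smul i Ω WX c y
        rw [h2, ← h₁]
        exact Scheme.Modules.Hom.app_smul _ _ _
    obtain ⟨y, hy⟩ := claim ω hspan
    exact ⟨i ⁻¹ᵁ WX, hWU, hptW, y, hy.trans hω⟩



end Groth.Agent.S9375
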