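import Groth.Statements.S9382
-- import your own Groth.Agent.* helpers here

set_option autoImplicit false
universe u
open QCohSub

namespace Groth.Agent.S9382

open AlgebraicGeometry CategoryTheory in
/-- For closed subschemes Z, Y ⊆ X with ideal sheaves I, J, the scheme-theoretic intersection (ideal
sheaf I ⊔ J) together with its inclusions into Z and Y forms a cartesian square over X. -/
theorem result (X : Scheme.{u}) (I J : X.IdealSheafData) :
    IsPullback (Scheme.IdealSheafData.inclusion (le_sup_left : I ≤ I ⊔ J))
      (Scheme.IdealSheafData.inclusion (le_sup_right : J ≤ I ⊔ J)) I.subschemeι J.subschemeι := by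
  open Limits Scheme.IdealSheafData in
  let c : pullback I.subschemeι J.subschemeι ⟶ X := pullback.fst _ _ ≫ I.subschemeι
  have hc2 : c = pullback.snd _ _ ≫ J.subschemeι := pullback.condition
  have hle : I ⊔ J ≤ c.ker := by
    refine sup_le ?_ ?_
    · have := (pullback.fst I.subschemeι J.subschemeι).le_ker_comp I.subschemeι
      rwa [I.ker_subschemeι] at this
    · have := (pullback.snd I.subschemeι J.subschemeι).le_ker_comp J.subschemeι
      rw [J.ker_subschemeι, ← hc2] at this
      exact this
  let b : pullback I.subschemeι J.subschemeι ⟶ (I ⊔ J).subscheme := c.toImage ≫ inclusion hle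
  have hb : b ≫ (I ⊔ J).subschemeι = c := by
    simp only [b, Category.assoc, inclusion_subschemeι]
    exact c.toImage_imageι
  have hsq : inclusion (le_sup_left : I ≤ I ⊔ J) ≫ I.subschemeι =
      inclusion (le_sup_right : J ≤ I ⊔ J) ≫ J.subschemeι := by
    rw [inclusion_subschemeι, inclusion_subschemeι]
  let a : (I ⊔ J).subscheme ⟶ pullback I.subschemeι J.subschemeι :=
    pullback.lift _ _ hsq
  have hab : a ≫ b = 𝟙 _ := by
    rw [← cancel_mono (I ⊔ J).subschemeι, Category.assoc, hb, Category.id_comp]
    simp only [a, c, pullback.lift_fst_assoc, inclusion_subschemeι]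
  have hbfst : b ≫ inclusion (le_sup_left : I ≤ I ⊔ J) = pullback.fst _ _ := by
    rw [← cancel_mono I.subschemeι, Category.assoc, inclusion_subschemeι, hb]
  have hbsnd : b ≫ inclusion (le_sup_right : J ≤ I ⊔ J) = pullback.snd _ _ := by
    rw [← cancel_mono J.subschemeι, Category.assoc, inclusion_subschemeι, hb, hc2]
  have hba : b ≫ a = 𝟙 _ := by
    apply pullback.hom_ext
    · simp only [a, Category.assoc, pullback.lift_fst, Category.id_comp, hbfst]
    · simp only [a, Category.assoc, pullback.lift_snd, Category.id_comp, hbsnd]
  exact IsPullback.of_iso_pullback ⟨hsq⟩ ⟨a, b, hab, hba⟩ (pullback.lift_fst _ _ _)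
    (pullback.lift_snd _ _ _)

end Groth.Agent.S9382
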