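import Groth.Statements.S9393
-- import your own Groth.Agent.* helpers here
import Groth.Agent.Lib.helper10.IntegralClosureLoc

set_option autoImplicit false
universe u
open CAlg

namespace Groth.Agent.S9393

/-- Being N-1 can be checked on a finite cover of Spec R by principal opens whose rings are N-1 domains. -/
theorem result (R : Type u) [CommRing R] [IsDomain R]
    {ι : Type u} [Finite ι] (f : ι → R) (hf : Ideal.span (Set.range f) = ⊤)
    (Rf : ι → Type u) [∀ i, CommRing (Rf i)] [∀ i, IsDomain (Rf i)] [∀ i, Algebra R (Rf i)]
    [∀ i, IsLocalization.Away (f i) (Rf i)] (h : ∀ i, CAlg.IsN1 (Rf i)) : CAlg.IsN1 R := by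
  unfold CAlg.IsN1 at h ⊢
  let idx : Set.range f → ι := fun g => g.2.choose
  have hidx : ∀ g : Set.range f, f (idx g) = g.1 := fun g => g.2.choose_spec
  have hloc : ∀ g : Set.range f, IsLocalization.Away g.val (Rf (idx g)) := fun g => by
    rw [← hidx g]; infer_instance
  have hex := fun g : Set.range f =>
    Groth.Agent.Lib.helper10.exists_isLocalizedModule_integralClosure_away R g.val (Rf (idx g))
  choose φ hφ using hex
  have hst : ∀ g : Set.range f, IsScalarTower R (Rf (idx g))
      (integralClosure (Rf (idx g)) (FractionRing (Rf (idx g)))) := fun g =>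
    ⟨fun r s x => Subtype.ext (smul_assoc r s (x : FractionRing (Rf (idx g))))⟩
  exact Module.Finite.of_localizationSpan' (Set.range f) hf
    (Mₚ := fun g => integralClosure (Rf (idx g)) (FractionRing (Rf (idx g))))
    (Rₚ := fun g => Rf (idx g)) φ (fun g => h (idx g))

end Groth.Agent.S9393
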