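import Groth.Statements.S9399
-- import your own Groth.Agent.* helpers here
import Groth.Agent.Lib.Helper26.UJLocal

set_option autoImplicit false
universe u
open CAlg

namespace Groth.Agent.S9399

/-- Being universally Japanese can be checked on a finite cover of Spec R by principal opens. -/
theorem result (R : Type u) [CommRing R]
    {ι : Type u} [Finite ι] (f : ι → R) (hf : Ideal.span (Set.range f) = ⊤)
    (h : ∀ i, CAlg.IsUniversallyJapanese (Localization.Away (f i))) :
    CAlg.IsUniversallyJapanese R := by
  exact Groth.Agent.Lib.Helper26.UJLocal.main R f hf h

end Groth.Agent.S9399
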