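import Groth.Statements.S9401
import Mathlib
import Groth.Agent.Lib.Helper12.AnUnramC
import Groth.Agent.Lib.Helper12.AnUnramD
import Groth.Agent.Lib.Helper12.NoetherianAux
import Groth.Agent.Lib.Helper22.RedZ1
-- import your own Groth.Agent.* helpers here

set_option autoImplicit false
universe u
open CAlg

namespace Groth.Agent.S9401

/-- The Nagata property descends along smooth ring maps that are surjective on spectra. -/
theorem result (R : Type u) [CommRing R] (S : Type u)
    [CommRing S] [Algebra R S] [Algebra.Smooth R S]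
    (hs : Function.Surjective (PrimeSpectrum.comap (algebraMap R S))) (hS : CAlg.IsNagata S) :
    CAlg.IsNagata R := by
  classical
  have : IsNoetherianRing S := hS.1
  have : Module.FaithfullyFlat R S := Module.FaithfullyFlat.of_comap_surjective hs
  refine ⟨Groth.Agent.Lib.Helper12.isNoetherianRing_of_faithfullyFlat R S, fun p hp => ?_⟩
  -- the base change `C = (R ⧸ p) ⊗[R] S`
  have hC : CAlg.IsNagata (TensorProduct R (R ⧸ p) S) :=
    Groth.Agent.Lib.Helper12.AnUnram.isNagata_of_surjective
      (Algebra.TensorProduct.includeRight : S →ₐ[R] TensorProduct R (R ⧸ p) S).toRingHom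
      (Algebra.TensorProduct.includeRight_surjective S Ideal.Quotient.mk_surjective) hS
  refine Groth.Agent.Lib.Helper12.AnUnram.isN2_of_reduced_tensor (R ⧸ p)
    (TensorProduct R (R ⧸ p) S) hC ?_
  intro L _ _ _ _ hfin
  have : IsReduced (TensorProduct (R ⧸ p) L (TensorProduct R (R ⧸ p) S)) :=
    Groth.Agent.Lib.Helper22.RedZ.isReduced_of_smooth_field L
      (TensorProduct (R ⧸ p) L (TensorProduct R (R ⧸ p) S))
  exact isReduced_of_injective
    (Algebra.TensorProduct.comm (R ⧸ p) (TensorProduct R (R ⧸ p) S) L).toRingEquiv.toRingHom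
    (Algebra.TensorProduct.comm (R ⧸ p) (TensorProduct R (R ⧸ p) S) L).injective

end Groth.Agent.S9401
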