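import Groth.Statements.S9402
-- import your own Groth.Agent.* helpers here

set_option autoImplicit false
universe u
open CAlg

namespace Groth.Agent.S9402

/-- Let R → S be a ring map with S a nonzero algebra over the rationals and f ∈ S such that some
S-linear form on the module of differentials of S over R sends df to 1 (that is, df spans a free
direct summand of rank one). Then f is not nilpotent. (The published statement asks only that S·df
be a direct summand of the module of differentials, which also holds for the rationals with a
square-zero element adjoined and for the zero ring, where f is nilpotent; this row asks for an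
S-linear form on the differentials sending df to 1, as the published proof uses, and S nonzero.) -/
theorem result (R : Type u) [CommRing R] (S : Type u)
    [CommRing S] [Nontrivial S] [Algebra R S] [Algebra ℚ S] (f : S)
    (θ : Ω[S⁄R] →ₗ[S] S) (hθ : θ (KaehlerDifferential.D R S f) = 1) : ¬ IsNilpotent f := by
  classical
  intro hnil
  have hn : f ^ (Nat.find hnil) = 0 := Nat.find_spec hnil
  have hn0 : Nat.find hnil ≠ 0 := by
    intro h
    rw [h, pow_zero] at hn
    exact one_ne_zero hn
  have hD := congrArg θ (congrArg (KaehlerDifferential.D R S) hn)
  rw [Derivation.leibniz_pow, map_zero, map_zero, map_nsmul, map_smul, hθ, smul_eq_mul,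
    mul_one, nsmul_eq_mul] at hD
  have hunit : IsUnit ((Nat.find hnil : ℕ) : S) := by
    have h1 : ((Nat.find hnil : ℕ) : S) = algebraMap ℚ S (Nat.find hnil : ℕ) := by simp
    rw [h1]
    exact (IsUnit.mk0 ((Nat.find hnil : ℕ) : ℚ) (by exact_mod_cast hn0)).map _
  have h2 : f ^ (Nat.find hnil - 1) = 0 := (hunit.mul_right_eq_zero).mp hD
  exact Nat.find_min hnil (Nat.sub_lt (Nat.pos_of_ne_zero hn0) one_pos) h2

end Groth.Agent.S9402
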