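import Groth.Statements.S9403
import Mathlib.RingTheory.Filtration

set_option autoImplicit false
universe u
open CAlg

namespace Groth.Agent.S9403

/-- Let R → S be a ring map with S a Noetherian local ring which is an algebra over the rationals, and f
∈ S such that some S-linear form on the module of differentials of S over R sends df to 1 (df spans
a free direct summand of rank one). Then f is a nonzerodivisor of S. (The published statement asks
only that S·df be a direct summand of the module of differentials, which also holds for the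
rationals with a square-zero element adjoined, where f is a zero divisor; this row asks for an
S-linear form on the differentials sending df to 1, as the published proof uses.) -/
theorem result (R : Type u) [CommRing R]
    (S : Type u) [CommRing S] [IsLocalRing S] [IsNoetherianRing S] [Algebra R S] [Algebra ℚ S]
    (f : S) (θ : Ω[S⁄R] →ₗ[S] S) (hθ : θ (KaehlerDifferential.D R S f) = 1) : f ∈ nonZeroDivisors S := by
  rw [mem_nonZeroDivisors_iff_right]
  intro a ha
  by_cases hf : IsUnit f
  · exact (hf.mul_left_eq_zero).mp ha
  have hfm : f ∈ IsLocalRing.maximalIdeal S := (IsLocalRing.mem_maximalIdeal f).mpr hf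
  -- the derivation D = θ ∘ d
  let D : S → S := fun s => θ (KaehlerDifferential.D R S s)
  have hDmul : ∀ s t : S, D (s * t) = s * D t + t * D s := by
    intro s t
    simp only [D, Derivation.leibniz, map_add, map_smul, smul_eq_mul]
  have hDf : D f = 1 := hθ
  have hDpow : ∀ n : ℕ, D (f ^ n) = (n : S) * f ^ (n - 1) := by
    intro n
    simp only [D, Derivation.leibniz_pow, map_nsmul, map_smul, hθ, smul_eq_mul, mul_one,
      nsmul_eq_mul]
  have key : ∀ n : ℕ, ∃ b : S, a = f ^ n * b := by
    intro n
    induction n with
    | zero => exact ⟨a, by simp⟩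
    | succ n ih =>
      obtain ⟨b, hb⟩ := ih
      have h0 : f ^ (n + 1) * b = 0 := by
        rw [pow_succ, mul_right_comm, ← hb, ha]
      have h1 := congrArg D h0
      rw [hDmul, hDpow, Nat.add_sub_cancel] at h1
      simp only [D, map_zero] at h1
      have hunit : IsUnit ((n + 1 : ℕ) : S) := by
        have h2 : ((n + 1 : ℕ) : S) = algebraMap ℚ S ((n + 1 : ℕ) : ℚ) := by simp
        rw [h2]
        exact (IsUnit.mk0 (((n + 1 : ℕ) : ℚ)) (by exact_mod_cast Nat.succ_ne_zero n)).map _
      obtain ⟨u, hu⟩ := hunit
      refine ⟨-(↑u⁻¹ : S) * θ (KaehlerDifferential.D R S b), ?_⟩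
      have h3 : (u : S) * a = -(f ^ (n + 1) * θ (KaehlerDifferential.D R S b)) := by
        rw [hu, hb]
        have : f ^ (n + 1) * θ (KaehlerDifferential.D R S b) + ((n + 1 : ℕ) : S) * (f ^ n * b) = 0 := by
          rw [← h1]; ring
        exact eq_neg_of_add_eq_zero_right this
      calc a = (↑u⁻¹ : S) * ((u : S) * a) := by rw [← mul_assoc, Units.inv_mul, one_mul]
        _ = f ^ (n + 1) * (-(↑u⁻¹ : S) * θ (KaehlerDifferential.D R S b)) := by rw [h3]; ring
  have hmem : a ∈ ⨅ i : ℕ, (IsLocalRing.maximalIdeal S) ^ i := by
    rw [Ideal.mem_iInf]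
    intro i
    obtain ⟨b, rfl⟩ := key i
    exact Ideal.mul_mem_right _ _ (Ideal.pow_mem_pow hfm i)
  rw [Ideal.iInf_pow_eq_bot_of_isLocalRing _ (IsLocalRing.maximalIdeal.isMaximal S).ne_top] at hmem
  exact hmem

end Groth.Agent.S9403
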