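import Groth.Statements.S9408
import Groth.Agent.Lib.Helper5.RegSmooth

set_option autoImplicit false
universe u
open CAlg

namespace Groth.Agent.S9408

/-- Over a field k, geometric regularity ascends along smooth maps of k-algebras: for A Noetherian and
geometrically regular over k and B smooth over A, B is geometrically regular over k. -/
theorem result (k : Type u) [Field k] (A : Type u) [CommRing A]
    [Algebra k A] [IsNoetherianRing A] (B : Type u) [CommRing B] [Algebra k B] [Algebra A B]
    [IsScalarTower k A B] [Algebra.Smooth A B] (hA : CAlg.IsGeometricallyRegular k A) :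
    CAlg.IsGeometricallyRegular k B := by
  intro k' _ _ hfin
  have h1 : IsRegularRing (TensorProduct k k' A) := hA k' hfin
  have h2 : IsRegularRing (TensorProduct k A k') :=
    IsRegularRing.of_ringEquiv (Algebra.TensorProduct.comm k k' A).toRingEquiv
  have h3 : IsRegularRing (TensorProduct A (TensorProduct k A k') B) :=
    Lib.Helper5.RegSmooth.isRegularRing_of_smooth (TensorProduct k A k') _
  have h4 : IsRegularRing (TensorProduct A B (TensorProduct k A k')) :=
    IsRegularRing.of_ringEquiv (Algebra.TensorProduct.comm A (TensorProduct k A k') B).toRingEquiv
  have h5 : IsRegularRing (TensorProduct k B k') :=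
    IsRegularRing.of_ringEquiv (Algebra.TensorProduct.cancelBaseChange k A A B k').toRingEquiv
  exact IsRegularRing.of_ringEquiv (Algebra.TensorProduct.comm k B k').toRingEquiv

end Groth.Agent.S9408
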