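import Groth.Statements.S9410
import Groth.Agent.Lib.Helper5.RegularProd
import Groth.Agent.S2451
import Groth.Agent.S9409
import Mathlib

set_option autoImplicit false
universe u
open CAlg

namespace Groth.Agent.S9410

open TensorProduct

theorem red (k k' k'' : Type u) [Field k] [Field k'] [Field k''] [Algebra k k'] [Algebra k k'']
    [Algebra.IsSeparable k k'] [Module.Finite k k''] : IsReduced (k' ⊗[k] k'') := by
  have h1 : Algebra.FormallyEtale k k' := Algebra.FormallyEtale.of_isSeparable k k'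
  have h2 : Algebra.FormallySmooth k k' := inferInstance
  have h3 : Algebra.IsGeometricallyReduced k k' := Groth.Agent.S2451.result.1 h2
  have h4 : IsReduced (k'' ⊗[k] k') := inferInstance
  exact isReduced_of_injective (Algebra.TensorProduct.comm k k' k'').toRingEquiv
    (Algebra.TensorProduct.comm k k' k'').injective

theorem chain (k k' k'' A : Type u) [Field k] [Field k'] [Field k''] [Algebra k k'] [Algebra k k'']
    [CommRing A] [Algebra k' A] [Algebra k A] [IsScalarTower k k' A] [Module.Finite k k'']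
    [IsReduced (k' ⊗[k] k'')] :
    ∃ _ : IsArtinianRing (k' ⊗[k] k''),
    Nonempty (k'' ⊗[k] A ≃+* ∀ I : MaximalSpectrum (k' ⊗[k] k''),
      A ⊗[k'] ((k' ⊗[k] k'') ⧸ I.asIdeal)) := by
  classical
  have hart : IsArtinianRing (k' ⊗[k] k'') := IsArtinianRing.of_finite k' _
  refine ⟨hart, ?_⟩
  have : Fintype (MaximalSpectrum (k' ⊗[k] k'')) := Fintype.ofFinite _
  let e1 : k'' ⊗[k] A ≃ₐ[k] A ⊗[k] k'' := Algebra.TensorProduct.comm k k'' A
  let e2 : A ⊗[k'] (k' ⊗[k] k'') ≃ₐ[k'] A ⊗[k] k'' :=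
    Algebra.TensorProduct.cancelBaseChange k k' k' A k''
  let e3 : (k' ⊗[k] k'') ≃ₐ[k'] ∀ I : MaximalSpectrum (k' ⊗[k] k''), (k' ⊗[k] k'') ⧸ I.asIdeal :=
    (IsArtinianRing.equivPi (k' ⊗[k] k'')).restrictScalars k'
  let e4 := Algebra.TensorProduct.congr (AlgEquiv.refl : A ≃ₐ[k'] A) e3
  let e5 := Algebra.TensorProduct.piRight k' k' A
    (fun I : MaximalSpectrum (k' ⊗[k] k'') => (k' ⊗[k] k'') ⧸ I.asIdeal)
  exact ⟨e1.toRingEquiv.trans (e2.symm.toRingEquiv.trans (e4.toRingEquiv.trans e5.toRingEquiv))⟩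

theorem down_fin (k : Type u) [Field k] (L : Type u)
    [Field L] [Algebra k L] [Algebra.IsSeparable k L] [Module.Finite k L]
    (A : Type u) [CommRing A] [Algebra L A]
    [Algebra k A] [IsScalarTower k L A]
    (h : CAlg.IsGeometricallyRegular k A) : CAlg.IsGeometricallyRegular L A := by
  classical
  intro L'' _ _ hfin
  let _ : Algebra k L'' := ((algebraMap L L'').comp (algebraMap k L)).toAlgebra
  have hst : IsScalarTower k L L'' := IsScalarTower.of_algebraMap_eq (fun x => rfl)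
  have hfin' : Module.Finite k L'' := Module.Finite.trans L L''
  have hred : IsReduced (L ⊗[k] L'') := red k L L''
  obtain ⟨hart, ⟨e⟩⟩ := chain k L L'' A
  have h0 : IsRegularRing (L'' ⊗[k] A) := h L'' hfin'
  have hpi : IsRegularRing (∀ I : MaximalSpectrum (L ⊗[k] L''),
      A ⊗[L] ((L ⊗[k] L'') ⧸ I.asIdeal)) :=
    IsRegularRing.of_ringEquiv e
  let μ : L ⊗[k] L'' →ₐ[L] L'' := Algebra.TensorProduct.lift (Algebra.ofId L L'')
    (IsScalarTower.toAlgHom k L'' L'') (fun _ _ => Commute.all _ _)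
  have hμ : Function.Surjective μ := by
    intro y
    refine ⟨1 ⊗ₜ y, ?_⟩
    simp [μ]
  have hmax : (RingHom.ker μ.toRingHom).IsMaximal :=
    RingHom.ker_isMaximal_of_surjective μ.toRingHom hμ
  let I₀ : MaximalSpectrum (L ⊗[k] L'') := ⟨RingHom.ker μ.toRingHom, hmax⟩
  have h1 : IsRegularRing (A ⊗[L] ((L ⊗[k] L'') ⧸ I₀.asIdeal)) :=
    Lib.Helper5.RegularProd.isRegularRing_of_pi
      (fun I : MaximalSpectrum (L ⊗[k] L'') => A ⊗[L] ((L ⊗[k] L'') ⧸ I.asIdeal)) I₀
  let e6 : ((L ⊗[k] L'') ⧸ I₀.asIdeal) ≃ₐ[L] L'' := Ideal.quotientKerAlgEquivOfSurjective hμ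
  let e7 : A ⊗[L] ((L ⊗[k] L'') ⧸ I₀.asIdeal) ≃ₐ[L] A ⊗[L] L'' :=
    Algebra.TensorProduct.congr (AlgEquiv.refl : A ≃ₐ[L] A) e6
  have h2 : IsRegularRing (A ⊗[L] L'') :=
    IsRegularRing.of_ringEquiv (R := A ⊗[L] ((L ⊗[k] L'') ⧸ I₀.asIdeal)) e7.toRingEquiv
  exact IsRegularRing.of_ringEquiv (Algebra.TensorProduct.comm L A L'').toRingEquiv

theorem up (k : Type u) [Field k] (k' : Type u)
    [Field k'] [Algebra k k'] [Algebra.IsSeparable k k'] (A : Type u) [CommRing A] [Algebra k' A]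
    [Algebra k A] [IsScalarTower k k' A]
    (h : CAlg.IsGeometricallyRegular k' A) : CAlg.IsGeometricallyRegular k A := by
  classical
  intro k'' _ _ hfin
  have hred : IsReduced (k' ⊗[k] k'') := red k k' k''
  obtain ⟨hart, ⟨e⟩⟩ := chain k k' k'' A
  have hpi : IsRegularRing (∀ I : MaximalSpectrum (k' ⊗[k] k''),
      A ⊗[k'] ((k' ⊗[k] k'') ⧸ I.asIdeal)) := by
    apply Lib.Helper5.RegularProd.isRegularRing_pi
    intro I
    have hmax : I.asIdeal.IsMaximal := I.isMaximal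
    let F : Field ((k' ⊗[k] k'') ⧸ I.asIdeal) := Ideal.Quotient.field I.asIdeal
    have hf : Module.Finite k' ((k' ⊗[k] k'') ⧸ I.asIdeal) := inferInstance
    have h5 : IsRegularRing (((k' ⊗[k] k'') ⧸ I.asIdeal) ⊗[k'] A) :=
      h ((k' ⊗[k] k'') ⧸ I.asIdeal) hf
    exact IsRegularRing.of_ringEquiv
      (Algebra.TensorProduct.comm k' ((k' ⊗[k] k'') ⧸ I.asIdeal) A).toRingEquiv
  exact IsRegularRing.of_ringEquiv (R := ∀ I : MaximalSpectrum (k' ⊗[k] k''),
      A ⊗[k'] ((k' ⊗[k] k'') ⧸ I.asIdeal)) e.symm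

theorem down (k : Type u) [Field k] (k' : Type u)
    [Field k'] [Algebra k k'] [Algebra.IsSeparable k k'] (A : Type u) [CommRing A] [Algebra k' A]
    [Algebra k A] [IsScalarTower k k' A] [IsNoetherianRing A]
    (h : CAlg.IsGeometricallyRegular k A) : CAlg.IsGeometricallyRegular k' A := by
  classical
  refine Groth.Agent.S9409.result k'
    (ι := {L : IntermediateField k k' // FiniteDimensional k L})
    (fun L => ↥L.1) ?_ ?_ A ?_
  · rintro ⟨L1, h1⟩ ⟨L2, h2⟩
    refine ⟨⟨L1 ⊔ L2, IntermediateField.finiteDimensional_sup L1 L2⟩, ?_, ?_⟩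
    · rintro _ ⟨x, rfl⟩
      exact ⟨⟨x.1, (le_sup_left : L1 ≤ L1 ⊔ L2) x.2⟩, rfl⟩
    · rintro _ ⟨x, rfl⟩
      exact ⟨⟨x.1, (le_sup_right : L2 ≤ L1 ⊔ L2) x.2⟩, rfl⟩
  · intro x
    have hx : IsIntegral k x := Algebra.IsIntegral.isIntegral x
    refine ⟨⟨IntermediateField.adjoin k {x}, IntermediateField.adjoin.finiteDimensional hx⟩, ?_⟩
    exact ⟨⟨x, IntermediateField.mem_adjoin_simple_self k x⟩, rfl⟩
  · rintro ⟨L, hL⟩
    have : Module.Finite k L := hL
    have : Algebra.IsSeparable k L := Algebra.isSeparable_tower_bot_of_isSeparable k L k'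
    exact down_fin k L A h


/-- Given a separable algebraic field extension k'/k and a Noetherian k'-algebra A, geometric regularity
of A over k' is equivalent to geometric regularity of A over k. -/
theorem result (k : Type u) [Field k] (k' : Type u)
    [Field k'] [Algebra k k'] [Algebra.IsSeparable k k'] (A : Type u) [CommRing A] [Algebra k' A]
    [Algebra k A] [IsScalarTower k k' A] [IsNoetherianRing A] :
    CAlg.IsGeometricallyRegular k A ↔ CAlg.IsGeometricallyRegular k' A :=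
  ⟨down k k' A, up k k' A⟩

end Groth.Agent.S9410
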