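import Groth.Statements.S9412
import Mathlib
-- import your own Groth.Agent.* helpers here

set_option autoImplicit false
universe u
open EGA4

namespace Groth.Agent.S9412

section H
namespace W33
open TensorProduct

theorem isNormalRing_of_isLocalization {R T : Type u} [CommRing R] [CommRing T] [Algebra R T]
    (M : Submonoid R) [IsLocalization M T] (h : EGA4.IsNormalRing R) : EGA4.IsNormalRing T := by
  intro q hq
  let p : Ideal R := q.comap (algebraMap R T)
  have hp : p.IsPrime := Ideal.comap_isPrime _ _
  have : IsScalarTower R T (Localization.AtPrime q) := inferInstance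
  have : IsLocalization.AtPrime (Localization.AtPrime q) p :=
    IsLocalization.isLocalization_isLocalization_atPrime_isLocalization M _ q
  let e : Localization.AtPrime p ≃ₐ[R] Localization.AtPrime q :=
    IsLocalization.algEquiv p.primeCompl _ _
  obtain ⟨h1, h2⟩ := h p
  exact ⟨e.toRingEquiv.toMulEquiv.isDomain_iff.mp h1, IsIntegrallyClosed.of_equiv e.toRingEquiv⟩

theorem main (k : Type u) [Field k] (A : Type u) [CommRing A]
    [Algebra k A] (M : Submonoid A) (B : Type u) [CommRing B] [Algebra A B] [IsLocalization M B]
    [Algebra k B] [IsScalarTower k A B] (h : EGA4.IsGeomNormal k A) :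
    EGA4.IsGeomNormal k B := by
  intro k' _ _ hfin
  have hA := h k' hfin
  let _ : Algebra (k' ⊗[k] A) (k' ⊗[k] B) :=
    (Algebra.TensorProduct.map (AlgHom.id k' k') (IsScalarTower.toAlgHom k A B)).toRingHom.toAlgebra
  have : IsScalarTower k' (k' ⊗[k] A) (k' ⊗[k] B) := IsScalarTower.of_algebraMap_eq' (by
    ext x
    simp [RingHom.algebraMap_toAlgebra, Algebra.TensorProduct.algebraMap_apply])
  have := IsLocalization.tensorProduct_tensorProduct_right k k' M B (by
    ext x
    simp [RingHom.algebraMap_toAlgebra])
  exact isNormalRing_of_isLocalization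
    (M.map (Algebra.TensorProduct.includeRight (R := k) (A := k'))) hA

end W33
end H


/-- A localization of a geometrically normal algebra over a field k is geometrically normal over k. -/
theorem result (k : Type u) [Field k] (A : Type u) [CommRing A]
    [Algebra k A] (M : Submonoid A) (B : Type u) [CommRing B] [Algebra A B] [IsLocalization M B]
    [Algebra k B] [IsScalarTower k A B] (h : EGA4.IsGeomNormal k A) :
    EGA4.IsGeomNormal k B := by
  exact W33.main k A M B h

end Groth.Agent.S9412
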