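import Groth.Statements.S9414
import Mathlib


set_option autoImplicit false
universe u
open CAlg

namespace Groth.Agent.S9414

open TensorProduct in
/-- For an algebraically closed field k, a finite type k-algebra S and a maximal ideal m of S with
residue field κ = S/m, the κ-vector spaces κ ⊗_S Ω_{S/k} and m/m² have the same dimension. -/
theorem result (k : Type u) [Field k]
    [IsAlgClosed k] (S : Type u) [CommRing S] [Algebra k S] [Algebra.FiniteType k S]
    (m : Ideal S) [m.IsMaximal] :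
    Module.finrank (S ⧸ m) ((S ⧸ m) ⊗[S] Ω[S⁄k]) = Module.finrank (S ⧸ m) m.Cotangent := by
  classical
  letI : Field (S ⧸ m) := Ideal.Quotient.field m
  haveI : Algebra.FiniteType k (S ⧸ m) :=
    Algebra.FiniteType.of_surjective (Ideal.Quotient.mkₐ k m) (Ideal.Quotient.mkₐ_surjective k m)
  haveI : Module.Finite k (S ⧸ m) := finite_of_finite_type_of_isJacobsonRing k (S ⧸ m)
  have hbij : Function.Bijective (algebraMap k (S ⧸ m)) :=
    IsAlgClosed.algebraMap_bijective_of_isIntegral
  have hf : Function.Surjective (algebraMap S (S ⧸ m)) := Ideal.Quotient.mk_surjective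
  let e : k ≃ₐ[k] (S ⧸ m) := AlgEquiv.ofBijective (Algebra.ofId k _) hbij
  let g : (S ⧸ m) →ₐ[k]
      S ⧸ (RingHom.ker (IsScalarTower.toAlgHom k S (S ⧸ m)).toRingHom ^ 2) :=
    (Algebra.ofId k _).comp e.symm.toAlgHom
  have hg : (IsScalarTower.toAlgHom k S (S ⧸ m)).kerSquareLift.comp g = AlgHom.id k (S ⧸ m) := by
    ext x
    obtain ⟨c, rfl⟩ := hbij.2 x
    simp
  obtain ⟨l, hl⟩ :=
    (retractionKerCotangentToTensorEquivSection (R := k) hf).symm ⟨g, hg⟩
  have hinj : Function.Injective (KaehlerDifferential.kerCotangentToTensor k S (S ⧸ m)) :=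
    Function.LeftInverse.injective (g := l) (fun x => LinearMap.congr_fun hl x)
  have hsurj : Function.Surjective (KaehlerDifferential.kerCotangentToTensor k S (S ⧸ m)) := by
    intro y
    have hex := KaehlerDifferential.exact_kerCotangentToTensor_mapBaseChange k S (S ⧸ m) hf
    haveI : Subsingleton Ω[(S ⧸ m)⁄k] :=
      KaehlerDifferential.subsingleton_of_surjective k (S ⧸ m) hbij.2
    exact (hex y).mp (Subsingleton.elim _ _)
  have key : ∀ I : Ideal S, I = m →
      Nonempty (I.Cotangent ≃ₗ[S] (S ⧸ m) ⊗[S] Ω[S⁄k]) →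
      Nonempty (m.Cotangent ≃ₗ[S] (S ⧸ m) ⊗[S] Ω[S⁄k]) := by
    rintro I rfl h
    exact h
  obtain ⟨E⟩ := key (RingHom.ker (algebraMap S (S ⧸ m)))
    (by rw [Ideal.Quotient.algebraMap_eq, Ideal.mk_ker])
    ⟨LinearEquiv.ofBijective _ ⟨hinj, hsurj⟩⟩
  exact ((LinearEquiv.extendScalarsOfSurjective hf E).finrank_eq).symm

end Groth.Agent.S9414
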