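import Groth.Statements.S9415
import Groth.Agent.Lib.Helper5.SepSmooth
import Mathlib

set_option autoImplicit false
universe u
open CAlg

namespace Groth.Agent.S9415

/-- Let R be a Noetherian local algebra over a field k whose residue field κ is a finitely generated,
separable (that is, geometrically reduced) field extension of k. Then the map from m/m² (m the
maximal ideal, realised as the kernel of R → κ) to κ ⊗_R Ω_{R/k} sending the class of x to 1 ⊗ dx is
injective. -/
theorem result (k : Type u) [Field k] (R : Type u)
    [CommRing R] [IsLocalRing R] [IsNoetherianRing R] [Algebra k R]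
    [Algebra.EssFiniteType k (IsLocalRing.ResidueField R)]
    [Algebra.IsGeometricallyReduced k (IsLocalRing.ResidueField R)] :
    Function.Injective
      (KaehlerDifferential.kerCotangentToTensor k R (IsLocalRing.ResidueField R)) := by
  haveI : Algebra.FormallySmooth k (IsLocalRing.ResidueField R) :=
    Groth.Agent.Lib.Helper5.SepSmooth.formallySmooth_of_geomReduced
  have hf : Function.Surjective (algebraMap R (IsLocalRing.ResidueField R)) :=
    IsLocalRing.residue_surjective
  have key : ∀ {P : Type u} [CommRing P] [Algebra k P] (π : P →ₐ[k] IsLocalRing.ResidueField R),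
      Function.Surjective π → RingHom.ker π.toRingHom ^ 2 = ⊥ →
      ∃ g : IsLocalRing.ResidueField R →ₐ[k] P, π.comp g = AlgHom.id k _ := by
    intro P _ _ π hsurj hker
    exact ⟨Algebra.FormallySmooth.liftOfSurjective (AlgHom.id k _) π hsurj ⟨2, hker⟩,
      Algebra.FormallySmooth.comp_liftOfSurjective _ _ hsurj ⟨2, hker⟩⟩
  obtain ⟨g, hg⟩ := key (IsScalarTower.toAlgHom k R (IsLocalRing.ResidueField R)).kerSquareLift
    (by
      intro c
      obtain ⟨a, rfl⟩ := hf c
      exact ⟨Ideal.Quotient.mk _ a, rfl⟩)
    (by
      rw [AlgHom.ker_kerSquareLift (IsScalarTower.toAlgHom k R (IsLocalRing.ResidueField R))]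
      exact Ideal.cotangentIdeal_square _)
  obtain ⟨l, hl⟩ :=
    (retractionKerCotangentToTensorEquivSection (R := k) hf).symm ⟨g, hg⟩
  exact Function.LeftInverse.injective (g := l) (fun x => LinearMap.congr_fun hl x)

end Groth.Agent.S9415
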