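import Groth.Statements.S9421
import Groth.Agent.Lib.Helper17.ColimSysSmooth
import Mathlib
set_option backward.isDefEq.respectTransparency.types false

set_option autoImplicit false
universe u
open CAlg

namespace Groth.Agent.S9421
open Groth.Agent.Lib.Helper17.ColimSys


open TensorProduct in
/-- Let (A_i) be a directed system of A₀-algebras with colimit A (given by compatible maps A_i → A which
are jointly surjective and whose kernels die in the system), and B₀ → C₀ a homomorphism of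
A₀-algebras with C₀ of finite presentation over B₀. If the base change of B₀ → C₀ along B₀ → B₀
⊗_{A₀} A is étale, then already its base change along B₀ → B₀ ⊗_{A₀} A_i is étale for some index i. -/
theorem result {ι : Type u} [Preorder ι] [IsDirected ι (· ≤ ·)] [Nonempty ι]
    (A₀ : Type u) [CommRing A₀] (G : ι → Type u) [∀ i, CommRing (G i)] [∀ i, Algebra A₀ (G i)]
    (f : ∀ i j, i ≤ j → (G i →ₐ[A₀] G j)) (A : Type u) [CommRing A] [Algebra A₀ A]
    (g : ∀ i, G i →ₐ[A₀] A) (hg : ∀ i j (h : i ≤ j), (g j).comp (f i j h) = g i)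
    (hsurj : ∀ a : A, ∃ i, ∃ x : G i, g i x = a)
    (hker : ∀ i (x : G i), g i x = 0 → ∃ j, ∃ h : i ≤ j, f i j h x = 0)
    (B₀ : Type u) [CommRing B₀] [Algebra A₀ B₀] (C₀ : Type u) [CommRing C₀] [Algebra A₀ C₀]
    [Algebra B₀ C₀] [IsScalarTower A₀ B₀ C₀] [Algebra.FinitePresentation B₀ C₀]
    (h : Algebra.Etale (B₀ ⊗[A₀] A) ((B₀ ⊗[A₀] A) ⊗[B₀] C₀)) :
    ∃ i, Algebra.Etale (B₀ ⊗[A₀] G i) ((B₀ ⊗[A₀] G i) ⊗[B₀] C₀) := by
  obtain ⟨i⟩ := ‹Nonempty ι›
  let P := Algebra.Presentation.ofFinitePresentation B₀ C₀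
  have hfe := h.formallyEtale
  have hus := Algebra.FormallyEtale.iff_formallyUnramified_and_formallySmooth.mp hfe
  haveI := hus.2
  have hd : SmoothData P (B₀ ⊗[A₀] A) := smoothData_of_formallySmooth P _
  obtain ⟨l₁, F₁, hl₁⟩ := exists_smoothData g f hg hsurj hker B₀ C₀ P i hd
  obtain ⟨l₂, F₂, hl₂⟩ := exists_formallyUnramified g f hg hsurj hker B₀ C₀ l₁ hus.1
  have hs₂ : SmoothData P (B₀ ⊗[A₀] G l₂) := hl₁.map P (Bmap B₀ F₂.1)
  haveI := formallySmooth_of_smoothData P _ hs₂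
  haveI := hl₂
  exact ⟨l₂, ⟨Algebra.FormallyEtale.of_formallyUnramified_and_formallySmooth, inferInstance⟩⟩

end Groth.Agent.S9421
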