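import Groth.Statements.S9425
-- import your own Groth.Agent.* helpers here

set_option autoImplicit false
universe u
open CAlg

namespace Groth.Agent.S9425

/-- A directed colimit of formally étale R-algebras is formally étale over R. The colimit is encoded by
compatible R-algebra maps S_i → S which are jointly surjective and whose kernels die further along
the system. -/
theorem result {ι : Type u} [Preorder ι] [IsDirected ι (· ≤ ·)] [Nonempty ι]
    (R : Type u) [CommRing R] (G : ι → Type u) [∀ i, CommRing (G i)] [∀ i, Algebra R (G i)]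
    (f : ∀ i j, i ≤ j → (G i →ₐ[R] G j)) (S : Type u) [CommRing S] [Algebra R S]
    (g : ∀ i, G i →ₐ[R] S) (hg : ∀ i j (h : i ≤ j), (g j).comp (f i j h) = g i)
    (hsurj : ∀ s : S, ∃ i, ∃ x : G i, g i x = s)
    (hker : ∀ i (x : G i), g i x = 0 → ∃ j, ∃ h : i ≤ j, f i j h x = 0)
    (h : ∀ i, Algebra.FormallyEtale R (G i)) : Algebra.FormallyEtale R S := by
  rw [Algebra.FormallyEtale.iff_comp_bijective]
  intro B _ _ I hI
  constructor
  · intro φ₁ φ₂ e
    ext s
    obtain ⟨i, x, rfl⟩ := hsurj s
    have := (Algebra.FormallyEtale.comp_bijective (R := R) (A := G i) I hI).1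
      (a₁ := φ₁.comp (g i)) (a₂ := φ₂.comp (g i))
      (by rw [← AlgHom.comp_assoc, ← AlgHom.comp_assoc, e])
    exact DFunLike.congr_fun this x
  · intro ψ
    have hl : ∀ i, ∃ φ : G i →ₐ[R] B, (Ideal.Quotient.mkₐ R I).comp φ = ψ.comp (g i) :=
      fun i => (Algebra.FormallyEtale.comp_bijective (R := R) (A := G i) I hI).2 _
    choose φ hφ using hl
    have hcompat : ∀ i j (hij : i ≤ j), (φ j).comp (f i j hij) = φ i := by
      intro i j hij
      apply (Algebra.FormallyEtale.comp_bijective (R := R) (A := G i) I hI).1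
      rw [← AlgHom.comp_assoc, hφ, hφ, AlgHom.comp_assoc, hg]
    have c1 : ∀ i j hij x, φ j (f i j hij x) = φ i x :=
      fun i j hij x => DFunLike.congr_fun (hcompat i j hij) x
    have c2 : ∀ i j hij x, g j (f i j hij x) = g i x :=
      fun i j hij x => DFunLike.congr_fun (hg i j hij) x
    have key : ∀ i (x : G i) j (y : G j), g i x = g j y → φ i x = φ j y := by
      intro i x j y hxy
      obtain ⟨k, hik, hjk⟩ := exists_ge_ge i j
      have h0 : g k (f i k hik x - f j k hjk y) = 0 := by
        rw [map_sub, c2, c2, hxy, sub_self]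
      obtain ⟨l, hkl, h1⟩ := hker k _ h0
      rw [map_sub, sub_eq_zero] at h1
      rw [← c1 i k hik x, ← c1 k l hkl, h1, c1, c1]
    have hsurj' := hsurj
    choose idx rep hrep using hsurj
    have hΦ : ∀ i x, φ (idx (g i x)) (rep (g i x)) = φ i x :=
      fun i x => key _ _ _ _ (hrep (g i x))
    obtain ⟨i₀⟩ := ‹Nonempty ι›
    let Φa : S →ₐ[R] B :=
      { toFun := fun s => φ (idx s) (rep s)
        map_one' := by
          rw [← map_one (g i₀), hΦ, map_one]
        map_mul' := by
          intro s t
          obtain ⟨i, x, rfl⟩ := hsurj' s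
          obtain ⟨j, y, rfl⟩ := hsurj' t
          obtain ⟨k, hik, hjk⟩ := exists_ge_ge i j
          rw [← c2 i k hik x, ← c2 j k hjk y, ← map_mul, hΦ, hΦ, hΦ, map_mul]
        map_zero' := by
          rw [← map_zero (g i₀), hΦ, map_zero]
        map_add' := by
          intro s t
          obtain ⟨i, x, rfl⟩ := hsurj' s
          obtain ⟨j, y, rfl⟩ := hsurj' t
          obtain ⟨k, hik, hjk⟩ := exists_ge_ge i j
          rw [← c2 i k hik x, ← c2 j k hjk y, ← map_add, hΦ, hΦ, hΦ, map_add]
        commutes' := by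
          intro r
          rw [← (g i₀).commutes r, hΦ, (φ i₀).commutes] }
    refine ⟨Φa, ?_⟩
    ext s
    obtain ⟨i, x, rfl⟩ := hsurj' s
    change Ideal.Quotient.mk I (φ (idx (g i x)) (rep (g i x))) = ψ (g i x)
    rw [hΦ]
    exact DFunLike.congr_fun (hφ i) x

end Groth.Agent.S9425
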