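import Groth.Statements.S9427
import Mathlib

set_option autoImplicit false
universe u
open OmegaSh

namespace Groth.Agent.S9427

open TensorProduct

section part1

variable {A B B' : Type u} [CommRing A] [CommRing B] [CommRing B'] [Algebra A B] [Algebra A B']
  (π : B' →ₐ[A] B) (h : OmegaSh.IsUnivThickeningRing A B B' π)

include h in
/-- uniqueness of maps out of the thickening that agree modulo a square-zero ideal containing the
image of the kernel. -/
theorem eq_of_univ (T : Type u) [CommRing T] [Algebra A T] (I : Ideal T) (hI : I ^ 2 = ⊥)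
    (g₁ g₂ : B' →ₐ[A] T) (hN : ∀ n ∈ RingHom.ker π.toRingHom, g₁ n ∈ I)
    (hd : ∀ b, g₁ b - g₂ b ∈ I) : g₁ = g₂ := by
  obtain ⟨hsurj, -, huniv⟩ := h
  have H : RingHom.ker π.toRingHom ≤ RingHom.ker ((Ideal.Quotient.mkₐ A I).comp g₁).toRingHom := by
    intro n hn
    rw [RingHom.mem_ker]
    exact Ideal.Quotient.eq_zero_iff_mem.2 (hN n hn)
  let a : B →ₐ[A] T ⧸ I := AlgHom.liftOfSurjective π hsurj ((Ideal.Quotient.mkₐ A I).comp g₁) H
  have h1 : (Ideal.Quotient.mkₐ A I).comp g₁ = a.comp π :=
    (AlgHom.liftOfSurjective_comp π hsurj _ H).symm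
  have h2 : (Ideal.Quotient.mkₐ A I).comp g₂ = a.comp π := by
    rw [← h1]
    apply AlgHom.ext
    intro b
    exact (Ideal.Quotient.eq.2 (hd b)).symm
  obtain ⟨a', -, hu⟩ := huniv T I hI a
  rw [hu g₁ h1, hu g₂ h2]

include h in
theorem formallyUnramified_of_univ : Algebra.FormallyUnramified A B' := by
  have hN2 : RingHom.ker π.toRingHom ^ 2 = ⊥ := h.2.1
  rw [Algebra.FormallyUnramified.iff_comp_injective]
  intro C _ _ K hK g₁ g₂ hg
  have hd : ∀ b, g₁ b - g₂ b ∈ K := by
    intro b
    rw [← Ideal.Quotient.eq]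
    exact AlgHom.congr_fun hg b
  let N := RingHom.ker π.toRingHom
  let I₂ : Ideal C := Ideal.map g₁.toRingHom N
  have hI₂ : I₂ ^ 2 = ⊥ := by
    rw [← Ideal.map_pow, hN2, Ideal.map_bot]
  -- step 1: the difference lies in I₂ * K
  let K₂ : Ideal C := I₂ * K
  have hstep1 : ∀ b, g₁ b - g₂ b ∈ K₂ := by
    let q := Ideal.Quotient.mkₐ A K₂
    let Ibar : Ideal (C ⧸ K₂) := Ideal.map q.toRingHom (I₂ ⊔ K)
    have hIbar : Ibar ^ 2 = ⊥ := by
      rw [← Ideal.map_pow, eq_bot_iff, Ideal.map_le_iff_le_comap]
      have : (I₂ ⊔ K) ^ 2 ≤ K₂ := by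
        rw [sq, Ideal.sup_mul, Ideal.mul_sup, Ideal.mul_sup, ← sq, ← sq, hI₂, hK]
        simp only [bot_sup_eq, sup_bot_eq]
        refine sup_le le_rfl ?_
        rw [mul_comm]
      refine this.trans ?_
      intro x hx
      rw [Ideal.mem_comap, Ideal.mem_bot]
      exact Ideal.Quotient.eq_zero_iff_mem.2 hx
    have hN' : ∀ n ∈ RingHom.ker π.toRingHom, (q.comp g₁) n ∈ Ibar := by
      intro n hn
      have h1 : g₁ n ∈ I₂ := Ideal.mem_map_of_mem g₁.toRingHom hn
      exact Ideal.mem_map_of_mem q.toRingHom (Ideal.mem_sup_left h1)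
    have hd' : ∀ b, (q.comp g₁) b - (q.comp g₂) b ∈ Ibar := by
      intro b
      have h1 : (q.comp g₁) b - (q.comp g₂) b = q.toRingHom (g₁ b - g₂ b) := by
        rw [map_sub]; rfl
      rw [h1]
      exact Ideal.mem_map_of_mem q.toRingHom (Ideal.mem_sup_right (hd b))
    have heq := eq_of_univ π h (C ⧸ K₂) Ibar hIbar (q.comp g₁) (q.comp g₂) hN' hd'
    intro b
    have hb := AlgHom.congr_fun heq b
    exact Ideal.Quotient.eq.1 hb
  have hle : K₂ ≤ I₂ := (Ideal.mul_le_left : I₂ * K ≤ I₂)
  have hN'' : ∀ n ∈ RingHom.ker π.toRingHom, g₁ n ∈ I₂ := fun n hn =>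
    Ideal.mem_map_of_mem g₁.toRingHom hn
  exact eq_of_univ π h C I₂ hI₂ g₁ g₂ hN'' (fun b => hle (hstep1 b))

end part1

open TrivSqZeroExt

section part2

variable {R A B B' : Type u} [CommRing R] [CommRing A] [CommRing B] [CommRing B']
  [Algebra R A] [Algebra A B] [Algebra A B'] [Algebra R B'] [IsScalarTower R A B']
  (π : B' →ₐ[A] B) (h : OmegaSh.IsUnivThickeningRing A B B' π)
  (M : Type u) [AddCommGroup M] [Module B' M] [Module A M] [IsScalarTower A B' M]
  [Module R M] [IsScalarTower R B' M]

include h in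
/-- derivations of the base with values in a module over the thickened algebra `B` extend to the
universal thickening. -/
theorem exists_derivation_extension (hNM : ∀ n ∈ RingHom.ker π.toRingHom, ∀ m : M, n • m = 0)
    (δ : Derivation R A M) :
    ∃ δ' : Derivation R B' M, ∀ x : A, δ' (algebraMap A B' x) = δ x := by
  obtain ⟨hsurj, hN2, huniv⟩ := h
  letI : Module B'ᵐᵒᵖ M :=
    Module.compHom M ((RingHom.id B').fromOpposite (fun _ _ => mul_comm _ _))
  haveI : IsCentralScalar B' M := ⟨fun _ _ => rfl⟩
  -- the twisted algebra structure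
  let twist : A →+* TrivSqZeroExt B' M :=
    { toFun := fun x => inl (algebraMap A B' x) + inr (δ x)
      map_one' := by simp
      map_mul' := fun x y => by
        apply TrivSqZeroExt.ext
        · simp only [fst_add, fst_mul, fst_inl, fst_inr, map_mul, add_zero]
        · simp only [snd_add, snd_mul, snd_inl, snd_inr, fst_add, fst_inl, fst_inr, zero_add,
            add_zero, op_smul_eq_smul, algebraMap_smul, Derivation.leibniz]
      map_zero' := by simp
      map_add' := fun x y => by
        apply TrivSqZeroExt.ext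
        · simp only [fst_add, fst_inl, fst_inr, map_add, add_zero]
        · simp only [snd_add, snd_inl, snd_inr, map_add, zero_add] }
  letI : Algebra A (TrivSqZeroExt B' M) := twist.toAlgebra
  have halgT : ∀ x : A, algebraMap A (TrivSqZeroExt B' M) x = inl (algebraMap A B' x) + inr (δ x) := fun _ => rfl
  let N : Ideal B' := RingHom.ker π.toRingHom
  let I : Ideal (TrivSqZeroExt B' M) := Ideal.comap (fstHom B' B' M).toRingHom N
  have hI_mem : ∀ t : TrivSqZeroExt B' M, t ∈ I ↔ t.fst ∈ N := fun t => Iff.rfl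
  have hI : I ^ 2 = ⊥ := by
    rw [eq_bot_iff, sq, Ideal.mul_le]
    intro t ht t' ht'
    rw [hI_mem] at ht ht'
    rw [Ideal.mem_bot]
    apply TrivSqZeroExt.ext
    · rw [fst_mul, fst_zero]
      have : t.fst * t'.fst ∈ N ^ 2 := by rw [sq]; exact Ideal.mul_mem_mul ht ht'
      rw [hN2, Ideal.mem_bot] at this
      exact this
    · rw [snd_mul, snd_zero, op_smul_eq_smul, hNM _ ht, hNM _ ht', add_zero]
  -- the map B → T/I
  let g : B' →ₐ[A] (TrivSqZeroExt B' M ⧸ I) :=
    { (Ideal.Quotient.mk I).comp (inlHom B' M) with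
      commutes' := fun x => by
        change Ideal.Quotient.mk I (inl (algebraMap A B' x)) =
          Ideal.Quotient.mk I (algebraMap A (TrivSqZeroExt B' M) x)
        rw [halgT, Ideal.Quotient.eq, sub_add_cancel_left, hI_mem, fst_neg, fst_inr, neg_zero]
        exact N.zero_mem }
  have hg : ∀ b, g b = Ideal.Quotient.mk I (inl b) := fun _ => rfl
  have H : RingHom.ker π.toRingHom ≤ RingHom.ker g.toRingHom := by
    intro n hn
    rw [RingHom.mem_ker]
    change Ideal.Quotient.mk I (inl n) = 0
    rw [Ideal.Quotient.eq_zero_iff_mem, hI_mem, fst_inl]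
    exact hn
  let a : B →ₐ[A] (TrivSqZeroExt B' M ⧸ I) := AlgHom.liftOfSurjective π hsurj g H
  obtain ⟨a', ha', -⟩ := huniv (TrivSqZeroExt B' M) I hI a
  have hfst : ∀ b, (a' b).fst - b ∈ N := by
    intro b
    have h1 : Ideal.Quotient.mk I (a' b) = Ideal.Quotient.mk I (inl b) := by
      have := AlgHom.congr_fun ha' b
      simp only [AlgHom.coe_comp, Function.comp_apply, Ideal.Quotient.mkₐ_eq_mk] at this
      rw [this]
      exact AlgHom.liftOfSurjective_apply π hsurj g H b
    rw [Ideal.Quotient.eq, hI_mem, fst_sub, fst_inl] at h1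
    exact h1
  have hact : ∀ b (m : M), (a' b).fst • m = b • m := by
    intro b m
    have := hNM _ (hfst b) m
    rw [sub_smul, sub_eq_zero] at this
    exact this
  have ha'A : ∀ x : A, a' (algebraMap A B' x) = inl (algebraMap A B' x) + inr (δ x) := by
    intro x
    rw [a'.commutes, halgT]
  refine ⟨{ toFun := fun b => (a' b).snd
            map_add' := fun b c => by rw [map_add, snd_add]
            map_smul' := fun r b => by
              rw [RingHom.id_apply, Algebra.smul_def, map_mul,
                IsScalarTower.algebraMap_apply R A B', ha'A, Derivation.map_algebraMap,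
                inr_zero, add_zero, snd_mul, snd_inl, smul_zero, add_zero, fst_inl,
                ← IsScalarTower.algebraMap_apply R A B', algebraMap_smul]
            map_one_eq_zero' := by
              change (a' 1).snd = 0
              rw [map_one, snd_one]
            leibniz' := fun b c => by
              change (a' (b * c)).snd = b • (a' c).snd + c • (a' b).snd
              rw [map_mul, snd_mul, op_smul_eq_smul, hact, hact] }, ?_⟩
  intro x
  change (a' (algebraMap A B' x)).snd = δ x
  rw [ha'A, snd_add, snd_inl, snd_inr, zero_add]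

end part2


/-- Let R → A → B be ring maps with A → B formally unramified, and let B' → B be a universal first order
thickening of B relative to A (B a B'-algebra through it). Then A → B' is formally unramified, and
base changing to B the natural B'-linear map B' ⊗_A Ω_{A/R} → Ω_{B'/R} gives a bijection B ⊗_{B'}
(B' ⊗_A Ω_{A/R}) → B ⊗_{B'} Ω_{B'/R}. -/
theorem result
    (R : Type u) [CommRing R] (A : Type u) [CommRing A] [Algebra R A] (B : Type u) [CommRing B]
    [Algebra A B] [Algebra.FormallyUnramified A B] (B' : Type u) [CommRing B'] [Algebra A B']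
    [Algebra R B'] [IsScalarTower R A B'] [Algebra B' B] [IsScalarTower A B' B]
    (h : OmegaSh.IsUnivThickeningRing A B B' (IsScalarTower.toAlgHom A B' B)) :
    Algebra.FormallyUnramified A B' ∧
      Function.Bijective ((KaehlerDifferential.mapBaseChange R A B').baseChange B) := by
  have hunr : Algebra.FormallyUnramified A B' := formallyUnramified_of_univ _ h
  refine ⟨hunr, ?_, ?_⟩
  · -- injectivity through a left inverse
    letI : Module R (B ⊗[B'] (B' ⊗[A] Ω[A⁄R])) :=
      Module.compHom (B ⊗[B'] (B' ⊗[A] Ω[A⁄R])) (algebraMap R B')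
    have hRsmul : ∀ (r : R) (m : B ⊗[B'] (B' ⊗[A] Ω[A⁄R])), r • m = algebraMap R B' r • m :=
      fun _ _ => rfl
    haveI : IsScalarTower R B' (B ⊗[B'] (B' ⊗[A] Ω[A⁄R])) :=
      IsScalarTower.of_algebraMap_smul (fun r m => (hRsmul r m).symm)
    haveI : IsScalarTower R A (B ⊗[B'] (B' ⊗[A] Ω[A⁄R])) :=
      IsScalarTower.of_algebraMap_smul (fun r m => by
        rw [hRsmul, IsScalarTower.algebraMap_apply R A B', algebraMap_smul B' (algebraMap R A r) m])
    let ι : Ω[A⁄R] →ₗ[A] (B ⊗[B'] (B' ⊗[A] Ω[A⁄R])) :=
      ((TensorProduct.mk B' B (B' ⊗[A] Ω[A⁄R]) 1).restrictScalars A) ∘ₗ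
        (TensorProduct.mk A B' (Ω[A⁄R]) 1)
    have hι : ∀ ω, ι ω = (1 : B) ⊗ₜ[B'] ((1 : B') ⊗ₜ[A] ω) := fun _ => rfl
    let δ₀ : Derivation R A (B ⊗[B'] (B' ⊗[A] Ω[A⁄R])) := ι.compDer (KaehlerDifferential.D R A)
    have hNM : ∀ n ∈ RingHom.ker (IsScalarTower.toAlgHom A B' B).toRingHom,
        ∀ m : B ⊗[B'] (B' ⊗[A] Ω[A⁄R]), n • m = 0 := by
      intro n hn m
      have hn' : algebraMap B' B n = 0 := hn
      induction m using TensorProduct.induction_on with
      | zero => simp
      | tmul b y =>
        rw [TensorProduct.smul_tmul', Algebra.smul_def, hn', zero_mul, TensorProduct.zero_tmul]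
      | add x y hx hy => rw [smul_add, hx, hy, add_zero]
    obtain ⟨δ', hδ'⟩ := exists_derivation_extension (R := R) _ h
      (B ⊗[B'] (B' ⊗[A] Ω[A⁄R])) hNM δ₀
    let ℓ : B ⊗[B'] Ω[B'⁄R] →ₗ[B] (B ⊗[B'] (B' ⊗[A] Ω[A⁄R])) :=
      LinearMap.liftBaseChange B δ'.liftKaehlerDifferential
    have key : (δ'.liftKaehlerDifferential.restrictScalars A) ∘ₗ (KaehlerDifferential.map R R A B')
        = ι := by
      apply Derivation.liftKaehlerDifferential_unique
      ext x
      change δ'.liftKaehlerDifferential (KaehlerDifferential.map R R A B'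
        (KaehlerDifferential.D R A x)) = ι (KaehlerDifferential.D R A x)
      rw [KaehlerDifferential.map_D, Derivation.liftKaehlerDifferential_comp_D, hδ']
      rfl
    have key2 : ∀ y : B' ⊗[A] Ω[A⁄R],
        δ'.liftKaehlerDifferential (KaehlerDifferential.mapBaseChange R A B' y) =
          (1 : B) ⊗ₜ[B'] y := by
      intro y
      induction y using TensorProduct.induction_on with
      | zero => simp
      | tmul b' ω =>
        rw [KaehlerDifferential.mapBaseChange_tmul, map_smul]
        have := LinearMap.congr_fun key ω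
        simp only [LinearMap.coe_comp, LinearMap.coe_restrictScalars, Function.comp_apply] at this
        rw [this, hι, ← TensorProduct.tmul_smul, TensorProduct.smul_tmul', smul_eq_mul, mul_one]
      | add x y hx hy => rw [map_add, map_add, hx, hy, TensorProduct.tmul_add]
    apply Function.LeftInverse.injective (g := ℓ)
    intro z
    induction z using TensorProduct.induction_on with
    | zero => simp
    | tmul b y =>
      rw [LinearMap.baseChange_tmul, LinearMap.liftBaseChange_tmul, key2,
        TensorProduct.smul_tmul', smul_eq_mul, mul_one]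
    | add x y hx hy => rw [map_add, map_add, hx, hy]
  · -- surjectivity
    have hs : Function.Surjective (KaehlerDifferential.mapBaseChange R A B') := by
      intro w
      exact ((KaehlerDifferential.exact_mapBaseChange_map R A B') w).1 (Subsingleton.elim _ _)
    rw [LinearMap.baseChange_eq_ltensor]
    exact LinearMap.lTensor_surjective _ hs

end Groth.Agent.S9427
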