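import Groth.Statements.S9428
import Mathlib.RingTheory.Smooth.Basic
import Mathlib.RingTheory.Unramified.Basic

set_option autoImplicit false
universe u
open CAlg

namespace Groth.Agent.S9428

/-- If R → S is formally étale and J ⊆ S is an ideal with R → S/J surjective, I ⊆ R its kernel (the
preimage of J), then R/I^n → S/J^n is bijective for all n. (The published statement adds that the
associated graded rings are then isomorphic, which follows from these bijections.) -/
theorem result (R : Type u) [CommRing R] (S : Type u)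
    [CommRing S] [Algebra R S] [Algebra.FormallyEtale R S] (J : Ideal S)
    (hJ : Function.Surjective (algebraMap R (S ⧸ J))) (n : ℕ) :
    Function.Bijective (Ideal.quotientMap (J ^ n) (algebraMap R S)
      (le_of_le_of_eq (Ideal.le_comap_pow (algebraMap R S) n) rfl :
        (J.comap (algebraMap R S)) ^ n ≤ (J ^ n).comap (algebraMap R S))) := by
  set Φ := Ideal.quotientMap (J ^ n) (algebraMap R S)
      (le_of_le_of_eq (Ideal.le_comap_pow (algebraMap R S) n) rfl :
        (J.comap (algebraMap R S)) ^ n ≤ (J ^ n).comap (algebraMap R S)) with hΦ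
  rcases Nat.eq_zero_or_pos n with rfl | hn
  · have h1 : Subsingleton (R ⧸ (J.comap (algebraMap R S)) ^ 0) := by
      rw [pow_zero, Ideal.one_eq_top]; exact Ideal.Quotient.subsingleton_iff.mpr rfl
    have h2 : Subsingleton (S ⧸ J ^ 0) := by
      rw [pow_zero, Ideal.one_eq_top]; exact Ideal.Quotient.subsingleton_iff.mpr rfl
    exact ⟨fun a b _ => Subsingleton.elim a b, fun b => ⟨0, Subsingleton.elim _ _⟩⟩
  have hΦmk : ∀ r : R, Φ (Ideal.Quotient.mk _ r) = Ideal.Quotient.mk _ (algebraMap R S r) :=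
    fun r => rfl
  -- p : S/J^n → S/J
  let p : S ⧸ J ^ n →+* S ⧸ J := Ideal.Quotient.factor (Ideal.pow_le_self hn.ne')
  have hpmk : ∀ s : S, p (Ideal.Quotient.mk _ s) = Ideal.Quotient.mk _ s := fun s => rfl
  have hpker : IsNilpotent (RingHom.ker p) := by
    refine ⟨n, ?_⟩
    rw [Ideal.zero_eq_bot, eq_bot_iff]
    have : RingHom.ker p ≤ J.map (Ideal.Quotient.mk (J ^ n)) := by
      intro x hx
      obtain ⟨s, rfl⟩ := Ideal.Quotient.mk_surjective x
      rw [RingHom.mem_ker, hpmk, Ideal.Quotient.eq_zero_iff_mem] at hx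
      exact Ideal.mem_map_of_mem _ hx
    refine (Ideal.pow_right_mono this n).trans ?_
    rw [← Ideal.map_pow, Ideal.map_quotient_self]
  -- q : R/I^n → S/J
  let q : (R ⧸ (J.comap (algebraMap R S)) ^ n) →ₐ[R] S ⧸ J :=
    { toRingHom := p.comp Φ
      commutes' := fun r => rfl }
  have hq : ∀ x, q x = p (Φ x) := fun x => rfl
  have hqsurj : Function.Surjective q := by
    intro t
    obtain ⟨r, rfl⟩ := hJ t
    exact ⟨Ideal.Quotient.mk _ r, rfl⟩
  have hqkerle : RingHom.ker (q : (R ⧸ (J.comap (algebraMap R S)) ^ n) →+* S ⧸ J) ≤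
      (J.comap (algebraMap R S)).map (Ideal.Quotient.mk ((J.comap (algebraMap R S)) ^ n)) := by
    intro x hx
    obtain ⟨r, rfl⟩ := Ideal.Quotient.mk_surjective x
    rw [RingHom.mem_ker] at hx
    change Ideal.Quotient.mk J (algebraMap R S r) = 0 at hx
    rw [Ideal.Quotient.eq_zero_iff_mem] at hx
    exact Ideal.mem_map_of_mem _ hx
  have hqkerpow : RingHom.ker (q : (R ⧸ (J.comap (algebraMap R S)) ^ n) →+* S ⧸ J) ^ n = ⊥ := by
    rw [eq_bot_iff]
    refine (Ideal.pow_right_mono hqkerle n).trans ?_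
    rw [← Ideal.map_pow, Ideal.map_quotient_self]
  have hqker : IsNilpotent (RingHom.ker (q : (R ⧸ (J.comap (algebraMap R S)) ^ n) →+* S ⧸ J)) := ⟨n, hqkerpow⟩
  let ψ : S →ₐ[R] (R ⧸ (J.comap (algebraMap R S)) ^ n) :=
    Algebra.FormallySmooth.liftOfSurjective (Ideal.Quotient.mkₐ R J) q hqsurj hqker
  have hψ : ∀ s, q (ψ s) = Ideal.Quotient.mk J s :=
    fun s => Algebra.FormallySmooth.liftOfSurjective_apply _ q hqsurj hqker s
  constructor
  · rw [injective_iff_map_eq_zero]
    intro x hx
    obtain ⟨r, rfl⟩ := Ideal.Quotient.mk_surjective x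
    rw [hΦmk, Ideal.Quotient.eq_zero_iff_mem] at hx
    have h1 : ψ (algebraMap R S r) = Ideal.Quotient.mk _ r := ψ.commutes r
    rw [← h1]
    have h2 : (J ^ n).map (ψ : S →+* _) ≤ RingHom.ker (q : (R ⧸ (J.comap (algebraMap R S)) ^ n) →+* S ⧸ J) ^ n := by
      rw [Ideal.map_pow]
      apply Ideal.pow_right_mono
      rw [Ideal.map_le_iff_le_comap]
      intro j hj
      change q (ψ j) = 0
      rw [hψ, Ideal.Quotient.eq_zero_iff_mem]
      exact hj
    have h3 := h2 (Ideal.mem_map_of_mem _ hx)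
    rw [hqkerpow] at h3
    exact h3
  · intro y
    obtain ⟨s, rfl⟩ := Ideal.Quotient.mk_surjective y
    let Φa : (R ⧸ (J.comap (algebraMap R S)) ^ n) →ₐ[R] S ⧸ J ^ n :=
      { toRingHom := Φ
        commutes' := fun r => rfl }
    have := Algebra.FormallyUnramified.ext' (R := R) p hpker (Ideal.Quotient.mkₐ R (J ^ n))
      (Φa.comp ψ) (by
        intro x
        change Ideal.Quotient.mk J x = q (ψ x)
        rw [hψ])
    refine ⟨ψ s, ?_⟩
    exact (DFunLike.congr_fun this s).symm

end Groth.Agent.S9428
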