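import Groth.Statements.S9430
import Mathlib
import Groth.Agent.Lib.Helper25.GlobalCI
-- import your own Groth.Agent.* helpers here

set_option autoImplicit false
set_option linter.unusedSectionVars false
set_option linter.style.haveILetI false
set_option linter.unusedVariables false
universe u
open Synt

namespace Groth.Agent.S9430

open Polynomial Groth.Agent.Lib.Helper25.GlobalCI

/-- kernel of evaluation at `e` over a localisation, when a minimal-degree relation becomes monic -/
theorem dvd_of_aeval_eq_zero {A : Type u} [CommRing A] [IsDomain A] {K : Type u} [Field K]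
    [Algebra A K] (hAK : Function.Injective (algebraMap A K)) (e : K)
    (p : A[X]) (hp0 : p ≠ 0) (hpe : aeval e p = 0)
    (hmin : ∀ q : A[X], q ≠ 0 → aeval e q = 0 → p.natDegree ≤ q.natDegree)
    (Ag : Type u) [CommRing Ag] [Algebra A Ag] [IsLocalization.Away p.leadingCoeff Ag]
    [Algebra Ag K] [IsScalarTower A Ag K]
    (Pg : Ag[X]) (hPg : Pg.Monic) (hdeg : Pg.natDegree = p.natDegree)
    (q : Ag[X]) (hq : aeval e q = 0) (hPge : aeval e Pg = 0) : Pg ∣ q := by
  have hg : p.leadingCoeff ≠ 0 := leadingCoeff_ne_zero.2 hp0
  have hM : Submonoid.powers p.leadingCoeff ≤ nonZeroDivisors A :=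
    powers_le_nonZeroDivisors_of_noZeroDivisors hg
  haveI : IsDomain Ag := IsLocalization.isDomain_of_le_nonZeroDivisors Ag hM
  rw [← Polynomial.modByMonic_eq_zero_iff_dvd hPg]
  set r := q %ₘ Pg with hr
  by_contra hr0
  have hre : aeval e r = 0 := by
    have h1 := Polynomial.modByMonic_add_div q Pg
    have h2 : aeval e (q %ₘ Pg + Pg * (q /ₘ Pg)) = 0 := by rw [h1, hq]
    rw [map_add, map_mul, hPge, zero_mul, add_zero] at h2
    exact h2
  set r' := IsLocalization.integerNormalization (Submonoid.powers p.leadingCoeff) r with hr'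
  have hr'0 : r' ≠ 0 := by
    rw [hr', Ne, IsLocalization.integerNormalization_eq_zero_iff hM]
    exact hr0
  have hr'e : aeval e r' = 0 := by
    have := IsLocalization.integerNormalization_aeval_eq_zero (Submonoid.powers p.leadingCoeff)
      (R' := K) r (x := e) hre
    exact this
  have h3 := hmin r' hr'0 hr'e
  obtain ⟨b, hb, hbr⟩ := IsLocalization.integerNormalization_spec (Submonoid.powers p.leadingCoeff) r
  have hinj : Function.Injective (algebraMap A Ag) := IsLocalization.injective Ag hM
  have h4 : r'.natDegree = (r'.map (algebraMap A Ag)).natDegree :=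
    (natDegree_map_eq_of_injective hinj r').symm
  have h5 : (r'.map (algebraMap A Ag)).natDegree ≤ r.natDegree := by
    rw [hr', hbr]
    exact natDegree_smul_le _ _
  have h6 : r.degree < Pg.degree := degree_modByMonic_lt q hPg
  have h7 : r.natDegree < Pg.natDegree := natDegree_lt_natDegree hr0 h6
  omega


theorem step (k : Type u) [Field k] (K : Type u) [Field K] [Algebra k K] (A : Subalgebra k K)
    (hA : Good k A) (e : K) : ∃ A' : Subalgebra k K, A ≤ A' ∧ e ∈ A' ∧ Good k A' := by
  haveI : Algebra.FiniteType k A := by
    obtain ⟨n, c, hcn, P, hdim⟩ := hA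
    haveI := P.finitePresentation_of_isFinite
    exact Algebra.FiniteType.of_finitePresentation
  classical
  by_cases htr : Transcendental A e
  · let ψ : A[X] →ₐ[k] K := (Polynomial.aeval e : A[X] →ₐ[A] K).restrictScalars k
    have hinj : Function.Injective ψ := transcendental_iff_injective.1 htr
    refine ⟨ψ.range, ?_, ?_, ?_⟩
    · intro a ha
      exact ⟨C ⟨a, ha⟩, by simp [ψ]⟩
    · exact ⟨X, by simp [ψ]⟩
    · exact (hA.polynomial).of_algEquiv (AlgEquiv.ofInjective ψ hinj)
  · have halg : IsAlgebraic A e := not_not.1 htr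
    have hex : ∃ d : ℕ, ∃ p : A[X], p ≠ 0 ∧ aeval e p = 0 ∧ p.natDegree = d := by
      obtain ⟨p, hp0, hpe⟩ := halg
      exact ⟨_, p, hp0, hpe, rfl⟩
    obtain ⟨p, hp0, hpe, hpd⟩ := Nat.find_spec hex
    have hmin : ∀ q : A[X], q ≠ 0 → aeval e q = 0 → p.natDegree ≤ q.natDegree := by
      intro q h1 h2
      rw [hpd]
      exact Nat.find_min' hex ⟨q, h1, h2, rfl⟩
    have hg : p.leadingCoeff ≠ 0 := leadingCoeff_ne_zero.2 hp0
    have hM : Submonoid.powers p.leadingCoeff ≤ nonZeroDivisors A :=
      powers_le_nonZeroDivisors_of_noZeroDivisors hg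
    have hAK : Function.Injective (algebraMap A K) := Subtype.val_injective
    have hunit : ∀ y : Submonoid.powers p.leadingCoeff, IsUnit (A.val y) := by
      rintro ⟨y, n, rfl⟩
      refine IsUnit.mk0 _ ?_
      simp only [map_pow]
      exact pow_ne_zero _ (fun h => hg (Subtype.ext h))
    let ψg : Localization.Away p.leadingCoeff →ₐ[k] K :=
      IsLocalization.liftAlgHom (M := Submonoid.powers p.leadingCoeff) (f := A.val) hunit
    letI : Algebra (Localization.Away p.leadingCoeff) K := ψg.toRingHom.toAlgebra
    haveI : IsScalarTower A (Localization.Away p.leadingCoeff) K :=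
      IsScalarTower.of_algebraMap_eq (fun a => (IsLocalization.lift_eq hunit a).symm)
    haveI : IsDomain (Localization.Away p.leadingCoeff) :=
      IsLocalization.isDomain_of_le_nonZeroDivisors _ hM
    have hinjA : Function.Injective (algebraMap A (Localization.Away p.leadingCoeff)) :=
      IsLocalization.injective _ hM
    have hψg : Function.Injective ψg := by
      change Function.Injective (IsLocalization.lift hunit)
      rw [IsLocalization.lift_injective_iff]
      intro x y
      constructor
      · intro h; rw [hinjA h]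
      · intro h; rw [hAK h]
    let u : Localization.Away p.leadingCoeff := IsLocalization.Away.invSelf p.leadingCoeff
    let Pg : (Localization.Away p.leadingCoeff)[X] :=
      C u * p.map (algebraMap A (Localization.Away p.leadingCoeff))
    have hPg : Pg.Monic := by
      refine monic_C_mul_of_mul_leadingCoeff_eq_one ?_
      rw [leadingCoeff_map_of_injective hinjA, mul_comm]
      exact IsLocalization.Away.mul_invSelf p.leadingCoeff
    have hdeg : Pg.natDegree = p.natDegree := by
      have hu : u ≠ 0 := by
        intro hu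
        have := IsLocalization.Away.mul_invSelf (S := Localization.Away p.leadingCoeff) p.leadingCoeff
        change _ * u = 1 at this
        rw [hu, mul_zero] at this
        exact zero_ne_one this
      rw [natDegree_C_mul hu, natDegree_map_eq_of_injective hinjA]
    have hPge : aeval e Pg = 0 := by
      rw [map_mul, aeval_map_algebraMap, hpe, mul_zero]
    have hker : ∀ q : (Localization.Away p.leadingCoeff)[X], aeval e q = 0 → Pg ∣ q :=
      fun q hq => dvd_of_aeval_eq_zero hAK e p hp0 hpe hmin _ Pg hPg hdeg q hq hPge
    let ψ' : AdjoinRoot Pg →ₐ[k] K := AdjoinRoot.liftAlgHom Pg ψg e hPge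
    have hψ' : Function.Injective ψ' := by
      rw [injective_iff_map_eq_zero]
      intro x hx
      obtain ⟨q, rfl⟩ := AdjoinRoot.mk_surjective x
      rw [AdjoinRoot.mk_eq_zero]
      exact hker q hx
    have hinj' : Function.Injective (algebraMap (Localization.Away p.leadingCoeff) (AdjoinRoot Pg)) := by
      have : (ψ' : AdjoinRoot Pg → K) ∘ (algebraMap (Localization.Away p.leadingCoeff) (AdjoinRoot Pg)) = ψg := by
        funext x
        exact AdjoinRoot.liftAlgHom_of Pg ψg e hPge x
      exact Function.Injective.of_comp (this ▸ hψg)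
    have hAg : Good k (Localization.Away p.leadingCoeff) :=
      hA.away p.leadingCoeff (ringKrullDim_away_of_isDomain k A p.leadingCoeff hg)
    refine ⟨ψ'.range, ?_, ?_, ?_⟩
    · intro a ha
      refine ⟨AdjoinRoot.of Pg (algebraMap A _ ⟨a, ha⟩), ?_⟩
      refine (AdjoinRoot.liftAlgHom_of Pg ψg e hPge _).trans ?_
      exact IsLocalization.lift_eq hunit _
    · exact ⟨AdjoinRoot.root Pg, AdjoinRoot.liftAlgHom_root Pg ψg e hPge⟩
    · exact (hAg.adjoinRoot Pg hPg hinj').of_algEquiv (AlgEquiv.ofInjective ψ' hψ')

/-- For a field extension K/k, every finite subset of K lies in a k-subalgebra of K which is a global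
complete intersection over k; so K is the directed union of its k-subalgebras that are global
complete intersections over k. -/
theorem result (k : Type u) [Field k] (K : Type u)
    [Field K] [Algebra k K] (E : Finset K) :
    ∃ A : Subalgebra k K, (↑E : Set K) ⊆ (A : Set K) ∧ Synt.IsGlobalCI k A := by
  suffices h : ∃ A : Subalgebra k K, (↑E : Set K) ⊆ (A : Set K) ∧ Good k A by
    obtain ⟨A, h1, h2⟩ := h
    exact ⟨A, h1, h2.isGlobalCI⟩
  classical
  induction E using Finset.induction_on with
  | empty =>
    refine ⟨⊥, by simp, ?_⟩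
    have h0 : Good k k := by
      refine ⟨0, 0, le_rfl, ?_, ?_⟩
      · exact (Algebra.Presentation.id.{0, 0} k).reindex (Equiv.equivPEmpty _) (Equiv.equivPEmpty _)
      · rw [ringKrullDim_eq_zero_of_field]; rfl
    exact h0.of_algEquiv (Algebra.botEquiv k K).symm
  | insert e E he ih =>
    obtain ⟨A, hEA, hA⟩ := ih
    obtain ⟨A', hAA', heA', hA'⟩ := step k K A hA e
    refine ⟨A', ?_, hA'⟩
    intro x hx
    rw [Finset.coe_insert] at hx
    rcases hx with rfl | hx
    · exact heA'
    · exact hAA' (hEA hx)

end Groth.Agent.S9430
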