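import Groth.Statements.S9431
import Groth.Agent.Lib.Helper5.SepSmooth
import Mathlib

set_option autoImplicit false
universe u
open CAlg

namespace Groth.Agent.S9431

/-- For a separable (geometrically reduced) field extension K/k, every finite subset of K lies in a
k-subalgebra of K which is smooth over k; in particular K is a filtered colimit of smooth
k-algebras. -/
theorem result (k : Type u) [Field k]
    (K : Type u) [Field K] [Algebra k K] [Algebra.IsGeometricallyReduced k K] (E : Finset K) :
    ∃ A : Subalgebra k K, (↑E : Set K) ⊆ (A : Set K) ∧ Algebra.Smooth k A := by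
  classical
  let A₁ : Subalgebra k K := Algebra.adjoin k (↑E : Set K)
  haveI : Algebra.FiniteType k A₁ :=
    (Subalgebra.fg_iff_finiteType _).mp ⟨E, rfl⟩
  haveI : Algebra.FinitePresentation k A₁ := Algebra.FinitePresentation.of_finiteType.mp inferInstance
  haveI hfr : IsFractionRing A₁ (Localization.AtPrime (⊥ : Ideal A₁)) := by
    simpa [Ideal.primeCompl_bot] using
      Localization.isLocalization (M := (⊥ : Ideal A₁).primeCompl)
  letI : Field (Localization.AtPrime (⊥ : Ideal A₁)) := IsFractionRing.toField A₁
  -- embed the fraction field into K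
  have hu : ∀ y : (⊥ : Ideal A₁).primeCompl, IsUnit (A₁.val y) := by
    intro y
    have hy : (y : A₁) ≠ 0 := fun h => y.2 (by rw [h]; exact Ideal.zero_mem _)
    exact IsUnit.mk0 _ (fun h => hy (Subtype.ext h))
  let ι : Localization.AtPrime (⊥ : Ideal A₁) →ₐ[k] K :=
    IsLocalization.liftAlgHom (M := (⊥ : Ideal A₁).primeCompl) (f := A₁.val) hu
  haveI : Algebra.IsGeometricallyReduced k (Localization.AtPrime (⊥ : Ideal A₁)) :=
    Algebra.IsGeometricallyReduced.of_injective ι (RingHom.injective ι.toRingHom)
  haveI : Algebra.IsSmoothAt k (⊥ : Ideal A₁) :=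
    Groth.Agent.Lib.Helper5.SepSmooth.formallySmooth_of_geomReduced
  obtain ⟨f, hf, hsm⟩ := Algebra.IsSmoothAt.exists_notMem_smooth k (⊥ : Ideal A₁)
  have hf0 : f ≠ 0 := fun h => hf (by rw [h]; exact Ideal.zero_mem _)
  have hu' : ∀ y : Submonoid.powers f, IsUnit (A₁.val y) := by
    rintro ⟨_, n, rfl⟩
    have : f ^ n ≠ 0 := pow_ne_zero n hf0
    exact IsUnit.mk0 _ (fun h => this (Subtype.ext h))
  let ψ : Localization.Away f →ₐ[k] K :=
    IsLocalization.liftAlgHom (M := Submonoid.powers f) (f := A₁.val) hu'
  have hinj : Function.Injective ψ := by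
    change Function.Injective (IsLocalization.lift (M := Submonoid.powers f) hu')
    rw [IsLocalization.lift_injective_iff]
    intro x y
    constructor
    · intro h
      rw [IsLocalization.injective (Localization.Away f)
        (powers_le_nonZeroDivisors_of_noZeroDivisors hf0) h]
    · intro h
      rw [Subtype.val_injective h]
  refine ⟨ψ.range, ?_, Algebra.Smooth.of_equiv (AlgEquiv.ofInjective ψ hinj)⟩
  intro e he
  refine ⟨algebraMap A₁ (Localization.Away f) ⟨e, Algebra.subset_adjoin he⟩, ?_⟩
  exact IsLocalization.lift_eq (M := Submonoid.powers f) hu' _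

end Groth.Agent.S9431
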