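import Groth.Statements.S9432
import Groth.Agent.Lib.Helper21.LqfCover

set_option autoImplicit false
universe u
open CAlg

namespace Groth.Agent.S9432

open AlgebraicGeometry CategoryTheory in
/-- For a faithfully flat ring map R → S of finite presentation there is a quasi-finite (of finite type
with finite fibres), faithfully flat, finitely presented R-algebra S' together with an R-algebra map
S → S'. -/
theorem result (R : Type u) [CommRing R]
    (S : Type u) [CommRing S] [Algebra R S] [Module.FaithfullyFlat R S]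
    [Algebra.FinitePresentation R S] :
    ∃ (S' : Type u) (_ : CommRing S') (_ : Algebra R S'),
      Algebra.QuasiFinite R S' ∧ Algebra.FiniteType R S' ∧ Module.FaithfullyFlat R S' ∧
        Algebra.FinitePresentation R S' ∧ Nonempty (S →ₐ[R] S') := by
  let φ : CommRingCat.of R ⟶ CommRingCat.of S := CommRingCat.ofHom (algebraMap R S)
  have hff : φ.hom.FaithfullyFlat := RingHom.faithfullyFlat_algebraMap_iff.mpr inferInstance
  obtain ⟨hfl, hsurj⟩ := (flat_and_surjective_SpecMap_iff φ).mpr hff
  haveI := hfl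
  haveI := hsurj
  haveI : LocallyOfFinitePresentation (Spec.map φ) := by
    rw [LocallyOfFinitePresentation.SpecMap_iff]
    exact RingHom.finitePresentation_algebraMap.mpr inferInstance
  obtain ⟨T, h, h1, h2, h3, h4, h5⟩ :=
    Groth.Agent.Lib.Helper21.LqfCover.exists_lqf_flat_cover (Spec.map φ)
  haveI : IsAffine T := h5 inferInstance
  obtain ⟨χ, hχ⟩ := Spec.map_surjective (T.isoSpec.inv ≫ h)
  have hcomp : Spec.map (φ ≫ χ) = T.isoSpec.inv ≫ h ≫ Spec.map φ := by
    rw [Spec.map_comp, hχ, Category.assoc]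
  haveI g1 : Flat (Spec.map (φ ≫ χ)) := by rw [hcomp]; infer_instance
  haveI g2 : LocallyOfFinitePresentation (Spec.map (φ ≫ χ)) := by rw [hcomp]; infer_instance
  haveI g3 : LocallyQuasiFinite (Spec.map (φ ≫ χ)) := by rw [hcomp]; infer_instance
  haveI g4 : Surjective (Spec.map (φ ≫ χ)) := by rw [hcomp]; infer_instance
  letI alg : Algebra R Γ(T, ⊤) := (φ ≫ χ).hom.toAlgebra
  have e1 : (φ ≫ χ).hom = algebraMap R Γ(T, ⊤) := rfl
  have hFF : Module.FaithfullyFlat R Γ(T, ⊤) := by
    rw [← RingHom.faithfullyFlat_algebraMap_iff, ← e1]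
    exact (flat_and_surjective_SpecMap_iff (φ ≫ χ)).mp ⟨g1, g4⟩
  have hFP : Algebra.FinitePresentation R Γ(T, ⊤) := by
    rw [← RingHom.finitePresentation_algebraMap, ← e1]
    exact (LocallyOfFinitePresentation.SpecMap_iff (φ ≫ χ)).mp g2
  have hQF : Algebra.QuasiFinite R Γ(T, ⊤) := by
    rw [← RingHom.quasiFinite_algebraMap, ← e1]
    exact (HasRingHomProperty.Spec_iff (P := @LocallyQuasiFinite)).mp g3
  refine ⟨Γ(T, ⊤), inferInstance, alg, hQF, ?_, hFF, hFP, ⟨?_⟩⟩
  · exact Algebra.FiniteType.of_finitePresentation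
  · exact { χ.hom with commutes' := fun r => rfl }

end Groth.Agent.S9432
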