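import Groth.Statements.S9433
import Mathlib

set_option autoImplicit false
universe u
open CAlg

namespace Groth.Agent.S9433

open Polynomial

section W

variable {R S : Type u} [CommRing R] [IsLocalRing R] [CommRing S] [IsLocalRing S] [Algebra R S]
  [IsLocalHom (algebraMap R S)] (t : R)

/-- the subalgebra `R + tS` of `S`. -/
def W : Subalgebra R S where
  carrier := {s | ∃ r : R, s - algebraMap R S r ∈ Ideal.span {algebraMap R S t}}
  mul_mem' := by
    rintro a b ⟨r, hr⟩ ⟨r', hr'⟩
    refine ⟨r * r', ?_⟩
    have : a * b - algebraMap R S (r * r') =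
        (a - algebraMap R S r) * b + algebraMap R S r * (b - algebraMap R S r') := by
      rw [map_mul]; ring
    rw [this]
    exact Ideal.add_mem _ (Ideal.mul_mem_right _ _ hr) (Ideal.mul_mem_left _ _ hr')
  add_mem' := by
    rintro a b ⟨r, hr⟩ ⟨r', hr'⟩
    refine ⟨r + r', ?_⟩
    have : a + b - algebraMap R S (r + r') =
        (a - algebraMap R S r) + (b - algebraMap R S r') := by
      rw [map_add]; ring
    rw [this]
    exact Ideal.add_mem _ hr hr'
  algebraMap_mem' := by
    intro r
    exact ⟨r, by rw [sub_self]; exact Ideal.zero_mem _⟩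

theorem mem_W {s : S} : s ∈ W (S := S) t ↔ ∃ r : R, s - algebraMap R S r ∈ Ideal.span {algebraMap R S t} :=
  Iff.rfl

theorem inv_mem_W (ht : t ∈ IsLocalRing.maximalIdeal R) {u v : S} (hu : u ∈ W (S := S) t)
    (huv : u * v = 1) : v ∈ W (S := S) t := by
  obtain ⟨r, hr⟩ := hu
  have htS : algebraMap R S t ∈ IsLocalRing.maximalIdeal S := by
    intro h
    exact ht ((isUnit_map_iff (algebraMap R S) t).1 h)
  have hd : u - algebraMap R S r ∈ IsLocalRing.maximalIdeal S := by
    obtain ⟨c, hc⟩ := Ideal.mem_span_singleton'.1 hr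
    rw [← hc]
    exact Ideal.mul_mem_left _ _ htS
  have hru : IsUnit (algebraMap R S r) := by
    by_contra h
    have h1 : algebraMap R S r ∈ IsLocalRing.maximalIdeal S := h
    have h2 : u ∈ IsLocalRing.maximalIdeal S := by
      have := Ideal.add_mem _ hd h1
      simpa using this
    exact h2 (IsUnit.of_mul_eq_one _ huv)
  have hr' : IsUnit r := (isUnit_map_iff (algebraMap R S) r).1 hru
  obtain ⟨r₁, hr₁⟩ := hr'.exists_right_inv
  refine ⟨r₁, ?_⟩
  have : v - algebraMap R S r₁ = - ((u - algebraMap R S r) * (v * algebraMap R S r₁)) := by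
    have e1 : algebraMap R S r * algebraMap R S r₁ = 1 := by rw [← map_mul, hr₁, map_one]
    calc v - algebraMap R S r₁
        = v * (algebraMap R S r * algebraMap R S r₁) - (u * v) * algebraMap R S r₁ := by
          rw [e1, huv]; ring
      _ = _ := by ring
  rw [this]
  exact Ideal.neg_mem_iff _ |>.2 (Ideal.mul_mem_right _ _ hr)

/-- `S = R + tS` implies `S = R + t^n S`. -/
theorem pow_decomp (hW : ∀ s : S, s ∈ W (S := S) t) (n : ℕ) (s : S) :
    ∃ r : R, s - algebraMap R S r ∈ Ideal.span {algebraMap R S (t ^ n)} := by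
  induction n generalizing s with
  | zero =>
    exact ⟨0, by rw [pow_zero, map_one, Ideal.span_singleton_one]; trivial⟩
  | succ n ih =>
    obtain ⟨r, hr⟩ := ih s
    obtain ⟨c, hc⟩ := Ideal.mem_span_singleton'.1 hr
    obtain ⟨r', hr'⟩ := hW c
    obtain ⟨c', hc'⟩ := Ideal.mem_span_singleton'.1 hr'
    refine ⟨r + t ^ n * r', Ideal.mem_span_singleton'.2 ⟨c', ?_⟩⟩
    have h1 : s = algebraMap R S r + c * algebraMap R S (t ^ n) := by rw [hc]; ring
    have h2 : c = algebraMap R S r' + c' * algebraMap R S t := by rw [hc']; ring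
    rw [h1, h2, pow_succ]
    simp only [map_add, map_mul, map_pow]
    ring

end W

theorem aeval_mem_W {R S : Type u} [CommRing R] [IsLocalRing R] [CommRing S] [IsLocalRing S]
    [Algebra R S] [IsLocalHom (algebraMap R S)] (t : R) {x₀ : S} (hx₀ : x₀ ∈ W (S := S) t)
    (p : R[X]) : aeval x₀ p ∈ W (S := S) t := by
  induction p using Polynomial.induction_on' with
  | add p q hp hq => rw [map_add]; exact (W t).add_mem hp hq
  | monomial n a =>
    rw [aeval_monomial]
    exact (W t).mul_mem ((W t).algebraMap_mem a) ((W t).pow_mem hx₀ n)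


/-- Let R → S be a local homomorphism of local rings with S the localization of an étale R-algebra at a
prime, inducing an isomorphism of residue fields. Then for some t in the maximal ideal of R the maps
R/t^nR → S/t^nS are bijective for all n ≥ 1. -/
theorem result (R : Type u) [CommRing R] [IsLocalRing R] (T : Type u) [CommRing T] [Algebra R T]
    [Algebra.Etale R T] (q : Ideal T) [q.IsPrime] (S : Type u) [CommRing S] [IsLocalRing S]
    [Algebra T S] [IsLocalization.AtPrime S q] [Algebra R S] [IsScalarTower R T S]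
    [IsLocalHom (algebraMap R S)]
    (hres : Function.Bijective (IsLocalRing.ResidueField.map (algebraMap R S))) :
    ∃ t ∈ IsLocalRing.maximalIdeal R, ∀ n : ℕ, 1 ≤ n →
      Function.Bijective (Ideal.quotientMap ((Ideal.span {t ^ n}).map (algebraMap R S))
        (algebraMap R S) Ideal.le_comap_map) := by
  classical
  haveI : Algebra.FormallyEtale T (Localization.AtPrime q) :=
    Algebra.FormallyEtale.of_isLocalization q.primeCompl
  haveI : Algebra.IsEtaleAt R q := Algebra.FormallyEtale.comp R T (Localization.AtPrime q)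
  obtain ⟨f, hfq, hstd⟩ := Algebra.IsEtaleAt.exists_isStandardEtale (R := R) q
  obtain ⟨Pr⟩ := hstd.nonempty_standardEtalePresentation
  have hfu : IsUnit (IsScalarTower.toAlgHom R T S f) :=
    IsLocalization.map_units S (⟨f, hfq⟩ : q.primeCompl)
  let ρ : Localization.Away f →ₐ[R] S := IsLocalization.Away.liftAlgHom f hfu
  have hρ : ∀ τ : T, ρ (algebraMap T (Localization.Away f) τ) = algebraMap T S τ := by
    intro τ
    exact IsLocalization.Away.lift_eq f hfu τ
  set x₀ : S := ρ Pr.x with hx₀def
  have hF0 : aeval x₀ Pr.f = 0 := by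
    rw [hx₀def, aeval_algHom_apply, Pr.hasMap.1, map_zero]
  have hGu : IsUnit (aeval x₀ Pr.g) := by
    rw [hx₀def, aeval_algHom_apply]; exact Pr.hasMap.2.map ρ
  have hF'u : IsUnit (aeval x₀ (derivative Pr.f)) := by
    rw [hx₀def, aeval_algHom_apply]; exact Pr.hasMap.isUnit_derivative_f.map ρ
  -- choose `a`
  obtain ⟨abar, habar⟩ := hres.2 (IsLocalRing.residue S x₀)
  obtain ⟨a, rfl⟩ := IsLocalRing.residue_surjective abar
  rw [IsLocalRing.ResidueField.map_residue] at habar
  have hy : x₀ - algebraMap R S a ∈ IsLocalRing.maximalIdeal S := by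
    rw [← IsLocalRing.residue_eq_zero_iff, map_sub, habar, sub_self]
  set y := x₀ - algebraMap R S a with hydef
  set t : R := Pr.f.eval a with htdef
  set FS := Pr.f.map (algebraMap R S) with hFS
  obtain ⟨k, hk⟩ := Polynomial.binomExpansion FS (algebraMap R S a) y
  have e1 : FS.eval (algebraMap R S a + y) = 0 := by
    have : algebraMap R S a + y = x₀ := by rw [hydef]; ring
    rw [this, hFS, eval_map_algebraMap, hF0]
  have e2 : FS.eval (algebraMap R S a) = algebraMap R S t := by
    rw [hFS, eval_map_algebraMap, aeval_algebraMap_apply_eq_algebraMap_eval]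
  set d := FS.derivative.eval (algebraMap R S a) with hd
  have hdu : IsUnit d := by
    obtain ⟨z, hz⟩ := Polynomial.evalSubFactor FS.derivative (algebraMap R S a) x₀
    have h1 : FS.derivative.eval x₀ = aeval x₀ (derivative Pr.f) := by
      rw [hFS, derivative_map, eval_map_algebraMap]
    by_contra hnu
    have h2 : d ∈ IsLocalRing.maximalIdeal S := hnu
    have h3 : FS.derivative.eval x₀ ∈ IsLocalRing.maximalIdeal S := by
      have : FS.derivative.eval x₀ = d - z * (algebraMap R S a - x₀) := by rw [← hz]; ring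
      rw [this]
      refine Ideal.sub_mem _ h2 (Ideal.mul_mem_left _ _ ?_)
      have : algebraMap R S a - x₀ = -y := by rw [hydef]; ring
      rw [this]; exact Ideal.neg_mem_iff _ |>.2 hy
    rw [h1] at h3
    exact h3 hF'u
  have hdu' : IsUnit (d + k * y) := by
    by_contra hnu
    have h2 : d + k * y ∈ IsLocalRing.maximalIdeal S := hnu
    have : d ∈ IsLocalRing.maximalIdeal S := by
      have := Ideal.sub_mem _ h2 (Ideal.mul_mem_left _ k hy)
      simpa using this
    exact this hdu
  have e3 : algebraMap R S t + y * (d + k * y) = 0 := by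
    rw [← e1, hk, e2]; ring
  obtain ⟨v, hv⟩ := hdu'.exists_right_inv
  have hyt : y = - (algebraMap R S t * v) := by
    have : y * ((d + k * y) * v) = - (algebraMap R S t) * v := by
      rw [← mul_assoc]
      have : y * (d + k * y) = - algebraMap R S t := by
        rw [eq_neg_iff_add_eq_zero, add_comm]; exact e3
      rw [this]
    rw [hv, mul_one] at this
    rw [this]; ring
  have ht : t ∈ IsLocalRing.maximalIdeal R := by
    intro hu
    have h1 : IsUnit (algebraMap R S t) := hu.map _
    have h2 : algebraMap R S t ∈ IsLocalRing.maximalIdeal S := by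
      have : algebraMap R S t = - (y * (d + k * y)) := by
        rw [eq_neg_iff_add_eq_zero]; exact e3
      rw [this]
      exact Ideal.neg_mem_iff _ |>.2 (Ideal.mul_mem_right _ _ hy)
    exact h2 h1
  have hx₀W : x₀ ∈ W (S := S) t := by
    refine ⟨a, ?_⟩
    show y ∈ _
    rw [hyt]
    exact Ideal.neg_mem_iff _ |>.2 (Ideal.mul_mem_right _ _ (Ideal.mem_span_singleton_self _))
  -- image of ρ lies in W
  have hρW : ∀ τ : Localization.Away f, ρ τ ∈ W (S := S) t := by
    intro τ
    obtain ⟨p, n, h⟩ := Pr.exists_mul_aeval_x_g_pow_eq_aeval_x τ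
    have h' := congrArg ρ h
    rw [map_mul, map_pow, ← aeval_algHom_apply, ← aeval_algHom_apply] at h'
    obtain ⟨w, hw⟩ := hGu.exists_right_inv
    have hwW : w ∈ W (S := S) t := inv_mem_W t ht (aeval_mem_W t hx₀W Pr.g) hw
    have : ρ τ = aeval x₀ p * w ^ n := by
      rw [← h', mul_assoc, ← mul_pow, hw, one_pow, mul_one]
    rw [this]
    exact (W t).mul_mem (aeval_mem_W t hx₀W p) ((W t).pow_mem hwW n)
  have hall : ∀ s : S, s ∈ W (S := S) t := by
    intro s
    obtain ⟨τ, uu, rfl⟩ := IsLocalization.exists_mk'_eq q.primeCompl s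
    have hu : IsUnit (algebraMap T S uu) := IsLocalization.map_units S uu
    obtain ⟨w, hw⟩ := hu.exists_right_inv
    have huW : algebraMap T S uu ∈ W (S := S) t := by rw [← hρ]; exact hρW _
    have hwW : w ∈ W (S := S) t := inv_mem_W t ht huW hw
    have : IsLocalization.mk' S τ uu = algebraMap T S τ * w := by
      rw [← IsLocalization.mk'_spec S τ uu, mul_assoc, hw, mul_one]
    rw [this]
    refine (W t).mul_mem ?_ hwW
    rw [← hρ]; exact hρW _
  -- flatness
  haveI : Module.Flat T S := IsLocalization.flat S q.primeCompl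
  haveI : Module.Flat R S := Module.Flat.trans R T S
  haveI : Module.FaithfullyFlat R S := Module.FaithfullyFlat.of_flat_of_isLocalHom
  refine ⟨t, ht, fun n _ => ⟨?_, ?_⟩⟩
  · apply Ideal.quotientMap_injective'
    rw [Ideal.comap_map_eq_self_of_faithfullyFlat]
  · intro sbar
    obtain ⟨s, rfl⟩ := Ideal.Quotient.mk_surjective sbar
    obtain ⟨r, hr⟩ := pow_decomp t hall n s
    refine ⟨Ideal.Quotient.mk _ r, ?_⟩
    rw [Ideal.quotientMap_mk, eq_comm, Ideal.Quotient.eq, Ideal.map_span, Set.image_singleton]
    exact hr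

end Groth.Agent.S9433
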