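import Groth.Statements.S9435
import Mathlib

set_option autoImplicit false
universe u
open CAlg

namespace Groth.Agent.S9435

open Polynomial


lemma exists_common (R : Type u) [CommRing R] (p : Ideal R) [p.IsPrime] (T : Finset p.ResidueField) :
    ∃ s : R, algebraMap R p.ResidueField s ≠ 0 ∧
      ∀ c ∈ T, ∃ a : R, c * algebraMap R p.ResidueField s = algebraMap R p.ResidueField a := by
  obtain ⟨b, hb⟩ := IsLocalization.exist_integer_multiples_of_finset (nonZeroDivisors (R ⧸ p)) T
  obtain ⟨s, hs⟩ := Ideal.Quotient.mk_surjective (b : R ⧸ p)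
  have hs' : algebraMap R p.ResidueField s = algebraMap (R ⧸ p) p.ResidueField b := by
    rw [← hs]; rfl
  refine ⟨s, ?_, ?_⟩
  · rw [hs']
    exact IsFractionRing.to_map_ne_zero_of_mem_nonZeroDivisors b.2
  · intro c hc
    obtain ⟨x, hx⟩ := hb c hc
    obtain ⟨a, rfl⟩ := Ideal.Quotient.mk_surjective x
    refine ⟨a, ?_⟩
    rw [hs', mul_comm, ← Algebra.smul_def, ← hx]
    rfl

/-- key: a primitive element with minimal polynomial liftable to a monic polynomial over `R`. -/
lemma exists_good_primitive (R : Type u) [CommRing R] (p : Ideal R) [p.IsPrime] (L : Type u) [Field L] [Algebra p.ResidueField L] [Algebra R L]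
    [IsScalarTower R p.ResidueField L] [Module.Finite p.ResidueField L]
    [Algebra.IsSeparable p.ResidueField L] :
    ∃ (β : L) (G : R[X]), G.Monic ∧ IntermediateField.adjoin p.ResidueField {β} = ⊤ ∧
      G.map (algebraMap R p.ResidueField) = minpoly p.ResidueField β := by
  classical
  obtain ⟨α, hα⟩ := Field.exists_primitive_element p.ResidueField L
  set h := minpoly p.ResidueField α with hh
  have hαint : IsIntegral p.ResidueField α := Algebra.IsIntegral.isIntegral α
  have hmonic : h.Monic := minpoly.monic hαint
  obtain ⟨s, hs, hcoef⟩ := exists_common R p (Finset.image h.coeff (Finset.range h.natDegree))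
  set σ := algebraMap R p.ResidueField s with hσ
  set H := scaleRoots h σ with hH
  have Hmonic : H.Monic := (monic_scaleRoots_iff σ).mpr hmonic
  have Hdeg : H.natDegree = h.natDegree := natDegree_scaleRoots h σ
  have Hlifts : H ∈ lifts (algebraMap R p.ResidueField) := by
    rw [lifts_iff_coeff_lifts]
    intro n
    rw [hH, coeff_scaleRoots]
    rcases lt_trichotomy n h.natDegree with hn | hn | hn
    · obtain ⟨a, ha⟩ := hcoef (h.coeff n) (Finset.mem_image_of_mem _ (Finset.mem_range.mpr hn))
      refine ⟨a * s ^ (h.natDegree - n - 1), ?_⟩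
      rw [map_mul, map_pow, ← ha, mul_assoc, ← pow_succ']
      congr 2
      omega
    · subst hn
      refine ⟨1, ?_⟩
      simp [hmonic.coeff_natDegree]
    · refine ⟨0, ?_⟩
      simp [coeff_eq_zero_of_natDegree_lt hn]
  obtain ⟨G, hGmap, hGdeg, hGmonic⟩ := lifts_and_natDegree_eq_and_monic Hlifts Hmonic
  set β : L := algebraMap p.ResidueField L σ * α with hβ
  have hβroot : aeval β H = 0 := scaleRoots_aeval_eq_zero (minpoly.aeval _ _)
  have hβint : IsIntegral p.ResidueField β := Algebra.IsIntegral.isIntegral β
  have hβtop : IntermediateField.adjoin p.ResidueField {β} = ⊤ := by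
    rw [eq_top_iff, ← hα, IntermediateField.adjoin_simple_le_iff]
    have h1 : β ∈ IntermediateField.adjoin p.ResidueField {β} :=
      IntermediateField.mem_adjoin_simple_self _ _
    have h2 : algebraMap p.ResidueField L σ ∈ IntermediateField.adjoin p.ResidueField {β} :=
      IntermediateField.algebraMap_mem _ _
    have h3 : α = (algebraMap p.ResidueField L σ)⁻¹ * β := by
      rw [hβ, ← mul_assoc, inv_mul_cancel₀, one_mul]
      exact (_root_.map_ne_zero _).mpr hs
    rw [h3]
    exact mul_mem (inv_mem h2) h1
  refine ⟨β, G, hGmonic, hβtop, ?_⟩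
  rw [hGmap]
  have hdvd : minpoly p.ResidueField β ∣ H := minpoly.dvd _ _ hβroot
  have hdeg : H.natDegree ≤ (minpoly p.ResidueField β).natDegree := by
    rw [Hdeg, ← IntermediateField.adjoin.finrank hβint, ← IntermediateField.adjoin.finrank hαint,
      hα, hβtop]
  exact Polynomial.eq_of_monic_of_dvd_of_natDegree_le (minpoly.monic hβint) Hmonic hdvd hdeg


/-- Given a prime p of a ring R and a finite separable extension L of κ(p), there is an étale R-algebra
R' with a prime p' over p whose residue field is κ(p)-isomorphic to L. Stated through an R-algebra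
map ψ : R' → L whose image generates the field L: its kernel is such a prime p' and the induced
κ(p') → L is then an isomorphism over κ(p). -/
theorem result (R : Type u) [CommRing R]
    (p : Ideal R) [p.IsPrime] (L : Type u) [Field L] [Algebra p.ResidueField L] [Algebra R L]
    [IsScalarTower R p.ResidueField L] [Module.Finite p.ResidueField L]
    [Algebra.IsSeparable p.ResidueField L] :
    ∃ (R' : Type u) (_ : CommRing R') (_ : Algebra R R') (_ : Algebra.Etale R R') (ψ : R' →ₐ[R] L),
      Subfield.closure (Set.range ψ) = ⊤ := by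
  obtain ⟨β, G, hGmonic, hβtop, hGmap⟩ := exists_good_primitive R p L
  have hβint : IsIntegral p.ResidueField β := Algebra.IsIntegral.isIntegral β
  have hsep : (minpoly p.ResidueField β).Separable := Algebra.IsSeparable.isSeparable _ β
  let P : StandardEtalePair R := ⟨G, hGmonic, derivative G, ⟨1, 0, 1, by simp⟩⟩
  have haeval : ∀ q : R[X], aeval β q = aeval β (q.map (algebraMap R p.ResidueField)) := by
    intro q
    rw [aeval_map_algebraMap]
  have hmap : P.HasMap β := by
    refine ⟨?_, ?_⟩
    · show aeval β G = 0
      rw [haeval, hGmap, minpoly.aeval]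
    · show IsUnit (aeval β (derivative G))
      rw [haeval, ← derivative_map, hGmap]
      exact (hsep.aeval_derivative_ne_zero (minpoly.aeval _ _)).isUnit
  refine ⟨P.Ring, inferInstance, inferInstance, inferInstance, P.lift β hmap, ?_⟩
  set K := Subfield.closure (Set.range (P.lift β hmap)) with hK
  have hR : ∀ r : R, algebraMap R L r ∈ K := by
    intro r
    apply Subfield.subset_closure
    exact ⟨algebraMap R P.Ring r, by simp⟩
  have hκ : ∀ c : p.ResidueField, algebraMap p.ResidueField L c ∈ K := by
    intro c
    obtain ⟨x, y, hy, rfl⟩ := IsFractionRing.div_surjective (A := R ⧸ p) c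
    obtain ⟨a, rfl⟩ := Ideal.Quotient.mk_surjective x
    obtain ⟨s, rfl⟩ := Ideal.Quotient.mk_surjective y
    have e1 : algebraMap (R ⧸ p) p.ResidueField (Ideal.Quotient.mk p a) = algebraMap R p.ResidueField a := rfl
    have e2 : algebraMap (R ⧸ p) p.ResidueField (Ideal.Quotient.mk p s) = algebraMap R p.ResidueField s := rfl
    rw [e1, e2, map_div₀, ← IsScalarTower.algebraMap_apply, ← IsScalarTower.algebraMap_apply]
    exact div_mem (hR a) (hR s)
  have hβK : β ∈ K := by
    apply Subfield.subset_closure
    exact ⟨P.X, by simp⟩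
  rw [eq_top_iff]
  intro x _
  have hx : x ∈ IntermediateField.adjoin p.ResidueField {β} := by rw [hβtop]; trivial
  have hle : IntermediateField.adjoin p.ResidueField {β} ≤ K.toIntermediateField hκ := by
    rw [IntermediateField.adjoin_simple_le_iff]
    exact hβK
  exact hle hx


end Groth.Agent.S9435
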