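import Groth.Statements.S9442
import Mathlib
import Groth.Agent.Lib.Helper5.RegSmoothPerfect
-- import your own Groth.Agent.* helpers here

set_option autoImplicit false
set_option linter.unusedSectionVars false
set_option linter.style.haveILetI false
set_option linter.unusedVariables false
universe u
open CAlg

namespace Groth.Agent.S9442

open TensorProduct IsLocalRing KaehlerDifferential

/-- Mac Lane: a finitely generated geometrically reduced field extension is formally smooth. -/
theorem formallySmooth_of_isGeometricallyReduced (k L : Type u) [Field k] [Field L] [Algebra k L]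
    [Algebra.EssFiniteType k L] [Algebra.IsGeometricallyReduced k L] :
    Algebra.FormallySmooth k L := by
  obtain _ | ⟨p, hp, hpk⟩ := CharP.exists' k
  · haveI : PerfectField k := PerfectField.ofCharZero
    infer_instance
  · haveI : ExpChar k p := .prime hp.out
    have H : ∀ s : Finset L,
        LinearIndepOn k _root_.id (s : Set L) → LinearIndepOn k (· ^ p) (s : Set L) := by
      intro s hs
      let Ω := AlgebraicClosure k
      haveI : CharP Ω p := charP_of_injective_algebraMap (algebraMap k Ω).injective p
      haveI : Nontrivial (Ω ⊗[k] L) := inferInstance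
      haveI : CharP (Ω ⊗[k] L) p :=
        charP_of_injective_algebraMap (algebraMap Ω (Ω ⊗[k] L)).injective p
      haveI : ExpChar (Ω ⊗[k] L) p := .prime hp.out
      have hred : IsReduced (Ω ⊗[k] L) := inferInstance
      have hli : LinearIndependent Ω (fun i : (s : Set L) => (1 : Ω) ⊗ₜ[k] (i : L)) :=
        Module.Flat.linearIndependent_one_tmul (S := Ω) hs
      rw [LinearIndepOn, linearIndependent_iff']
      intro t g hg
      choose d hd using fun i : (s : Set L) =>
        IsAlgClosed.exists_pow_nat_eq (algebraMap k Ω (g i)) hp.out.pos
      let z : Ω ⊗[k] L := ∑ i ∈ t, d i ⊗ₜ[k] (i : L)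
      have hz : z ^ p = 0 := by
        simp only [z]
        rw [sum_pow_char]
        have : ∀ i ∈ t, (d i ⊗ₜ[k] (i : L)) ^ p = (1 : Ω) ⊗ₜ[k] (g i • (i : L) ^ p) := by
          intro i _
          rw [Algebra.TensorProduct.tmul_pow, hd i, Algebra.algebraMap_eq_smul_one,
            TensorProduct.smul_tmul]
        rw [Finset.sum_congr rfl this, ← TensorProduct.tmul_sum, hg, TensorProduct.tmul_zero]
      have hz0 : z = 0 := IsReduced.eq_zero _ ⟨p, hz⟩
      have hz' : ∑ i ∈ t, d i • ((1 : Ω) ⊗ₜ[k] (i : L)) = 0 := by
        rw [← hz0]
        refine Finset.sum_congr rfl fun i _ => ?_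
        rw [TensorProduct.smul_tmul', smul_eq_mul, mul_one]
      have hd0 := linearIndependent_iff'.1 hli t d hz'
      intro i hi
      have h1 := hd i
      rw [hd0 i hi, zero_pow hp.out.ne_zero] at h1
      exact (map_eq_zero (algebraMap k Ω)).1 h1.symm
    obtain ⟨s, hs, hsep⟩ :=
      exists_isTranscendenceBasis_and_isSeparable_of_linearIndepOn_pow_of_essFiniteType p hp.out H
    have : Algebra.IsSeparable (↥(IntermediateField.adjoin k (Set.range ((↑) : s → L)))) L := by
      convert! hsep <;> simp
    exact .of_algebraicIndependent_of_isSeparable hs.1


open Groth.Agent.Lib.Helper5.RegSmoothCore in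
theorem isSmoothAt_of_regular' (k : Type u) [Field k] (S : Type u) [CommRing S]
    [Algebra k S] [Algebra.FiniteType k S] (q : Ideal S) [q.IsPrime]
    [Algebra.IsGeometricallyReduced k q.ResidueField]
    [IsRegularLocalRing (Localization.AtPrime q)] : Algebra.IsSmoothAt k q := by
  obtain ⟨n, f₀, hf₀⟩ := Algebra.FiniteType.iff_quotient_mvPolynomial''.mp
    (inferInstance : Algebra.FiniteType k S)
  let N : Ideal (MvPolynomial (Fin n) k) := q.comap (f₀ : MvPolynomial (Fin n) k →+* S)
  have hN : N.IsPrime := Ideal.comap_isPrime _ _
  let φr : Localization.AtPrime N →+* Localization.AtPrime q :=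
    Localization.localRingHom N q (f₀ : MvPolynomial (Fin n) k →+* S) rfl
  have hφsurj : Function.Surjective φr :=
    RingHom.surjective_localRingHom_of_surjective _ hf₀ q
  let φ : Localization.AtPrime N →ₐ[k] Localization.AtPrime q :=
    { φr with
      commutes' := fun c => by
        change φr (algebraMap k (Localization.AtPrime N) c) = _
        rw [IsScalarTower.algebraMap_apply k (MvPolynomial (Fin n) k) (Localization.AtPrime N),
          Localization.localRingHom_to_map]
        change algebraMap S _ (f₀ (algebraMap k _ c)) = _
        rw [f₀.commutes, ← IsScalarTower.algebraMap_apply] }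
  have h1 : Algebra.FormallyEtale (MvPolynomial (Fin n) k) (Localization.AtPrime N) :=
    .of_isLocalization N.primeCompl
  have h2 : Algebra.FormallySmooth k (Localization.AtPrime N) :=
    .comp _ (MvPolynomial (Fin n) k) _
  have h3 : Module.Free (Localization.AtPrime N) Ω[Localization.AtPrime N⁄k] :=
    .of_equiv (KaehlerDifferential.tensorKaehlerEquivOfFormallyEtale k (MvPolynomial (Fin n) k)
      (Localization.AtPrime N))
  have h4 : Module.Finite (Localization.AtPrime N) Ω[Localization.AtPrime N⁄k] := inferInstance
  have h5 : IsRegularLocalRing (Localization.AtPrime N) := inferInstance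
  have h6a : Algebra.EssFiniteType k (Localization.AtPrime N) :=
    Algebra.EssFiniteType.comp k (MvPolynomial (Fin n) k) (Localization.AtPrime N)
  have h6b : Algebra.FiniteType (Localization.AtPrime N)
      (ResidueField (Localization.AtPrime N)) :=
    Algebra.FiniteType.of_surjective (Algebra.ofId _ _) residue_surjective
  have h6c : Algebra.EssFiniteType k (ResidueField (Localization.AtPrime N)) :=
    Algebra.EssFiniteType.comp k (Localization.AtPrime N) _
  -- the residue field map
  haveI : IsLocalHom φr := Localization.isLocalHom_localRingHom (I := N) q (f₀ : MvPolynomial (Fin n) k →+* S) rfl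
  let ρ : ResidueField (Localization.AtPrime N) →ₐ[k] q.ResidueField :=
    { IsLocalRing.ResidueField.map φr with
      commutes' := fun c => by
        change IsLocalRing.ResidueField.map φr (algebraMap k _ c) = _
        rw [IsScalarTower.algebraMap_apply k (Localization.AtPrime N)
          (ResidueField (Localization.AtPrime N))]
        change IsLocalRing.ResidueField.map φr (residue _ (algebraMap k _ c)) = _
        rw [IsLocalRing.ResidueField.map_residue]
        have : φr (algebraMap k (Localization.AtPrime N) c) =
            algebraMap k (Localization.AtPrime q) c := φ.commutes c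
        rw [this]
        rfl }
  have hρ : Function.Injective ρ := (ρ : ResidueField (Localization.AtPrime N) →+* q.ResidueField).injective
  haveI : Algebra.IsGeometricallyReduced k (ResidueField (Localization.AtPrime N)) :=
    Algebra.IsGeometricallyReduced.of_injective ρ hρ
  have h6 : Algebra.FormallySmooth k (ResidueField (Localization.AtPrime N)) :=
    formallySmooth_of_isGeometricallyReduced k _
  let e : (Localization.AtPrime N ⧸ RingHom.ker φ) ≃ₐ[k] Localization.AtPrime q :=
    Ideal.quotientKerAlgEquivOfSurjective (f := φ) hφsurj
  have h7 : IsRegularLocalRing (Localization.AtPrime N ⧸ RingHom.ker φ) :=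
    IsRegularLocalRing.of_ringEquiv e.symm.toRingEquiv
  have h8 := formallySmooth_quotient k (Localization.AtPrime N) (RingHom.ker φ)
  exact Algebra.FormallySmooth.of_equiv (A := Localization.AtPrime N ⧸ RingHom.ker φ) e

/-- For a finite type algebra S over a field k and a prime q of S with κ(q) separable over k, S is
smooth over k at q if and only if S_q is a regular local ring. -/
theorem result (k : Type u) [Field k]
    (S : Type u) [CommRing S] [Algebra k S] [Algebra.FiniteType k S] (q : Ideal S) [q.IsPrime]
    [Algebra.IsGeometricallyReduced k q.ResidueField] :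
    Algebra.IsSmoothAt k q ↔ IsRegularLocalRing (Localization.AtPrime q) := by
  have : Algebra.FinitePresentation k S := Algebra.FinitePresentation.of_finiteType.mp inferInstance
  constructor
  · intro h
    exact Groth.Agent.Lib.Helper5.RegSmoothCore.regular_of_isSmoothAt k S q
  · intro h
    exact isSmoothAt_of_regular' k S q

end Groth.Agent.S9442
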