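import Groth.Statements.S9462
import Groth.Agent.Lib.Helper17.LocalFlat
import Mathlib

set_option autoImplicit false
universe u
open CAlg

namespace Groth.Agent.S9462

open TensorProduct Function Groth.Agent.Lib.Helper17.LocalFlat

section

variable (A' : Type u) [CommRing A'] (A : Type u) [CommRing A]
    [Algebra A' A] (hA : Function.Surjective (algebraMap A' A))
    (B' : Type u) [CommRing B'] [Algebra A' B'] (B : Type u) [CommRing B] [Algebra B' B]
    [Algebra A B] [Algebra A' B] [IsScalarTower A' A B] [IsScalarTower A' B' B]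
    (hB : Function.Surjective (algebraMap B' B))
    (hJI : RingHom.ker (algebraMap B' B) = (RingHom.ker (algebraMap A' A)).map (algebraMap A' B'))

/-- the comparison map `A ⊗[A'] B' → B`. -/
noncomputable def cmp : A ⊗[A'] B' →ₗ[A] B :=
  LinearMap.liftBaseChange A (IsScalarTower.toAlgHom A' B' B).toLinearMap

include hA hB hJI in
theorem cmp_bij : Bijective (cmp A' A B' B) := by
  have hsurj : ∀ m : A ⊗[A'] B', ∃ x : B', m = (1 : A) ⊗ₜ x := by
    intro m
    induction m using TensorProduct.induction_on with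
    | zero => exact ⟨0, by rw [tmul_zero]⟩
    | add x y hx hy =>
      obtain ⟨b₁, rfl⟩ := hx
      obtain ⟨b₂, rfl⟩ := hy
      exact ⟨b₁ + b₂, by rw [tmul_add]⟩
    | tmul a x =>
      obtain ⟨a, rfl⟩ := hA a
      refine ⟨a • x, ?_⟩
      rw [← smul_tmul]
      congr 1
      rw [Algebra.smul_def, mul_one]
  constructor
  · rw [injective_iff_map_eq_zero]
    intro z hz
    obtain ⟨x, rfl⟩ := hsurj z
    have hx : x ∈ RingHom.ker (algebraMap B' B) := by
      rw [RingHom.mem_ker]
      simpa [cmp] using hz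
    rw [hJI] at hx
    have hx' : x ∈ (RingHom.ker (algebraMap A' A)) • (⊤ : Submodule A' B') := by
      rw [Ideal.smul_top_eq_map]; exact hx
    refine Submodule.smul_induction_on hx' ?_ ?_
    · intro i hi y _
      rw [← smul_tmul]
      have : i • (1 : A) = 0 := by
        rw [Algebra.smul_def, mul_one]; exact hi
      rw [this, zero_tmul]
    · intro y₁ y₂ h₁ h₂
      rw [tmul_add, h₁, h₂, add_zero]
  · intro b
    obtain ⟨b', rfl⟩ := hB b
    exact ⟨1 ⊗ₜ b', by simp [cmp]⟩

include hA hB hJI in
theorem flat' [Module.Flat A B] (hI : RingHom.ker (algebraMap A' A) ^ 2 = ⊥)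
    (hinj : Function.Injective ((RingHom.ker (algebraMap A' A)).subtype.baseChange B')) :
    Module.Flat A' B' := by
  haveI : Module.Flat A (A ⊗[A'] B') :=
    Module.Flat.of_linearEquiv (LinearEquiv.ofBijective _ (cmp_bij A' A hA B' B hB hJI))
  refine flat_of_nilpotent_surj hA ⟨2, hI⟩ B' ?_
  rw [← LinearMap.lTensor_inj_iff_rTensor_inj]
  exact hinj

include hA hB hJI in
theorem unram' [Algebra.FormallyUnramified A B] (hJ : RingHom.ker (algebraMap B' B) ^ 2 = ⊥) :
    Algebra.FormallyUnramified A' B' := by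
  haveI : Algebra.FormallyUnramified A' A := .of_surjective (Algebra.ofId A' A) hA
  haveI : Algebra.FormallyUnramified A' B := .comp A' A B
  set J := RingHom.ker (algebraMap B' B) with hJdef
  have claim1 : ∀ t : B ⊗[B'] Ω[B'⁄A'], t = 0 := by
    intro t
    have hex := KaehlerDifferential.exact_kerCotangentToTensor_mapBaseChange A' B' B hB
    obtain ⟨c, rfl⟩ := (hex t).1 (Subsingleton.elim _ _)
    obtain ⟨⟨j, hj⟩, rfl⟩ := Ideal.toCotangent_surjective _ c
    rw [KaehlerDifferential.kerCotangentToTensor_toCotangent]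
    have hj' : j ∈ (RingHom.ker (algebraMap A' A)) • (⊤ : Submodule A' B') := by
      rw [Ideal.smul_top_eq_map, ← hJI]; exact hj
    show (1 : B) ⊗ₜ[B'] KaehlerDifferential.D A' B' j = 0
    refine Submodule.smul_induction_on hj' ?_ ?_
    · intro i hi y _
      rw [Derivation.map_smul]
      have : i • KaehlerDifferential.D A' B' y = (algebraMap A' B' i) • KaehlerDifferential.D A' B' y := by
        rw [algebraMap_smul]
      rw [this, ← smul_tmul]
      have : (algebraMap A' B' i) • (1 : B) = 0 := by
        rw [Algebra.smul_def, mul_one, ← IsScalarTower.algebraMap_apply,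
          IsScalarTower.algebraMap_apply A' A B, (RingHom.mem_ker).1 hi, map_zero]
      rw [this, zero_tmul]
    · intro y₁ y₂ h₁ h₂
      rw [map_add, tmul_add, h₁, h₂, add_zero]
  have claim2 : ∀ ω : Ω[B'⁄A'], ω ∈ J • (⊤ : Submodule B' Ω[B'⁄A']) := by
    intro ω
    have hexact : Exact J.subtype (Algebra.linearMap B' B) := by
      intro y
      constructor
      · intro h; exact ⟨⟨y, h⟩, rfl⟩
      · rintro ⟨z, rfl⟩; exact z.2
    have h1 := rTensor_exact Ω[B'⁄A'] hexact hB
    have h2 : (Algebra.linearMap B' B).rTensor Ω[B'⁄A'] ((1 : B') ⊗ₜ ω) = 0 := claim1 _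
    obtain ⟨w, hw⟩ := (h1 _).1 h2
    rw [← Ideal.subtype_rTensor_range]
    exact ⟨w, by rw [LinearMap.comp_apply, hw]; simp⟩
  have h3 : J • (⊤ : Submodule B' Ω[B'⁄A']) = ⊤ := top_le_iff.1 (fun ω _ => claim2 ω)
  have h4 : (⊥ : Submodule B' Ω[B'⁄A']) = ⊤ := by
    rw [← h3, ← h3, ← Submodule.mul_smul, ← pow_two, hJ, Submodule.bot_smul]
  refine ⟨⟨fun x y => ?_⟩⟩
  have hx : x ∈ (⊥ : Submodule B' Ω[B'⁄A']) := by rw [h4]; trivial
  have hy : y ∈ (⊥ : Submodule B' Ω[B'⁄A']) := by rw [h4]; trivial
  rw [(Submodule.mem_bot _).1 hx, (Submodule.mem_bot _).1 hy]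

include hA hB hJI in
theorem fp' [Algebra.FinitePresentation A B] [Module.Flat A' B']
    (hI : RingHom.ker (algebraMap A' A) ^ 2 = ⊥) :
    Algebra.FinitePresentation A' B' := by
  classical
  obtain ⟨n, fbar, hfbar, hker⟩ := Algebra.FinitePresentation.out (R := A) (A := B)
  set I' := RingHom.ker (algebraMap A' A) with hI'
  have hII : I' * I' = ⊥ := by rw [← pow_two]; exact hI
  choose x' hx' using fun i : Fin n => hB (fbar (MvPolynomial.X i))
  let φ : MvPolynomial (Fin n) A' →ₐ[A'] B' := MvPolynomial.aeval x'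
  let μ : MvPolynomial (Fin n) A' →+* MvPolynomial (Fin n) A := MvPolynomial.map (algebraMap A' A)
  have hμ : Surjective μ := MvPolynomial.map_surjective _ hA
  have compat : ∀ q, algebraMap B' B (φ q) = fbar (μ q) := by
    have : (algebraMap B' B).comp φ.toRingHom = fbar.toRingHom.comp μ := by
      apply MvPolynomial.ringHom_ext
      · intro a
        simp only [RingHom.comp_apply, AlgHom.toRingHom_eq_coe, RingHom.coe_coe, φ, μ,
          MvPolynomial.aeval_C, MvPolynomial.map_C]
        rw [← MvPolynomial.algebraMap_eq, AlgHom.commutes, ← IsScalarTower.algebraMap_apply,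
          ← IsScalarTower.algebraMap_apply]
      · intro i
        simp only [RingHom.comp_apply, AlgHom.toRingHom_eq_coe, RingHom.coe_coe, φ, μ,
          MvPolynomial.aeval_X, MvPolynomial.map_X]
        exact hx' i
    intro q
    exact RingHom.congr_fun this q
  have hkerB : ∀ b : B', algebraMap B' B b = 0 → b ∈ I' • (⊤ : Submodule A' B') := by
    intro b hb
    rw [Ideal.smul_top_eq_map, ← hJI]
    exact hb
  -- surjectivity
  have hφ : Surjective φ := by
    set R := LinearMap.range φ.toLinearMap with hR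
    have s1 : (⊤ : Submodule A' B') ≤ R ⊔ I' • ⊤ := by
      intro b _
      obtain ⟨q, hq⟩ := hfbar (algebraMap B' B b)
      obtain ⟨q', rfl⟩ := hμ q
      have : b = φ q' + (b - φ q') := by ring
      rw [this]
      refine Submodule.add_mem_sup ⟨q', rfl⟩ (hkerB _ ?_)
      rw [map_sub, compat, hq, sub_self]
    have s2 : I' • (⊤ : Submodule A' B') ≤ R := by
      calc I' • (⊤ : Submodule A' B') ≤ I' • (R ⊔ I' • ⊤) := Submodule.smul_mono le_rfl s1
        _ = I' • R ⊔ (I' * I') • ⊤ := by rw [Submodule.smul_sup, Submodule.mul_smul]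
        _ = I' • R := by rw [hII, Submodule.bot_smul, sup_bot_eq]
        _ ≤ R := Submodule.smul_le_right
    have s3 : (⊤ : Submodule A' B') ≤ R := s1.trans (sup_le le_rfl s2)
    intro b
    obtain ⟨q, hq⟩ := s3 (Submodule.mem_top : b ∈ ⊤)
    exact ⟨q, hq⟩
  have hφl : Surjective φ.toLinearMap := hφ
  -- kernel of μ
  have hkerμ : ∀ q, μ q = 0 → q ∈ I' • (⊤ : Submodule A' (MvPolynomial (Fin n) A')) := by
    intro q hq
    have : q ∈ RingHom.ker μ := hq
    rw [MvPolynomial.ker_map] at this
    rw [Ideal.smul_top_eq_map]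
    exact this
  have hμI : ∀ r ∈ I' • (⊤ : Submodule A' (MvPolynomial (Fin n) A')), μ r = 0 := by
    intro r hr
    refine Submodule.smul_induction_on hr ?_ ?_
    · intro i hi y _
      rw [Algebra.smul_def, map_mul]
      have : μ (algebraMap A' _ i) = 0 := by
        rw [MvPolynomial.algebraMap_eq]
        simp only [μ, MvPolynomial.map_C]
        rw [(RingHom.mem_ker).1 hi, map_zero]
      rw [this, zero_mul]
    · intro y₁ y₂ h₁ h₂
      rw [map_add, h₁, h₂, add_zero]
  -- lifting kernel elements
  have lift_ker : ∀ g ∈ RingHom.ker fbar.toRingHom, ∃ g' ∈ RingHom.ker φ.toRingHom, μ g' = g := by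
    intro g hg
    obtain ⟨q, rfl⟩ := hμ g
    have h1 : φ q ∈ I' • (⊤ : Submodule A' B') := hkerB _ (by rw [compat]; exact hg)
    have h2 : I' • (⊤ : Submodule A' B') =
        Submodule.map φ.toLinearMap (I' • (⊤ : Submodule A' (MvPolynomial (Fin n) A'))) := by
      rw [Submodule.map_smul'', Submodule.map_top, LinearMap.range_eq_top.2 hφl]
    rw [h2] at h1
    obtain ⟨r, hr, hrq⟩ := h1
    refine ⟨q - r, ?_, ?_⟩
    · rw [RingHom.mem_ker]
      show φ (q - r) = 0
      rw [map_sub]
      have : φ r = φ q := hrq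
      rw [this, sub_self]
    · rw [map_sub, hμI r hr, sub_zero]
  obtain ⟨S, hS⟩ := hker
  have hSmem : ∀ s : S, (s : MvPolynomial (Fin n) A) ∈ RingHom.ker fbar.toRingHom := by
    intro s; rw [← hS]; exact Submodule.subset_span s.2
  choose g hgker hgμ using fun s : S => lift_ker s.1 (hSmem s)
  set G : Ideal (MvPolynomial (Fin n) A') := Ideal.span (Set.range g) with hG
  have hGK : G ≤ RingHom.ker φ.toRingHom := by
    rw [hG, Ideal.span_le]
    rintro _ ⟨s, rfl⟩
    exact hgker s
  have k2 : ∀ k ∈ RingHom.ker φ.toRingHom, k ∈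
      G.restrictScalars A' ⊔ I' • LinearMap.ker φ.toLinearMap := by
    intro k hk
    have h1 : μ k ∈ Ideal.map μ G := by
      have : μ k ∈ RingHom.ker fbar.toRingHom := by
        rw [RingHom.mem_ker]
        show fbar (μ k) = 0
        rw [← compat]
        have : φ k = 0 := hk
        rw [this, map_zero]
      rw [← hS] at this
      refine (Ideal.span_le.2 ?_) this
      intro s hs
      have h3 : μ (g ⟨s, hs⟩) = s := hgμ ⟨s, hs⟩
      show s ∈ Ideal.map μ G
      rw [← h3]
      exact Ideal.mem_map_of_mem _ (Ideal.subset_span ⟨⟨s, hs⟩, rfl⟩)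
    obtain ⟨g₀, hg₀, hg₀k⟩ := (Ideal.mem_map_iff_of_surjective μ hμ).1 h1
    have h2 : k - g₀ ∈ LinearMap.ker φ.toLinearMap ⊓
        I' • (⊤ : Submodule A' (MvPolynomial (Fin n) A')) := by
      refine ⟨?_, hkerμ _ (by rw [map_sub, hg₀k, sub_self])⟩
      show φ (k - g₀) = 0
      have e1 : φ k = 0 := hk
      have e2 : φ g₀ = 0 := hGK hg₀
      rw [map_sub, e1, e2, sub_self]
    rw [LinearMap.ker_inf_smul_top_eq_smul_of_flat I' φ.toLinearMap hφl] at h2
    have : k = g₀ + (k - g₀) := by ring
    rw [this]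
    exact Submodule.add_mem_sup hg₀ h2
  have k3 : I' • LinearMap.ker φ.toLinearMap ≤ G.restrictScalars A' := by
    have hle : LinearMap.ker φ.toLinearMap ≤ G.restrictScalars A' ⊔ I' • LinearMap.ker φ.toLinearMap :=
      fun k hk => k2 k hk
    calc I' • LinearMap.ker φ.toLinearMap
        ≤ I' • (G.restrictScalars A' ⊔ I' • LinearMap.ker φ.toLinearMap) :=
          Submodule.smul_mono le_rfl hle
      _ = I' • G.restrictScalars A' ⊔ (I' * I') • LinearMap.ker φ.toLinearMap := by
          rw [Submodule.smul_sup, Submodule.mul_smul]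
      _ = I' • G.restrictScalars A' := by rw [hII, Submodule.bot_smul, sup_bot_eq]
      _ ≤ G.restrictScalars A' := Submodule.smul_le_right
  have hKG : RingHom.ker φ.toRingHom = G := by
    apply le_antisymm _ hGK
    intro k hk
    have := k2 k hk
    exact (sup_le le_rfl k3) this
  refine Algebra.FinitePresentation.of_surjective (f := φ) hφ ?_
  rw [hKG, hG]
  exact Submodule.fg_span (Set.finite_range g)

end


open TensorProduct in
/-- Consider surjections A' → A and B' → B with square-zero kernels I and J and a commutative square A'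
→ B', A → B. If A → B is étale and J = I ⊗_A B — that is, J = IB' and the multiplication map B'
⊗_{A'} I → B' is injective — then A' → B' is étale. -/
theorem result (A' : Type u) [CommRing A'] (A : Type u) [CommRing A]
    [Algebra A' A] (hA : Function.Surjective (algebraMap A' A))
    (hI : RingHom.ker (algebraMap A' A) ^ 2 = ⊥)
    (B' : Type u) [CommRing B'] [Algebra A' B'] (B : Type u) [CommRing B] [Algebra B' B]
    [Algebra A B] [Algebra A' B] [IsScalarTower A' A B] [IsScalarTower A' B' B]
    (hB : Function.Surjective (algebraMap B' B)) (hJ : RingHom.ker (algebraMap B' B) ^ 2 = ⊥)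
    [Algebra.Etale A B]
    (hJI : RingHom.ker (algebraMap B' B) = (RingHom.ker (algebraMap A' A)).map (algebraMap A' B'))
    (hinj : Function.Injective ((RingHom.ker (algebraMap A' A)).subtype.baseChange B')) :
    Algebra.Etale A' B' := by
  haveI : Module.Flat A' B' := flat' A' A hA B' B hB hJI hI hinj
  haveI : Algebra.FormallyUnramified A' B' := unram' A' A hA B' B hB hJI hJ
  haveI : Algebra.FinitePresentation A' B' := fp' A' A hA B' B hB hJI hI
  exact Algebra.Etale.of_formallyUnramified_of_flat

end Groth.Agent.S9462
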