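import Groth.Statements.S9469
import Groth.Agent.Lib.Helper12.RFPoint
import Groth.Agent.Lib.Helper12.UnramifiedPoint

set_option autoImplicit false
universe u
open Hensel

namespace Groth.Agent.S9469

/-- Let R be a ring and p a prime of R. Consider pairs (S, q) with S an étale R-algebra and q a prime of
S lying over p such that κ(p) → κ(q) is bijective; a morphism of pairs is an R-algebra map pulling
the second prime back to the first. Then any two parallel morphisms of pairs φ, ψ : (S₁, q₁) → (S₂,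
q₂) are coequalized by a morphism of pairs (S₂, q₂) → (S₃, q₃). -/
theorem result (R : Type u) [CommRing R]
    (p : Ideal R) [p.IsPrime] (S₁ : Type u) [CommRing S₁] [Algebra R S₁] [Algebra.Etale R S₁] (q₁ : Ideal S₁) [q₁.IsPrime] (hq₁ : p = q₁.comap (algebraMap R S₁))
    (hq₁κ : Function.Bijective (Ideal.ResidueField.map p q₁ (algebraMap R S₁) hq₁))
    (S₂ : Type u) [CommRing S₂] [Algebra R S₂] [Algebra.Etale R S₂] (q₂ : Ideal S₂) [q₂.IsPrime] (hq₂ : p = q₂.comap (algebraMap R S₂))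
    (hq₂κ : Function.Bijective (Ideal.ResidueField.map p q₂ (algebraMap R S₂) hq₂))
    (φ ψ : S₁ →ₐ[R] S₂) (hφ : q₂.comap φ.toRingHom = q₁) (hψ : q₂.comap ψ.toRingHom = q₁) :
    ∃ (S₃ : Type u) (_ : CommRing S₃) (_ : Algebra R S₃) (_ : Algebra.Etale R S₃) (q₃ : Ideal S₃)
      (_ : q₃.IsPrime) (hq₃ : p = q₃.comap (algebraMap R S₃)),
      Function.Bijective (Ideal.ResidueField.map p q₃ (algebraMap R S₃) hq₃) ∧
        ∃ χ : S₂ →ₐ[R] S₃, q₃.comap χ.toRingHom = q₂ ∧ χ.comp φ = χ.comp ψ := by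
  classical
  obtain ⟨σ₂, hσ₂⟩ := Groth.Agent.Lib.Helper12.RFPoint.exists_point_of_bijective p q₂ hq₂ hq₂κ
  have hφψ : σ₂.comp φ = σ₂.comp ψ := by
    apply Groth.Agent.Lib.Helper12.RFPoint.point_unique p
    have h1 : RingHom.ker (σ₂.comp φ) = q₁ := by
      rw [← hφ, ← hσ₂]
      ext x
      simp only [Ideal.mem_comap, RingHom.mem_ker]
      rfl
    have h2 : RingHom.ker (σ₂.comp ψ) = q₁ := by
      rw [← hψ, ← hσ₂]
      ext x
      simp only [Ideal.mem_comap, RingHom.mem_ker]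
      rfl
    rw [h1, h2]
  obtain ⟨e, he, hsp⟩ := Groth.Agent.Lib.Helper12.exists_idempotent_kaehlerIdeal R S₁
  let μ : TensorProduct R S₁ S₁ →ₐ[R] S₂ :=
    Algebra.TensorProduct.lift φ ψ (fun _ _ => Commute.all _ _)
  have hμt : ∀ x y : S₁, μ (x ⊗ₜ[R] y) = φ x * ψ y := fun x y =>
    Algebra.TensorProduct.lift_tmul _ _ _ _ _
  have hσμ : ∀ z ∈ KaehlerDifferential.ideal R S₁, σ₂ (μ z) = 0 := by
    rw [← KaehlerDifferential.span_range_eq_ideal]
    intro z hz
    have hle : Ideal.span (Set.range fun s : S₁ => (1 : S₁) ⊗ₜ[R] s - s ⊗ₜ[R] (1 : S₁)) ≤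
        (RingHom.ker σ₂).comap (μ : TensorProduct R S₁ S₁ →+* S₂) := by
      rw [Ideal.span_le]
      rintro _ ⟨s, rfl⟩
      show σ₂ (μ ((1 : S₁) ⊗ₜ[R] s - s ⊗ₜ[R] (1 : S₁))) = 0
      rw [map_sub, hμt, hμt, map_one, map_one, one_mul, mul_one, map_sub]
      have := AlgHom.congr_fun hφψ s
      simp only [AlgHom.comp_apply] at this
      rw [this, sub_self]
    exact hle hz
  have hσε : σ₂ (μ e) = 0 := hσμ e (hsp ▸ Ideal.mem_span_singleton_self e)
  have hεidem : IsIdempotentElem (μ e) := he.map μ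
  let σ₃ : Localization.Away (1 - μ e) →ₐ[R] p.ResidueField :=
    IsLocalization.liftAlgHom (M := Submonoid.powers (1 - μ e)) (f := σ₂) (by
      rintro ⟨y, m, rfl⟩
      show IsUnit (σ₂ ((1 - μ e) ^ m))
      rw [map_pow, map_sub, map_one, hσε, sub_zero, one_pow]
      exact isUnit_one)
  have hσ₃ : ∀ x, σ₃ (algebraMap S₂ _ x) = σ₂ x := fun x => IsLocalization.lift_eq _ x
  refine ⟨Localization.Away (1 - μ e), inferInstance, inferInstance, inferInstance, RingHom.ker σ₃,
    inferInstance, Groth.Agent.Lib.Helper12.RFPoint.comap_ker_eq p σ₃,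
    Groth.Agent.Lib.Helper12.RFPoint.bijective_of_point p σ₃,
    IsScalarTower.toAlgHom R S₂ (Localization.Away (1 - μ e)), ?_, ?_⟩
  · rw [← hσ₂]
    ext x
    simp only [Ideal.mem_comap, RingHom.mem_ker]
    show σ₃ (algebraMap S₂ _ x) = 0 ↔ _
    rw [hσ₃]
  · have hε0 : algebraMap S₂ (Localization.Away (1 - μ e)) (μ e) = 0 := by
      rw [IsLocalization.map_eq_zero_iff (Submonoid.powers (1 - μ e))]
      refine ⟨⟨1 - μ e, Submonoid.mem_powers _⟩, ?_⟩
      show (1 - μ e) * μ e = 0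
      rw [sub_mul, one_mul, hεidem.eq, sub_self]
    ext x
    show algebraMap S₂ (Localization.Away (1 - μ e)) (φ x) =
      algebraMap S₂ (Localization.Away (1 - μ e)) (ψ x)
    have hx : (1 : S₁) ⊗ₜ[R] x - x ⊗ₜ[R] (1 : S₁) ∈ KaehlerDifferential.ideal R S₁ :=
      KaehlerDifferential.one_smul_sub_smul_one_mem_ideal R x
    rw [hsp, Ideal.mem_span_singleton'] at hx
    obtain ⟨c, hc⟩ := hx
    have := congrArg (fun z => algebraMap S₂ (Localization.Away (1 - μ e)) (μ z)) hc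
    simp only [map_mul, hε0, mul_zero, map_sub, hμt, map_one, one_mul, mul_one] at this
    exact (sub_eq_zero.mp this.symm).symm

end Groth.Agent.S9469
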