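import Groth.Statements.S9470
import Groth.Agent.Lib.Helper12.HensColimB
import Groth.Agent.Lib.Helper12.HensColimC

set_option autoImplicit false
universe u
open Hensel

namespace Groth.Agent.S9470

/-- Let R be a ring, p a prime of R and R^h a henselization of the local ring R_p, regarded as an
R-algebra through R_p. For pairs (S, q) with S an étale R-algebra and q a prime of S over p such
that κ(p) → κ(q) is bijective: (a) there is exactly one R-algebra map f : S → R^h under which the
maximal ideal pulls back to q; (b) every element of R^h is f(s) for some such pair, map f and s ∈ S;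
(c) if such an f sends s to 0, then some R-algebra map S → S' to another such pair (S', q'), pulling
q' back to q, already sends s to 0. Together with filteredness of the category of pairs this
expresses that R^h is canonically the colimit of S over all pairs (S, q). (The published statement
also records the equal colimit of the local rings S_q.) -/
theorem result (R : Type u) [CommRing R]
    (p : Ideal R) [p.IsPrime] (Rh : Type u) [CommRing Rh] [IsLocalRing Rh]
    [Algebra (Localization.AtPrime p) Rh] [IsLocalHom (algebraMap (Localization.AtPrime p) Rh)]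
    [Hensel.IsHenselization (Localization.AtPrime p) Rh] [Algebra R Rh]
    [IsScalarTower R (Localization.AtPrime p) Rh] :
    (∀ (S : Type u) [CommRing S] [Algebra R S] [Algebra.Etale R S] (q : Ideal S) [q.IsPrime]
        (hq : p = q.comap (algebraMap R S)),
        Function.Bijective (Ideal.ResidueField.map p q (algebraMap R S) hq) →
          ∃! f : S →ₐ[R] Rh, (IsLocalRing.maximalIdeal Rh).comap f.toRingHom = q) ∧
    (∀ x : Rh, ∃ (S : Type u) (_ : CommRing S) (_ : Algebra R S) (_ : Algebra.Etale R S) (q : Ideal S)
        (_ : q.IsPrime) (hq : p = q.comap (algebraMap R S)),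
        Function.Bijective (Ideal.ResidueField.map p q (algebraMap R S) hq) ∧
          ∃ (f : S →ₐ[R] Rh) (s : S), (IsLocalRing.maximalIdeal Rh).comap f.toRingHom = q ∧ f s = x) ∧
    (∀ (S : Type u) [CommRing S] [Algebra R S] [Algebra.Etale R S] (q : Ideal S) [q.IsPrime]
        (hq : p = q.comap (algebraMap R S)),
        Function.Bijective (Ideal.ResidueField.map p q (algebraMap R S) hq) →
          ∀ (f : S →ₐ[R] Rh), (IsLocalRing.maximalIdeal Rh).comap f.toRingHom = q → ∀ s : S, f s = 0 →
            ∃ (S' : Type u) (_ : CommRing S') (_ : Algebra R S') (_ : Algebra.Etale R S') (q' : Ideal S')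
              (_ : q'.IsPrime) (hq' : p = q'.comap (algebraMap R S')),
              Function.Bijective (Ideal.ResidueField.map p q' (algebraMap R S') hq') ∧
                ∃ φ : S →ₐ[R] S', q'.comap φ.toRingHom = q ∧ φ s = 0) := by
  refine ⟨?_, ?_, ?_⟩
  · intro S _ _ _ q _ hq hbij
    obtain ⟨σ, hσ⟩ := Groth.Agent.Lib.Helper12.RFPoint.exists_point_of_bijective p q hq hbij
    obtain ⟨f, hf⟩ := Groth.Agent.Lib.Helper12.HensColim.exists_algHom_of_point (Rh := Rh) p σ
    have hfq : (IsLocalRing.maximalIdeal Rh).comap f.toRingHom = q := by
      rw [← Groth.Agent.Lib.Helper12.HensColim.ker_rho_comp p f, hf, hσ]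
    refine ⟨f, hfq, fun f' hf' => ?_⟩
    exact Groth.Agent.Lib.Helper12.HensColim.algHom_unique p f' f (hf'.trans hfq.symm)
  · intro x
    exact Groth.Agent.Lib.Helper12.HensColim.exists_pair R p Rh x
  · intro S _ _ _ q _ hq hbij f hf s hs
    obtain ⟨u, hu, hus⟩ := Groth.Agent.Lib.Helper12.HensColim.exists_mul_eq_zero p f s hs
    let fu : Localization.Away u →ₐ[R] Rh :=
      IsLocalization.liftAlgHom (M := Submonoid.powers u) (f := f) (by
        rintro ⟨_, e, rfl⟩
        show IsUnit (f (u ^ e))
        rw [map_pow]
        exact hu.pow e)
    have hfu : ∀ x : S, fu (algebraMap S (Localization.Away u) x) = f x := fun x =>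
      IsLocalization.lift_eq _ x
    refine ⟨Localization.Away u, inferInstance, inferInstance, inferInstance,
      RingHom.ker ((Groth.Agent.Lib.Helper12.HensColim.rho R p Rh).comp fu), inferInstance,
      Groth.Agent.Lib.Helper12.RFPoint.comap_ker_eq p _,
      Groth.Agent.Lib.Helper12.RFPoint.bijective_of_point p _,
      IsScalarTower.toAlgHom R S (Localization.Away u), ?_, ?_⟩
    · rw [← hf, ← Groth.Agent.Lib.Helper12.HensColim.ker_rho_comp p f]
      ext x
      simp only [Ideal.mem_comap, RingHom.mem_ker, AlgHom.comp_apply]
      show (Groth.Agent.Lib.Helper12.HensColim.rho R p Rh)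
        (fu (algebraMap S (Localization.Away u) x)) = 0 ↔ _
      rw [hfu]
    · show algebraMap S (Localization.Away u) s = 0
      have h1 : IsUnit (algebraMap S (Localization.Away u) u) :=
        IsLocalization.Away.algebraMap_isUnit u
      rw [← h1.mul_right_eq_zero, ← map_mul, hus, map_zero]

end Groth.Agent.S9470
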