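import Groth.Statements.S9472
import Groth.Agent.Lib.Helper14.DiffUnram

set_option autoImplicit false
universe u
open Diff16

namespace Groth.Agent.S9472

open TensorProduct Diff16 Groth.Agent.Lib.helper11.DiffOp Groth.Agent.Lib.Helper14.DiffUnram

section
variable {R S S' : Type u} [CommRing R] [CommRing S] [CommRing S'] [Algebra R S] [Algebra R S']
  [Algebra S S'] [IsScalarTower R S S']
variable {M : Type u} [AddCommGroup M] [Module S M] [Module R M] [IsScalarTower R S M]
variable {N' : Type u} [AddCommGroup N'] [Module S' N'] [Module R N'] [IsScalarTower R S' N']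
  [Module S N'] [IsScalarTower S S' N'] [IsScalarTower R S N']

theorem alg_smul_one_tmul (s : S) (m : M) :
    (algebraMap S S' s) • ((1 : S') ⊗ₜ[S] m) = (1 : S') ⊗ₜ[S] (s • m) := by
  rw [TensorProduct.smul_tmul', smul_eq_mul, mul_one, Algebra.algebraMap_eq_smul_one,
    TensorProduct.smul_tmul]

theorem isDiffOpLE_restrict : ∀ (k : ℕ) (D' : S' ⊗[S] M →ₗ[R] N'),
    IsDiffOpLE R S' (S' ⊗[S] M) N' k D' →
    IsDiffOpLE R S M N' k (D' ∘ₗ (TensorProduct.mk S S' M 1).restrictScalars R) := by
  intro k
  induction k with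
  | zero =>
    intro D' hD' s m
    simp only [LinearMap.coe_comp, LinearMap.coe_restrictScalars, Function.comp_apply,
      TensorProduct.mk_apply]
    rw [← alg_smul_one_tmul, hD', algebraMap_smul]
  | succ k ih =>
    intro D' hD' s
    have : commutator R S M N' (D' ∘ₗ (TensorProduct.mk S S' M 1).restrictScalars R) s =
        (commutator R S' (S' ⊗[S] M) N' D' (algebraMap S S' s)) ∘ₗ
          (TensorProduct.mk S S' M 1).restrictScalars R := by
      ext m
      simp only [commutator_apply, LinearMap.coe_comp, LinearMap.coe_restrictScalars,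
        Function.comp_apply, TensorProduct.mk_apply]
      rw [algebraMap_smul, TensorProduct.tmul_smul, algebraMap_smul]
    rw [this]
    exact ih _ (hD' _)

end


open TensorProduct in
/-- Let R → S → S' be ring maps with S → S' formally étale, M an S-module and (P, D_u) a module of
principal parts of order k of M relative to R → S, i.e. D_u : M → P is a differential operator of
order at most k through which every differential operator of order at most k from M to an S-module
factors by a unique S-linear map. If D_u' : S' ⊗_S M → S' ⊗_S P is a differential operator of order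
at most k relative to R → S' with D_u'(1 ⊗ m) = 1 ⊗ D_u(m), then (S' ⊗_S P, D_u') is a module of
principal parts of order k of S' ⊗_S M relative to R → S'. (The published statement writes this as
an identification of S' ⊗_S P^k_{S/R}(M) with P^k_{S'/R}(M') and forms M' by base change over R
rather than over S; with base change over R the identification fails already for k = 0, R the
rationals, S = S' a polynomial ring in one variable and M = S, and the published proof computes with
the base change over S, used here. Target modules are taken in one universe.) -/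
theorem result (R S S' : Type u) [CommRing R]
    [CommRing S] [CommRing S'] [Algebra R S] [Algebra R S'] [Algebra S S'] [IsScalarTower R S S']
    [Algebra.FormallyEtale S S'] (M : Type u) [AddCommGroup M] [Module S M] [Module R M]
    [IsScalarTower R S M] (k : ℕ) (P : Type u) [AddCommGroup P] [Module S P] [Module R P]
    [IsScalarTower R S P] (Du : M →ₗ[R] P) (hDu : Diff16.IsDiffOpLE R S M P k Du)
    (huniv : ∀ (N : Type u) [AddCommGroup N] [Module S N] [Module R N] [IsScalarTower R S N]
      (D : M →ₗ[R] N), Diff16.IsDiffOpLE R S M N k D → ∃! α : P →ₗ[S] N, α.restrictScalars R ∘ₗ Du = D)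
    (Du' : S' ⊗[S] M →ₗ[R] S' ⊗[S] P) (hDu' : Diff16.IsDiffOpLE R S' (S' ⊗[S] M) (S' ⊗[S] P) k Du')
    (hext : Du' ∘ₗ (TensorProduct.mk S S' M 1).restrictScalars R =
      (TensorProduct.mk S S' P 1).restrictScalars R ∘ₗ Du) :
    ∀ (N' : Type u) [AddCommGroup N'] [Module S' N'] [Module R N'] [IsScalarTower R S' N']
      (D' : S' ⊗[S] M →ₗ[R] N'), Diff16.IsDiffOpLE R S' (S' ⊗[S] M) N' k D' →
        ∃! α : S' ⊗[S] P →ₗ[S'] N', α.restrictScalars R ∘ₗ Du' = D' := by
  intro N' _ _ _ _ D' hD'
  letI : Module S N' := Module.compHom N' (algebraMap S S')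
  haveI : IsScalarTower S S' N' := ⟨fun s s' n => by
    change (s • s') • n = (algebraMap S S' s) • (s' • n)
    rw [Algebra.smul_def, mul_smul]⟩
  haveI : IsScalarTower R S N' := ⟨fun r s n => by
    change (algebraMap S S' (r • s)) • n = r • ((algebraMap S S' s) • n)
    rw [Algebra.smul_def, map_mul, ← IsScalarTower.algebraMap_apply, mul_smul, algebraMap_smul]⟩
  have hext' : ∀ m : M, Du' ((1 : S') ⊗ₜ[S] m) = (1 : S') ⊗ₜ[S] Du m := fun m =>
    LinearMap.congr_fun hext m
  -- existence
  obtain ⟨α₀, hα₀, -⟩ := huniv N' (D' ∘ₗ (TensorProduct.mk S S' M 1).restrictScalars R)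
    (isDiffOpLE_restrict k D' hD')
  let α : S' ⊗[S] P →ₗ[S'] N' := LinearMap.liftBaseChange S' α₀
  have hα1 : ∀ p : P, α ((1 : S') ⊗ₜ[S] p) = α₀ p := fun p => by
    simp [α]
  have hα_lin : IsDiffOpLE R S' (S' ⊗[S] P) N' 0 (α.restrictScalars R) := fun b x => by
    simp
  have hE : IsDiffOpLE R S' (S' ⊗[S] M) N' k (α.restrictScalars R ∘ₗ Du' - D') :=
    IsDiffOpLE.sub (IsDiffOpLE.comp k k 0 (by omega) hDu' hα_lin) hD'
  have hE0 : α.restrictScalars R ∘ₗ Du' - D' = 0 := by
    apply eq_zero_of_vanish (S := S) k _ hE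
    intro m
    rw [LinearMap.sub_apply, LinearMap.comp_apply, hext', LinearMap.coe_restrictScalars, hα1,
      sub_eq_zero]
    exact LinearMap.congr_fun hα₀ m
  refine ⟨α, sub_eq_zero.mp hE0, ?_⟩
  -- uniqueness
  intro β hβ
  have hdiff : ∀ p : P, (β - α) ((1 : S') ⊗ₜ[S] p) = 0 := by
    obtain ⟨γ, -, hγ⟩ := huniv N' 0 (IsDiffOpLE.zero k)
    let β₀ : P →ₗ[S] N' :=
      ((β - α).restrictScalars S) ∘ₗ (TensorProduct.mk S S' P 1)
    have hβ₀ : β₀.restrictScalars R ∘ₗ Du = 0 := by
      ext m
      change (β - α) ((1 : S') ⊗ₜ[S] Du m) = 0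
      rw [← hext', LinearMap.sub_apply, sub_eq_zero]
      have h1 := LinearMap.congr_fun hβ ((1 : S') ⊗ₜ[S] m)
      have h2 := LinearMap.congr_fun (sub_eq_zero.mp hE0) ((1 : S') ⊗ₜ[S] m)
      simp only [LinearMap.coe_comp, LinearMap.coe_restrictScalars, Function.comp_apply] at h1 h2
      rw [h1, h2]
    have h0 : (0 : P →ₗ[S] N').restrictScalars R ∘ₗ Du = 0 := by
      ext m; simp
    have e1 := hγ β₀ hβ₀
    have e2 := hγ 0 h0
    intro p
    change β₀ p = 0
    rw [e1, ← e2]; rfl
  ext p
  have := hdiff p
  rw [LinearMap.sub_apply, sub_eq_zero] at this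
  simpa using this

end Groth.Agent.S9472
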