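import Groth.Statements.S9473
import Groth.Agent.Lib.Helper12.StrictTensorE

set_option autoImplicit false
universe u
open Hensel

namespace Groth.Agent.S9473

open TensorProduct in
/-- Let A → B and A → C be ring maps, D = B ⊗_A C, and p_D a prime of D with images p_B, p_C, p_A in B,
C, A. Let A^{sh}, B^{sh}, C^{sh}, D^{sh} be strict henselizations of the local rings A_{p_A},
B_{p_B}, C_{p_C}, D_{p_D}, equipped with local homomorphisms A^{sh} → B^{sh} → D^{sh} and A^{sh} →
C^{sh} → D^{sh} forming a commutative square compatible with A → B → D and A → C → D (such maps are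
the ones attached to a compatible choice of residue-field embeddings into one separably closed
field, and are unique given that choice). If B_{p_B}, an A_{p_A}-algebra through the induced map, is
a filtered colimit of quasi-finite A_{p_A}-algebras — every finite subset of B_{p_B} lies in an
A_{p_A}-subalgebra of finite type which is quasi-finite — then the induced A^{sh}-algebra map B^{sh}
⊗_{A^{sh}} C^{sh} → D^{sh} is bijective. -/
theorem result (A B C : Type u) [CommRing A] [CommRing B]
    [CommRing C] [Algebra A B] [Algebra A C]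
    (pA : Ideal A) [pA.IsPrime] (pB : Ideal B) [pB.IsPrime] [pB.LiesOver pA]
    (pC : Ideal C) [pC.IsPrime] [pC.LiesOver pA]
    (pD : Ideal (B ⊗[A] C)) [pD.IsPrime] [pD.LiesOver pB]
    (hDC : pD.comap (Algebra.TensorProduct.includeRight : C →ₐ[A] B ⊗[A] C).toRingHom = pC)
    (Ash : Type u) [CommRing Ash] [IsLocalRing Ash] [Algebra (Localization.AtPrime pA) Ash]
    [IsLocalHom (algebraMap (Localization.AtPrime pA) Ash)]
    [Hensel.IsStrictHenselization (Localization.AtPrime pA) Ash] [Algebra A Ash]
    [IsScalarTower A (Localization.AtPrime pA) Ash]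
    (Bsh : Type u) [CommRing Bsh] [IsLocalRing Bsh] [Algebra (Localization.AtPrime pB) Bsh]
    [IsLocalHom (algebraMap (Localization.AtPrime pB) Bsh)]
    [Hensel.IsStrictHenselization (Localization.AtPrime pB) Bsh] [Algebra B Bsh]
    [IsScalarTower B (Localization.AtPrime pB) Bsh] [Algebra A Bsh] [IsScalarTower A B Bsh]
    [Algebra Ash Bsh] [IsScalarTower A Ash Bsh] [IsLocalHom (algebraMap Ash Bsh)]
    (Csh : Type u) [CommRing Csh] [IsLocalRing Csh] [Algebra (Localization.AtPrime pC) Csh]
    [IsLocalHom (algebraMap (Localization.AtPrime pC) Csh)]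
    [Hensel.IsStrictHenselization (Localization.AtPrime pC) Csh] [Algebra C Csh]
    [IsScalarTower C (Localization.AtPrime pC) Csh] [Algebra A Csh] [IsScalarTower A C Csh]
    [Algebra Ash Csh] [IsScalarTower A Ash Csh] [IsLocalHom (algebraMap Ash Csh)]
    (Dsh : Type u) [CommRing Dsh] [IsLocalRing Dsh] [Algebra (Localization.AtPrime pD) Dsh]
    [IsLocalHom (algebraMap (Localization.AtPrime pD) Dsh)]
    [Hensel.IsStrictHenselization (Localization.AtPrime pD) Dsh] [Algebra (B ⊗[A] C) Dsh]
    [IsScalarTower (B ⊗[A] C) (Localization.AtPrime pD) Dsh]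
    [Algebra Bsh Dsh] [IsLocalHom (algebraMap Bsh Dsh)] [Algebra B Dsh] [IsScalarTower B Bsh Dsh]
    [IsScalarTower B (B ⊗[A] C) Dsh]
    [Algebra Csh Dsh] [IsLocalHom (algebraMap Csh Dsh)]
    (hC : ∀ c : C, algebraMap Csh Dsh (algebraMap C Csh c) = algebraMap (B ⊗[A] C) Dsh (1 ⊗ₜ[A] c))
    [Algebra Ash Dsh] [IsScalarTower Ash Bsh Dsh] [IsScalarTower Ash Csh Dsh]
    [Algebra (Localization.AtPrime pA) (Localization.AtPrime pB)]
    [IsScalarTower A (Localization.AtPrime pA) (Localization.AtPrime pB)]
    (hB : ∀ s : Finset (Localization.AtPrime pB),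
      ∃ B₀ : Subalgebra (Localization.AtPrime pA) (Localization.AtPrime pB),
        (↑s : Set (Localization.AtPrime pB)) ⊆ ↑B₀ ∧
          Algebra.FiniteType (Localization.AtPrime pA) ↥B₀ ∧
            Algebra.QuasiFinite (Localization.AtPrime pA) ↥B₀) :
    Function.Bijective (Algebra.TensorProduct.lift (IsScalarTower.toAlgHom Ash Bsh Dsh)
      (IsScalarTower.toAlgHom Ash Csh Dsh) (fun _ _ => Commute.all _ _)) := by
  classical
  haveI : HenselianLocalRing Ash :=
    Hensel.IsStrictHenselization.henselian (R := Localization.AtPrime pA)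
  haveI : IsSepClosed (IsLocalRing.ResidueField Ash) :=
    (Hensel.IsStrictHenselization.isSepClosure (R := Localization.AtPrime pA) (S := Ash)).sep_closed
  haveI : Algebra.IsIntegral Ash Bsh := by
    letI : Algebra (Localization.AtPrime pA) Bsh :=
      ((algebraMap Ash Bsh).comp (algebraMap (Localization.AtPrime pA) Ash)).toAlgebra
    haveI : IsScalarTower (Localization.AtPrime pA) Ash Bsh :=
      IsScalarTower.of_algebraMap_eq (fun x => rfl)
    haveI : IsScalarTower (Localization.AtPrime pA) (Localization.AtPrime pB) Bsh := by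
      apply IsScalarTower.of_algebraMap_eq'
      apply IsLocalization.ringHom_ext pA.primeCompl
      refine RingHom.ext fun a => ?_
      show algebraMap Ash Bsh (algebraMap (Localization.AtPrime pA) Ash
          (algebraMap A (Localization.AtPrime pA) a)) =
        algebraMap (Localization.AtPrime pB) Bsh
          (algebraMap (Localization.AtPrime pA) (Localization.AtPrime pB)
            (algebraMap A (Localization.AtPrime pA) a))
      rw [← IsScalarTower.algebraMap_apply A (Localization.AtPrime pA) Ash,
        ← IsScalarTower.algebraMap_apply A Ash Bsh,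
        ← IsScalarTower.algebraMap_apply A (Localization.AtPrime pA) (Localization.AtPrime pB),
        IsScalarTower.algebraMap_apply A B (Localization.AtPrime pB),
        ← IsScalarTower.algebraMap_apply B (Localization.AtPrime pB) Bsh,
        ← IsScalarTower.algebraMap_apply A B Bsh]
    apply Groth.Agent.Lib.Helper12.StrictTensor.isIntegral_of_forall Ash
      (Localization.AtPrime pB) Bsh
    intro x
    obtain ⟨B₀, hxB₀, hft, hqf⟩ := hB {x}
    haveI := hft
    haveI := hqf
    have hx : x ∈ B₀ := hxB₀ (by simp)
    haveI : ((IsLocalRing.maximalIdeal Bsh).comap (algebraMap B₀ Bsh)).IsPrime :=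
      Ideal.comap_isPrime _ _
    exact Groth.Agent.Lib.Helper12.StrictTensor.isIntegral_of_quasiFiniteAt
      (Localization.AtPrime pA) B₀ Ash Bsh
      ((IsLocalRing.maximalIdeal Bsh).comap (algebraMap B₀ Bsh)) rfl ⟨x, hx⟩
  exact Groth.Agent.Lib.Helper12.StrictTensor.bijective_of_isIntegral A B C pA pB pC pD hDC
    Ash Bsh Csh Dsh hC

end Groth.Agent.S9473
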