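import Groth.Statements.S9491
import Groth.Agent.Lib.Helper13.FEtNormIso

set_option autoImplicit false
universe u
open Pi1

namespace Groth.Agent.S9491

open AlgebraicGeometry CategoryTheory CategoryTheory.Limits in
/-- The essential image of restriction of finite etale covers from a normal integral scheme X to its
generic point Spec K consists of the finite etale K-schemes whose points are spectra of finite
extensions L of K in which X is unramified. Precisely: let L be a finite field extension of K and Y₀
the object Spec L → Spec K of the category of finite etale covers of Spec K; then Y₀ is isomorphic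
to the restriction of a finite etale cover of X if and only if the normalization of X in Spec L is
finite etale over X. (With full faithfulness of this restriction functor for normal X, this says
that the fundamental group of X is the Galois group of the union M of all finite subextensions of a
separable closure in which X is unramified.) -/
theorem result {X : Scheme.{u}} [IsIntegral X] (hX : Pi1.IsNormalScheme X)
    (L : Type u) [Field L] [Algebra X.functionField L] [FiniteDimensional X.functionField L]
    [QuasiCompact (Spec.map (CommRingCat.ofHom (algebraMap X.functionField L)) ≫ X.fromSpecStalk (genericPoint X))] [QuasiSeparated (Spec.map (CommRingCat.ofHom (algebraMap X.functionField L)) ≫ X.fromSpecStalk (genericPoint X))]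
    (Y₀ : FEt.Cat (Spec X.functionField)) (e : Y₀.left ≅ Spec (CommRingCat.of L))
    (he : e.hom ≫ Spec.map (CommRingCat.ofHom (algebraMap X.functionField L)) = Y₀.hom) :
    (FEt.restrict (X.fromSpecStalk (genericPoint X))).essImage Y₀ ↔
      (Etale (Spec.map (CommRingCat.ofHom (algebraMap X.functionField L)) ≫ X.fromSpecStalk (genericPoint X)).fromNormalization ∧ IsFinite (Spec.map (CommRingCat.ofHom (algebraMap X.functionField L)) ≫ X.fromSpecStalk (genericPoint X)).fromNormalization) := by
  have halg : (algebraMap X.functionField L).IsIntegral :=
    algebraMap_isIntegral_iff.mpr inferInstance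
  have hXic : ∀ x : X, IsIntegrallyClosed (X.presheaf.stalk x) := fun x => (hX x).2
  constructor
  · rintro ⟨Y, ⟨ψ⟩⟩
    haveI : IsFinite Y.hom := Y.prop.1
    haveI : Etale Y.hom := Y.prop.2
    let ψl : pullback Y.hom (X.fromSpecStalk (genericPoint X)) ≅ Y₀.left :=
      (MorphismProperty.Over.forget _ _ _ ⋙ CategoryTheory.Over.forget _).mapIso ψ
    have hψ : ψl.hom ≫ Y₀.hom = pullback.snd Y.hom (X.fromSpecStalk (genericPoint X)) :=
      MorphismProperty.Over.w ψ.hom
    let θ : Spec (CommRingCat.of L) ≅ pullback Y.hom (X.fromSpecStalk (genericPoint X)) :=
      e.symm ≪≫ ψl.symm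
    have hθ : θ.hom ≫ pullback.snd _ _ =
        Spec.map (CommRingCat.ofHom (algebraMap X.functionField L)) := by
      rw [← hψ, ← he]
      simp only [θ, Iso.trans_hom, Iso.symm_hom, Category.assoc, Iso.inv_hom_id_assoc]
    exact Groth.Agent.Lib.Helper13.FEtNormIso.finite_etale_fromNormalization X L
      (algebraMap X.functionField L) _ rfl hXic halg Y.hom θ hθ
  · rintro ⟨het, hfin⟩
    let Y : FEt.Cat X := MorphismProperty.Over.mk ⊤
      (Spec.map (CommRingCat.ofHom (algebraMap X.functionField L)) ≫
        X.fromSpecStalk (genericPoint X)).fromNormalization ⟨hfin, het⟩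
    let c : Spec (CommRingCat.of L) ⟶ pullback Y.hom (X.fromSpecStalk (genericPoint X)) :=
      pullback.lift (Spec.map (CommRingCat.ofHom (algebraMap X.functionField L)) ≫
        X.fromSpecStalk (genericPoint X)).toNormalization
        (Spec.map (CommRingCat.ofHom (algebraMap X.functionField L)))
        (Scheme.Hom.toNormalization_fromNormalization _)
    haveI : IsIso c := Groth.Agent.Lib.Helper13.FEtNormIso.isIso_lift X L
      (algebraMap X.functionField L) _ rfl halg c (pullback.lift_fst _ _ _)
    refine ⟨Y, ⟨MorphismProperty.Over.isoMk ((asIso c).symm ≪≫ e.symm) ?_⟩⟩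
    show ((asIso c).symm ≪≫ e.symm).hom ≫ Y₀.hom = pullback.snd _ _
    simp only [Iso.trans_hom, Iso.symm_hom, asIso_inv, Category.assoc]
    rw [← he, Iso.inv_hom_id_assoc, IsIso.inv_comp_eq]
    exact (pullback.lift_snd _ _ _).symm

end Groth.Agent.S9491
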