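import Groth.Statements.S9495
-- import your own Groth.Agent.* helpers here

set_option autoImplicit false
universe u
open SchMor

namespace Groth.Agent.S9495

open AlgebraicGeometry CategoryTheory in
theorem main {X S : Scheme.{u}} (f : X ⟶ S) [QuasiCompact f]
    (H : StableUnderSpecialization (Set.range f)) : IsClosed (Set.range f) := by
  rw [TopologicalSpace.IsOpenCover.isClosed_iff_coe_preimage (iSup_affineOpens_eq_top S)]
  rintro ⟨U, hU⟩
  obtain ⟨R, g, hg⟩ := isCompact_iff_exists.mp (f.isCompact_preimage hU.isCompact)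
  have hle : Set.range (g ≫ f) ⊆ Set.range U.ι := by
    rintro _ ⟨r, rfl⟩
    have : g r ∈ f ⁻¹ᵁ U := by rw [← SetLike.mem_coe, ← hg]; exact ⟨r, rfl⟩
    simpa using this
  let h : Spec R ⟶ U.toScheme := IsOpenImmersion.lift U.ι (g ≫ f) hle
  have hh : h ≫ U.ι = g ≫ f := IsOpenImmersion.lift_fac _ _ _
  have hh' : ∀ r, U.ι (h r) = f (g r) := fun r => congr($hh r)
  have hr : Set.range h = (U.ι ⁻¹' Set.range f : Set U.toScheme) := by
    ext u
    constructor
    · rintro ⟨r, rfl⟩
      exact ⟨g r, (hh' r).symm⟩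
    · rintro ⟨x, hx⟩
      have : x ∈ Set.range g := by
        rw [hg]
        change f x ∈ U
        rw [hx]
        exact u.2
      obtain ⟨r, rfl⟩ := this
      exact ⟨r, U.ι.isOpenEmbedding.injective ((hh' r).trans hx)⟩
  change IsClosed (U.ι ⁻¹' Set.range f : Set U.toScheme)
  rw [← hr]
  let k : Spec R ⟶ Spec Γ(S, U) := h ≫ hU.isoSpec.hom
  have hk : Set.range h = hU.isoSpec.hom ⁻¹' (Set.range k) := by
    ext u
    constructor
    · rintro ⟨r, rfl⟩
      exact ⟨r, rfl⟩
    · rintro ⟨r, hr'⟩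
      refine ⟨r, ?_⟩
      have := congrArg hU.isoSpec.inv hr'
      simpa [k] using this
  rw [hk]
  refine IsClosed.preimage hU.isoSpec.hom.continuous ?_
  obtain ⟨φ, hφ⟩ := Spec.homEquiv.symm.surjective k
  have hk2 : Set.range k = Set.range (PrimeSpectrum.comap φ.hom) := by
    rw [← hφ]
    rfl
  rw [hk2]
  apply PrimeSpectrum.isClosed_range_of_stableUnderSpecialization
  rw [← hk2]
  rintro y y' hyy' ⟨r, rfl⟩
  have h1 : hU.isoSpec.inv (k r) ⤳ hU.isoSpec.inv y' := hyy'.map hU.isoSpec.inv.continuous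
  have h2 : U.ι (hU.isoSpec.inv (k r)) ⤳ U.ι (hU.isoSpec.inv y') :=
    h1.map U.ι.continuous
  have h3 : hU.isoSpec.inv (k r) = h r := by simp [k]
  rw [h3, hh'] at h2
  obtain ⟨x, hx⟩ := H h2 ⟨g r, rfl⟩
  have h4 : hU.isoSpec.inv y' ∈ Set.range h := by
    rw [hr]
    exact ⟨x, hx⟩
  obtain ⟨r', hr'⟩ := h4
  refine ⟨r', ?_⟩
  have := congrArg hU.isoSpec.hom hr'
  simpa [k] using this

open AlgebraicGeometry in
open CategoryTheory in
/-- For a quasi-compact morphism of schemes f : X → S, the image f(X) is closed in S if and only if it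
is stable under specialization. -/
theorem result
    {X S : Scheme.{u}} (f : X ⟶ S) [QuasiCompact f] :
    IsClosed (Set.range f) ↔ StableUnderSpecialization (Set.range f) := by
  exact ⟨fun h => h.stableUnderSpecialization, main f⟩

end Groth.Agent.S9495
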