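import Groth.Statements.S9496
import Mathlib
import Groth.Agent.S9498

set_option autoImplicit false
universe u
open AffSch

namespace Groth.Agent.S9496

open AlgebraicGeometry in
open CategoryTheory Limits in
/-- Let X = Spec A be an affine scheme and φ : M → N a morphism of quasi-coherent O_X-modules. Then the
kernel and the cokernel of φ, computed in the category of all O_X-modules, are quasi-coherent. -/
theorem result
    (A : Type u) [CommRing A] {M N : (Spec (CommRingCat.of A)).Modules}
    [Coh.IsQCoh M] [Coh.IsQCoh N] (φ : M ⟶ N) :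
    Coh.IsQCoh (kernel φ) ∧ Coh.IsQCoh (cokernel φ) := by
  haveI : M.IsQuasicoherent := ‹Coh.IsQCoh M›
  haveI : N.IsQuasicoherent := ‹Coh.IsQCoh N›
  obtain ⟨hlim, hcolim⟩ := Groth.Agent.S9498.result A
  have hM : IsIso (Scheme.Modules.fromTildeΓ (R := CommRingCat.of A) M) :=
    Scheme.Modules.isIso_fromTildeΓ_of_isQuasicoherent (R := CommRingCat.of A) M
  have hN : IsIso (Scheme.Modules.fromTildeΓ (R := CommRingCat.of A) N) :=
    Scheme.Modules.isIso_fromTildeΓ_of_isQuasicoherent (R := CommRingCat.of A) N
  let eM : tilde (R := CommRingCat.of A) _ ≅ M :=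
    @asIso _ _ _ _ (Scheme.Modules.fromTildeΓ (R := CommRingCat.of A) M) hM
  let eN : tilde (R := CommRingCat.of A) _ ≅ N :=
    @asIso _ _ _ _ (Scheme.Modules.fromTildeΓ (R := CommRingCat.of A) N) hN
  let φ0 := (moduleSpecΓFunctor (R := CommRingCat.of A)).map φ
  have hnat : (tilde.functor (CommRingCat.of A)).map φ0 ≫ eN.hom = eM.hom ≫ φ :=
    (Scheme.Modules.fromTildeΓNatTrans (R := CommRingCat.of A)).naturality φ
  constructor
  · let e1 : kernel ((tilde.functor (CommRingCat.of A)).map φ0) ≅ kernel φ :=
      kernel.mapIso _ _ eM eN hnat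
    let e2 : (tilde.functor (CommRingCat.of A)).obj (kernel φ0) ≅
        kernel ((tilde.functor (CommRingCat.of A)).map φ0) :=
      PreservesKernel.iso (tilde.functor (CommRingCat.of A)) φ0
    have hq : ((tilde.functor (CommRingCat.of A)).obj (kernel φ0)).IsQuasicoherent := by
      change (tilde (R := CommRingCat.of A) (kernel φ0)).IsQuasicoherent
      infer_instance
    exact (SheafOfModules.isQuasicoherent (Spec (CommRingCat.of A)).ringCatSheaf).prop_of_iso
      (e2 ≪≫ e1) hq
  · let e1 : cokernel ((tilde.functor (CommRingCat.of A)).map φ0) ≅ cokernel φ :=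
      cokernel.mapIso _ _ eM eN hnat
    let e2 : (tilde.functor (CommRingCat.of A)).obj (cokernel φ0) ≅
        cokernel ((tilde.functor (CommRingCat.of A)).map φ0) :=
      PreservesCokernel.iso (tilde.functor (CommRingCat.of A)) φ0
    have hq : ((tilde.functor (CommRingCat.of A)).obj (cokernel φ0)).IsQuasicoherent := by
      change (tilde (R := CommRingCat.of A) (cokernel φ0)).IsQuasicoherent
      infer_instance
    exact (SheafOfModules.isQuasicoherent (Spec (CommRingCat.of A)).ringCatSheaf).prop_of_iso
      (e2 ≪≫ e1) hq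

end Groth.Agent.S9496
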