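import Groth.Statements.S9497
import Mathlib

set_option autoImplicit false
universe u
open AffSch

namespace Groth.Agent.S9497

open AlgebraicGeometry in
open CategoryTheory Limits in
/-- Let X = Spec A be an affine scheme and F : J → Mod(O_X) a small diagram of quasi-coherent
O_X-modules. Then the colimit of F, computed in the category of all O_X-modules, is quasi-coherent
(this contains the case of arbitrary direct sums). -/
theorem result
    (A : Type u) [CommRing A] {J : Type u} [SmallCategory J]
    (F : J ⥤ (Spec (CommRingCat.of A)).Modules) (hF : ∀ j, Coh.IsQCoh (F.obj j)) :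
    Coh.IsQCoh (colimit F) := by
  let R : CommRingCat.{u} := CommRingCat.of A
  set T := tilde.functor R with hT
  set G := moduleSpecΓFunctor (R := R) with hG
  haveI : PreservesColimitsOfSize.{u, u} T := (tilde.adjunction (R := R)).leftAdjoint_preservesColimits
  let α : (F ⋙ G) ⋙ T ⟶ F :=
    (Functor.associator F G T).hom ≫ Functor.whiskerLeft F (Scheme.Modules.fromTildeΓNatTrans (R := R)) ≫
      (Functor.rightUnitor F).hom
  haveI : ∀ j, IsIso (α.app j) := by
    intro j
    haveI : (F.obj j).IsQuasicoherent := hF j
    have h : IsIso (Scheme.Modules.fromTildeΓ (R := R) (F.obj j)) :=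
      Scheme.Modules.isIso_fromTildeΓ_of_isQuasicoherent (R := R) (F.obj j)
    have : α.app j = Scheme.Modules.fromTildeΓ (R := R) (F.obj j) := by
      simp [α, Scheme.Modules.fromTildeΓNatTrans]
    rw [this]
    exact h
  haveI : IsIso α := NatIso.isIso_of_isIso_app α
  let e1 : colimit ((F ⋙ G) ⋙ T) ≅ colimit F := (HasColimit.isoOfNatIso (asIso α))
  let e2 : T.obj (colimit (F ⋙ G)) ≅ colimit ((F ⋙ G) ⋙ T) := preservesColimitIso T (F ⋙ G)
  have hq : (T.obj (colimit (F ⋙ G))).IsQuasicoherent := by
    change (tilde (R := CommRingCat.of A) (colimit (F ⋙ G))).IsQuasicoherent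
    infer_instance
  exact (SheafOfModules.isQuasicoherent (Spec (CommRingCat.of A)).ringCatSheaf).prop_of_iso
    (e2 ≪≫ e1) hq

end Groth.Agent.S9497
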