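import Groth.Statements.S9500
import Mathlib
-- import your own Groth.Agent.* helpers here

set_option autoImplicit false
universe u
open SchMor

namespace Groth.Agent.S9500

section H
open CategoryTheory CategoryTheory.Limits AlgebraicGeometry
namespace W8
set_option backward.isDefEq.respectTransparency.types false

theorem isIso_of_mono_field (K : Type u) [Field K] {Z : Scheme.{u}} (p : Z ⟶ Spec (CommRingCat.of K))
    [Mono p] [Nonempty Z] : IsIso p := by
  have hsub : Subsingleton Z := by
    constructor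
    intro a b
    exact p.injective (Subsingleton.elim _ _)
  have hfin : Finite Z := Finite.of_subsingleton
  have hc : CompactSpace Z := Finite.compactSpace
  have hqc : QuasiCompact p := by
    rw [HasAffineProperty.iff_of_isAffine (P := @QuasiCompact)]
    exact hc
  have hsurj : Surjective p := by
    constructor
    intro x
    obtain ⟨z⟩ := ‹Nonempty Z›
    exact ⟨z, Subsingleton.elim _ _⟩
  have hflat : Flat p := inferInstance
  exact Flat.isIso_of_surjective_of_mono p

theorem main {ι : Type u} (k : ι → Type u) [∀ i, Field (k i)]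
    {Y : Scheme.{u}} (f : Y ⟶ ∐ fun i => Spec (CommRingCat.of (k i))) [Mono f] :
    ∃ (J : Set ι) (e : Y ≅ ∐ fun j : J => Spec (CommRingCat.of (k j.1))),
      e.hom ≫ Sigma.desc (fun j : J => Sigma.ι (fun i => Spec (CommRingCat.of (k i))) j.1) = f := by
  classical
  let g : ι → Scheme.{u} := fun i => Spec (CommRingCat.of (k i))
  let J : Set ι := {i | Nonempty ↥(pullback f (Sigma.ι g i) : Scheme.{u})}
  have hiso : ∀ j : J, IsIso (pullback.snd f (Sigma.ι g j.1)) := by
    intro j
    have : Nonempty ↥(pullback f (Sigma.ι g j.1) : Scheme.{u}) := j.2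
    exact isIso_of_mono_field (k j.1) _
  let α : ∀ j : J, g j.1 ⟶ Y := fun j =>
    inv (pullback.snd f (Sigma.ι g j.1)) ≫ pullback.fst f (Sigma.ι g j.1)
  have hα : ∀ j : J, α j ≫ f = Sigma.ι g j.1 := by
    intro j
    simp only [α, Category.assoc, pullback.condition, IsIso.inv_hom_id_assoc]
  have hoi : ∀ j : J, IsOpenImmersion (α j) := fun j => inferInstance
  have hcol : Nonempty (IsColimit (Cofan.mk Y α)) := by
    apply nonempty_isColimit_cofanMk_of
    · rw [eq_top_iff]
      intro y _
      obtain ⟨⟨i, x⟩, hx⟩ := (sigmaMk g).surjective (f y)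
      rw [sigmaMk_mk] at hx
      obtain ⟨z, hz1, hz2⟩ := Scheme.Pullback.exists_preimage_pullback y x hx.symm
      have hi : i ∈ J := ⟨z⟩
      rw [TopologicalSpace.Opens.mem_iSup]
      refine ⟨⟨i, hi⟩, ?_⟩
      refine ⟨pullback.snd f (Sigma.ι g i) z, ?_⟩
      rw [← Scheme.Hom.comp_apply]
      simp only [α, IsIso.hom_inv_id_assoc]
      exact hz1
    · intro i j hij
      rw [Function.onFun, disjoint_iff, eq_bot_iff]
      rintro y ⟨⟨a, ha⟩, ⟨b, hb⟩⟩
      have e1 : Sigma.ι g i.1 a = f y := by rw [← hα i, ← ha]; rfl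
      have e2 : Sigma.ι g j.1 b = f y := by rw [← hα j, ← hb]; rfl
      have h1 : Sigma.ι g i.1 a = Sigma.ι g j.1 b := e1.trans e2.symm
      have h2 := (sigmaι_eq_iff _ _ _ _ _).mp h1
      exact (hij (Subtype.ext (congrArg Sigma.fst h2))).elim
  have hI : IsIso (Sigma.desc α) :=
    (Cofan.nonempty_isColimit_iff_isIso_sigmaDesc (Cofan.mk Y α)).1 hcol
  refine ⟨J, (asIso (Sigma.desc α)).symm, ?_⟩
  rw [Iso.symm_hom, asIso_inv, IsIso.inv_comp_eq]
  apply Sigma.hom_ext
  intro j
  simp [hα, g]

end W8
end H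


open AlgebraicGeometry in
open CategoryTheory Limits in
/-- Let (k_i)_{i ∈ ι} be a family of fields, X = ∐_i Spec(k_i) the disjoint union, and f : Y → X a
monomorphism of schemes. Then there are a subset J of ι and an isomorphism Y ≅ ∐_{j ∈ J} Spec(k_j)
over X, where ∐_{j ∈ J} Spec(k_j) maps to X by the coproduct inclusions. -/
theorem result
    {ι : Type u} (k : ι → Type u) [∀ i, Field (k i)]
    {Y : Scheme.{u}} (f : Y ⟶ ∐ fun i => Spec (CommRingCat.of (k i))) [Mono f] :
    ∃ (J : Set ι) (e : Y ≅ ∐ fun j : J => Spec (CommRingCat.of (k j.1))),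
      e.hom ≫ Sigma.desc (fun j : J => Sigma.ι (fun i => Spec (CommRingCat.of (k i))) j.1) = f := by
  exact W8.main k f

end Groth.Agent.S9500
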