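import Groth.Statements.S9499
import Mathlib
import Groth.Agent.S9500
-- import your own Groth.Agent.* helpers here

set_option autoImplicit false
universe u
open SchMor

namespace Groth.Agent.S9499

section H
open CategoryTheory CategoryTheory.Limits AlgebraicGeometry
namespace W9
set_option backward.isDefEq.respectTransparency.types false

theorem main {ι : Type u} [Finite ι] (k : ι → Type u) [∀ i, Field (k i)]
    {X : Scheme.{u}} (f : X ⟶ Spec (CommRingCat.of (Π i, k i))) [Mono f] :
    ∃ (I : Set ι) (e : X ≅ Spec (CommRingCat.of (Π i : I, k i))),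
      e.hom ≫ Spec.map (CommRingCat.ofHom (Pi.ringHom fun i : I => Pi.evalRingHom k i.1)) = f := by
  let R : ι → CommRingCat.{u} := fun i => CommRingCat.of (k i)
  let s : (∐ fun i => Spec (R i)) ⟶ Spec (CommRingCat.of (Π i, k i)) := sigmaSpec R
  have hs : IsIso s := inferInstanceAs (IsIso (sigmaSpec R))
  have hm : Mono (f ≫ inv s) := mono_comp _ _
  obtain ⟨J, e, he⟩ := Groth.Agent.S9500.result k (f ≫ inv s)
  let RJ : J → CommRingCat.{u} := fun j => CommRingCat.of (k j.1)
  let sJ : (∐ fun j : J => Spec (RJ j)) ⟶ Spec (CommRingCat.of (Π j : J, k j.1)) := sigmaSpec RJ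
  have hsJ : IsIso sJ := inferInstanceAs (IsIso (sigmaSpec RJ))
  refine ⟨J, e ≪≫ asIso sJ, ?_⟩
  have key : sJ ≫ Spec.map (CommRingCat.ofHom (Pi.ringHom fun i : J => Pi.evalRingHom k i.1)) =
      Sigma.desc (fun j : J => Sigma.ι (fun i => Spec (CommRingCat.of (k i))) j.1) ≫ s := by
    apply Sigma.hom_ext
    intro j
    rw [Sigma.ι_desc_assoc]
    erw [ι_sigmaSpec_assoc, ι_sigmaSpec]
    rw [← Spec.map_comp]
    rfl
  rw [Iso.trans_hom, asIso_hom, Category.assoc, key, reassoc_of% he, IsIso.inv_hom_id,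
    Category.comp_id]

end W9
end H


open AlgebraicGeometry in
open CategoryTheory in
/-- Let (k_i) be a finite family of fields and f : X → Spec(∏_i k_i) a monomorphism of schemes. Then
there are a subset I of the index set and an isomorphism X ≅ Spec(∏_{i∈I} k_i) over Spec(∏_i k_i),
where Spec(∏_{i∈I} k_i) maps to Spec(∏_i k_i) through the projection ring homomorphism ∏_i k_i →
∏_{i∈I} k_i. -/
theorem result
    {ι : Type u} [Finite ι] (k : ι → Type u) [∀ i, Field (k i)]
    {X : Scheme.{u}} (f : X ⟶ Spec (CommRingCat.of (Π i, k i))) [Mono f] :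
    ∃ (I : Set ι) (e : X ≅ Spec (CommRingCat.of (Π i : I, k i))),
      e.hom ≫ Spec.map (CommRingCat.ofHom (Pi.ringHom fun i : I => Pi.evalRingHom k i.1)) = f := by
  exact W9.main k f

end Groth.Agent.S9499
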