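import Groth.Statements.S9505
import Groth.Agent.Lib.Helper21.LRSImm4

set_option autoImplicit false
universe u
open LRSImm

namespace Groth.Agent.S9505

open AlgebraicGeometry in
open CategoryTheory in
/-- Let X be a scheme and i : Z → X a closed immersion of locally ringed spaces: a homeomorphism onto a
closed subset of X such that O_X → i_*O_Z is surjective as a map of sheaves and its kernel is
locally generated by sections. Then the locally ringed space Z is a scheme and i is a closed
immersion of schemes (affine-locally of the form Spec(R/I) → Spec R): there are a scheme Z' and an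
isomorphism of locally ringed spaces Z' ≅ Z whose composite with i is a closed immersion of schemes
Z' → X. -/
theorem result
    (X : Scheme.{u}) (Z : LocallyRingedSpace.{u}) (i : Z ⟶ X.toLocallyRingedSpace)
    (hi : LRSImm.IsClosedImmersion i) :
    ∃ (Z' : Scheme.{u}) (e : Z'.toLocallyRingedSpace ≅ Z),
      AlgebraicGeometry.IsClosedImmersion (Scheme.Hom.mk (e.hom ≫ i) : Z' ⟶ X) := by
  have hla : ∀ z : Z.toTopCat, ∃ (W : TopologicalSpace.OpenNhds z) (R : CommRingCat.{u}),
      Nonempty (Z.restrict W.isOpenEmbedding ≅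
        AlgebraicGeometry.Spec.toLocallyRingedSpace.obj (Opposite.op R)) := by
    intro z
    obtain ⟨_, ⟨U, hU : AlgebraicGeometry.IsAffineOpen U, rfl⟩, hzU, -⟩ :=
      (X.isBasis_affineOpens).exists_subset_of_mem_open (Set.mem_univ (i.base z)) isOpen_univ
    obtain ⟨R, ⟨e⟩⟩ := Groth.Agent.Lib.Helper21.LRSImm4.exists_restrict_iso_Spec i hi hU
    exact ⟨⟨(TopologicalSpace.Opens.map i.base).obj U, hzU⟩, R, ⟨e⟩⟩
  let Z' : AlgebraicGeometry.Scheme.{u} := { toLocallyRingedSpace := Z, local_affine := hla }
  refine ⟨Z', Iso.refl Z, ?_⟩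
  obtain ⟨hemb, hsurj, -⟩ := hi
  have hid : (Iso.refl Z).hom ≫ i = i := Category.id_comp i
  rw [AlgebraicGeometry.isClosedImmersion_iff]
  refine ⟨⟨fun z => ?_⟩, ?_⟩
  · show Function.Surjective (((Iso.refl Z).hom ≫ i).stalkMap z)
    rw [hid]
    exact Groth.Agent.Lib.Helper21.LRSImm1.stalkMap_surjective i hemb.isInducing hsurj z
  · show Topology.IsClosedEmbedding ((Iso.refl Z).hom ≫ i).base
    rw [hid]
    exact hemb

end Groth.Agent.S9505
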