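import Groth.Statements.S9506
import Groth.Agent.Lib.Helper21.LRSImm3

set_option autoImplicit false
universe u
open LRSImm

namespace Groth.Agent.S9506

open AlgebraicGeometry in
open CategoryTheory Opposite in
/-- Let R be a commutative ring and i : Z → Spec R a closed immersion of locally ringed spaces (a
homeomorphism onto a closed subset such that O → i_*O_Z is surjective as a map of sheaves with
kernel locally generated by sections). Let I ⊆ R be the kernel of the composite R = Γ(Spec R, O) →
Γ(Z, O_Z). Then Z is identified with Spec(R/I) over Spec R: there is an isomorphism of locally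
ringed spaces Z ≅ Spec(R/I) whose composite with the morphism Spec(R/I) → Spec R induced by R → R/I
is i (in particular the ideal I with this property is unique). -/
theorem result
    (R : Type u) [CommRing R] (Z : LocallyRingedSpace.{u})
    (i : Z ⟶ (Spec (CommRingCat.of R)).toLocallyRingedSpace) (hi : LRSImm.IsClosedImmersion i)
    (I : Ideal R)
    (hI : I = RingHom.ker ((Scheme.ΓSpecIso (CommRingCat.of R)).inv ≫ i.c.app (op ⊤)).hom) :
    ∃ e : Z ≅ (Spec (CommRingCat.of (R ⧸ I))).toLocallyRingedSpace,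
      e.hom ≫ (Spec.map (CommRingCat.ofHom (Ideal.Quotient.mk I))).toLRSHom = i := by
  let φ : CommRingCat.of R ⟶ LocallyRingedSpace.Γ.obj (op Z) :=
    (Scheme.ΓSpecIso (CommRingCat.of R)).inv ≫ i.c.app (op ⊤)
  have hφ : ∀ a ∈ I, φ.hom a = 0 := fun a ha => by rw [hI] at ha; exact ha
  let ψ : CommRingCat.of (R ⧸ I) ⟶ LocallyRingedSpace.Γ.obj (op Z) :=
    CommRingCat.ofHom (Ideal.Quotient.lift I φ.hom hφ)
  let mkh : CommRingCat.of R ⟶ CommRingCat.of (R ⧸ I) :=
    CommRingCat.ofHom (Ideal.Quotient.mk I)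
  have hmk : mkh ≫ ψ = φ := by
    ext a
    exact Ideal.Quotient.lift_mk I φ.hom hφ
  let e0 : Z ⟶ (Spec (CommRingCat.of (R ⧸ I))).toLocallyRingedSpace :=
    Z.toΓSpec ≫ Spec.locallyRingedSpaceMap ψ
  have hi_eq : i = Z.toΓSpec ≫ Spec.locallyRingedSpaceMap φ := by
    have h := (ΓSpec.locallyRingedSpaceAdjunction.homEquiv Z (op (CommRingCat.of R))).apply_symm_apply i
    rw [ΓSpec.locallyRingedSpaceAdjunction_homEquiv_apply] at h
    rw [← h]
    rfl
  have hfac : e0 ≫ (Spec.map mkh).toLRSHom = i := by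
    rw [hi_eq, ← hmk, Spec.locallyRingedSpaceMap_comp]
    rfl
  haveI : IsClosedImmersion (Spec.map mkh) :=
    IsClosedImmersion.spec_of_surjective mkh Ideal.Quotient.mk_surjective
  have h2 : ∀ a : Γ(Spec (CommRingCat.of R), ⊤), i.c.app (op ⊤) a = 0 →
      (Spec.map mkh).toLRSHom.c.app (op ⊤) a = 0 := by
    intro a ha
    have hr : (Scheme.ΓSpecIso (CommRingCat.of R)).hom a ∈ I := by
      rw [hI, RingHom.mem_ker]
      have e : (Scheme.ΓSpecIso (CommRingCat.of R)).inv
          ((Scheme.ΓSpecIso (CommRingCat.of R)).hom a) = a := by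
        rw [← CommRingCat.comp_apply, Iso.hom_inv_id, CommRingCat.id_apply]
      have e' : ((Scheme.ΓSpecIso (CommRingCat.of R)).inv ≫ i.c.app (op ⊤)).hom
          ((Scheme.ΓSpecIso (CommRingCat.of R)).hom a) =
          i.c.app (op ⊤) ((Scheme.ΓSpecIso (CommRingCat.of R)).inv
            ((Scheme.ΓSpecIso (CommRingCat.of R)).hom a)) := rfl
      rw [e', e]
      exact ha
    have hnat := congr($(Scheme.ΓSpecIso_naturality mkh) a)
    rw [CommRingCat.comp_apply, CommRingCat.comp_apply] at hnat
    have hz : mkh ((Scheme.ΓSpecIso (CommRingCat.of R)).hom a) = 0 :=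
      Ideal.Quotient.eq_zero_iff_mem.mpr hr
    rw [hz] at hnat
    have := congrArg (Scheme.ΓSpecIso (CommRingCat.of (R ⧸ I))).inv hnat
    rw [← CommRingCat.comp_apply, Iso.hom_inv_id, CommRingCat.id_apply, map_zero] at this
    exact this
  haveI : IsIso e0 := by
    refine Groth.Agent.Lib.Helper21.LRSImm3.isIso_of_fac e0 (Spec.map mkh).toLRSHom
      (isAffineOpen_top _) ?_ (Spec.map mkh).isClosedEmbedding
      (fun q => (Spec.map mkh).stalkMap_surjective q) ?_
    · rw [hfac]; exact hi
    · rw [hfac]; exact h2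
  exact ⟨asIso e0, hfac⟩

end Groth.Agent.S9506
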