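import Groth.Statements.S9508
-- import your own Groth.Agent.* helpers here

set_option autoImplicit false
universe u
open SchMor

namespace Groth.Agent.S9508

open AlgebraicGeometry in
open CategoryTheory in
/-- (1) ⇔ (2): A morphism of schemes f : X → S is quasi-separated if and only if, whenever two affine
opens U and V of X both lie in the preimage f⁻¹(W) of one affine open W of S, their intersection U ∩
V is quasi-compact (equivalently, is covered by finitely many affine opens). -/
theorem result
    {X S : Scheme.{u}} (f : X ⟶ S) :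
    QuasiSeparated f ↔
      ∀ (U V : X.affineOpens) (W : S.affineOpens),
        (U : X.Opens) ≤ f ⁻¹ᵁ (W : S.Opens) → (V : X.Opens) ≤ f ⁻¹ᵁ (W : S.Opens) →
          IsCompact ((U : Set X) ∩ (V : Set X)) := by
  constructor
  · intro hf U V W hU hV
    have h := f.isQuasiSeparated_preimage W.2.isQuasiSeparated
    exact h U V hU U.1.2 U.2.isCompact hV V.1.2 V.2.isCompact
  · intro H
    refine HasAffineProperty.of_iSup_eq_top (P := @QuasiSeparated) (fun W : S.affineOpens ↦ W)
      (iSup_affineOpens_eq_top S) (fun W ↦ ?_)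
    change QuasiSeparatedSpace ↥(f ⁻¹ᵁ (W : S.Opens))
    refine (isQuasiSeparated_iff_quasiSeparatedSpace _ (f ⁻¹ᵁ (W : S.Opens)).2).mp ?_
    intro U V hU hUo hUc hV hVo hVc
    obtain ⟨sU, hsU, rfl⟩ :=
      isCompact_and_isOpen_iff_finite_and_eq_biUnion_affineOpens.mp ⟨hUc, hUo⟩
    obtain ⟨sV, hsV, rfl⟩ :=
      isCompact_and_isOpen_iff_finite_and_eq_biUnion_affineOpens.mp ⟨hVc, hVo⟩
    rw [Set.iUnion₂_inter]
    refine hsU.isCompact_biUnion fun i hi ↦ ?_
    rw [Set.inter_iUnion₂]
    refine hsV.isCompact_biUnion fun j hj ↦ ?_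
    refine H i j W ?_ ?_
    · exact (Set.subset_iUnion₂ (s := fun (i : X.affineOpens) (_ : i ∈ sU) ↦ (i : Set X)) i hi).trans hU
    · exact (Set.subset_iUnion₂ (s := fun (i : X.affineOpens) (_ : i ∈ sV) ↦ (i : Set X)) j hj).trans hV

end Groth.Agent.S9508
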