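import Groth.Statements.S9511
import Mathlib

set_option autoImplicit false
universe u
open LRSImm

namespace Groth.Agent.S9511

open AlgebraicGeometry in
open CategoryTheory TopologicalSpace in
/-- Let X be a locally ringed space and U, V ⊆ X open with X = U ⊔ V (they cover X and are disjoint),
such that the open subspaces X|_U and X|_V are affine schemes. Then X is an affine scheme: the
canonical morphism X → Spec Γ(X, O_X) is an isomorphism of locally ringed spaces. -/
theorem result
    (X : LocallyRingedSpace.{u}) (U V : Opens X.toTopCat) (hUV : IsCompl U V)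
    (A B : CommRingCat.{u})
    (eU : X.restrict U.isOpenEmbedding ≅ (Spec A).toLocallyRingedSpace)
    (eV : X.restrict V.isOpenEmbedding ≅ (Spec B).toLocallyRingedSpace) :
    IsIso X.toΓSpec := by
  have hla : ∀ x : X.toTopCat, ∃ (W : TopologicalSpace.OpenNhds x) (R : CommRingCat.{u}),
      Nonempty (X.restrict W.isOpenEmbedding ≅
        AlgebraicGeometry.Spec.toLocallyRingedSpace.obj (Opposite.op R)) := by
    intro x
    have hx : x ∈ U ⊔ V := by rw [hUV.sup_eq_top]; trivial
    rcases hx with h | h
    · exact ⟨⟨U, h⟩, A, ⟨eU⟩⟩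
    · exact ⟨⟨V, h⟩, B, ⟨eV⟩⟩
  let Xs : AlgebraicGeometry.Scheme.{u} := { toLocallyRingedSpace := X, local_affine := hla }
  let Us : Xs.Opens := U
  let Vs : Xs.Opens := V
  haveI hU : AlgebraicGeometry.IsAffine Us.toScheme := by
    let e : Us.toScheme ≅ AlgebraicGeometry.Spec A :=
      AlgebraicGeometry.Scheme.forgetToLocallyRingedSpace.preimageIso eU
    exact AlgebraicGeometry.IsAffine.of_isIso e.hom
  haveI hV : AlgebraicGeometry.IsAffine Vs.toScheme := by
    let e : Vs.toScheme ≅ AlgebraicGeometry.Spec B :=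
      AlgebraicGeometry.Scheme.forgetToLocallyRingedSpace.preimageIso eV
    exact AlgebraicGeometry.IsAffine.of_isIso e.hom
  obtain ⟨H⟩ := AlgebraicGeometry.nonempty_isColimit_binaryCofanMk_of_isCompl Us.ι Vs.ι
    (by simpa using hUV)
  let e : Us.toScheme ⨿ Vs.toScheme ≅ Xs :=
    (Limits.colimit.isColimit _).coconePointUniqueUpToIso H
  haveI : AlgebraicGeometry.IsAffine Xs := AlgebraicGeometry.IsAffine.of_isIso e.inv
  have h : IsIso Xs.toSpecΓ := AlgebraicGeometry.IsAffine.affine
  exact (inferInstance : IsIso Xs.toSpecΓ.toLRSHom)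

end Groth.Agent.S9511
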