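import Groth.Statements.S9525
import Groth.Agent.Lib.Helper17.CohKer
import Groth.Agent.Lib.Helper17.StalkExact
import Groth.Agent.Lib.Helper28.RelTildeMap
import Groth.Agent.S0020
import Groth.Agent.S0048
import Mathlib
set_option backward.isDefEq.respectTransparency.types false

set_option autoImplicit false
universe u
open Coherent

namespace Groth.Agent.S9525
open CategoryTheory CategoryTheory.Limits AlgebraicGeometry Opposite TopologicalSpace
open Groth.Agent.Lib.Helper17.CohKer Groth.Agent.Lib.Helper17.StalkExact Groth.Agent.Lib.Helper28.QCohLoc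

variable {X : Scheme.{u}}

/-- the restriction of a module to an open missing its support is zero -/
theorem isZero_restrict (F : X.Modules) (U : X.Opens) (hU : ∀ x ∈ U, x ∉ CohB1.support F) :
    IsZero ((Scheme.Modules.restrictFunctor U.ι).obj F) := by
  rw [IsZero.iff_id_eq_zero]
  apply Scheme.Modules.hom_ext
  intro W
  ext s
  have h : ∀ s : Γ(F, U.ι ''ᵁ W), s = 0 := fun s =>
    Groth.Agent.S0048.sections_eq_zero F _ (fun x hx => hU x (by
      obtain ⟨y, _, rfl⟩ := hx
      exact y.2)) s
  exact h s

/-- a module of finite type with vanishing stalk at `x` vanishes near `x` -/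
theorem exists_isZero_restrict (F : X.Modules) (hF : CohB1.IsFT F) (x : X)
    (hx : Subsingleton ↑(F.presheaf.stalk x)) :
    ∃ U : X.Opens, x ∈ U ∧ (∀ y ∈ U, y ∉ CohB1.support F) ∧
      IsZero ((Scheme.Modules.restrictFunctor U.ι).obj F) := by
  have hcl := Groth.Agent.S0020.result X F hF
  let U : X.Opens := ⟨(CohB1.support F)ᶜ, hcl.isOpen_compl⟩
  have hU : ∀ y ∈ U, y ∉ CohB1.support F := fun y hy => hy
  exact ⟨U, fun h => h hx, hU, isZero_restrict F U hU⟩

/-- if the stalk map is injective, the stalk of the kernel vanishes -/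
theorem subsingleton_stalk_kernel {F G : X.Modules} (φ : G ⟶ F) (x : X)
    (h : Function.Injective (stalkHom φ x)) : Subsingleton ↑((kernel φ).presheaf.stalk x) := by
  let S : ShortComplex X.Modules := ShortComplex.mk (kernel.ι φ) φ (kernel.condition φ)
  have hS : S.Exact := ShortComplex.exact_of_f_is_kernel _ (kernelIsKernel φ)
  have hex : Function.Exact (stalkHom (kernel.ι φ) x) (stalkHom φ x) := stalkHom_exact_of_exact S hS x
  haveI : Mono (kernel.ι φ) := equalizer.ι_mono
  have hinj : Function.Injective (stalkHom (kernel.ι φ) x) := stalkHom_injective_of_mono (kernel.ι φ) x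
  refine ⟨fun a b => hinj (h ?_)⟩
  rw [hex.apply_apply_eq_zero, hex.apply_apply_eq_zero]

/-- if the stalk map is surjective, the stalk of the cokernel vanishes -/
theorem subsingleton_stalk_cokernel {F G : X.Modules} (φ : G ⟶ F) (x : X)
    (h : Function.Surjective (stalkHom φ x)) : Subsingleton ↑((cokernel φ).presheaf.stalk x) := by
  let S : ShortComplex X.Modules := ShortComplex.mk φ (cokernel.π φ) (cokernel.condition φ)
  have hS : S.Exact := ShortComplex.exact_of_g_is_cokernel _ (cokernelIsCokernel φ)
  have hex : Function.Exact (stalkHom φ x) (stalkHom (cokernel.π φ) x) := stalkHom_exact_of_exact S hS x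
  haveI : Epi (cokernel.π φ) := coequalizer.π_epi
  have hsurj : Function.Surjective (stalkHom (cokernel.π φ) x) := stalkHom_surjective_of_epi (cokernel.π φ) x
  have hz : ∀ c : ↑((cokernel φ).presheaf.stalk x), c = 0 := by
    intro c
    obtain ⟨f, rfl⟩ := hsurj c
    obtain ⟨g, rfl⟩ := h f
    exact hex.apply_apply_eq_zero g
  exact ⟨fun a b => by rw [hz a, hz b]⟩

/-- over an open missing the support of the kernel, the morphism is a monomorphism -/
theorem mono_restrict {F G : X.Modules} (φ : G ⟶ F) (U : X.Opens)
    (hU : ∀ y ∈ U, y ∉ CohB1.support (kernel φ)) :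
    Mono ((Scheme.Modules.restrictFunctor U.ι).map φ) := by
  refine mono_of_injective _ (fun W => ?_)
  have key : Function.Injective (φ.app (U.ι ''ᵁ W)) := by
    rw [injective_iff_map_eq_zero]
    intro y hy
    obtain ⟨k, hk⟩ := exists_kernel_app_eq φ _ y hy
    have hk0 : k = 0 := Groth.Agent.S0048.sections_eq_zero (kernel φ) _ (fun z hz => hU z (by
      obtain ⟨w, _, rfl⟩ := hz
      exact w.2)) k
    rw [← hk, hk0, map_zero]
  exact key

/-- if the restriction of the cokernel vanishes, the restriction of the morphism is an epimorphism -/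
theorem epi_restrict {F G : X.Modules} (φ : G ⟶ F) (U : X.Opens)
    (hU : IsZero ((Scheme.Modules.restrictFunctor U.ι).obj (cokernel φ))) :
    Epi ((Scheme.Modules.restrictFunctor U.ι).map φ) := by
  haveI : PreservesColimitsOfSize.{u, u} (Scheme.Modules.restrictFunctor U.ι) := inferInstance
  have h : IsZero (cokernel ((Scheme.Modules.restrictFunctor U.ι).map φ)) :=
    hU.of_iso (PreservesCokernel.iso (Scheme.Modules.restrictFunctor U.ι) φ).symm
  exact Preadditive.epi_of_isZero_cokernel _ h

open CategoryTheory CategoryTheory.Limits AlgebraicGeometry in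

open CategoryTheory CategoryTheory.Limits AlgebraicGeometry in
/-- Let X be a locally Noetherian scheme, F and G coherent O_X-modules, φ : G → F a morphism and x ∈ X.
(1) If F_x = 0 there is an open neighbourhood U of x with F|_U = 0. (2) If the stalk map φ_x : G_x →
F_x is injective there is an open neighbourhood U of x with φ|_U injective. (4) If φ_x is bijective
there is an open neighbourhood U of x with φ|_U an isomorphism. (Part (3), surjectivity, is the
finite-type statement valid on any ringed space and is not restated.) -/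
theorem result (X : Scheme.{u}) [IsLocallyNoetherian X]
    (F G : X.Modules) (hF : Coh.IsCoh F) (hG : Coh.IsCoh G) (φ : G ⟶ F) (x : X) :
    (Subsingleton ↑(F.presheaf.stalk x) →
      ∃ U : X.Opens, x ∈ U ∧ IsZero ((Scheme.Modules.restrictFunctor U.ι).obj F)) ∧
    (Function.Injective ((TopCat.Presheaf.stalkFunctor _ x).map φ.mapPresheaf).hom →
      ∃ U : X.Opens, x ∈ U ∧ Mono ((Scheme.Modules.restrictFunctor U.ι).map φ)) ∧
    (Function.Bijective ((TopCat.Presheaf.stalkFunctor _ x).map φ.mapPresheaf).hom →
      ∃ U : X.Opens, x ∈ U ∧ IsIso ((Scheme.Modules.restrictFunctor U.ι).map φ)) := by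
  obtain ⟨hFq, hFt⟩ := hF
  obtain ⟨hGq, hGt⟩ := hG
  haveI : F.IsQuasicoherent := hFq
  haveI : G.IsQuasicoherent := hGq
  haveI : SheafOfModules.IsFiniteType.{u} (R := X.ringCatSheaf) F := hFt
  haveI : SheafOfModules.IsFiniteType.{u} (R := X.ringCatSheaf) G := hGt
  have hK : CohB1.IsFT (kernel φ) := isFiniteType_kernel φ
  have hC : CohB1.IsFT (cokernel φ) := isFiniteType_cokernel φ
  refine ⟨fun h => ?_, fun h => ?_, fun h => ?_⟩
  · obtain ⟨U, hxU, _, hz⟩ := exists_isZero_restrict F hFt x h
    exact ⟨U, hxU, hz⟩
  · have h' : Function.Injective (stalkHom φ x) := h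
    obtain ⟨U, hxU, hU, _⟩ := exists_isZero_restrict (kernel φ) hK x (subsingleton_stalk_kernel φ x h')
    exact ⟨U, hxU, mono_restrict φ U hU⟩
  · have h1 : Function.Injective (stalkHom φ x) := h.1
    have h2 : Function.Surjective (stalkHom φ x) := h.2
    obtain ⟨U, hxU, hU, _⟩ := exists_isZero_restrict (kernel φ) hK x (subsingleton_stalk_kernel φ x h1)
    obtain ⟨V, hxV, hV, _⟩ := exists_isZero_restrict (cokernel φ) hC x (subsingleton_stalk_cokernel φ x h2)
    refine ⟨U ⊓ V, ⟨hxU, hxV⟩, ?_⟩
    haveI := mono_restrict φ (U ⊓ V) (fun y hy => hU y hy.1)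
    haveI := epi_restrict φ (U ⊓ V) (isZero_restrict _ _ (fun y hy => hV y hy.2))
    exact isIso_of_mono_of_epi _

end Groth.Agent.S9525
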