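import Groth.Statements.S9526
import Groth.Agent.Lib.Helper1.RefHull1
import Groth.Agent.S16240

set_option autoImplicit false
universe u
open Coherent

namespace Groth.Agent.S9526

open CategoryTheory CategoryTheory.Limits AlgebraicGeometry in

open CategoryTheory CategoryTheory.Limits AlgebraicGeometry in
/-- Let X be a locally Noetherian scheme, F and G coherent O_X-modules, x ∈ X and ψ : G_x → F_x an
O_{X,x}-linear map. Then there are an open neighbourhood U of x and a morphism φ : G|_U → F|_U with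
φ_x = ψ (the stalk map of φ at x, composed with the canonical identifications of the stalks of G|_U
and F|_U at x with G_x and F_x, is ψ). -/
theorem result (X : Scheme.{u}) [IsLocallyNoetherian X]
    (F G : X.Modules) (hF : Coh.IsCoh F) (hG : Coh.IsCoh G) (x : X)
    (ψ : ↑(G.presheaf.stalk x) →ₗ[X.presheaf.stalk x] ↑(F.presheaf.stalk x)) :
    ∃ (U : X.Opens) (hx : x ∈ U)
      (φ : (Scheme.Modules.restrictFunctor U.ι).obj G ⟶ (Scheme.Modules.restrictFunctor U.ι).obj F),
      (Scheme.Modules.restrictStalkNatIso U.ι (⟨x, hx⟩ : U)).inv.app G ≫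
          (TopCat.Presheaf.stalkFunctor _ (⟨x, hx⟩ : U)).map φ.mapPresheaf ≫
            (Scheme.Modules.restrictStalkNatIso U.ι (⟨x, hx⟩ : U)).hom.app F =
        AddCommGrpCat.ofHom ψ.toAddMonoidHom := by
  haveI := Groth.Agent.S16240.isFinitePresentation_of_isCoh G hG
  obtain ⟨U, hx, g, hg⟩ := Groth.Agent.S16485.exists_section_of_stalkHom G F x ψ
  refine ⟨U, hx, Groth.Agent.Lib.Helper1.RefHullLib.toHom g, ?_⟩
  rw [← CategoryTheory.cancel_epi ((Scheme.Modules.restrictStalkNatIso U.ι (⟨x, hx⟩ : U)).hom.app G),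
    CategoryTheory.Iso.hom_inv_id_app_assoc]
  refine TopCat.Presheaf.stalk_hom_ext _ fun W hxW => ?_
  have h1 := TopCat.Presheaf.stalkFunctor_map_germ W (⟨x, hx⟩ : U) hxW
    (Groth.Agent.Lib.Helper1.RefHullLib.toHom g).mapPresheaf
  have h2 := Scheme.Modules.germ_restrictStalkNatIso_hom_app U.ι (⟨x, hx⟩ : U) F hxW
  have h3 := Scheme.Modules.germ_restrictStalkNatIso_hom_app U.ι (⟨x, hx⟩ : U) G hxW
  refine (CategoryTheory.Category.assoc _ _ _).symm.trans ?_
  refine Eq.trans ?_ (CategoryTheory.Category.assoc _ _ _)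
  refine (congrArg (· ≫ (Scheme.Modules.restrictStalkNatIso U.ι (⟨x, hx⟩ : U)).hom.app F) h1).trans ?_
  refine (CategoryTheory.Category.assoc _ _ _).trans ?_
  refine (congrArg ((Groth.Agent.Lib.Helper1.RefHullLib.toHom g).mapPresheaf.app (Opposite.op W) ≫ ·) h2).trans ?_
  refine Eq.trans ?_ (congrArg (· ≫ AddCommGrpCat.ofHom ψ.toAddMonoidHom) h3).symm
  ext m
  have h4 := Groth.Agent.Lib.Helper1.RefHullLib.gm_app g (U.ι_image_le W) m x ⟨⟨x, hx⟩, hxW, rfl⟩
  rw [hg] at h4
  exact h4

end Groth.Agent.S9526
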