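import Groth.Statements.S9532
import Groth.Agent.Lib.Helper23.Formal.ProML
import Groth.Agent.Lib.Helper23.Formal.Restrict
import Groth.Agent.Lib.Helper23.Tower.QCohRlim

set_option autoImplicit false
universe u
open CategoryTheory CategoryTheory.Limits AlgebraicGeometry Opposite
open Algz

namespace Groth.Agent.S9532

/-- Let A be a Noetherian ring, I ⊆ 𝔞 ideals, U = Spec A ∖ V(𝔞), and let (F_n) belong to Coh(U, I O_U).
Suppose (F_n) admits a canonical extension to Spec A; then the inverse system of A-modules n ↦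
H^0(U, F_n) satisfies the Mittag-Leffler condition. -/
theorem result (A : Type u) [CommRing A] [IsNoetherianRing A] (I 𝔞 : Ideal A) (hI𝔞 : I ≤ 𝔞)
    (G : ℕᵒᵖ ⥤ (↑(LocCoh.puncturedOpen A 𝔞) : Scheme.{u}).Modules) (hG : Formal.IsCohFormal I G)
    (h : Algz.CanonicallyExtends A I (LocCoh.puncturedOpen A 𝔞) G) :
    ARSys.IsML (Algz.sectMod A (LocCoh.puncturedOpen A 𝔞) G) := by
  letI : (Spec (CommRingCat.of A)).Over (Spec (CommRingCat.of A)) := ⟨𝟙 _⟩
  obtain ⟨G', hG', hpro⟩ := h
  have h1 := Groth.Agent.Lib.Helper23.FQuot.isProIsomorphic_map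
    (moduleSpecΓFunctor (R := CommRingCat.of A)) hpro
  let e : Algz.sectMod A (LocCoh.puncturedOpen A 𝔞) G ≅
      Algz.sectSys A (LocCoh.puncturedOpen A 𝔞) G ⋙ moduleSpecΓFunctor (R := CommRingCat.of A) :=
    (Functor.rightUnitor _).symm ≪≫
      Functor.isoWhiskerLeft (Algz.sectMod A (LocCoh.puncturedOpen A 𝔞) G)
        (tilde.toTildeΓNatIso (R := CommRingCat.of A)) ≪≫ (Functor.associator _ _ _).symm
  have h2 := Groth.Agent.Lib.Helper23.FQuot.isProIsomorphic_of_iso_left e h1
  refine Groth.Agent.Lib.Helper23.ProML.isML_of_isProIsomorphic _ _ h2 ?_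
  intro n m hnm
  have hF := Groth.Agent.Lib.Helper23.FQuot.isFormalSys_of_isCohFormal hG'
  haveI := (hF.isQuot_map hnm).epi
  haveI : (G'.obj (op m)).IsQuasicoherent := (hG'.1 m).1
  haveI : (G'.obj (op n)).IsQuasicoherent := (hG'.1 n).1
  exact Groth.Agent.Lib.Helper23.Tower.surj_sections_of_epi (G'.map (homOfLE hnm).op)
    (isAffineOpen_top (Spec (CommRingCat.of A)))


end Groth.Agent.S9532
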