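import Groth.Statements.S9533
import Groth.Agent.Lib.Helper23.Formal.ProLimit
import Groth.Agent.Lib.Helper23.Formal.SecLimitCone
import Groth.Agent.Lib.Helper23.Formal.Restrict

set_option autoImplicit false
universe u
open CategoryTheory CategoryTheory.Limits AlgebraicGeometry Opposite
open Algz

namespace Groth.Agent.S9533

/-- Let A be a Noetherian ring, I ⊆ 𝔞 ideals, U = Spec A ∖ V(𝔞), (F_n) an object of Coh(U, I O_U), and M
= lim_n H^0(U, F_n). If (F_n) canonically extends to Spec A, then the limit topology of M agrees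
with the I-adic one: for every k some kernel of M → H^0(U, F_n) lies inside I^k M. (Each such kernel
contains I^(n+1) M automatically. The other part of (4), that M is finitely generated over the
completion of A with respect to I, is not stated here.) -/
theorem result (A : Type u) [CommRing A] [IsNoetherianRing A] (I 𝔞 : Ideal A) (hI𝔞 : I ≤ 𝔞)
    (G : ℕᵒᵖ ⥤ (↑(LocCoh.puncturedOpen A 𝔞) : Scheme.{u}).Modules) (hG : Formal.IsCohFormal I G)
    (h : Algz.CanonicallyExtends A I (LocCoh.puncturedOpen A 𝔞) G) (k : ℕ) :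
    ∃ n : ℕ, LinearMap.ker (limit.π (Algz.sectMod A (LocCoh.puncturedOpen A 𝔞) G) (op n)).hom ≤
      I ^ k • (⊤ : Submodule A ↑(limit (Algz.sectMod A (LocCoh.puncturedOpen A 𝔞) G))) := by
  letI : (Spec (CommRingCat.of A)).Over (Spec (CommRingCat.of A)) := ⟨𝟙 _⟩
  obtain ⟨G', hG', hpro⟩ := h
  have h1 := Groth.Agent.Lib.Helper23.FQuot.isProIsomorphic_map
    (moduleSpecΓFunctor (R := CommRingCat.of A)) hpro
  let e0 : Algz.sectMod A (LocCoh.puncturedOpen A 𝔞) G ≅
      Algz.sectSys A (LocCoh.puncturedOpen A 𝔞) G ⋙ moduleSpecΓFunctor (R := CommRingCat.of A) :=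
    (Functor.rightUnitor _).symm ≪≫
      Functor.isoWhiskerLeft (Algz.sectMod A (LocCoh.puncturedOpen A 𝔞) G)
        (tilde.toTildeΓNatIso (R := CommRingCat.of A)) ≪≫ (Functor.associator _ _ _).symm
  have h2 := Groth.Agent.Lib.Helper23.FQuot.isProIsomorphic_of_iso_left e0 h1
  obtain ⟨m, hm, hle, a, ha⟩ := h2
  obtain ⟨e, he⟩ := Groth.Agent.Lib.Helper23.ProLimit.exists_limit_iso m hm hle a ha
  have hQ : Formal2.IsQCohFormal I G' := ⟨fun n => (hG'.1 n).1, hG'.2.1, hG'.2.2⟩
  have hI : I.FG := IsNoetherian.noetherian I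
  let E : limit (Algz.sectMod A (LocCoh.puncturedOpen A 𝔞) G) ≅
      Groth.Agent.Lib.Helper23.FQuot.Lmod A G' :=
    e ≪≫ (limit.isLimit _).conePointUniqueUpToIso (Groth.Agent.Lib.Helper23.FQuot.isLimitConeΓ A G')
  have hE : ∀ n, E.hom ≫ Groth.Agent.Lib.Helper23.FQuot.pΓ A G' n =
      limit.π (Algz.sectMod A (LocCoh.puncturedOpen A 𝔞) G) (op (m n)) ≫ a.app (op n) := by
    intro n
    have := (limit.isLimit (G' ⋙ moduleSpecΓFunctor (R := CommRingCat.of A))).conePointUniqueUpToIso_hom_comp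
      (Groth.Agent.Lib.Helper23.FQuot.isLimitConeΓ A G') (op n)
    show (e.hom ≫ _) ≫ _ = _
    rw [Category.assoc]
    erw [this]
    exact he n
  refine ⟨m k, ?_⟩
  intro x hx
  refine Groth.Agent.Lib.Helper23.FQuot.mem_smul_top_of_iso hI hQ E k x ?_
  let ak : (Algz.sectMod A (LocCoh.puncturedOpen A 𝔞) G).obj (op (m k)) ⟶
      (G' ⋙ moduleSpecΓFunctor (R := CommRingCat.of A)).obj (op k) := a.app (op k)
  have := congrArg (fun φ => φ.hom x) (hE k)
  have h3 : (Groth.Agent.Lib.Helper23.FQuot.pΓ A G' k).hom (E.hom.hom x) =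
      ak.hom ((limit.π (Algz.sectMod A (LocCoh.puncturedOpen A 𝔞) G) (op (m k))).hom x) :=
    this
  rw [h3, LinearMap.mem_ker.1 hx, map_zero]

end Groth.Agent.S9533
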