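import Groth.Statements.S9534
import Groth.Agent.Lib.Helper23.Formal.CanonExt
import Groth.Agent.Lib.Helper23.Formal.Restrict
import Groth.Agent.Lib.Helper23.Formal.QuotAdj

set_option autoImplicit false
universe u
open CategoryTheory CategoryTheory.Limits AlgebraicGeometry Opposite
open Algz

namespace Groth.Agent.S9534

/-- Let A be a Noetherian ring, I ⊆ 𝔞 ideals, U = Spec A ∖ V(𝔞), (F_n) an object of Coh(U, I O_U), and M
= lim_n H^0(U, F_n). Assume (a) the system H^0(U, F_n) is Mittag-Leffler, (b) the limit topology of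
M agrees with the I-adic one, i.e. for every k some kernel of M → H^0(U, F_n) lies in I^k M, and (c)
for each n, the A-submodule of H^0(U, F_n) given by the image of M is finitely generated. Then (F_n)
canonically extends to Spec A. (The addendum for I-adically complete A is not restated.) -/
theorem result (A : Type u) [CommRing A] [IsNoetherianRing A] (I 𝔞 : Ideal A) (hI𝔞 : I ≤ 𝔞)
    (G : ℕᵒᵖ ⥤ (↑(LocCoh.puncturedOpen A 𝔞) : Scheme.{u}).Modules) (hG : Formal.IsCohFormal I G)
    (ha : ARSys.IsML (Algz.sectMod A (LocCoh.puncturedOpen A 𝔞) G))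
    (hb : ∀ k : ℕ, ∃ n : ℕ, LinearMap.ker (limit.π (Algz.sectMod A (LocCoh.puncturedOpen A 𝔞) G) (op n)).hom ≤
      I ^ k • (⊤ : Submodule A ↑(limit (Algz.sectMod A (LocCoh.puncturedOpen A 𝔞) G))))
    (hc : ∀ n : ℕ, Module.Finite A ↥(LinearMap.range (limit.π (Algz.sectMod A (LocCoh.puncturedOpen A 𝔞) G) (op n)).hom)) :
    Algz.CanonicallyExtends A I (LocCoh.puncturedOpen A 𝔞) G := by
  letI : (Spec (CommRingCat.of A)).Over (Spec (CommRingCat.of A)) := ⟨𝟙 _⟩
  have hkill : ∀ (n : ℕ) (c : A), c ∈ I ^ (n + 1) →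
      ∀ x : (Algz.sectMod A (LocCoh.puncturedOpen A 𝔞) G).obj (op n), c • x = 0 := by
    intro n c hc x
    have h1 : Formal.smulMod A ((Scheme.Modules.pushforward (LocCoh.puncturedOpen A 𝔞).ι).obj
        (G.obj (op n))) c = 0 := by
      rw [← Groth.Agent.Lib.Helper23.FQuot.pushforward_map_smulMod (A := A)
        (LocCoh.puncturedOpen A 𝔞).ι (Category.comp_id _), hG.2.1 n c hc, Functor.map_zero]
    have h2 := Groth.Agent.Lib.Helper23.FQuot.Γ_map_smulMod A
      ((Scheme.Modules.pushforward (LocCoh.puncturedOpen A 𝔞).ι).obj (G.obj (op n))) c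
    haveI : (moduleSpecΓFunctor (R := CommRingCat.of A)).IsRightAdjoint :=
      (tilde.adjunction (R := CommRingCat.of A)).isRightAdjoint
    haveI : (moduleSpecΓFunctor (R := CommRingCat.of A)).PreservesZeroMorphisms :=
      Functor.preservesZeroMorphisms_of_isRightAdjoint _
    rw [h1, Functor.map_zero] at h2
    have h3 := congrArg (fun φ => φ.hom x) h2
    exact h3.symm
  have hpro := Groth.Agent.Lib.Helper23.MLLimit.isProIsomorphic_quotTower
    (Algz.sectMod A (LocCoh.puncturedOpen A 𝔞) G) I hkill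
    (Groth.Agent.Lib.Helper23.MLLimit.ml_of_isML _ ha) hb
  have hfin : ∀ n : ℕ, Module.Finite A
      ((limit (Algz.sectMod A (LocCoh.puncturedOpen A 𝔞) G) : ModuleCat.{u} A) ⧸
        (I ^ (n + 1) • (⊤ : Submodule A
          (limit (Algz.sectMod A (LocCoh.puncturedOpen A 𝔞) G) : ModuleCat.{u} A)))) := by
    intro n
    obtain ⟨N, hN⟩ := hb (n + 1)
    have := hc N
    refine Module.Finite.of_surjective ((Submodule.factor hN).comp
      (LinearMap.quotKerEquivRange
        (limit.π (Algz.sectMod A (LocCoh.puncturedOpen A 𝔞) G) (op N)).hom).symm.toLinearMap) ?_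
    exact (Submodule.factor_surjective hN).comp (LinearEquiv.surjective _)
  refine ⟨Groth.Agent.Lib.Helper23.MLLimit.quotTower I
      (limit (Algz.sectMod A (LocCoh.puncturedOpen A 𝔞) G)) ⋙ tilde.functor (CommRingCat.of A),
    Groth.Agent.Lib.Helper23.FQuot.isCohFormal_quotTower_tilde I _ hfin, ?_⟩
  exact Groth.Agent.Lib.Helper23.FQuot.isProIsomorphic_map (tilde.functor (CommRingCat.of A)) hpro


end Groth.Agent.S9534
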