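import Groth.Statements.S9551
import Groth.Agent.Lib.Helper23.Formal.EpiAdjoint
import Groth.Agent.Lib.Helper23.Formal.MLLimit
import Groth.Agent.Lib.Helper23.Formal.ProIso

set_option autoImplicit false
universe u
open CategoryTheory CategoryTheory.Limits AlgebraicGeometry Opposite
open Algz

namespace Groth.Agent.S9551

/-- Let A be a Noetherian ring, I ⊆ 𝔞 ideals, U = Spec A ∖ V(𝔞) with inclusion j, (F_n) an object of
Coh(U, I O_U) and M = lim_n H^0(U, F_n). If the system H^0(U, F_n) is Mittag-Leffler, then for every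
n the canonical map from M~|_U to F_n, adjoint (under the tilde and restriction adjunctions) to the
projection M → H^0(U, F_n) = Γ(Spec A, j_*F_n), is an epimorphism. (The source states surjectivity
of (M/I^nM)~|_U → F_n; the map from M~|_U factors through it after the epimorphism M~ → (M/I^nM)~,
so the two surjectivity statements are equivalent.) -/
theorem result (A : Type u) [CommRing A] [IsNoetherianRing A] (I 𝔞 : Ideal A) (hI𝔞 : I ≤ 𝔞)
    (G : ℕᵒᵖ ⥤ (↑(LocCoh.puncturedOpen A 𝔞) : Scheme.{u}).Modules) (hG : Formal.IsCohFormal I G)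
    (ha : ARSys.IsML (Algz.sectMod A (LocCoh.puncturedOpen A 𝔞) G)) (n : ℕ) :
    Epi (((Scheme.Modules.restrictAdjunction (LocCoh.puncturedOpen A 𝔞).ι).homEquiv _ (G.obj (op n))).symm
      (((tilde.adjunction (R := CommRingCat.of A)).homEquiv (limit (Algz.sectMod A (LocCoh.puncturedOpen A 𝔞) G))
        ((Scheme.Modules.pushforward (LocCoh.puncturedOpen A 𝔞).ι).obj (G.obj (op n)))).symm
          (limit.π (Algz.sectMod A (LocCoh.puncturedOpen A 𝔞) G) (op n)))) := by
  letI : (Spec (CommRingCat.of A)).Over (Spec (CommRingCat.of A)) := ⟨𝟙 _⟩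
  have hML := Groth.Agent.Lib.Helper23.MLLimit.ml_of_isML _ ha
  obtain ⟨m, hnm, hm⟩ := Groth.Agent.Lib.Helper23.MLLimit.stab_eq_range hML n
  have hrange : LinearMap.range (Groth.Agent.Lib.Helper23.MLLimit.π
      (Algz.sectMod A (LocCoh.puncturedOpen A 𝔞) G) n) =
      LinearMap.range (Groth.Agent.Lib.Helper2.EssConst.t
        (Algz.sectMod A (LocCoh.puncturedOpen A 𝔞) G) hnm) :=
    (Groth.Agent.Lib.Helper23.MLLimit.range_π_eq_stab hML n).trans (hm m le_rfl)
  have hF := Groth.Agent.Lib.Helper23.FQuot.isFormalSys_of_isCohFormal hG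
  haveI : Epi (G.map (homOfLE hnm).op) := (hF.isQuot_map hnm).epi
  haveI : (G.obj (op m)).IsQuasicoherent := (hG.1 m).1
  haveI : (G.obj (op n)).IsQuasicoherent := (hG.1 n).1
  haveI : ((Scheme.Modules.pushforward (LocCoh.puncturedOpen A 𝔞).ι).obj
      (G.obj (op m))).IsQuasicoherent :=
    Groth.Agent.Lib.Helper28.QCohLoc.isQuasicoherent_pushforward _ _
  haveI : ((Scheme.Modules.pushforward (LocCoh.puncturedOpen A 𝔞).ι).obj
      (G.obj (op n))).IsQuasicoherent :=
    Groth.Agent.Lib.Helper28.QCohLoc.isQuasicoherent_pushforward _ _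
  refine Groth.Agent.Lib.Helper23.EpiAdjoint.epi_of_range_le (LocCoh.puncturedOpen A 𝔞).ι
    (G.map (homOfLE hnm).op)
    (limit.π (Algz.sectMod A (LocCoh.puncturedOpen A 𝔞) G) (op n)) ?_
  exact hrange.ge


end Groth.Agent.S9551
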