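import Groth.Statements.S9553
import Groth.Agent.Lib.Helper23.Formal.LimitTopology
import Groth.Agent.Lib.Helper23.Formal.CohRestrictTilde
import Groth.Agent.Lib.Helper23.Formal.MLLimit
import Groth.Agent.Lib.Helper28.QCohPush

set_option autoImplicit false
universe u
open CategoryTheory CategoryTheory.Limits AlgebraicGeometry Opposite
open Algz

namespace Groth.Agent.S9553

/-- Let A be a Noetherian ring, I ⊆ 𝔞 ideals, U = Spec A ∖ V(𝔞) with inclusion j, (F_n) an object of
Coh(U, I O_U), M = lim_n H^0(U, F_n) and G_n = (M/I^(n+1)M)~ (positions shifted by one). Assume the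
limit topology of M agrees with the I-adic one: for every k some kernel of M → H^0(U, F_n) lies in
I^k M. Let ℓ_n : M/I^(n+1)M → H^0(U, F_n) = Γ(Spec A, j_*F_n) be the factorisations of the
projections (they exist since F_n is killed by I^(n+1); they are pinned here by that property) and
G_n → j_*F_n the adjoint maps. Then (i) each G_n|_U is coherent, and (ii) the resulting morphism
(G_n|_U) → (F_n) of inverse systems is a monomorphism in Coh(U, I O_U) (an abelian category), in the
form the printed proof establishes: for every f ∈ 𝔞, a family of sections of the G_n over D(f),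
compatible under the transition maps, whose images in the Γ(D(f), j_*F_n) = Γ(D(f) ∩ U, F_n) all
vanish, is zero. -/
theorem result (A : Type u) [CommRing A] [IsNoetherianRing A] (I 𝔞 : Ideal A) (hI𝔞 : I ≤ 𝔞)
    (G : ℕᵒᵖ ⥤ (↑(LocCoh.puncturedOpen A 𝔞) : Scheme.{u}).Modules) (hG : Formal.IsCohFormal I G)
    (hb : ∀ k : ℕ, ∃ n : ℕ, LinearMap.ker (limit.π (Algz.sectMod A (LocCoh.puncturedOpen A 𝔞) G) (op n)).hom ≤
      I ^ k • (⊤ : Submodule A ↑(limit (Algz.sectMod A (LocCoh.puncturedOpen A 𝔞) G))))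
    (ℓ : ∀ n : ℕ, ModuleCat.of A (Formal2.quotPow A I ↑(limit (Algz.sectMod A (LocCoh.puncturedOpen A 𝔞) G)) n) ⟶ (Algz.sectMod A (LocCoh.puncturedOpen A 𝔞) G).obj (op n))
    (hℓ : ∀ n : ℕ, ModuleCat.ofHom (Formal2.quotPowπ A I ↑(limit (Algz.sectMod A (LocCoh.puncturedOpen A 𝔞) G)) n) ≫ ℓ n = limit.π (Algz.sectMod A (LocCoh.puncturedOpen A 𝔞) G) (op n)) :
    (∀ n : ℕ, Coh.IsCoh ((Scheme.Modules.restrictFunctor (LocCoh.puncturedOpen A 𝔞).ι).obj (Formal2.tmod A (Formal2.quotPow A I ↑(limit (Algz.sectMod A (LocCoh.puncturedOpen A 𝔞) G)) n)))) ∧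
    ∀ (f : A), f ∈ 𝔞 →
      ∀ x : (∀ n : ℕ, (Scheme.Modules.presheaf (Formal2.tmod A (Formal2.quotPow A I ↑(limit (Algz.sectMod A (LocCoh.puncturedOpen A 𝔞) G)) n))).obj (op (PrimeSpectrum.basicOpen f : (Spec (CommRingCat.of A)).Opens))),
        (∀ n : ℕ, Scheme.Modules.Hom.app (Formal2.tmodMap A (Formal2.quotPowTrans A I ↑(limit (Algz.sectMod A (LocCoh.puncturedOpen A 𝔞) G)) n)) (PrimeSpectrum.basicOpen f : (Spec (CommRingCat.of A)).Opens) (x (n + 1)) = x n) →
        (∀ n : ℕ, Scheme.Modules.Hom.app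
            (((tilde.adjunction (R := CommRingCat.of A)).homEquiv (ModuleCat.of A (Formal2.quotPow A I ↑(limit (Algz.sectMod A (LocCoh.puncturedOpen A 𝔞) G)) n))
              ((Scheme.Modules.pushforward (LocCoh.puncturedOpen A 𝔞).ι).obj (G.obj (op n)))).symm (ℓ n))
            (PrimeSpectrum.basicOpen f : (Spec (CommRingCat.of A)).Opens) (x n) = 0) →
        ∀ n : ℕ, x n = 0 := by
  haveI hqc : ∀ n : ℕ, ((Scheme.Modules.pushforward (LocCoh.puncturedOpen A 𝔞).ι).obj
      (G.obj (op n))).IsQuasicoherent := by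
    intro n
    haveI : (G.obj (op n)).IsQuasicoherent := (hG.1 n).1
    exact Groth.Agent.Lib.Helper28.QCohLoc.isQuasicoherent_pushforward _ _
  have hanti : ∀ k l : ℕ, k ≤ l →
      LinearMap.ker (limit.π (Algz.sectMod A (LocCoh.puncturedOpen A 𝔞) G) (op l)).hom ≤
        LinearMap.ker (limit.π (Algz.sectMod A (LocCoh.puncturedOpen A 𝔞) G) (op k)).hom :=
    fun k l h => Groth.Agent.Lib.Helper23.MLLimit.ker_π_anti _ h
  refine ⟨fun n => ?_, fun f _ x hx1 hx2 => ?_⟩
  · obtain ⟨N, hN⟩ := hb (n + 1)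
    let B : ModuleCat.{u} A := ModuleCat.of A (LinearMap.range
      (limit.π (Algz.sectMod A (LocCoh.puncturedOpen A 𝔞) G) (op N)).hom)
    let i : B ⟶ (moduleSpecΓFunctor (R := CommRingCat.of A)).obj
        ((Scheme.Modules.pushforward (LocCoh.puncturedOpen A 𝔞).ι).obj (G.obj (op N))) :=
      ModuleCat.ofHom (R := A)
        (X := LinearMap.range (limit.π (Algz.sectMod A (LocCoh.puncturedOpen A 𝔞) G) (op N)).hom)
        (Y := (moduleSpecΓFunctor (R := CommRingCat.of A)).obj
          ((Scheme.Modules.pushforward (LocCoh.puncturedOpen A 𝔞).ι).obj (G.obj (op N))))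
        (LinearMap.range (limit.π (Algz.sectMod A (LocCoh.puncturedOpen A 𝔞) G) (op N)).hom).subtype
    haveI : Mono i := (ModuleCat.mono_iff_injective i).2 (Submodule.injective_subtype _)
    have hB := Groth.Agent.Lib.Helper23.CohRT.isCoh_restrict_tilde_of_injective
      (LocCoh.puncturedOpen A 𝔞).ι (G.obj (op N)) (hG.1 N) i
    let q : B ⟶ ModuleCat.of A (Formal2.quotPow A I
        ↑(limit (Algz.sectMod A (LocCoh.puncturedOpen A 𝔞) G)) n) :=
      ModuleCat.ofHom ((Submodule.factor hN).comp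
        (LinearMap.quotKerEquivRange
          (limit.π (Algz.sectMod A (LocCoh.puncturedOpen A 𝔞) G) (op N)).hom).symm.toLinearMap)
    haveI : Epi q := (ModuleCat.epi_iff_surjective q).2
      ((Submodule.factor_surjective hN).comp (LinearEquiv.surjective _))
    exact Groth.Agent.Lib.Helper23.CohRT.isCoh_restrict_tilde_of_epi
      (LocCoh.puncturedOpen A 𝔞).ι q hB
  · exact Groth.Agent.Lib.Helper23.TildeSec.eq_zero_of_compat I
      (limit (Algz.sectMod A (LocCoh.puncturedOpen A 𝔞) G))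
      (fun n => (Scheme.Modules.pushforward (LocCoh.puncturedOpen A 𝔞).ι).obj (G.obj (op n)))
      (fun n => limit.π (Algz.sectMod A (LocCoh.puncturedOpen A 𝔞) G) (op n)) hanti hb ℓ hℓ f x hx1 hx2


end Groth.Agent.S9553
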