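import Groth.Statements.S9560
import Mathlib
-- import your own Groth.Agent.* helpers here

set_option autoImplicit false
universe u
open EtLocal

namespace Groth.Agent.S9560

/-- Suppose A is a Noetherian ring and B is a finite-type A-algebra, and consider a prime q of B lying
over the prime p of A, where B_q carries its A_p-algebra structure. Then B is étale at q over A (the
local ring B_q is formally étale over A) if and only if the local homomorphism A_p → B_q is étale,
which means three things: B_q is A_p-flat, the ideal p B_q equals the maximal ideal of B_q, and the
residue field of q is a finite separable extension of the residue field of p (that B_q is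
essentially of finite type over A_p holds automatically). -/
theorem result (A B : Type u) [CommRing A] [CommRing B]
    [Algebra A B] [IsNoetherianRing A] [Algebra.FiniteType A B]
    (p : Ideal A) [p.IsPrime] (q : Ideal B) [q.IsPrime] [q.LiesOver p]
    [Algebra (Localization.AtPrime p) (Localization.AtPrime q)]
    [Localization.AtPrime.IsLiesOverAlgebra p q] :
    Algebra.IsEtaleAt A q ↔
      Module.Flat (Localization.AtPrime p) (Localization.AtPrime q) ∧
        p.map (algebraMap A (Localization.AtPrime q)) = IsLocalRing.maximalIdeal (Localization.AtPrime q) ∧
        Module.Finite p.ResidueField q.ResidueField ∧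
        Algebra.IsSeparable p.ResidueField q.ResidueField := by
  classical
  haveI : Algebra.FinitePresentation A B := Algebra.FinitePresentation.of_finiteType.mp inferInstance
  haveI : Algebra.EssFiniteType (Localization.AtPrime p) (Localization.AtPrime q) :=
    .of_comp A _ _
  constructor
  · intro h
    haveI : Algebra.FormallyEtale A (Localization.AtPrime q) := h
    haveI hunr : Algebra.IsUnramifiedAt A q :=
      (inferInstance : Algebra.FormallyUnramified A (Localization.AtPrime q))
    obtain ⟨hsep, hmap⟩ := (Algebra.isUnramifiedAt_iff_map_eq A p q).1 hunr
    refine ⟨?_, hmap, inferInstance, hsep⟩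
    -- flatness
    haveI : Algebra.IsEtaleAt A q := h
    obtain ⟨f, hfq, het⟩ := Algebra.exists_etale_of_isEtaleAt (R := A) q
    haveI : Module.Flat A (Localization.Away f) := inferInstance
    let g : Localization.Away f →ₐ[B] Localization.AtPrime q :=
      IsLocalization.liftAlgHom (M := Submonoid.powers f) (f := Algebra.ofId B _) (by
        rintro ⟨_, n, rfl⟩
        have : IsUnit (algebraMap B (Localization.AtPrime q) f) :=
          IsLocalization.map_units (M := q.primeCompl) _ ⟨f, hfq⟩
        simpa using this.pow n)
    algebraize [g.toRingHom]
    haveI : IsScalarTower A (Localization.Away f) (Localization.AtPrime q) := .to₁₃₄ _ B _ _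
    haveI : IsLocalization (Algebra.algebraMapSubmonoid (Localization.Away f) q.primeCompl)
        (Localization.AtPrime q) :=
      .isLocalization_of_submonoid_le _ _ (Submonoid.powers f) _ (by
        rintro _ ⟨n, rfl⟩
        exact fun hmem => hfq (Ideal.IsPrime.mem_of_pow_mem inferInstance n hmem))
    haveI : Module.Flat (Localization.Away f) (Localization.AtPrime q) :=
      IsLocalization.flat _ (Algebra.algebraMapSubmonoid (Localization.Away f) q.primeCompl)
    haveI : Module.Flat A (Localization.AtPrime q) :=
      Module.Flat.trans A (Localization.Away f) (Localization.AtPrime q)
    exact (Module.flat_iff_of_isLocalization (Localization.AtPrime p) p.primeCompl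
      (Localization.AtPrime q)).2 inferInstance
  · rintro ⟨hflat, hmap, hfin, hsep⟩
    haveI hunr : Algebra.IsUnramifiedAt A q :=
      (Algebra.isUnramifiedAt_iff_map_eq A p q).2 ⟨hsep, hmap⟩
    haveI : Algebra.FormallyUnramified A (Localization.AtPrime q) := hunr
    haveI : Algebra.FormallyUnramified (Localization.AtPrime p) (Localization.AtPrime q) :=
      .of_restrictScalars A _ _
    have hsm : Algebra.FormallySmooth A (Localization.AtPrime q) := by
      let Sp := Localization (Algebra.algebraMapSubmonoid B p.primeCompl)
      let f : Sp →ₐ[B] Localization.AtPrime q :=
        IsLocalization.liftAlgHom (M := Algebra.algebraMapSubmonoid B p.primeCompl)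
          (f := Algebra.ofId _ _) (by
        rintro ⟨_, x, hx, rfl⟩
        simpa using! IsLocalization.map_units (M := q.primeCompl) (Localization.AtPrime q)
          ⟨algebraMap _ _ x, by simp_all [q.over_def p]⟩)
      algebraize [f.toRingHom]
      have : IsScalarTower A Sp (Localization.AtPrime q) := .to₁₃₄ _ B _ _
      have : IsScalarTower (Localization.AtPrime p) Sp (Localization.AtPrime q) :=
        .of_algebraMap_eq' <| by
          apply IsLocalization.ringHom_ext p.primeCompl
          simp only [RingHom.comp_assoc, ← IsScalarTower.algebraMap_eq]
      have : IsLocalization (Algebra.algebraMapSubmonoid Sp q.primeCompl)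
          (Localization.AtPrime q) :=
        .isLocalization_of_submonoid_le _ _ (Algebra.algebraMapSubmonoid B p.primeCompl) _
          (by rintro _ ⟨x, hx, rfl⟩; simp_all [q.over_def p])
      have : Algebra.FinitePresentation (Localization.AtPrime p) Sp := by
        have : Algebra.IsPushout A (Localization.AtPrime p) B Sp :=
          .symm <| Algebra.isPushout_of_isLocalization p.primeCompl _ _ _
        exact .equiv (Algebra.IsPushout.equiv A (Localization.AtPrime p) B Sp)
      haveI : IsLocalHom (algebraMap (Localization.AtPrime p) (Localization.AtPrime q)) := by
        rw [Localization.AtPrime.IsLiesOverAlgebra.algebraMap_eq]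
        infer_instance
      haveI : Algebra.FormallySmooth (IsLocalRing.ResidueField (Localization.AtPrime p))
          (TensorProduct (Localization.AtPrime p)
            (IsLocalRing.ResidueField (Localization.AtPrime p)) (Localization.AtPrime q)) := by
        haveI := Algebra.FormallyEtale.of_formallyUnramified_of_field
          (IsLocalRing.ResidueField (Localization.AtPrime p))
          (TensorProduct (Localization.AtPrime p)
            (IsLocalRing.ResidueField (Localization.AtPrime p)) (Localization.AtPrime q))
        infer_instance
      have := Algebra.FormallySmooth.of_formallySmooth_residueField_tensor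
        (R := Localization.AtPrime p) (S := Localization.AtPrime q) (P := Sp)
        (Algebra.algebraMapSubmonoid _ q.primeCompl)
      exact .comp A (Localization.AtPrime p) (Localization.AtPrime q)
    exact Algebra.FormallyEtale.iff_formallyUnramified_and_formallySmooth.2 ⟨inferInstance, hsm⟩

end Groth.Agent.S9560
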