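import Groth.Statements.S9567
import Groth.Agent.S9722
import Mathlib
set_option backward.isDefEq.respectTransparency.types false

set_option autoImplicit false
universe u
open EtLocal

namespace Groth.Agent.S9567


open AlgebraicGeometry CategoryTheory in
/-- Let φ : X ⟶ Y be any morphism of schemes, x a point of X and V an affine open neighbourhood of φ(x),
with ring R = Γ(Y, V). If φ is étale on some open neighbourhood of x, then there are an affine open
neighbourhood U of x with φ(U) ⊆ V, a monic polynomial p over R and an open immersion j of U into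
Spec of (R[t]/(p))[1/p′] (the localization of R[t]/(p) away from the image of the derivative of p)
such that j followed by the projection to Spec R is the morphism U → Spec R induced by φ. -/
theorem result {X Y : Scheme.{u}} (φ : X ⟶ Y) (x : X)
    (V : Y.Opens) (hV : IsAffineOpen V) (hxV : φ.base x ∈ V)
    (hφ : ∃ W : X.Opens, x ∈ W ∧ Etale (W.ι ≫ φ)) :
    ∃ (U : X.Opens) (hU : IsAffineOpen U) (_ : x ∈ U) (e : U ≤ φ ⁻¹ᵁ V)
      (p : Polynomial Γ(Y, V)) (_ : p.Monic)
      (j : U.toScheme ⟶ Spec (CommRingCat.of (Localization.Away (AdjoinRoot.mk p (Polynomial.derivative p))))),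
      IsOpenImmersion j ∧
        j ≫ Spec.map (CommRingCat.ofHom
            (algebraMap Γ(Y, V) (Localization.Away (AdjoinRoot.mk p (Polynomial.derivative p))))) =
          hU.isoSpec.hom ≫ Spec.map (φ.appLE V U e) := by
  obtain ⟨U, hU, hxU, e, hstd⟩ := (Groth.Agent.S9722.result φ x V hV hxV).mp hφ
  letI := (φ.appLE V U e).hom.toAlgebra
  obtain ⟨Pres⟩ := hstd.nonempty_standardEtalePresentation
  let P := Pres.P
  let T := AdjoinRoot P.f
  let a : T := AdjoinRoot.mk P.f (Polynomial.derivative P.f)
  let b : T := AdjoinRoot.mk P.f P.g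
  have hab : ∃ n c, a * c = b ^ n := by
    obtain ⟨p₁, p₂, n, h⟩ := P.cond
    refine ⟨n, AdjoinRoot.mk P.f p₁, ?_⟩
    simp only [a, b]
    rw [← map_mul, ← map_pow, ← h, map_add, map_mul (AdjoinRoot.mk P.f) P.f, AdjoinRoot.mk_self,
      zero_mul, add_zero]
  let ε : Γ(X, U) ≃ₐ[Γ(Y, V)] Localization.Away b := Pres.equivRing.trans P.equivAwayAdjoinRoot
  let iA := Spec.map (CommRingCat.ofHom (algebraMap T (Localization.Away a)))
  let iB := Spec.map (CommRingCat.ofHom (algebraMap T (Localization.Away b)))
  have hrange : Set.range iB.base ⊆ Set.range iA.base := by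
    have hA : iA.opensRange = PrimeSpectrum.basicOpen a :=
      Scheme.Hom.opensRange_localizationAway (R := .of T) a
    have hB : iB.opensRange = PrimeSpectrum.basicOpen b :=
      Scheme.Hom.opensRange_localizationAway (R := .of T) b
    have hle : PrimeSpectrum.basicOpen b ≤ PrimeSpectrum.basicOpen a := by
      rw [PrimeSpectrum.basicOpen_le_basicOpen_iff]
      obtain ⟨n, c, h⟩ := hab
      exact ⟨n, by rw [← h]; exact Ideal.mul_mem_right _ _ (Ideal.mem_span_singleton_self a)⟩
    have : iB.opensRange ≤ iA.opensRange := by rw [hA, hB]; exact hle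
    exact this
  let j₀ := IsOpenImmersion.lift iA iB hrange
  have hj₀ : j₀ ≫ iA = iB := IsOpenImmersion.lift_fac _ _ _
  haveI : IsOpenImmersion j₀ := by
    haveI : IsOpenImmersion (j₀ ≫ iA) := by rw [hj₀]; infer_instance
    exact IsOpenImmersion.of_comp j₀ iA
  haveI : IsIso (Spec.map (CommRingCat.ofHom ε.symm.toRingEquiv.toRingHom)) := by
    have : IsIso (CommRingCat.ofHom ε.symm.toRingEquiv.toRingHom) :=
      (ε.symm.toRingEquiv.toCommRingCatIso).isIso_hom
    infer_instance
  refine ⟨U, hU, hxU, e, P.f, P.monic_f,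
    hU.isoSpec.hom ≫ Spec.map (CommRingCat.ofHom ε.symm.toRingEquiv.toRingHom) ≫ j₀,
    inferInstance, ?_⟩
  have h1 : CommRingCat.ofHom (algebraMap Γ(Y, V) (Localization.Away a)) =
      CommRingCat.ofHom (algebraMap Γ(Y, V) T) ≫
        CommRingCat.ofHom (algebraMap T (Localization.Away a)) := by
    rw [← CommRingCat.ofHom_comp, ← IsScalarTower.algebraMap_eq]
  have h2 : CommRingCat.ofHom (algebraMap Γ(Y, V) T) ≫
      CommRingCat.ofHom (algebraMap T (Localization.Away b)) ≫
        CommRingCat.ofHom ε.symm.toRingEquiv.toRingHom = φ.appLE V U e := by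
    ext r
    simp only [CommRingCat.hom_comp, CommRingCat.hom_ofHom, RingHom.comp_apply]
    rw [← IsScalarTower.algebraMap_apply Γ(Y, V) T (Localization.Away b)]
    exact ε.symm.commutes r
  show _ ≫ Spec.map (CommRingCat.ofHom (algebraMap Γ(Y, V) (Localization.Away a))) = _
  rw [h1, Spec.map_comp]
  simp only [Category.assoc]
  rw [← Category.assoc j₀, hj₀, ← h2]
  simp only [Spec.map_comp, Category.assoc, iB]

end Groth.Agent.S9567
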