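import Groth.Statements.S9568
import Mathlib.Algebra.Module.LocalizedModule.Submodule
import Mathlib.RingTheory.Localization.Finiteness
import Mathlib.RingTheory.Nakayama
import Mathlib.LinearAlgebra.TensorProduct.RightExactness
import Mathlib.RingTheory.Ideal.Cotangent

set_option autoImplicit false
universe u
open EtLocal

namespace Groth.Agent.S9568

section aux
open KaehlerDifferential TensorProduct

variable {A P B : Type u} [CommRing A] [CommRing P] [CommRing B] [Algebra A P] [Algebra A B]
  [Algebra P B] [IsScalarTower A P B]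

/-- kernel of `B ⊗ M`-unit for a surjective algebra map. -/
lemma mem_smul_top_of_one_tmul_eq_zero (h : Function.Surjective (algebraMap P B))
    {M : Type u} [AddCommGroup M] [Module P M] (x : M) (hx : (1 : B) ⊗ₜ[P] x = 0) :
    x ∈ (RingHom.ker (algebraMap P B) • ⊤ : Submodule P M) := by
  let e : (P ⧸ RingHom.ker (algebraMap P B)) ≃ₐ[P] B :=
    Ideal.quotientKerAlgEquivOfSurjective (f := Algebra.ofId P B) h
  have h1 := congrArg (TensorProduct.congr e.symm.toLinearEquiv (LinearEquiv.refl P M)) hx
  rw [TensorProduct.congr_tmul, map_zero] at h1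
  have h2 : e.symm.toLinearEquiv (1 : B) = 1 := map_one e.symm
  rw [h2] at h1
  rw [← LinearMap.ker_tensorProductMk]
  exact h1

lemma ker_map_le (h : Function.Surjective (algebraMap P B)) (η : Ω[P⁄A])
    (hη : KaehlerDifferential.map A A P B η = 0) :
    η ∈ (RingHom.ker (algebraMap P B) • ⊤ : Submodule P Ω[P⁄A]) ⊔
      Submodule.span P ((D A P) '' (RingHom.ker (algebraMap P B) : Set P)) := by
  have h1 : mapBaseChange A P B ((1 : B) ⊗ₜ[P] η) = 0 := by
    rw [mapBaseChange_tmul, hη, smul_zero]
  obtain ⟨c, hc⟩ := (exact_kerCotangentToTensor_mapBaseChange A P B h _).mp h1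
  obtain ⟨g, rfl⟩ := Ideal.toCotangent_surjective _ c
  rw [kerCotangentToTensor_toCotangent] at hc
  have h2 : (1 : B) ⊗ₜ[P] (η - D A P g.1) = 0 := by
    rw [TensorProduct.tmul_sub, hc, sub_self]
  have h3 := mem_smul_top_of_one_tmul_eq_zero h _ h2
  have : η = (η - D A P g.1) + D A P g.1 := by abel
  rw [this]
  exact Submodule.add_mem_sup h3 (Submodule.subset_span ⟨g.1, g.2, rfl⟩)

lemma main_aux (h : Function.Surjective (algebraMap P B)) [Module.Finite P Ω[P⁄A]]
    (q : Ideal B) [q.IsPrime] :
    Subsingleton (LocalizedModule q.primeCompl Ω[B⁄A]) ↔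
      Submodule.span (Localization.AtPrime (q.comap (algebraMap P B)))
        ((LocalizedModule.mkLinearMap (q.comap (algebraMap P B)).primeCompl Ω[P⁄A]) ''
          ((D A P) '' (RingHom.ker (algebraMap P B) : Set P))) = ⊤ := by
  set 𝔮 := q.comap (algebraMap P B) with h𝔮
  set I := RingHom.ker (algebraMap P B) with hI
  set ℓ := LocalizedModule.mkLinearMap 𝔮.primeCompl Ω[P⁄A] with hℓ
  set T : Set Ω[P⁄A] := (D A P) '' (I : Set P) with hT
  have hIq : I ≤ 𝔮 := by
    intro x hx
    rw [h𝔮, Ideal.mem_comap, (RingHom.mem_ker).mp hx]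
    exact q.zero_mem
  have hmT : ∀ y ∈ Submodule.span P T, KaehlerDifferential.map A A P B y = 0 := by
    intro y hy
    refine Submodule.span_induction ?_ ?_ ?_ ?_ hy
    · rintro _ ⟨g, hg, rfl⟩
      rw [KaehlerDifferential.map_D, (RingHom.mem_ker).mp hg, map_zero]
    · simp
    · intro a b _ _ ha hb; rw [map_add, ha, hb, add_zero]
    · intro a b _ hb; rw [map_smul, hb, smul_zero]
  rw [LocalizedModule.subsingleton_iff, ← Submodule.localized'_span _ 𝔮.primeCompl ℓ]
  constructor
  · intro H
    rw [eq_top_iff]
    refine Submodule.le_of_le_smul_of_le_jacobson_bot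
      (I := IsLocalRing.maximalIdeal (Localization.AtPrime 𝔮)) Module.Finite.fg_top
      (IsLocalRing.maximalIdeal_le_jacobson _) ?_
    intro x _
    obtain ⟨⟨η, s⟩, rfl⟩ := IsLocalizedModule.mk'_surjective 𝔮.primeCompl ℓ x
    obtain ⟨r, hr, hr0⟩ := H (KaehlerDifferential.map A A P B η)
    obtain ⟨t, rfl⟩ := h r
    have ht : t ∈ 𝔮.primeCompl := hr
    have h0 : KaehlerDifferential.map A A P B (t • η) = 0 := by
      rw [map_smul, ← hr0, algebraMap_smul]
    obtain ⟨a, ha, b, hb, hab⟩ := Submodule.mem_sup.mp (ker_map_le h _ h0)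
    have hx : IsLocalizedModule.mk' ℓ η s =
        IsLocalizedModule.mk' ℓ b (⟨t, ht⟩ * s) + IsLocalizedModule.mk' ℓ a (⟨t, ht⟩ * s) := by
      rw [← IsLocalizedModule.mk'_add, add_comm, hab,
        ← IsLocalizedModule.mk'_cancel_left (f := ℓ) η ⟨t, ht⟩ s]
      rfl
    simp only [Function.uncurry_apply_pair]
    rw [hx]
    refine Submodule.add_mem_sup ⟨b, hb, _, rfl⟩ ?_
    -- a part
    refine Submodule.smul_induction_on (p := fun a => ∀ u : 𝔮.primeCompl,
      IsLocalizedModule.mk' ℓ a u ∈ (IsLocalRing.maximalIdeal (Localization.AtPrime 𝔮) • ⊤ :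
        Submodule (Localization.AtPrime 𝔮) (LocalizedModule 𝔮.primeCompl Ω[P⁄A]))) ha ?_ ?_ _
    · intro i hi η' _ u
      have : IsLocalizedModule.mk' ℓ (i • η') u =
          (algebraMap P (Localization.AtPrime 𝔮) i) • IsLocalizedModule.mk' ℓ η' u := by
        rw [IsLocalizedModule.mk'_smul, algebraMap_smul]
      rw [this]
      refine Submodule.smul_mem_smul ?_ trivial
      exact (IsLocalization.AtPrime.to_map_mem_maximal_iff _ 𝔮 i).mpr (hIq hi)
    · intro a1 a2 h1 h2 u
      rw [IsLocalizedModule.mk'_add]
      exact Submodule.add_mem _ (h1 u) (h2 u)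
  · intro H ω
    obtain ⟨η, rfl⟩ := KaehlerDifferential.map_surjective_of_surjective A A P B h ω
    have hmem : ℓ η ∈ (⊤ : Submodule (Localization.AtPrime 𝔮) (LocalizedModule 𝔮.primeCompl Ω[P⁄A])) :=
      trivial
    rw [← H] at hmem
    obtain ⟨y, hy, s, hys⟩ := hmem
    rw [IsLocalizedModule.mk'_eq_iff] at hys
    have h2 : ℓ y = ℓ (s.1 • η) := by rw [hys, map_smul]; rfl
    obtain ⟨u, hu⟩ := (IsLocalizedModule.eq_iff_exists 𝔮.primeCompl ℓ).mp h2
    refine ⟨algebraMap P B (u.1 * s.1), ?_, ?_⟩
    · have : u.1 * s.1 ∈ 𝔮.primeCompl := (u * s).2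
      exact this
    · have hu' : (u : P) • y = (u : P) • (s : P) • η := hu
      rw [algebraMap_smul, ← map_smul, mul_smul, ← hu', map_smul, hmT y hy, smul_zero]

end aux

/-- Let A be a ring, φ a surjection from the polynomial ring P = A[x_1, …, x_n] onto an A-algebra B with
kernel I, q a prime of B and 𝔮 its preimage in P. Then the localization at q of the module of
differentials Ω_{B/A} vanishes if and only if the images of the differentials dg, g ∈ I, span the
localization of Ω_{P/A} at 𝔮 over P_𝔮. (Geometrically: for f locally of finite type, the stalk of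
Ω_{X/Y} at x vanishes iff near x the scheme X is a closed subscheme of an affine space over the base
cut out by an ideal whose germs at the point have differentials generating the stalk of Ω of the
affine space; the published statement also lists the equivalence with f being unramified at x and
with the diagonal being a local isomorphism at x, which this row does not restate. The published
statement asks for one such presentation near the point; this row states the equivalence for every
presentation, which is what the published proof shows and which implies the existential form.) -/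
theorem result {A B : Type u} [CommRing A] [CommRing B]
    [Algebra A B] (n : ℕ) (φ : MvPolynomial (Fin n) A →ₐ[A] B) (hφ : Function.Surjective φ)
    (q : Ideal B) [q.IsPrime] :
    Subsingleton (LocalizedModule q.primeCompl (KaehlerDifferential A B)) ↔
      Submodule.span (Localization.AtPrime (q.comap φ.toRingHom))
        ((LocalizedModule.mkLinearMap (q.comap φ.toRingHom).primeCompl
            (KaehlerDifferential A (MvPolynomial (Fin n) A))) ''
          ((KaehlerDifferential.D A (MvPolynomial (Fin n) A)) '' (RingHom.ker φ.toRingHom : Set (MvPolynomial (Fin n) A)))) = ⊤ := by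
  letI : Algebra (MvPolynomial (Fin n) A) B := φ.toRingHom.toAlgebra
  haveI : IsScalarTower A (MvPolynomial (Fin n) A) B :=
    IsScalarTower.of_algebraMap_eq (fun a => (φ.commutes a).symm)
  exact main_aux (A := A) (P := MvPolynomial (Fin n) A) (B := B) hφ q

end Groth.Agent.S9568
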