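import Groth.Statements.S9571
import Groth.Agent.Lib.helper11.TwistSpan

set_option autoImplicit false
universe u
open CategoryTheory CategoryTheory.Limits AlgebraicGeometry TopologicalSpace Opposite
open Constr

namespace Groth.Agent.S9571

/-- Let S be a graded ring, X = Proj S and d ≥ 1; let W_d be the union of the opens D_+(ab) over pairs
of homogeneous a, b with deg a = deg b + d (the open over which the twisting sheaves O_X(nd) are
invertible with compatible multiplications). For n ≥ 1 and f homogeneous of degree nd, with s the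
section of O_X(nd) over W_d defined by f, the non-vanishing locus (W_d)_s equals D_+(f) ∩ W_d.
Pointwise: for p in some D_+(ab) as above, p ∈ D_+(f) if and only if the value f/1 of s at p
generates the module of degree-nd fractions at p (the span of the fractions c/t with t ∉ p and deg c
= deg t + nd, over the degree-zero local ring at p). -/
theorem result {R A : Type u} [CommRing R] [CommRing A] [Algebra R A] (𝒜 : ℕ → Submodule R A) [GradedAlgebra 𝒜]
    {d : ℕ} (hd : 0 < d) {i j : ℕ} {a b : A} (ha : a ∈ 𝒜 i) (hb : b ∈ 𝒜 j) (hij : i = j + d)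
    (p : ProjectiveSpectrum 𝒜) (hp : p ∈ ProjectiveSpectrum.basicOpen 𝒜 (a * b))
    {n : ℕ} (hn : 0 < n) (f : 𝒜 (n * d)) :
    p ∈ ProjectiveSpectrum.basicOpen 𝒜 (f : A) ↔
      Submodule.span (Twist.A0 𝒜 p) {(Twist.globalOf 𝒜 f).1 ⟨p, trivial⟩} = ⊤ := by
  rw [ProjectiveSpectrum.mem_basicOpen] at hp
  have hap : a ∉ p.asHomogeneousIdeal := fun h => hp (Ideal.mul_mem_right _ _ h)
  have hbp : b ∉ p.asHomogeneousIdeal := fun h => hp (Ideal.mul_mem_left _ _ h)
  have hapow : a ^ n ∈ 𝒜 (n * i) := by
    have := SetLike.pow_mem_graded n ha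
    simpa using this
  have hbpow : b ^ n ∈ 𝒜 (n * j) := by
    have := SetLike.pow_mem_graded n hb
    simpa using this
  have hapowp : a ^ n ∉ p.asHomogeneousIdeal := fun h => hap (p.isPrime.mem_of_pow_mem n h)
  have hbpowp : b ^ n ∉ p.asHomogeneousIdeal := fun h => hbp (p.isPrime.mem_of_pow_mem n h)
  exact Groth.Agent.Lib.helper11.TwistSpan.mem_basicOpen_iff_span_globalOf_eq_top 𝒜 p f
    (⟨a ^ n, hapow⟩ : 𝒜 (n * i)) (⟨b ^ n, hbpow⟩ : 𝒜 (n * j)) hbpowp hapowp
    (by subst hij; push_cast; ring)

end Groth.Agent.S9571
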