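import Groth.Statements.S9572
import Groth.Agent.Lib.Helper28.ProjQ

set_option autoImplicit false
universe u
open CategoryTheory CategoryTheory.Limits AlgebraicGeometry TopologicalSpace Opposite
open Constr

namespace Groth.Agent.S9572

open Groth.Agent.Lib.Helper28 in
theorem dom_eq {R A : Type u} [CommRing R] [CommRing A] [Algebra R A] (𝒜 : ℕ → Submodule R A)
    [GradedAlgebra 𝒜] {B : Type u} [CommRing B] [Algebra R B] (ℬ : ℕ → Submodule R B)
    [GradedAlgebra ℬ] (ψ : 𝒜 →+*ᵍ ℬ) : PCone.dom ψ = RelCone.domOpen ψ := by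
  ext x
  change x ∈ PCone.dom ψ ↔ x ∈ RelCone.domOpen ψ
  rw [ProjQ.mem_dom_iff]
  unfold PCone.dom
  rw [TopologicalSpace.Opens.mem_iSup]
  constructor
  · rintro ⟨⟨f, d, hd, hf⟩, hx⟩
    exact ⟨d, hd, f, hf, (ProjectiveSpectrum.mem_basicOpen _ _ _).mp hx⟩
  · rintro ⟨d, hd, f, hf, hx⟩
    exact ⟨⟨f, d, hd, hf⟩, (ProjectiveSpectrum.mem_basicOpen _ _ _).mpr hx⟩

/-- Let ψ : A → B be a homomorphism of graded rings such that A_d → B_d is bijective for all d ≥ d₀. Let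
U(ψ) ⊆ Proj B be the union of the opens D_+(ψ f) over homogeneous f of positive degree, and r_ψ :
U(ψ) → Proj A the morphism whose restriction to each chart Spec B_(ψ f) is Spec of the induced map
A_(f) → B_(ψ f) followed by the chart of Proj A. Then U(ψ) = Proj B and r_ψ is an isomorphism. (Here
r_ψ is any morphism with that chart description; it is unique.) -/
theorem result {R A : Type u} [CommRing R] [CommRing A] [Algebra R A] (𝒜 : ℕ → Submodule R A) [GradedAlgebra 𝒜]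
    {B : Type u} [CommRing B] [Algebra R B] (ℬ : ℕ → Submodule R B) [GradedAlgebra ℬ] (ψ : 𝒜 →+*ᵍ ℬ)
    (d₀ : ℕ) (hbij : ∀ d : ℕ, d₀ ≤ d → Set.BijOn ψ (𝒜 d) (ℬ d))
    (r : (PCone.dom ψ : Scheme.{u}) ⟶ Proj 𝒜)
    (hr : ∀ (d : ℕ) (f : A) (hd : 0 < d) (hf : f ∈ 𝒜 d),
      PCone.chart ψ hf hd ≫ r =
        Spec.map (CommRingCat.ofHom (HomogeneousLocalization.Away.map ψ f)) ≫ Proj.awayι 𝒜 f hf hd) :
    PCone.dom ψ = ⊤ ∧ IsIso r := by
  have hS : Groth.Agent.Lib.Helper28.ProjQ.TNSurj ψ := by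
    refine ⟨d₀, fun k hk y hy => ?_⟩
    obtain ⟨x, hx, hxy⟩ := (hbij k hk).surjOn hy
    exact ⟨x, hx, hxy⟩
  have hI : Groth.Agent.Lib.Helper28.ProjQ.TNInj ψ := by
    refine ⟨d₀, fun k hk x hx h0 => ?_⟩
    exact (hbij k hk).injOn hx (zero_mem _) (h0.trans (map_zero ψ).symm)
  have hdom : PCone.dom ψ = RelCone.domOpen ψ := dom_eq 𝒜 ℬ ψ
  refine ⟨hdom.trans (Groth.Agent.Lib.Helper28.ProjQ.dom_eq_top_of_tnSurj ψ hS), ?_⟩
  let e := (Proj ℬ).isoOfEq hdom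
  have he : e.hom ≫ (RelCone.domOpen ψ).ι = (PCone.dom ψ).ι := Scheme.isoOfEq_hom_ι _ _
  have hr' : e.inv ≫ r = Groth.Agent.Lib.Helper28.ProjQ.vQ ψ := by
    apply Groth.Agent.Lib.Helper28.ProjQ.vQ_unique
    intro d f hd hf
    rw [← hr d f hd hf, ← Category.assoc]
    congr 1
    rw [Iso.comp_inv_eq, ← cancel_mono (RelCone.domOpen ψ).ι, Category.assoc, he,
      Groth.Agent.Lib.Helper28.ProjQ.chartQ_ι]
    exact (IsOpenImmersion.lift_fac _ _ _).symm
  have h1 : IsIso (e.inv ≫ r) := by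
    rw [hr']; exact Groth.Agent.Lib.Helper28.ProjQ.isIso_vQ ψ hS hI
  exact IsIso.of_isIso_comp_left e.inv r

end Groth.Agent.S9572
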