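import Groth.Statements.S9581
import Groth.Agent.Lib.Helper24.WeakAss
import Mathlib.RingTheory.Ideal.AssociatedPrime.Localization
-- import your own Groth.Agent.* helpers here

set_option autoImplicit false
universe u
open CAlg

namespace Groth.Agent.S9581

/-- (1) ⇔ (3): for a ring R, an R-module M and a prime p of R, the prime p is weakly associated to M
(minimal among the primes containing the annihilator of some element of M) if and only if the
localization M_p contains an element whose annihilator in R_p has radical equal to the maximal ideal
p R_p. -/
theorem result {R : Type u} [CommRing R] (M : Type u) [AddCommGroup M] [Module R M] (p : Ideal R) [p.IsPrime] :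
    p ∈ FlatCA.weakAss R M ↔ IsAssociatedPrime (IsLocalRing.maximalIdeal (Localization.AtPrime p)) (LocalizedModule p.primeCompl M) := by
  constructor
  · rintro ⟨m, hm⟩
    refine ⟨inferInstance, LocalizedModule.mk m (1 : p.primeCompl), ?_⟩
    rw [Submodule.bot_colon', Groth.Agent.Lib.Helper24.ann_loc_mk_eq_map,
      IsLocalization.AtPrime.radical_map_of_mem_minimalPrimes (Localization.AtPrime p) p _ hm,
      Localization.AtPrime.map_eq_maximalIdeal]
  · rintro ⟨_, x, hx⟩
    induction x using LocalizedModule.induction_on with
    | h m s =>
      refine ⟨m, ?_⟩
      rw [Submodule.bot_colon', Groth.Agent.Lib.Helper24.ann_loc_mk_eq_map] at hx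
      have h1 : IsLocalRing.maximalIdeal (Localization.AtPrime p) ∈
          (Ideal.map (algebraMap R (Localization.AtPrime p))
            (Submodule.span R {m}).annihilator).minimalPrimes := by
        rw [← Ideal.radical_minimalPrimes, ← hx, Ideal.minimalPrimes_eq_subsingleton_self]
        rfl
      rw [IsLocalization.minimalPrimes_map p.primeCompl, Set.mem_preimage,
        Localization.AtPrime.under_maximalIdeal] at h1
      exact h1


end Groth.Agent.S9581
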