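import Groth.Statements.S9582
import Groth.Agent.Lib.Helper24.WeakAss
-- import your own Groth.Agent.* helpers here

set_option autoImplicit false
universe u
open CAlg

namespace Groth.Agent.S9582

/-- For a reduced ring R, the primes weakly associated to the R-module R (primes minimal over the
annihilator of some element) are exactly the minimal primes of R. -/
theorem result {R : Type u} [CommRing R] [IsReduced R] :
    FlatCA.weakAss R R = minimalPrimes R := by
  ext p
  constructor
  · rintro ⟨x, hx⟩
    have hpp : p.IsPrime := hx.1.1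
    have hI : (Submodule.span R {x}).annihilator ≤ p := hx.1.2
    let T : Submonoid R := p.primeCompl ⊔ Submonoid.powers x
    have hdisj : Disjoint ((⊥ : Ideal R) : Set R) (T : Set R) := by
      rw [Set.disjoint_left]
      intro y hy hyT
      have hy0 : y = 0 := by simpa using hy
      obtain ⟨t, ht, z, ⟨n, rfl⟩, htz⟩ := Submonoid.mem_sup.mp (show y ∈ T from hyT)
      have htp : t ∉ p := ht
      rw [hy0] at htz
      have htz' : t * x ^ n = 0 := htz
      have h1 : (t * x) ^ (n + 1) = 0 := by
        have : (t * x) ^ (n + 1) = (t * x ^ n) * (t ^ n * x) := by ring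
        rw [this, htz', zero_mul]
      have h2 : t * x = 0 := pow_eq_zero_iff (n.succ_ne_zero) |>.mp h1
      apply htp
      apply hI
      rw [Submodule.mem_annihilator_span_singleton]
      exact h2
    obtain ⟨q, hq, _, hqT⟩ := Ideal.exists_le_prime_disjoint ⊥ T hdisj
    obtain ⟨q₀, hq₀, hq₀q⟩ := Ideal.exists_minimalPrimes_le (I := ⊥) (J := q) bot_le
    have hq₀T : Disjoint (q₀ : Set R) (T : Set R) :=
      Set.disjoint_of_subset_left hq₀q hqT
    have hq₀p : q₀ ≤ p := by
      intro y hy
      by_contra hyp
      exact Set.disjoint_left.mp hq₀T hy (Submonoid.mem_sup_left (show y ∈ p.primeCompl from hyp))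
    have hxq₀ : x ∉ q₀ := fun hxq =>
      Set.disjoint_left.mp hq₀T hxq (Submonoid.mem_sup_right (Submonoid.mem_powers x))
    have hq₀prime : q₀.IsPrime := hq₀.1.1
    have hIq₀ : (Submodule.span R {x}).annihilator ≤ q₀ := by
      intro a ha
      rw [Submodule.mem_annihilator_span_singleton] at ha
      have : a * x ∈ q₀ := by
        rw [← smul_eq_mul, ha]
        exact q₀.zero_mem
      exact (hq₀prime.mem_or_mem this).resolve_right hxq₀
    have hpq₀ : p ≤ q₀ := hx.2 ⟨hq₀prime, hIq₀⟩ hq₀p
    have : p = q₀ := le_antisymm hpq₀ hq₀p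
    rw [this]
    exact hq₀
  · intro hp
    refine ⟨(1 : R), ?_⟩
    have : (Submodule.span R {(1 : R)}).annihilator = ⊥ := by
      ext r
      rw [Submodule.mem_annihilator_span_singleton]
      simp
    rw [this]
    exact hp


end Groth.Agent.S9582
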