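import Groth.Statements.S9584
import Groth.Agent.Lib.Helper24.WeakAss
-- import your own Groth.Agent.* helpers here

set_option autoImplicit false
universe u
open CAlg

namespace Groth.Agent.S9584

/-- For a ring R and an R-module M, M has no weakly associated prime (no prime minimal over the
annihilator of an element) if and only if M = 0. -/
theorem result {R : Type u} [CommRing R] (M : Type u) [AddCommGroup M] [Module R M] :
    FlatCA.weakAss R M = ∅ ↔ Subsingleton M := by
  constructor
  · intro h
    refine ⟨fun a b => ?_⟩
    by_contra hab
    have hne : a - b ≠ 0 := sub_ne_zero.mpr hab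
    have h1 := (Groth.Agent.Lib.Helper24.ann_ne_top_iff (R := R) (a - b)).mpr hne
    obtain ⟨⟨p, hp⟩⟩ := Ideal.nonempty_minimalPrimes h1
    have : p ∈ FlatCA.weakAss R M := ⟨a - b, hp⟩
    rw [h] at this
    exact this
  · intro h
    rw [Set.eq_empty_iff_forall_notMem]
    rintro p ⟨m, hm⟩
    have h0 : m = 0 := Subsingleton.elim _ _
    apply hm.1.1.ne_top
    have : (Submodule.span R {m}).annihilator = ⊤ := by
      by_contra hne
      exact (Groth.Agent.Lib.Helper24.ann_ne_top_iff m).mp hne h0
    rw [this] at hm
    exact top_le_iff.mp hm.1.2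


end Groth.Agent.S9584
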