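import Groth.Statements.S9585
import Groth.Agent.Lib.Helper24.WeakAss
-- import your own Groth.Agent.* helpers here

set_option autoImplicit false
universe u
open CAlg

namespace Groth.Agent.S9585

/-- For a ring R and an R-module M, an element of R lies in some weakly associated prime of M exactly
when multiplication by it on M is not injective; in other words the union of the weakly associated
primes of M equals the set of zerodivisors on M. -/
theorem result {R : Type u} [CommRing R] (M : Type u) [AddCommGroup M] [Module R M] :
    ⋃ q ∈ FlatCA.weakAss R M, (q : Set R) = {f : R | ¬ IsSMulRegular M f} := by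
  ext f
  simp only [Set.mem_iUnion, SetLike.mem_coe, exists_prop, Set.mem_ofPred_eq]
  constructor
  · rintro ⟨q, ⟨m, hm⟩, hfq⟩ hreg
    have hqq : q.IsPrime := hm.1.1
    obtain ⟨t, ht, n, htn⟩ := Groth.Agent.Lib.Helper24.exists_mul_pow_mem_of_mem_minimalPrimes hm hfq
    rw [Submodule.mem_annihilator_span_singleton, mul_comm, mul_smul] at htn
    have h0 : t • m = 0 := by
      apply (hreg.pow n)
      change f ^ n • t • m = f ^ n • (0 : M)
      rw [smul_zero]
      exact htn
    apply ht
    apply hm.1.2
    rw [Submodule.mem_annihilator_span_singleton]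
    exact h0
  · intro hnreg
    rw [isSMulRegular_iff_right_eq_zero_of_smul] at hnreg
    push Not at hnreg
    obtain ⟨m, hfm, hm0⟩ := hnreg
    have h1 := (Groth.Agent.Lib.Helper24.ann_ne_top_iff (R := R) m).mpr hm0
    obtain ⟨⟨q, hq⟩⟩ := Ideal.nonempty_minimalPrimes h1
    refine ⟨q, ⟨m, hq⟩, hq.1.2 ?_⟩
    rw [Submodule.mem_annihilator_span_singleton]
    exact hfm


end Groth.Agent.S9585
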