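import Groth.Statements.S9586
import Groth.Agent.Lib.Helper24.WeakAss
-- import your own Groth.Agent.* helpers here

set_option autoImplicit false
universe u
open CAlg

namespace Groth.Agent.S9586

theorem step {R : Type u} [CommRing R] {M : Type u} [AddCommGroup M] [Module R M] (p : Ideal R)
    [p.IsPrime] (z : M) (hz : p ∈ (Submodule.span R {z}).annihilator.minimalPrimes) (a : R)
    (ha : a ∈ p) :
    ∃ z' : M, (Submodule.span R {z}).annihilator ≤ (Submodule.span R {z'}).annihilator ∧
      (Submodule.span R {z'}).annihilator ≤ p ∧ a ∈ (Submodule.span R {z'}).annihilator := by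
  classical
  obtain ⟨t, ht, n, htn⟩ := Groth.Agent.Lib.Helper24.exists_mul_pow_mem_of_mem_minimalPrimes hz ha
  rw [Submodule.mem_annihilator_span_singleton] at htn
  have hP : ∃ n : ℕ, ∃ b : R, b ∉ p ∧ (b * a ^ n) • z = 0 := ⟨n, t, ht, htn⟩
  have hmin := fun k (hk : k < Nat.find hP) => Nat.find_min hP hk
  obtain ⟨b, hb, hbz⟩ := Nat.find_spec hP
  have hn0 : Nat.find hP ≠ 0 := by
    intro h0
    rw [h0, pow_zero, mul_one] at hbz
    apply hb
    apply hz.1.2
    rw [Submodule.mem_annihilator_span_singleton]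
    exact hbz
  obtain ⟨k, hk⟩ := Nat.exists_eq_succ_of_ne_zero hn0
  rw [hk] at hbz
  have hmink := hmin k (by omega)
  push Not at hmink
  refine ⟨(b * a ^ k) • z, ?_, ?_, ?_⟩
  · intro r hr
    rw [Submodule.mem_annihilator_span_singleton] at hr ⊢
    rw [smul_comm, hr, smul_zero]
  · intro c hc
    rw [Submodule.mem_annihilator_span_singleton, smul_smul, ← mul_assoc] at hc
    by_contra hcp
    have hcb : c * b ∉ p := fun h => (Ideal.IsPrime.mem_or_mem ‹p.IsPrime› h).elim hcp hb
    exact hmink (c * b) hcb hc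
  · rw [Submodule.mem_annihilator_span_singleton, smul_smul]
    have : a * (b * a ^ k) = b * a ^ (k + 1) := by ring
    rw [this]
    exact hbz

theorem finset_step {R : Type u} [CommRing R] {M : Type u} [AddCommGroup M] [Module R M]
    (p : Ideal R) [p.IsPrime] (s : Finset R) (hs : ∀ a ∈ s, a ∈ p) (z : M)
    (hz : p ∈ (Submodule.span R {z}).annihilator.minimalPrimes) :
    ∃ z' : M, (Submodule.span R {z}).annihilator ≤ (Submodule.span R {z'}).annihilator ∧
      (Submodule.span R {z'}).annihilator ≤ p ∧ ∀ a ∈ s, a ∈ (Submodule.span R {z'}).annihilator := by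
  classical
  induction s using Finset.induction_on with
  | empty => exact ⟨z, le_rfl, hz.1.2, by simp⟩
  | insert a s _ ih =>
    obtain ⟨z₁, h1, h2, h3⟩ := ih (fun b hb => hs b (Finset.mem_insert_of_mem hb))
    have hz₁ : p ∈ (Submodule.span R {z₁}).annihilator.minimalPrimes :=
      ⟨⟨‹p.IsPrime›, h2⟩, fun q hq hqp => hz.2 ⟨hq.1, h1.trans hq.2⟩ hqp⟩
    obtain ⟨z₂, h4, h5, h6⟩ := step p z₁ hz₁ a (hs a (Finset.mem_insert_self a s))
    refine ⟨z₂, h1.trans h4, h5, ?_⟩
    intro b hb
    rcases Finset.mem_insert.mp hb with rfl | hb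
    · exact h6
    · exact h4 (h3 b hb)

/-- For a ring R, an R-module M and a finitely generated prime ideal p of R, p is associated to M (equal
to the annihilator of an element) if and only if p is weakly associated to M (minimal over the
annihilator of an element). -/
theorem result {R : Type u} [CommRing R] (M : Type u) [AddCommGroup M] [Module R M] (p : Ideal R) [p.IsPrime] (hp : p.FG) :
    p ∈ FlatCA.ass R M ↔ p ∈ FlatCA.weakAss R M := by
  constructor
  · rintro ⟨_, m, hm⟩
    refine ⟨m, ?_⟩
    rw [← hm, Ideal.minimalPrimes_eq_subsingleton_self]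
    rfl
  · rintro ⟨z, hz⟩
    obtain ⟨s, hs⟩ := hp
    have hsp : ∀ a ∈ s, a ∈ p := by
      intro a ha
      rw [← hs]
      exact Ideal.subset_span ha
    obtain ⟨z', _, h2, h3⟩ := finset_step p s hsp z hz
    refine ⟨inferInstance, z', le_antisymm ?_ h2⟩
    rw [← hs, Ideal.span_le]
    exact h3

end Groth.Agent.S9586
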