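import Groth.Statements.S9594
import Groth.Agent.Lib.Helper24.AssLoc
import Groth.Agent.S9593
import Mathlib.RingTheory.Localization.Ideal

set_option autoImplicit false
universe u
open CAlg

namespace Groth.Agent.S9594

/-- For a ring R, an R-module M and a multiplicative subset S of R, (1) the primes of R associated to
the R-module S⁻¹M are the inverse images of the primes of S⁻¹R associated to S⁻¹M, and (2) a prime
of R associated to M which does not meet S is associated to the R-module S⁻¹M. Here a prime is
associated to a module when it equals the annihilator of some element. -/
theorem result {R : Type u} [CommRing R] (S : Submonoid R) (M : Type u) [AddCommGroup M] [Module R M] :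
    FlatCA.ass R (LocalizedModule S M) = Ideal.comap (algebraMap R (Localization S)) '' FlatCA.ass (Localization S) (LocalizedModule S M) ∧
      ∀ p ∈ FlatCA.ass R M, Disjoint (S : Set R) (p : Set R) → p ∈ FlatCA.ass R (LocalizedModule S M) := by
  refine ⟨?_, ?_⟩
  · apply Set.Subset.antisymm
    · rintro p ⟨hp, x, rfl⟩
      have hcomap : Ideal.comap (algebraMap R (Localization S))
          (Submodule.span (Localization S) {x}).annihilator =
          (Submodule.span R {x}).annihilator := by
        ext r
        rw [Ideal.mem_comap, Submodule.mem_annihilator_span_singleton,
          Submodule.mem_annihilator_span_singleton, algebraMap_smul]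
      refine ⟨(Submodule.span (Localization S) {x}).annihilator, ⟨?_, x, rfl⟩, hcomap⟩
      have hd : Disjoint (S : Set R) ((Submodule.span R {x}).annihilator : Set R) := by
        rw [Set.disjoint_left]
        intro s hs hsp
        have hsx : s • x = 0 := (Submodule.mem_annihilator_span_singleton _ _).mp hsp
        have hx0 : x = 0 := by
          apply IsLocalizedModule.smul_injective (LocalizedModule.mkLinearMap S M) ⟨s, hs⟩
          change s • x = s • (0 : LocalizedModule S M)
          rw [smul_zero, hsx]
        have htop : (Submodule.span R {x}).annihilator = ⊤ := by
          rw [hx0]
          ext r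
          simp [Submodule.mem_annihilator_span_singleton, Submodule.mem_annihilator]
        exact hp.ne_top htop
      have := IsLocalization.isPrime_of_isPrime_disjoint S (Localization S) _ hp hd
      rw [← hcomap] at this
      have h2 : Ideal.map (algebraMap R (Localization S)) (Ideal.comap (algebraMap R (Localization S))
          (Submodule.span (Localization S) {x}).annihilator) =
          (Submodule.span (Localization S) {x}).annihilator :=
        IsLocalization.map_comap S (Localization S) _
      rwa [h2] at this
    · exact Groth.Agent.S9593.result (R := R) (S := Localization S) (LocalizedModule S M)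
  · rintro p ⟨hp, m, rfl⟩ hd
    refine ⟨hp, LocalizedModule.mk m (1 : S), ?_⟩
    have := hp
    exact (Groth.Agent.Lib.Helper24.ann_mk_eq_of_prime_disjoint S m _ rfl hd).symm

end Groth.Agent.S9594
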