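import Groth.Statements.S9597
import Mathlib.RingTheory.Ideal.Colon
import Mathlib.RingTheory.Ideal.Operations
import Mathlib.RingTheory.Ideal.Maps

set_option autoImplicit false
universe u
open CAlg

namespace Groth.Agent.S9597

lemma comap_mem {R : Type u} [CommRing R] (M : Type u) [AddCommGroup M] [Module R M]
    [Module.Finite R M]
    (p : Ideal (R ⧸ Module.annihilator R M))
    (hp : p ∈ associatedPrimes (R ⧸ Module.annihilator R M) (R ⧸ Module.annihilator R M)) :
    p.comap (Ideal.Quotient.mk (Module.annihilator R M)) ∈ associatedPrimes R M := by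
  classical
  obtain ⟨hprime, xbar, hx⟩ := hp
  obtain ⟨x, rfl⟩ := Ideal.Quotient.mk_surjective xbar
  obtain ⟨s, hs⟩ := (Module.Finite.fg_top : (⊤ : Submodule R M).FG)
  set P := p.comap (Ideal.Quotient.mk (Module.annihilator R M)) with hP
  have hPprime : P.IsPrime := Ideal.IsPrime.comap _
  have hcomap : ((⊥ : Submodule (R ⧸ Module.annihilator R M) (R ⧸ Module.annihilator R M)).colon
      {Ideal.Quotient.mk (Module.annihilator R M) x}).comap
        (Ideal.Quotient.mk (Module.annihilator R M)) =
      s.inf (fun m => (⊥ : Submodule R M).colon {x • m}) := by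
    ext r
    simp only [Ideal.mem_comap, Submodule.mem_colon_singleton, Submodule.mem_bot, smul_eq_mul,
      Submodule.mem_finsetInf]
    rw [← map_mul, Ideal.Quotient.eq_zero_iff_mem, Module.mem_annihilator]
    constructor
    · intro h m _
      rw [smul_smul]; exact h m
    · intro h m
      have hm : m ∈ Submodule.span R (s : Set M) := hs ▸ Submodule.mem_top
      refine Submodule.span_induction ?_ ?_ ?_ ?_ hm
      · intro y hy
        rw [← smul_smul]; exact h y hy
      · simp
      · intro y z _ _ hy hz
        rw [smul_add, hy, hz, add_zero]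
      · intro a y _ hy
        rw [smul_comm, hy, smul_zero]
  have hPeq : P = (s.inf (fun m => (⊥ : Submodule R M).colon {x • m})).radical := by
    rw [hP, hx, Ideal.comap_radical, hcomap]
  have hle : s.inf (fun m => (⊥ : Submodule R M).colon {x • m}) ≤ P := by
    rw [hPeq]; exact Ideal.le_radical
  obtain ⟨m, hm, hmP⟩ := hPprime.inf_le'.mp hle
  refine ⟨hPprime, x • m, le_antisymm ?_ ?_⟩
  · rw [hPeq]
    exact Ideal.radical_mono (Finset.inf_le hm)
  · exact hPprime.radical_le_iff.mpr hmP

/-- Let R be a Noetherian ring, M a finite R-module whose associated primes are pairwise incomparable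
under inclusion (M has no embedded associated primes), and I the annihilator of M. Then the
associated primes of R/I, viewed as a module over itself, are again pairwise incomparable: R/I has
no embedded primes either. -/
theorem result {R : Type u} [CommRing R] [IsNoetherianRing R] (M : Type u) [AddCommGroup M] [Module R M] [Module.Finite R M] (hM : ∀ p ∈ associatedPrimes R M, ∀ q ∈ associatedPrimes R M, p ≤ q → p = q) :
    ∀ p ∈ associatedPrimes (R ⧸ Module.annihilator R M) (R ⧸ Module.annihilator R M), ∀ q ∈ associatedPrimes (R ⧸ Module.annihilator R M) (R ⧸ Module.annihilator R M), p ≤ q → p = q := by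
  intro p hp q hq hpq
  have h1 := comap_mem M p hp
  have h2 := comap_mem M q hq
  have h3 := hM _ h1 _ h2 (Ideal.comap_mono hpq)
  exact Ideal.comap_injective_of_surjective _ Ideal.Quotient.mk_surjective h3

end Groth.Agent.S9597
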