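import Groth.Statements.S9598
import Mathlib.RingTheory.Ideal.AssociatedPrime.Finiteness
import Mathlib.RingTheory.Jacobson.Ring

set_option autoImplicit false
universe u
open CAlg

namespace Groth.Agent.S9598

/-- For a field k and a finite type k-algebra S with dim S > 0, some element of S is a nonzerodivisor
and a nonunit. -/
theorem result {k S : Type u} [Field k] [CommRing S] [Algebra k S] [Algebra.FiniteType k S] (hdim : 0 < ringKrullDim S) :
    ∃ f : S, f ∈ nonZeroDivisors S ∧ ¬ IsUnit f := by
  classical
  by_contra hcon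
  push Not at hcon
  have hnoeth : IsNoetherianRing S := Algebra.FiniteType.isNoetherianRing k S
  have hjac : IsJacobsonRing S := by
    obtain ⟨n, f, hf⟩ := Algebra.FiniteType.iff_quotient_mvPolynomial''.mp
      (inferInstance : Algebra.FiniteType k S)
    have : IsJacobsonRing (MvPolynomial (Fin n) k) := inferInstance
    exact isJacobsonRing_of_surjective ⟨f.toRingHom, hf⟩
  have hfin : (associatedPrimes S S).Finite := associatedPrimes.finite S S
  have hmax : ∀ m : Ideal S, m.IsMaximal → m ∈ associatedPrimes S S := by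
    intro m hm
    have hsub : (m : Set S) ⊆ ⋃ p ∈ (hfin.toFinset : Set (Ideal S)), (p : Set S) := by
      intro x hx
      have hx' : x ∈ (nonZeroDivisors S : Set S)ᶜ := by
        intro hnzd
        exact hm.ne_top (Ideal.eq_top_of_isUnit_mem _ hx (hcon x hnzd))
      rw [← biUnion_associatedPrimes_eq_compl_nonZeroDivisors] at hx'
      simpa using hx'
    obtain ⟨p, hp, hmp⟩ := (Ideal.subset_union_prime (f := fun p : Ideal S => p) ⊤ ⊤
      (fun i hi _ _ => IsAssociatedPrime.isPrime (hfin.mem_toFinset.mp hi))).mp hsub
    have hp' := hfin.mem_toFinset.mp hp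
    have : m = p := hm.eq_of_le (IsAssociatedPrime.isPrime hp').ne_top hmp
    rw [this]; exact hp'
  have hprime : ∀ P : Ideal S, P.IsPrime → P.IsMaximal := by
    intro P hP
    have hJ : P.jacobson = P := (isJacobsonRing_iff_prime_eq.mp hjac) P hP
    have hTfin : {J : Ideal S | P ≤ J ∧ J.IsMaximal}.Finite :=
      hfin.subset (fun J hJ => hmax J hJ.2)
    have hinf : hTfin.toFinset.inf id = P := by
      rw [Finset.inf_id_eq_sInf, Set.Finite.coe_toFinset]
      exact hJ
    have hP' : (hTfin.toFinset.inf id).IsPrime := by rw [hinf]; exact hP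
    obtain ⟨J, hJmem, hJle⟩ := hP'.inf_le'.mp le_rfl
    rw [hinf] at hJle
    have hJ' := hTfin.mem_toFinset.mp hJmem
    have : P = J := le_antisymm hJ'.1 hJle
    rw [this]; exact hJ'.2
  have : Ring.KrullDimLE 0 S := Ring.krullDimLE_zero_iff.mpr hprime
  have := Ring.krullDimLE_iff.mp this
  exact absurd hdim (not_lt.mpr (by simpa using this))

end Groth.Agent.S9598
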