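import Groth.Statements.S9599
import Groth.Agent.Lib.Helper23.AdicExact
import Mathlib.RingTheory.Flat.Equalizer
import Mathlib.LinearAlgebra.TensorProduct.Quotient

set_option autoImplicit false
universe u
open CAlg

namespace Groth.Agent.S9599

/-- For a ring R, an ideal I of R and a short exact sequence 0 → K → M → N → 0 of R-modules with N flat
over R, the induced sequence of I-adic completions 0 → K^ → M^ → N^ → 0 is again short exact. -/
theorem result {R : Type u} [CommRing R] (I : Ideal R) {K M N : Type u} [AddCommGroup K] [Module R K] [AddCommGroup M] [Module R M] [AddCommGroup N] [Module R N] [Module.Flat R N] (i : K →ₗ[R] M) (g : M →ₗ[R] N) (hi : Function.Injective i) (hg : Function.Surjective g) (hig : Function.Exact i g) :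
    Function.Injective (AdicCompletion.map I i) ∧ Function.Exact (AdicCompletion.map I i) (AdicCompletion.map I g) ∧ Function.Surjective (AdicCompletion.map I g) := by
  refine Groth.Agent.Lib.Helper23.adicCompletion_exact_of_shift I i g hg hig 0 (fun n => ?_)
  intro k hk
  rw [Submodule.mem_comap, add_zero] at hk
  have hinj := LinearMap.lTensor_injective_of_exact_of_flat g hg i hi hig (R ⧸ I ^ n)
  have h1 : (i.lTensor (R ⧸ I ^ n)) ((1 : R ⧸ I ^ n) ⊗ₜ[R] k) = 0 := by
    rw [LinearMap.lTensor_tmul]
    apply (TensorProduct.quotTensorEquivQuotSMul M (I ^ n)).injective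
    rw [TensorProduct.quotTensorEquivQuotSMul_mk_one_tmul, map_zero,
      Submodule.Quotient.mk_eq_zero]
    exact hk
  have h2 : ((1 : R ⧸ I ^ n) ⊗ₜ[R] k) = 0 := hinj (by rw [h1, map_zero])
  have h3 := congrArg (TensorProduct.quotTensorEquivQuotSMul K (I ^ n)) h2
  rw [TensorProduct.quotTensorEquivQuotSMul_mk_one_tmul, map_zero,
    Submodule.Quotient.mk_eq_zero] at h3
  exact h3

end Groth.Agent.S9599
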