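import Groth.Statements.S9600
import Groth.Agent.Lib.Helper23.AdicExact

set_option autoImplicit false
universe u
open CAlg

namespace Groth.Agent.S9600

/-- Let R be a ring, I an ideal of R and 0 → M → N → Q → 0 a short exact sequence of R-modules in which
Q is killed by some power I^c of I. Then on I-adic completions the map M^ → N^ is injective, N^ → Q^
is surjective with kernel equal to the image of M^, and the canonical map Q → Q^ is bijective; so 0
→ M^ → N^ → Q → 0 is again short exact. -/
theorem result {R : Type u} [CommRing R] (I : Ideal R) {M N Q : Type u} [AddCommGroup M] [Module R M] [AddCommGroup N] [Module R N] [AddCommGroup Q] [Module R Q] (i : M →ₗ[R] N) (g : N →ₗ[R] Q) (hi : Function.Injective i) (hg : Function.Surjective g) (hig : Function.Exact i g) (c : ℕ) (hc : ∀ x ∈ I ^ c, ∀ q : Q, x • q = 0) :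
    Function.Injective (AdicCompletion.map I i) ∧ Function.Exact (AdicCompletion.map I i) (AdicCompletion.map I g) ∧ Function.Surjective (AdicCompletion.map I g) ∧ Function.Bijective (AdicCompletion.of I Q) := by
  have hQ : (I ^ c • ⊤ : Submodule R Q) = ⊥ := by
    rw [eq_bot_iff, Submodule.smul_le]
    intro r hr q _
    rw [Submodule.mem_bot]
    exact hc r hr q
  have hrange : (I ^ c • ⊤ : Submodule R N) ≤ LinearMap.range i := by
    rw [Submodule.smul_le]
    intro r hr x _
    rw [LinearMap.mem_range]
    exact (hig (r • x)).mp (by rw [map_smul]; exact hc r hr (g x))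
  have key := Groth.Agent.Lib.Helper23.adicCompletion_exact_of_shift I i g hg hig c (fun n => by
    intro x hx
    rw [Submodule.mem_comap, pow_add, Submodule.mul_smul] at hx
    have h1 : (I ^ n • (I ^ c • ⊤ : Submodule R N)) ≤ Submodule.map i (I ^ n • ⊤) := by
      rw [Submodule.map_smul'', Submodule.map_top]
      exact Submodule.smul_mono le_rfl hrange
    obtain ⟨y, hy, hyx⟩ := h1 hx
    rw [← hi hyx]
    exact hy)
  refine ⟨key.1, key.2.1, key.2.2, ?_⟩
  rw [AdicCompletion.of_bijective_iff]
  refine { toIsHausdorff := ⟨fun x hx => ?_⟩, toIsPrecomplete := ⟨fun f hf => ?_⟩ }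
  · have := hx c
    rw [SModEq.zero, hQ, Submodule.mem_bot] at this
    exact this
  · refine ⟨f c, fun n => ?_⟩
    rcases le_total n c with h | h
    · exact hf h
    · have := hf h
      rw [hQ, SModEq.bot] at this
      rw [← this]

end Groth.Agent.S9600
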