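import Groth.Statements.S9601
-- import your own Groth.Agent.* helpers here

set_option autoImplicit false
universe u
open CAlg

namespace Groth.Agent.S9601

section aux
open AdicCompletion
variable {R : Type u} [CommRing R] (I : Ideal R) (M : Type u) [AddCommGroup M] [Module R M]

lemma of_mem (m : ℕ) (w : M) (hw : w ∈ (I ^ m • ⊤ : Submodule R M)) :
    of I M w ∈ (I ^ m • ⊤ : Submodule R (AdicCompletion I M)) := by
  have := Submodule.mem_map_of_mem (f := of I M) hw
  rw [Submodule.map_smul''] at this
  exact Submodule.smul_mono le_rfl le_top this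

lemma ker_mono {m n : ℕ} (h : m ≤ n) :
    LinearMap.ker (eval I M n) ≤ LinearMap.ker (eval I M m) := by
  intro z hz
  rw [LinearMap.mem_ker, eval_apply] at hz ⊢
  rw [← z.property h, hz, map_zero]

lemma step (m : ℕ) (z : AdicCompletion I M) (hz : z ∈ LinearMap.ker (eval I M m)) :
    ∃ y ∈ (I ^ m • ⊤ : Submodule R (AdicCompletion I M)),
      z - y ∈ LinearMap.ker (eval I M (m + 1)) := by
  obtain ⟨w, hw⟩ := Submodule.mkQ_surjective _ (z.val (m + 1))
  have hwm : w ∈ (I ^ m • ⊤ : Submodule R M) := by
    have h1 : z.val m = 0 := hz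
    have h2 := z.property (Nat.le_succ m)
    rw [← hw, h1] at h2
    rw [← Submodule.Quotient.mk_eq_zero]
    exact h2
  refine ⟨of I M w, of_mem I M m w hwm, ?_⟩
  rw [LinearMap.mem_ker, eval_apply, val_sub_apply, of_apply, hw, sub_self]

end aux

/-- For a ring R, an ideal I of R and an R-module M, let M^ be the I-adic completion and K_n the kernel
of the projection M^ → M/IⁿM. The completion M^ is I-adically complete exactly when K_n = Iⁿ M^
holds for every n ≥ 1. -/
theorem result {R : Type u} [CommRing R] (I : Ideal R) (M : Type u) [AddCommGroup M] [Module R M] :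
    IsAdicComplete I (AdicCompletion I M) ↔ ∀ n : ℕ, 1 ≤ n → LinearMap.ker (AdicCompletion.eval I M n) = I ^ n • (⊤ : Submodule R (AdicCompletion I M)) := by
  classical
  constructor
  · intro hc n _
    refine le_antisymm ?_ (AdicCompletion.pow_smul_top_le_ker_eval I (M := M) n)
    intro x hx
    -- recursive construction
    have hstep : ∀ k (t : AdicCompletion I M), ∃ y : AdicCompletion I M,
        (x - t ∈ LinearMap.ker (AdicCompletion.eval I M (n + k)) →
          y ∈ (I ^ (n + k) • ⊤ : Submodule R (AdicCompletion I M)) ∧
          x - t - y ∈ LinearMap.ker (AdicCompletion.eval I M (n + k + 1))) := by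
      intro k t
      by_cases h : x - t ∈ LinearMap.ker (AdicCompletion.eval I M (n + k))
      · obtain ⟨y, hy1, hy2⟩ := step I M (n + k) (x - t) h
        exact ⟨y, fun _ => ⟨hy1, hy2⟩⟩
      · exact ⟨0, fun h' => (h h').elim⟩
    choose Y hY using hstep
    let t : ℕ → AdicCompletion I M := fun k => Nat.rec 0 (fun k tk => tk + Y k tk) k
    have ht0 : t 0 = 0 := rfl
    have htS : ∀ k, t (k + 1) = t k + Y k (t k) := fun k => rfl
    have hb : ∀ k, x - t k ∈ LinearMap.ker (AdicCompletion.eval I M (n + k)) := by
      intro k
      induction k with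
      | zero => simpa [ht0] using hx
      | succ k ih =>
        have := (hY k (t k) ih).2
        rw [htS, ← sub_sub]
        exact this
    have hcdiff : ∀ k, t (k + 1) - t k ∈ (I ^ (n + k) • ⊤ : Submodule R (AdicCompletion I M)) := by
      intro k
      rw [htS, add_sub_cancel_left]
      exact (hY k (t k) (hb k)).1
    have hmono : ∀ {a b : ℕ}, a ≤ b →
        (I ^ b • ⊤ : Submodule R (AdicCompletion I M)) ≤ I ^ a • ⊤ := fun h =>
      Submodule.smul_mono_left (Ideal.pow_le_pow_right h)
    have hdiff : ∀ k k', k ≤ k' →
        t k' - t k ∈ (I ^ (n + k) • ⊤ : Submodule R (AdicCompletion I M)) := by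
      intro k k' hkk'
      induction k', hkk' using Nat.le_induction with
      | base => simp
      | succ k' hk' ih =>
        have : t (k' + 1) - t k = (t (k' + 1) - t k') + (t k' - t k) := by abel
        rw [this]
        exact Submodule.add_mem _ (hmono (by omega) (hcdiff k')) ih
    obtain ⟨L, hL⟩ := hc.toIsPrecomplete.prec (f := t) (fun {a b} hab =>
      (SModEq.sub_mem.mpr (hmono (by omega) (hdiff a b hab))).symm)
    have hxL : x = L := by
      refine AdicCompletion.ext fun k => ?_
      have h1 : x - t k ∈ LinearMap.ker (AdicCompletion.eval I M k) :=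
        ker_mono I M (by omega) (hb k)
      have h2 : t k - L ∈ LinearMap.ker (AdicCompletion.eval I M k) :=
        AdicCompletion.pow_smul_top_le_ker_eval I (M := M) k (SModEq.sub_mem.mp (hL k))
      have h3 := Submodule.add_mem _ h1 h2
      rw [sub_add_sub_cancel, LinearMap.mem_ker, AdicCompletion.eval_apply,
        AdicCompletion.val_sub_apply, sub_eq_zero] at h3
      exact h3
    rw [hxL]
    have h1 : t n ∈ (I ^ n • ⊤ : Submodule R (AdicCompletion I M)) := by
      have := hdiff 0 n (Nat.zero_le n)
      simpa [ht0] using this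
    have h2 : t n - L ∈ (I ^ n • ⊤ : Submodule R (AdicCompletion I M)) :=
      SModEq.sub_mem.mp (hL n)
    have := Submodule.sub_mem _ h1 h2
    simpa using this
  · intro h
    refine { toIsHausdorff := inferInstance, toIsPrecomplete := ⟨fun f hf => ?_⟩ }
    have hval : ∀ {a b : ℕ}, a ≤ b → (f a).val a = (f b).val a := by
      intro a b hab
      have := AdicCompletion.pow_smul_top_le_ker_eval I (M := M) a (SModEq.sub_mem.mp (hf hab))
      rw [LinearMap.mem_ker, AdicCompletion.eval_apply, AdicCompletion.val_sub_apply,
        sub_eq_zero] at this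
      exact this
    let L : AdicCompletion I M := ⟨fun k => (f k).val k, fun {m k} hmk => by
      rw [(f k).property hmk]; exact (hval hmk).symm⟩
    refine ⟨L, fun k => ?_⟩
    rw [SModEq.sub_mem]
    rcases Nat.eq_zero_or_pos k with rfl | hk
    · simp
    · rw [← h k hk, LinearMap.mem_ker, AdicCompletion.eval_apply, AdicCompletion.val_sub_apply]
      exact sub_self _

end Groth.Agent.S9601
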