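import Groth.Statements.S9602
import Mathlib.RingTheory.Nilpotent.Basic

set_option autoImplicit false
universe u
open CAlg

namespace Groth.Agent.S9602

section aux
open AdicCompletion
variable {R : Type u} [CommRing R] (I : Ideal R)

lemma val_one_eq_zero (z : AdicCompletion I R) (hz : evalOneₐ I z = 0) : z.val 1 = 0 := by
  have h1 : eval I R 1 z = 0 := by
    have h : (I ^ 1 • ⊤ : Ideal R) ≤ I := by simp
    have h' : I ≤ (I ^ 1 • ⊤ : Ideal R) := by simp
    obtain ⟨r, hr⟩ := Ideal.Quotient.mk_surjective (eval I R 1 z)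
    have h2 : evalOneₐ I z = Ideal.Quotient.mk I r := by
      rw [← factorₐ_evalₐ_one, ← factor_eval_eq_evalₐ I z (by simp), ← hr]
      rfl
    rw [hz] at h2
    have : r ∈ I := Ideal.Quotient.eq_zero_iff_mem.mp h2.symm
    rw [← hr]
    exact Ideal.Quotient.eq_zero_iff_mem.mpr (h' this)
  exact h1

lemma isNilpotent_val (z : AdicCompletion I R) (hz : z.val 1 = 0) (n : ℕ) :
    IsNilpotent (z.val n) := by
  refine ⟨n, ?_⟩
  obtain ⟨r, hr⟩ := Ideal.Quotient.mk_surjective (z.val n)
  rw [← hr, ← map_pow, Ideal.Quotient.eq_zero_iff_mem]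
  rcases Nat.eq_zero_or_pos n with rfl | hn
  · simp
  · have h1 := z.property (show 1 ≤ n from hn)
    rw [hz, ← hr] at h1
    have hrI : r ∈ (I ^ 1 • ⊤ : Ideal R) := Ideal.Quotient.eq_zero_iff_mem.mp h1
    have hrI' : r ∈ I := by simpa using hrI
    have : r ^ n ∈ I ^ n := Ideal.pow_mem_pow hrI' n
    simpa using this

lemma isUnit_one_add (z : AdicCompletion I R) (hz : z.val 1 = 0) : IsUnit (1 + z) := by
  have hu : ∀ n, IsUnit ((1 + z).val n) := fun n => by
    rw [val_add_apply, val_one]
    exact IsNilpotent.isUnit_one_add (isNilpotent_val I z hz n)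
  let v : AdicCompletion I R := ⟨fun n => ((hu n).unit⁻¹ : (R ⧸ (I ^ n • ⊤ : Ideal R))ˣ),
    fun {m n} hmn => by
      have h1 : transitionMapₐ I hmn ((1 + z).val n) = (1 + z).val m := (1 + z).property hmn
      have h2 : transitionMapₐ I hmn (((hu n).unit⁻¹ : (R ⧸ (I ^ n • ⊤ : Ideal R))ˣ) : _) *
          (1 + z).val m = 1 := by
        rw [← h1, ← map_mul]
        simp
      change transitionMapₐ I hmn _ = _
      exact (Units.eq_inv_of_mul_eq_one_left (u := (hu m).unit) (by rw [mul_comm]; exact h2))⟩
  refine IsUnit.of_mul_eq_one v ?_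
  refine AdicCompletion.ext fun n => ?_
  rw [val_mul, val_one]
  exact (hu n).mul_val_inv

end aux

/-- Let R be a ring, I an ideal of R and R^ = lim R/Iⁿ the I-adic completion. An element of R^ whose
image in R/I is invertible is itself invertible in R^; and the kernel of R^ → R/I as well as the
extended ideal I R^ both lie inside the Jacobson radical of R^. -/
theorem result {R : Type u} [CommRing R] (I : Ideal R) :
    (∀ x : AdicCompletion I R, IsUnit (AdicCompletion.evalOneₐ I x) → IsUnit x) ∧
      RingHom.ker (AdicCompletion.evalOneₐ I).toRingHom ≤ (⊥ : Ideal (AdicCompletion I R)).jacobson ∧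
      I.map (algebraMap R (AdicCompletion I R)) ≤ (⊥ : Ideal (AdicCompletion I R)).jacobson := by
  have h2 : RingHom.ker (AdicCompletion.evalOneₐ I).toRingHom ≤
      (⊥ : Ideal (AdicCompletion I R)).jacobson := by
    intro z hz
    rw [Ideal.mem_jacobson_bot]
    intro y
    have hzy : AdicCompletion.evalOneₐ I (z * y) = 0 := by
      rw [map_mul]
      have : AdicCompletion.evalOneₐ I z = 0 := hz
      rw [this, zero_mul]
    rw [add_comm]
    exact isUnit_one_add I _ (val_one_eq_zero I _ hzy)
  refine ⟨?_, h2, ?_⟩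
  · intro x hx
    obtain ⟨ybar, hy⟩ := hx.exists_right_inv
    obtain ⟨y, rfl⟩ := AdicCompletion.evalOneₐ_surjective I ybar
    have hker : x * y - 1 ∈ RingHom.ker (AdicCompletion.evalOneₐ I).toRingHom := by
      rw [RingHom.mem_ker]
      change AdicCompletion.evalOneₐ I (x * y - 1) = 0
      rw [map_sub, map_mul, hy, map_one, sub_self]
    have := (Ideal.mem_jacobson_bot.mp (h2 hker)) 1
    rw [mul_one, sub_add_cancel] at this
    exact isUnit_of_mul_isUnit_left this
  · rw [Ideal.map_le_iff_le_comap]
    intro r hr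
    apply h2
    rw [RingHom.mem_ker]
    change AdicCompletion.evalOneₐ I (AdicCompletion.of I R r) = 0
    rw [AdicCompletion.evalOneₐ_of]
    exact Ideal.Quotient.eq_zero_iff_mem.mpr hr

end Groth.Agent.S9602
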