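import Groth.Statements.S9603
import Mathlib.RingTheory.Ideal.Operations
import Mathlib.Algebra.BigOperators.Intervals

set_option autoImplicit false
universe u
open CAlg

namespace Groth.Agent.S9603

section aux
variable {R : Type*} [CommRing R] (M : Type*) [AddCommGroup M] [Module R M]

lemma cauchy_sum (A : Ideal R) (a : ℕ → M) (ha : ∀ n, a n ∈ (A ^ n • ⊤ : Submodule R M))
    {m n : ℕ} (hmn : m ≤ n) :
    (∑ k ∈ Finset.range m, a k) ≡ (∑ k ∈ Finset.range n, a k)
      [SMOD (A ^ m • ⊤ : Submodule R M)] := by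
  rw [SModEq.comm, SModEq.sub_mem, ← Finset.sum_Ico_eq_sub _ hmn]
  refine Submodule.sum_mem _ fun k hk => ?_
  exact Submodule.smul_mono_left (Ideal.pow_le_pow_right (Finset.mem_Ico.mp hk).1) (ha k)

lemma precomplete_sup (A B : Ideal R) (hA : IsPrecomplete A M) (hB : IsPrecomplete B M) :
    IsPrecomplete (A ⊔ B) M := by
  refine ⟨fun y hy => ?_⟩
  have hdiff : ∀ n, ∃ a ∈ (A ^ n • ⊤ : Submodule R M), ∃ b ∈ (B ^ n • ⊤ : Submodule R M),
      y (2 * (n + 1)) - y (2 * n) = a + b := by
    intro n
    have h1 : y (2 * (n + 1)) - y (2 * n) ∈ ((A ⊔ B) ^ (2 * n) • ⊤ : Submodule R M) := by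
      rw [← SModEq.sub_mem, SModEq.comm]
      exact hy (by omega)
    have h2 : ((A ⊔ B) ^ (2 * n) • ⊤ : Submodule R M) ≤ A ^ n • ⊤ ⊔ B ^ n • ⊤ := by
      rw [← Submodule.sup_smul, two_mul]
      exact Submodule.smul_mono_left Ideal.sup_pow_add_le_pow_sup_pow
    obtain ⟨a, ha, b, hb, hab⟩ := Submodule.mem_sup.mp (h2 h1)
    exact ⟨a, ha, b, hb, hab.symm⟩
  choose a ha b hb hab using hdiff
  obtain ⟨LA, hLA⟩ := hA.prec (f := fun n => ∑ k ∈ Finset.range n, a k)
    (fun {m n} hmn => cauchy_sum M A a ha hmn)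
  obtain ⟨LB, hLB⟩ := hB.prec (f := fun n => ∑ k ∈ Finset.range n, b k)
    (fun {m n} hmn => cauchy_sum M B b hb hmn)
  have htel : ∀ n, y (2 * n) = y 0 + ∑ k ∈ Finset.range n, a k + ∑ k ∈ Finset.range n, b k := by
    intro n
    induction n with
    | zero => simp
    | succ n ih =>
      rw [Finset.sum_range_succ, Finset.sum_range_succ]
      have := hab n
      rw [sub_eq_iff_eq_add] at this
      rw [this, ih]
      abel
  refine ⟨y 0 + LA + LB, fun n => ?_⟩
  have h1 : y n ≡ y (2 * n) [SMOD ((A ⊔ B) ^ n • ⊤ : Submodule R M)] := hy (by omega)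
  refine h1.trans ?_
  rw [htel n, SModEq.sub_mem]
  have h2 : (∑ k ∈ Finset.range n, a k) - LA ∈ ((A ⊔ B) ^ n • ⊤ : Submodule R M) :=
    Submodule.smul_mono_left (Ideal.pow_right_mono le_sup_left n) (SModEq.sub_mem.mp (hLA n))
  have h3 : (∑ k ∈ Finset.range n, b k) - LB ∈ ((A ⊔ B) ^ n • ⊤ : Submodule R M) :=
    Submodule.smul_mono_left (Ideal.pow_right_mono le_sup_right n) (SModEq.sub_mem.mp (hLB n))
  have := Submodule.add_mem _ h2 h3
  convert this using 1
  abel

end aux

/-- For a ring A, elements f_1, …, f_r generating an ideal I and an A-module M, if the canonical map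
from M to its (f_i)-adic completion is surjective for every i, then the canonical map from M to its
I-adic completion is surjective. -/
theorem result {A : Type u} [CommRing A] {r : ℕ} (f : Fin r → A) (M : Type u) [AddCommGroup M] [Module A M] (h : ∀ i, Function.Surjective (AdicCompletion.of (Ideal.span {f i}) M)) :
    Function.Surjective (AdicCompletion.of (Ideal.span (Set.range f)) M) := by
  rw [AdicCompletion.of_surjective_iff]
  have h' : ∀ i, IsPrecomplete (Ideal.span {f i}) M := fun i =>
    AdicCompletion.of_surjective_iff.mp (h i)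
  have hspan : Ideal.span (Set.range f) = Finset.univ.sup (fun i => Ideal.span {f i}) := by
    rw [← Set.iUnion_singleton_eq_range, Ideal.span_iUnion, Finset.sup_univ_eq_iSup]
  rw [hspan]
  refine Finset.sup_induction (p := fun J => IsPrecomplete J M) ?_ ?_ ?_
  · infer_instance
  · intro A hA B hB
    exact precomplete_sup M A B hA hB
  · intro i _
    exact h' i

end Groth.Agent.S9603
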