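import Groth.Statements.S9606
import Mathlib.RingTheory.Ideal.GoingUp
import Mathlib.RingTheory.IntegralClosure.IsIntegralClosure.Basic
import Mathlib.Topology.Homeomorph.Lemmas

set_option autoImplicit false
universe u
open CAlg

namespace Groth.Agent.S9606

/-- Let R → S be a ring map with locally nilpotent kernel such that S is generated over R by elements x
with x² and x³ in the image of R. Then the induced map on spectra is a homeomorphism and every
residue field map κ(p) → κ(q), for q a prime of S with inverse image p, is bijective. -/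
theorem result {R S : Type u} [CommRing R] [CommRing S] [Algebra R S]
    (hgen : Algebra.adjoin R {x : S | x ^ 2 ∈ Set.range (algebraMap R S) ∧ x ^ 3 ∈ Set.range (algebraMap R S)} = ⊤)
    (hker : ∀ r : R, algebraMap R S r = 0 → IsNilpotent r) :
    IsHomeomorph (PrimeSpectrum.comap (algebraMap R S)) ∧
      ∀ (q : Ideal S) [q.IsPrime], Function.Bijective (Ideal.ResidueField.map (q.comap (algebraMap R S)) q (algebraMap R S) rfl) := by
  set f := algebraMap R S with hf
  -- key property
  have key : ∀ (p : Ideal R) [p.IsPrime] (s : S), ∃ r t : R, t ∉ p ∧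
      ∀ (q : Ideal S) [q.IsPrime], q.comap f = p → f t * s - f r ∈ q := by
    intro p _ s
    have hs : s ∈ Algebra.adjoin R {x : S | x ^ 2 ∈ Set.range (algebraMap R S) ∧
        x ^ 3 ∈ Set.range (algebraMap R S)} := hgen ▸ Algebra.mem_top
    induction hs using Algebra.adjoin_induction with
    | mem x hx =>
      obtain ⟨⟨a, ha⟩, ⟨b, hb⟩⟩ := hx
      by_cases hap : a ∈ p
      · refine ⟨0, 1, (Ideal.ne_top_iff_one p).mp (Ideal.IsPrime.ne_top ‹_›), fun q _ hq => ?_⟩
        have h1 : x ^ 2 ∈ q := by
          rw [← ha]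
          have : a ∈ q.comap f := hq ▸ hap
          exact this
        have h2 : x ∈ q := Ideal.IsPrime.mem_of_pow_mem ‹_› 2 h1
        simpa using h2
      · refine ⟨b, a, hap, fun q _ hq => ?_⟩
        have : f a * x - f b = 0 := by rw [hf, ha, hb]; ring
        rw [this]; exact q.zero_mem
    | algebraMap r =>
      exact ⟨r, 1, (Ideal.ne_top_iff_one p).mp (Ideal.IsPrime.ne_top ‹_›), fun q _ _ => by simp [hf]⟩
    | add s1 s2 _ _ h1 h2 =>
      obtain ⟨r1, t1, ht1, H1⟩ := h1
      obtain ⟨r2, t2, ht2, H2⟩ := h2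
      refine ⟨r1 * t2 + r2 * t1, t1 * t2, ?_, fun q _ hq => ?_⟩
      · intro h
        rcases Ideal.IsPrime.mem_or_mem ‹_› h with h | h
        exacts [ht1 h, ht2 h]
      · have e : f (t1 * t2) * (s1 + s2) - f (r1 * t2 + r2 * t1) =
            f t2 * (f t1 * s1 - f r1) + f t1 * (f t2 * s2 - f r2) := by
          simp only [map_mul, map_add]; ring
        rw [e]
        exact q.add_mem (q.mul_mem_left _ (H1 q hq)) (q.mul_mem_left _ (H2 q hq))
    | mul s1 s2 _ _ h1 h2 =>
      obtain ⟨r1, t1, ht1, H1⟩ := h1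
      obtain ⟨r2, t2, ht2, H2⟩ := h2
      refine ⟨r1 * r2, t1 * t2, ?_, fun q _ hq => ?_⟩
      · intro h
        rcases Ideal.IsPrime.mem_or_mem ‹_› h with h | h
        exacts [ht1 h, ht2 h]
      · have e : f (t1 * t2) * (s1 * s2) - f (r1 * r2) =
            (f t2 * s2) * (f t1 * s1 - f r1) + f r1 * (f t2 * s2 - f r2) := by
          simp only [map_mul]; ring
        rw [e]
        exact q.add_mem (q.mul_mem_left _ (H1 q hq)) (q.mul_mem_left _ (H2 q hq))
  -- integrality
  have hint : Algebra.IsIntegral R S := by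
    have hG : ∀ x ∈ {x : S | x ^ 2 ∈ Set.range (algebraMap R S) ∧
        x ^ 3 ∈ Set.range (algebraMap R S)}, IsIntegral R x := by
      rintro x ⟨⟨a, ha⟩, -⟩
      exact IsIntegral.of_pow (n := 2) (by norm_num) (ha ▸ isIntegral_algebraMap)
    have h1 : Algebra.adjoin R {x : S | x ^ 2 ∈ Set.range (algebraMap R S) ∧
        x ^ 3 ∈ Set.range (algebraMap R S)} ≤ integralClosure R S := Algebra.adjoin_le hG
    rw [hgen] at h1
    exact ⟨fun s => h1 Algebra.mem_top⟩
  have hinj : Function.Injective (PrimeSpectrum.comap f) := by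
    intro q q' hqq'
    have hq' : q'.asIdeal.comap f = q.asIdeal.comap f := by
      have := congrArg PrimeSpectrum.asIdeal hqq'
      exact this.symm
    have aux : ∀ (q1 q2 : PrimeSpectrum S), q2.asIdeal.comap f = q1.asIdeal.comap f →
        q1.asIdeal ≤ q2.asIdeal := by
      intro q1 q2 h12 s hs
      obtain ⟨r, t, ht, H⟩ := key (q1.asIdeal.comap f) s
      have h1 := H q1.asIdeal rfl
      have h2 := H q2.asIdeal h12
      have hr : f r ∈ q1.asIdeal := by
        have := q1.asIdeal.sub_mem (q1.asIdeal.mul_mem_left (f t) hs) h1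
        simpa using this
      have hr2 : f r ∈ q2.asIdeal := by
        have : r ∈ q2.asIdeal.comap f := h12 ▸ hr
        exact this
      have h3 : f t * s ∈ q2.asIdeal := by
        have := q2.asIdeal.add_mem h2 hr2
        simpa using this
      rcases q2.2.mem_or_mem h3 with h | h
      · exact absurd (show t ∈ q1.asIdeal.comap f from h12 ▸ h) ht
      · exact h
    exact PrimeSpectrum.ext (le_antisymm (aux q q' hq') (aux q' q hq'.symm))
  have hsurj : Function.Surjective (PrimeSpectrum.comap f) := by
    intro p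
    have hle : (⊥ : Ideal S).comap (algebraMap R S) ≤ p.asIdeal := by
      intro r hr
      have : algebraMap R S r = 0 := hr
      obtain ⟨n, hn⟩ := hker r this
      exact Ideal.IsPrime.mem_of_pow_mem p.2 n (hn ▸ p.asIdeal.zero_mem)
    obtain ⟨Q, -, hQ, hQp⟩ := Ideal.exists_ideal_over_prime_of_isIntegral p.asIdeal ⊥ hle
    exact ⟨⟨Q, hQ⟩, PrimeSpectrum.ext hQp⟩
  refine ⟨?_, ?_⟩
  · rw [isHomeomorph_iff_continuous_isClosedMap_bijective]
    exact ⟨PrimeSpectrum.continuous_comap f,
      PrimeSpectrum.isClosedMap_comap_of_isIntegral f (algebraMap_isIntegral_iff.mpr hint),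
      hinj, hsurj⟩
  · intro q _
    refine ⟨RingHom.injective _, ?_⟩
    set φ := Ideal.ResidueField.map (q.comap (algebraMap R S)) q (algebraMap R S) rfl with hφ
    have hS : ∀ s : S, ∃ y, φ y = algebraMap S q.ResidueField s := by
      intro s
      obtain ⟨r, t, ht, H⟩ := key (q.comap f) s
      have h1 := H q rfl
      have h2 : algebraMap S q.ResidueField (f t * s - f r) = 0 :=
        Ideal.algebraMap_residueField_eq_zero.mpr h1
      rw [map_sub, map_mul, sub_eq_zero] at h2
      have ht' : algebraMap S q.ResidueField (f t) ≠ 0 := by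
        rw [Ne, Ideal.algebraMap_residueField_eq_zero]
        exact ht
      refine ⟨algebraMap R _ r / algebraMap R _ t, ?_⟩
      rw [map_div₀, hφ, Ideal.ResidueField.map_algebraMap, Ideal.ResidueField.map_algebraMap,
        div_eq_iff ht', mul_comm]
      exact h2.symm
    intro z
    obtain ⟨a, b, hb, rfl⟩ := IsFractionRing.div_surjective (A := S ⧸ q) z
    obtain ⟨a, rfl⟩ := Ideal.Quotient.mk_surjective a
    obtain ⟨b, rfl⟩ := Ideal.Quotient.mk_surjective b
    obtain ⟨ya, hya⟩ := hS a
    obtain ⟨yb, hyb⟩ := hS b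
    refine ⟨ya / yb, ?_⟩
    rw [map_div₀, hya, hyb]
    rfl

end Groth.Agent.S9606
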