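import Groth.Statements.S9608
import Mathlib.FieldTheory.PurelyInseparable.PerfectClosure
import Mathlib.Algebra.CharP.Basic
import Mathlib.Algebra.CharP.Algebra
-- import your own Groth.Agent.* helpers here

set_option autoImplicit false
universe u
open CAlg

namespace Groth.Agent.S9608

/-- Let k'/k be a field extension and p a prime number. Then k' is generated over k by elements x for
which some n > 0 has x^(p^n) ∈ k and p^n x ∈ k, if and only if either k' = k, or k has
characteristic p and k'/k is purely inseparable. -/
theorem result {k k' : Type u} [Field k] [Field k'] [Algebra k k'] (p : ℕ) (hp : p.Prime) :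
    IntermediateField.adjoin k {x : k' | ∃ n : ℕ, 0 < n ∧ x ^ (p ^ n) ∈ Set.range (algebraMap k k') ∧ (p : k') ^ n * x ∈ Set.range (algebraMap k k')} = ⊤ ↔
      (Function.Surjective (algebraMap k k') ∨ (CharP k p ∧ IsPurelyInseparable k k')) := by
  classical
  constructor
  · intro h
    by_cases hchar : (p : k) = 0
    · right
      haveI : CharP k p := (CharP.charP_iff_prime_eq_zero hp).mpr hchar
      refine ⟨inferInstance, ?_⟩
      haveI : ExpChar k p := ExpChar.prime hp
      have h1 : IsPurelyInseparable k (IntermediateField.adjoin k {x : k' | ∃ n : ℕ, 0 < n ∧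
          x ^ (p ^ n) ∈ Set.range (algebraMap k k') ∧
          (p : k') ^ n * x ∈ Set.range (algebraMap k k')}) := by
        rw [IntermediateField.isPurelyInseparable_adjoin_iff_pow_mem k k' p]
        rintro x ⟨n, _, hx, _⟩
        exact ⟨n, hx⟩
      rw [h] at h1
      exact (IntermediateField.topEquiv (F := k) (E := k')).isPurelyInseparable
    · left
      have hpk' : (p : k') ≠ 0 := by
        have : (p : k') = algebraMap k k' (p : k) := by simp
        rw [this]; exact (map_ne_zero _).mpr hchar
      have hS : {x : k' | ∃ n : ℕ, 0 < n ∧ x ^ (p ^ n) ∈ Set.range (algebraMap k k') ∧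
          (p : k') ^ n * x ∈ Set.range (algebraMap k k')} ⊆
          ((⊥ : IntermediateField k k') : Set k') := by
        rintro x ⟨n, _, _, c, hc⟩
        rw [SetLike.mem_coe, IntermediateField.mem_bot]
        refine ⟨c / (p : k) ^ n, ?_⟩
        rw [map_div₀, hc, map_pow, map_natCast]
        field_simp
      have hbot : IntermediateField.adjoin k {x : k' | ∃ n : ℕ, 0 < n ∧
          x ^ (p ^ n) ∈ Set.range (algebraMap k k') ∧
          (p : k') ^ n * x ∈ Set.range (algebraMap k k')} = ⊥ := by
        rw [eq_bot_iff]; exact IntermediateField.adjoin_le_iff.mpr hS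
      rw [hbot] at h
      intro y
      have : y ∈ (⊥ : IntermediateField k k') := by rw [h]; trivial
      exact IntermediateField.mem_bot.mp this
  · rintro (hsurj | ⟨hchar, hpi⟩)
    · rw [eq_top_iff]
      intro y _
      obtain ⟨c, rfl⟩ := hsurj y
      exact IntermediateField.algebraMap_mem _ c
    · haveI := hchar
      haveI := hpi
      haveI : ExpChar k p := ExpChar.prime hp
      haveI : CharP k' p := charP_of_injective_algebraMap (algebraMap k k').injective p
      rw [eq_top_iff]
      intro y _
      apply IntermediateField.subset_adjoin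
      obtain ⟨n, c, hc⟩ := IsPurelyInseparable.pow_mem k p y
      refine ⟨n + 1, Nat.succ_pos n, ?_, ?_⟩
      · rw [pow_succ, pow_mul]
        exact ⟨c ^ p, by rw [map_pow, hc]⟩
      · refine ⟨0, ?_⟩
        rw [map_zero, CharP.cast_eq_zero k' p, zero_pow (Nat.succ_ne_zero n), zero_mul]

end Groth.Agent.S9608
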