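import Groth.Statements.S9610
import Mathlib
-- import your own Groth.Agent.* helpers here

set_option autoImplicit false
universe u
open CAlg

namespace Groth.Agent.S9610

/-- Let k be a field and V a nonzero k-vector space with dim_k V < #k as cardinals. Then every k-linear
endomorphism T of V admits a monic polynomial P over k for which P(T) is not invertible. -/
theorem result {k V : Type u} [Field k] [AddCommGroup V] [Module k V] [Nontrivial V] (hV : Module.rank k V < Cardinal.mk k) (T : Module.End k V) :
    ∃ P : Polynomial k, P.Monic ∧ ¬ IsUnit (Polynomial.aeval T P) := by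
  classical
  by_contra hcon
  push Not at hcon
  have hunit : ∀ Q : Polynomial k, Q ≠ 0 → IsUnit (Polynomial.aeval T Q) := by
    intro Q hQ
    have hlc : Q.leadingCoeff ≠ 0 := Polynomial.leadingCoeff_ne_zero.mpr hQ
    have hmon := hcon _ (Polynomial.monic_mul_leadingCoeff_inv hQ)
    have hQ' : Q = (Q * Polynomial.C Q.leadingCoeff⁻¹) * Polynomial.C Q.leadingCoeff := by
      rw [mul_assoc, ← Polynomial.C_mul, inv_mul_cancel₀ hlc, Polynomial.C_1, mul_one]
    rw [hQ', map_mul]
    refine hmon.mul ?_
    rw [Polynomial.aeval_C]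
    exact (IsUnit.mk0 _ hlc).map (algebraMap k (Module.End k V))
  obtain ⟨v, hv⟩ := exists_ne (0 : V)
  have hinj : ∀ Q : Polynomial k, Q ≠ 0 → Function.Injective (Polynomial.aeval T Q) :=
    fun Q hQ => ((Module.End.isUnit_iff _).mp (hunit Q hQ)).injective
  choose w hw using fun a : k =>
    ((Module.End.isUnit_iff _).mp (hunit (Polynomial.X - Polynomial.C a)
      (Polynomial.X_sub_C_ne_zero a))).surjective v
  have hli : LinearIndependent k w := by
    refine linearIndependent_iff'.2 fun s m hm i hi => ?_
    obtain ⟨p, hp⟩ : ∃ p : Polynomial k, p = s.sum fun i ↦ Polynomial.C (m i) *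
      (s.erase i).prod fun j ↦ Polynomial.X - Polynomial.C j := ⟨_, rfl⟩
    have key : Polynomial.aeval T p v = 0 := by
      have h1 : ∀ i ∈ s, Polynomial.aeval T (Polynomial.C (m i) *
          (s.erase i).prod fun j ↦ Polynomial.X - Polynomial.C j) v =
          Polynomial.aeval T (s.prod fun j ↦ Polynomial.X - Polynomial.C j) (m i • w i) := by
        intro i hi
        rw [← s.prod_erase_mul _ hi, map_mul, map_mul, Module.End.mul_apply,
          Module.End.mul_apply, map_smul, hw i, Polynomial.aeval_C, map_smul]
        rfl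
      rw [hp, map_sum, LinearMap.sum_apply, Finset.sum_congr rfl h1, ← map_sum, hm, map_zero]
    have hp0 : p = 0 := by
      by_contra hp0
      exact hv (hinj p hp0 (by rw [key, map_zero]))
    have hm' := congr(Polynomial.eval i $hp0)
    have h2 : ∀ j ∈ s.erase i, m j * ((s.erase j).prod fun x ↦ i - x) = 0 := fun j hj ↦ by
      have := Finset.mem_erase_of_ne_of_mem (Finset.ne_of_mem_erase hj).symm hi
      simp_rw [← (s.erase j).prod_erase_mul _ this, sub_self, mul_zero]
    simp_rw [hp, Polynomial.eval_finset_sum, Polynomial.eval_mul, Polynomial.eval_prod,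
      Polynomial.eval_sub, Polynomial.eval_X, Polynomial.eval_C, Polynomial.eval_zero,
      ← s.sum_erase_add _ hi, Finset.sum_eq_zero h2, zero_add] at hm'
    exact eq_zero_of_ne_zero_of_mul_right_eq_zero (Finset.prod_ne_zero_iff.2 fun j hj ↦
      sub_ne_zero.2 (Finset.ne_of_mem_erase hj).symm) hm'
  exact absurd (hli.cardinal_le_rank.trans_lt hV) (lt_irrefl _)

end Groth.Agent.S9610
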