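import Groth.Statements.S9611
-- import your own Groth.Agent.* helpers here

set_option autoImplicit false
universe u
open CAlg

namespace Groth.Agent.S9611

/-- Let R be a Jacobson ring, p a prime ideal of R which is not maximal, and f an element of R not in p.
Then the set of primes of R containing p and not containing f is infinite. -/
theorem result {R : Type u} [CommRing R] [IsJacobsonRing R] (p : Ideal R) [p.IsPrime] (hp : ¬ p.IsMaximal) (f : R) (hf : f ∉ p) :
    {q : PrimeSpectrum R | p ≤ q.asIdeal ∧ f ∉ q.asIdeal}.Infinite := by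
  classical
  intro hfin
  -- maximal ideals above p not containing f form a finite set
  let φ : {q : PrimeSpectrum R | p ≤ q.asIdeal ∧ f ∉ q.asIdeal} → Ideal R := fun q => q.1.asIdeal
  have hS2 : {m : Ideal R | p ≤ m ∧ m.IsMaximal ∧ f ∉ m}.Finite := by
    haveI : Finite {q : PrimeSpectrum R | p ≤ q.asIdeal ∧ f ∉ q.asIdeal} := hfin
    apply (Set.finite_range φ).subset
    rintro m ⟨hpm, hmax, hfm⟩
    exact ⟨⟨⟨m, hmax.isPrime⟩, hpm, hfm⟩, rfl⟩
  obtain ⟨T, hT⟩ := hS2.exists_finset_coe
  have hjac : p.jacobson = p := IsJacobsonRing.out' p (Ideal.IsPrime.isRadical inferInstance)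
  have hle : T.inf id ≤ p := by
    intro g hg
    have hfg : f * g ∈ p.jacobson := by
      rw [Ideal.jacobson, Ideal.mem_sInf]
      rintro m ⟨hpm, hmax⟩
      by_cases hfm : f ∈ m
      · exact m.mul_mem_right _ hfm
      · have hmT : m ∈ T := by
          have : m ∈ (T : Set (Ideal R)) := by rw [hT]; exact ⟨hpm, hmax, hfm⟩
          exact this
        have : T.inf id ≤ id m := Finset.inf_le hmT
        exact m.mul_mem_left _ (this hg)
    rw [hjac] at hfg
    exact (Ideal.IsPrime.mem_or_mem inferInstance hfg).resolve_left hf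
  obtain ⟨m, hmT, hmp⟩ := (Ideal.IsPrime.inf_le' (inferInstance : p.IsPrime)).mp hle
  have hm : m ∈ {m : Ideal R | p ≤ m ∧ m.IsMaximal ∧ f ∉ m} := by
    rw [← hT]; exact hmT
  obtain ⟨hpm, hmax, _⟩ := hm
  have : m = p := le_antisymm hmp hpm
  exact hp (this ▸ hmax)

end Groth.Agent.S9611
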