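import Groth.Statements.S9615
import Mathlib.RingTheory.Polynomial.IsIntegral

set_option autoImplicit false
universe u
open CAlg

namespace Groth.Agent.S9615

section helpers
open Polynomial DirectSum

section
variable {S : Type u} [CommRing S] (𝒮 : ℕ → AddSubgroup S) [GradedRing 𝒮]

/-- The ring hom `s ↦ ∑ sᵢ Xⁱ`. -/
noncomputable def phi : S →+* S[X] :=
  (DirectSum.toSemiring (fun i => (monomial i : S →ₗ[S] S[X]).toAddMonoidHom.comp (𝒮 i).subtype)
    (by simp)
    (by
      intro i j ai aj
      simp only [AddMonoidHom.coe_comp, LinearMap.toAddMonoidHom_coe, Function.comp_apply,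
        AddSubgroup.coe_subtype, monomial_mul_monomial]
      rfl)).comp (DirectSum.decomposeRingEquiv 𝒮).toRingHom

theorem phi_coeff (s : S) (i : ℕ) : (phi 𝒮 s).coeff i = (DirectSum.decompose 𝒮 s i : S) := by
  induction s using DirectSum.Decomposition.inductionOn 𝒮 with
  | zero => simp
  | homogeneous m =>
    rename_i j
    have h0 : DirectSum.decomposeRingEquiv 𝒮 (m : S) = DirectSum.of (fun i => 𝒮 i) j m :=
      DirectSum.decompose_coe 𝒮 m
    have h1 : phi 𝒮 (m : S) = monomial j (m : S) := by
      simp only [phi, RingHom.coe_comp, Function.comp_apply, RingEquiv.toRingHom_eq_coe,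
        RingHom.coe_coe]
      rw [h0, DirectSum.toSemiring_of]
      rfl
    rw [h1, coeff_monomial]
    by_cases hji : j = i
    · subst hji
      rw [if_pos rfl, DirectSum.decompose_coe, DirectSum.of_eq_same]
    · rw [if_neg hji, DirectSum.decompose_coe, DirectSum.of_eq_of_ne _ _ _ (fun h => hji h.symm)]
      rfl
  | add a b ha hb =>
    rw [map_add, coeff_add, ha, hb, DirectSum.decompose_add, DirectSum.add_apply]
    rfl

end

attribute [local instance] Polynomial.algebra in
theorem main {R S : Type u} [CommRing R] [CommRing S] [Algebra R S] (ℛ : ℕ → AddSubgroup R) [GradedRing ℛ] (𝒮 : ℕ → AddSubgroup S) [GradedRing 𝒮]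
    (hmap : ∀ i : ℕ, ∀ r ∈ ℛ i, algebraMap R S r ∈ 𝒮 i) (s : S) (hs : IsIntegral R s) (i : ℕ) :
    IsIntegral R ((DirectSum.decompose 𝒮 s i : 𝒮 i) : S) := by
  have hdec : ∀ (r : R) (i : ℕ), (DirectSum.decompose 𝒮 (algebraMap R S r) i : S) =
      algebraMap R S (DirectSum.decompose ℛ r i : R) := by
    intro r i
    induction r using DirectSum.Decomposition.inductionOn ℛ with
    | zero => simp
    | homogeneous m =>
      rename_i j
      have hm : algebraMap R S (m : R) ∈ 𝒮 j := hmap j m m.2
      by_cases hji : j = i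
      · subst hji
        rw [DirectSum.decompose_of_mem_same 𝒮 hm, DirectSum.decompose_coe, DirectSum.of_eq_same]
      · rw [DirectSum.decompose_of_mem_ne 𝒮 hm hji, DirectSum.decompose_coe,
          DirectSum.of_eq_of_ne _ _ _ (fun h => hji h.symm)]
        simp
    | add a b ha hb =>
      simp only [map_add, DirectSum.decompose_add, DirectSum.add_apply, AddSubgroup.coe_add, ha, hb]
  have hcomp : (algebraMap R[X] S[X]).comp (phi ℛ) = (phi 𝒮).comp (algebraMap R S) := by
    ext r n
    simp only [RingHom.coe_comp, Function.comp_apply, algebraMap_def, coe_mapRingHom, coeff_map,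
      phi_coeff, hdec]
  have h1 : IsIntegral R[X] (phi 𝒮 s) := IsIntegral.map_of_comp_eq (phi ℛ) (phi 𝒮) hcomp hs
  have h2 := h1.coeff i
  rwa [phi_coeff] at h2


end helpers


/-- Let R → S be a homomorphism of ℕ-graded rings, i.e. the structure map carries each graded piece R_i
into S_i. If an element s of S is integral over R, then each homogeneous component of s is integral
over R; so the integral closure of R in S is a graded subring of S. -/
theorem result {R S : Type u} [CommRing R] [CommRing S] [Algebra R S] (ℛ : ℕ → AddSubgroup R) [GradedRing ℛ] (𝒮 : ℕ → AddSubgroup S) [GradedRing 𝒮]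
    (hmap : ∀ i : ℕ, ∀ r ∈ ℛ i, algebraMap R S r ∈ 𝒮 i) (s : S) (hs : IsIntegral R s) (i : ℕ) :
    IsIntegral R ((DirectSum.decompose 𝒮 s i : 𝒮 i) : S) := by
  exact main ℛ 𝒮 hmap s hs i

end Groth.Agent.S9615
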