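import Groth.Statements.S9620
import Mathlib.RingTheory.Spectrum.Prime.RingHom
-- import your own Groth.Agent.* helpers here

set_option autoImplicit false
universe u
open CAlg

namespace Groth.Agent.S9620


theorem exists_idem_of_mem_span {R : Type u} [CommRing R] (p : PrimeSpectrum R) (z : R)
    (hz : z ∈ Ideal.span {e : R | IsIdempotentElem e ∧ e ∈ p.asIdeal}) :
    ∃ e : R, IsIdempotentElem e ∧ e ∈ p.asIdeal ∧ ∃ y, z = e * y := by
  induction hz using Submodule.span_induction with
  | mem z hz => exact ⟨z, hz.1, hz.2, 1, (mul_one z).symm⟩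
  | zero => exact ⟨0, IsIdempotentElem.zero, zero_mem _, 0, by simp⟩
  | add z1 z2 _ _ h1 h2 =>
    obtain ⟨e1, he1, hp1, y1, rfl⟩ := h1
    obtain ⟨e2, he2, hp2, y2, rfl⟩ := h2
    refine ⟨e1 + e2 - e1 * e2, he1.add_sub_mul he2, ?_, e1 * y1 + e2 * y2, ?_⟩
    · exact sub_mem (add_mem hp1 hp2) (Ideal.mul_mem_right _ _ hp1)
    · have h1' : e1 * e1 = e1 := he1.eq
      have h2' : e2 * e2 = e2 := he2.eq
      linear_combination (-y1 + e2 * y1) * h1' + (-y2 + e1 * y2) * h2'
  | smul a z _ h =>
    obtain ⟨e, he, hp, y, rfl⟩ := h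
    exact ⟨e, he, hp, a * y, by rw [smul_eq_mul]; ring⟩

/-- For a ring R and a point p of Spec R, the connected component of p is the zero locus of the ideal I
generated by the idempotents of R contained in p, and every idempotent e of R satisfies e ∈ I or 1 -
e ∈ I (e maps to 0 or 1 in R/I). -/
theorem result {R : Type u} [CommRing R] (p : PrimeSpectrum R) :
    connectedComponent p = PrimeSpectrum.zeroLocus {e : R | IsIdempotentElem e ∧ e ∈ p.asIdeal} ∧
      ∀ e : R, IsIdempotentElem e → (e ∈ Ideal.span {e : R | IsIdempotentElem e ∧ e ∈ p.asIdeal} ∨ 1 - e ∈ Ideal.span {e : R | IsIdempotentElem e ∧ e ∈ p.asIdeal}) := by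
  classical
  have hsecond : ∀ e : R, IsIdempotentElem e →
      (e ∈ Ideal.span {e : R | IsIdempotentElem e ∧ e ∈ p.asIdeal} ∨
        1 - e ∈ Ideal.span {e : R | IsIdempotentElem e ∧ e ∈ p.asIdeal}) := by
    intro e he
    have h0 : e * (1 - e) ∈ p.asIdeal := by
      rw [mul_sub, mul_one, he.eq, sub_self]; exact zero_mem _
    rcases p.2.mem_or_mem h0 with h | h
    · exact Or.inl (Ideal.subset_span ⟨he, h⟩)
    · exact Or.inr (Ideal.subset_span ⟨he.one_sub, h⟩)
  refine ⟨?_, hsecond⟩
  apply Set.Subset.antisymm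
  · intro q hq
    rw [PrimeSpectrum.mem_zeroLocus]
    rintro e ⟨he, hep⟩
    have hclopen : IsClopen (PrimeSpectrum.zeroLocus ({e} : Set R)) := by
      rw [PrimeSpectrum.isClopen_iff_mul_add_zeroLocus]
      exact ⟨e, 1 - e, by rw [mul_sub, mul_one, he.eq, sub_self], by ring, rfl⟩
    have hp_mem : p ∈ PrimeSpectrum.zeroLocus ({e} : Set R) := by
      rw [PrimeSpectrum.mem_zeroLocus, Set.singleton_subset_iff]; exact hep
    have := hclopen.connectedComponent_subset hp_mem hq
    rw [PrimeSpectrum.mem_zeroLocus, Set.singleton_subset_iff] at this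
    exact this
  · have hpE : p ∈ PrimeSpectrum.zeroLocus {e : R | IsIdempotentElem e ∧ e ∈ p.asIdeal} := by
      rw [PrimeSpectrum.mem_zeroLocus]
      rintro e ⟨_, hep⟩
      exact hep
    refine IsPreconnected.subset_connectedComponent ?_ hpE
    have hrange : Set.range (PrimeSpectrum.comap (Ideal.Quotient.mk
        (Ideal.span {e : R | IsIdempotentElem e ∧ e ∈ p.asIdeal}))) =
        PrimeSpectrum.zeroLocus {e : R | IsIdempotentElem e ∧ e ∈ p.asIdeal} := by
      rw [range_comap_of_surjective _ _ Ideal.Quotient.mk_surjective, Ideal.mk_ker,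
        PrimeSpectrum.zeroLocus_span]
    rw [← hrange]
    haveI : PreconnectedSpace (PrimeSpectrum (R ⧸
        Ideal.span {e : R | IsIdempotentElem e ∧ e ∈ p.asIdeal})) := by
      rw [preconnectedSpace_iff_clopen]
      intro s hs
      obtain ⟨ebar, hebar, rfl⟩ := PrimeSpectrum.exists_idempotent_basicOpen_eq_of_isClopen hs
      obtain ⟨x, rfl⟩ := Ideal.Quotient.mk_surjective ebar
      have hx : x * x - x ∈ Ideal.span {e : R | IsIdempotentElem e ∧ e ∈ p.asIdeal} := by
        rw [← Ideal.Quotient.eq, map_mul]; exact hebar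
      obtain ⟨e, he, hep, y, hy⟩ := exists_idem_of_mem_span p _ hx
      have he' : IsIdempotentElem (x * (1 - e)) := by
        have h1 : e * e = e := he.eq
        show x * (1 - e) * (x * (1 - e)) = x * (1 - e)
        linear_combination (1 - e) * hy + (x * x - y) * h1
      have hmk : Ideal.Quotient.mk (Ideal.span {e : R | IsIdempotentElem e ∧ e ∈ p.asIdeal}) x =
          Ideal.Quotient.mk _ (x * (1 - e)) := by
        rw [Ideal.Quotient.eq]
        have : x - x * (1 - e) = x * e := by ring
        rw [this]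
        exact Ideal.mul_mem_left _ _ (Ideal.subset_span ⟨he, hep⟩)
      rw [hmk]
      rcases hsecond _ he' with h | h
      · left
        rw [Ideal.Quotient.eq_zero_iff_mem.mpr h]
        simp
      · right
        have : Ideal.Quotient.mk (Ideal.span {e : R | IsIdempotentElem e ∧ e ∈ p.asIdeal})
            (x * (1 - e)) = 1 := by
          rw [← sub_eq_zero, ← map_one (Ideal.Quotient.mk _), ← map_sub,
            Ideal.Quotient.eq_zero_iff_mem, ← neg_sub]
          exact neg_mem h
        rw [this]
        simp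
    exact isPreconnected_range (PrimeSpectrum.continuous_comap _)

end Groth.Agent.S9620
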