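import Groth.Statements.S9618
import Groth.Agent.S9620
-- import your own Groth.Agent.* helpers here

set_option autoImplicit false
universe u
open CAlg

namespace Groth.Agent.S9618

/-- For a ring R and a subset T of Spec R the following are equivalent: (1) T is closed and contains the
connected component of each of its points; (2) T can be written as an intersection of subsets of
Spec R that are both open and closed; (3) T is the common zero locus of some set of idempotent
elements of R (equivalently, of the ideal they generate). -/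
theorem result {R : Type u} [CommRing R] (T : Set (PrimeSpectrum R)) :
    [IsClosed T ∧ ∀ x ∈ T, connectedComponent x ⊆ T,
      ∃ U : Set (Set (PrimeSpectrum R)), (∀ u ∈ U, IsClopen u) ∧ T = ⋂₀ U,
      ∃ E : Set R, (∀ e ∈ E, IsIdempotentElem e) ∧ T = PrimeSpectrum.zeroLocus E].TFAE := by
  classical
  have hclopen_e : ∀ e : R, IsIdempotentElem e →
      IsClopen (PrimeSpectrum.zeroLocus ({e} : Set R)) := by
    intro e he
    rw [PrimeSpectrum.isClopen_iff_mul_add_zeroLocus]
    exact ⟨e, 1 - e, by rw [mul_sub, mul_one, he.eq, sub_self], by ring, rfl⟩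
  tfae_have 1 → 2 := by
    rintro ⟨hT, hcomp⟩
    refine ⟨{u | IsClopen u ∧ T ⊆ u}, fun u hu => hu.1, ?_⟩
    apply Set.Subset.antisymm
    · intro t ht u hu
      exact hu.2 ht
    · intro x hx
      by_contra hxT
      have hex : ∀ t : T, ∃ e : R, IsIdempotentElem e ∧ e ∈ t.1.asIdeal ∧ e ∉ x.asIdeal := by
        intro t
        have hxt : x ∉ connectedComponent t.1 := fun h => hxT (hcomp t.1 t.2 h)
        rw [(Groth.Agent.S9620.result t.1).1, PrimeSpectrum.mem_zeroLocus, Set.not_subset] at hxt
        obtain ⟨e, ⟨he, het⟩, hex⟩ := hxt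
        exact ⟨e, he, het, hex⟩
      choose e he het hex using hex
      have hcompact : IsCompact T := hT.isCompact
      obtain ⟨F, hF⟩ := hcompact.elim_finite_subcover
        (fun t : T => PrimeSpectrum.zeroLocus ({e t} : Set R))
        (fun t => (hclopen_e _ (he t)).isOpen)
        (fun t ht => Set.mem_iUnion.mpr ⟨⟨t, ht⟩, by
          rw [PrimeSpectrum.mem_zeroLocus, Set.singleton_subset_iff]; exact het ⟨t, ht⟩⟩)
      have hU0 : IsClopen (⋃ t ∈ F, PrimeSpectrum.zeroLocus ({e t} : Set R)) :=
        isClopen_biUnion_finset (fun t _ => hclopen_e _ (he t))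
      have hxU0 := hx _ ⟨hU0, hF⟩
      simp only [Set.mem_iUnion, PrimeSpectrum.mem_zeroLocus, Set.singleton_subset_iff] at hxU0
      obtain ⟨t, _, hxt⟩ := hxU0
      exact hex t hxt
  tfae_have 2 → 3 := by
    rintro ⟨U, hU, rfl⟩
    have hex : ∀ u : U, ∃ e : R, IsIdempotentElem e ∧ u.1 = PrimeSpectrum.zeroLocus ({e} : Set R) := by
      intro u
      obtain ⟨e, f, hmul, hadd, hu⟩ := PrimeSpectrum.isClopen_iff_mul_add_zeroLocus.mp (hU u.1 u.2)
      exact ⟨e, (IsIdempotentElem.of_mul_add hmul hadd).1, hu⟩
    choose e he hu using hex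
    refine ⟨Set.range e, ?_, ?_⟩
    · rintro _ ⟨u, rfl⟩; exact he u
    · ext q
      simp only [Set.mem_sInter, PrimeSpectrum.mem_zeroLocus]
      constructor
      · rintro h _ ⟨u, rfl⟩
        have := h u.1 u.2
        rw [hu u, PrimeSpectrum.mem_zeroLocus, Set.singleton_subset_iff] at this
        exact this
      · intro h u huU
        have h1 : u = PrimeSpectrum.zeroLocus ({e ⟨u, huU⟩} : Set R) := hu ⟨u, huU⟩
        rw [h1, PrimeSpectrum.mem_zeroLocus, Set.singleton_subset_iff]
        exact h ⟨⟨u, huU⟩, rfl⟩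
  tfae_have 3 → 1 := by
    rintro ⟨E, hE, rfl⟩
    refine ⟨PrimeSpectrum.isClosed_zeroLocus E, ?_⟩
    intro x hx y hy
    rw [PrimeSpectrum.mem_zeroLocus] at hx ⊢
    intro e heE
    have hxe : x ∈ PrimeSpectrum.zeroLocus ({e} : Set R) := by
      rw [PrimeSpectrum.mem_zeroLocus, Set.singleton_subset_iff]; exact hx heE
    have := (hclopen_e e (hE e heE)).connectedComponent_subset hxe hy
    rw [PrimeSpectrum.mem_zeroLocus, Set.singleton_subset_iff] at this
    exact this
  tfae_finish

end Groth.Agent.S9618
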