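import Groth.Statements.S9619
-- import your own Groth.Agent.* helpers here

set_option autoImplicit false
universe u
open CAlg

namespace Groth.Agent.S9619

/-- For a ring R and two sets E, E' of idempotent elements of R with the same zero locus in Spec R, the
ideals generated by E and by E' are equal. -/
theorem span_le_of_zeroLocus {R : Type u} [CommRing R] (E E' : Set R)
    (hE' : ∀ e ∈ E', IsIdempotentElem e)
    (h : PrimeSpectrum.zeroLocus E = PrimeSpectrum.zeroLocus E') :
    Ideal.span E' ≤ Ideal.span E := by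
  rw [Ideal.span_le]
  intro e he
  have h1 : PrimeSpectrum.vanishingIdeal (PrimeSpectrum.zeroLocus E) =
      PrimeSpectrum.vanishingIdeal (PrimeSpectrum.zeroLocus E') := by rw [h]
  rw [← PrimeSpectrum.zeroLocus_span E, ← PrimeSpectrum.zeroLocus_span E',PrimeSpectrum.vanishingIdeal_zeroLocus_eq_radical,
    PrimeSpectrum.vanishingIdeal_zeroLocus_eq_radical] at h1
  have h2 : e ∈ (Ideal.span E).radical := by
    rw [h1]
    exact Ideal.le_radical (Ideal.subset_span he)
  obtain ⟨n, hn⟩ := h2
  rcases Nat.eq_zero_or_pos n with rfl | hpos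
  · rw [pow_zero] at hn
    rw [(Ideal.eq_top_iff_one _).mpr hn]
    trivial
  · have h3 := (hE' e he).pow_succ_eq (n - 1)
    rw [Nat.sub_add_cancel hpos] at h3
    rwa [h3] at hn

theorem result {R : Type u} [CommRing R] (E E' : Set R) (hE : ∀ e ∈ E, IsIdempotentElem e) (hE' : ∀ e ∈ E', IsIdempotentElem e) (h : PrimeSpectrum.zeroLocus E = PrimeSpectrum.zeroLocus E') :
    Ideal.span E = Ideal.span E' := by
  exact le_antisymm (span_le_of_zeroLocus E' E hE h.symm) (span_le_of_zeroLocus E E' hE' h)

end Groth.Agent.S9619
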