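import Groth.Statements.S9621
import Mathlib.RingTheory.Spectrum.Prime.Topology

set_option autoImplicit false
universe u
open CAlg

namespace Groth.Agent.S9621

theorem exists_mul_pow_eq_zero {R : Type u} [CommRing R] {p : Ideal R} (hp : p ∈ minimalPrimes R)
    {x : R} (hx : x ∈ p) : ∃ s ∉ p, ∃ n : ℕ, s * x ^ n = 0 := by
  have hpp : p.IsPrime := hp.1.1
  by_contra h
  push Not at h
  let M : Submonoid R := p.primeCompl ⊔ Submonoid.powers x
  have hM : Disjoint ((⊥ : Ideal R) : Set R) M := by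
    rw [Set.disjoint_left]
    intro y hy hyM
    rw [SetLike.mem_coe, Ideal.mem_bot] at hy
    obtain ⟨s, hs, z, ⟨n, rfl⟩, hsz⟩ := Submonoid.mem_sup.mp hyM
    exact h s hs n (hsz.trans hy)
  obtain ⟨q, hq, _, hqM⟩ := Ideal.exists_le_prime_disjoint ⊥ M hM
  have hqp : q ≤ p := by
    intro y hy
    by_contra hyp
    exact Set.disjoint_left.mp hqM hy (Submonoid.mem_sup_left hyp)
  have hpq : p ≤ q := hp.2 ⟨hq, bot_le⟩ hqp
  exact Set.disjoint_left.mp hqM (hpq hx) (Submonoid.mem_sup_right (Submonoid.mem_powers x))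

theorem main {R : Type u} [CommRing R] (p : PrimeSpectrum R) (hp : p.asIdeal ∈ minimalPrimes R)
    (W : Set (PrimeSpectrum R)) (hWo : IsOpen W) (hWc : IsCompact W) (hpW : p ∉ W) :
    ∃ f : R, f ∉ p.asIdeal ∧ Disjoint (PrimeSpectrum.basicOpen f : Set (PrimeSpectrum R)) W := by
  classical
  obtain ⟨t, rfl⟩ := PrimeSpectrum.isCompact_isOpen_iff.mp ⟨hWc, hWo⟩
  have htp : ∀ g ∈ t, g ∈ p.asIdeal := by
    intro g hg
    have : p ∈ PrimeSpectrum.zeroLocus (t : Set R) := by
      by_contra h; exact hpW h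
    exact this hg
  choose! s hs n hn using fun g (hg : g ∈ t) => exists_mul_pow_eq_zero hp (htp g hg)
  refine ⟨∏ g ∈ t, s g, ?_, ?_⟩
  · intro h
    obtain ⟨g, hg, hsg⟩ := (p.isPrime.prod_mem_iff).mp h
    exact hs g hg hsg
  · rw [Set.disjoint_left]
    intro q hq hqW
    apply hqW
    intro g hg
    have hq' : (∏ g ∈ t, s g) ∉ q.asIdeal := hq
    have hsq : s g ∉ q.asIdeal := by
      intro h
      apply hq'
      obtain ⟨c, hc⟩ := Finset.dvd_prod_of_mem s hg
      rw [hc]; exact Ideal.mul_mem_right _ _ h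
    have h0 : s g * g ^ n g ∈ q.asIdeal := by rw [hn g hg]; exact Ideal.zero_mem _
    rcases q.isPrime.mem_or_mem h0 with h1 | h1
    · exact absurd h1 hsq
    · exact q.isPrime.mem_of_pow_mem _ h1


/-- Let R be a ring, p a minimal prime of R and W a quasi-compact open subset of Spec R not containing
p. Then there is an f ∈ R, f ∉ p, whose basic open D(f) is disjoint from W. -/
theorem result {R : Type u} [CommRing R] (p : PrimeSpectrum R) (hp : p.asIdeal ∈ minimalPrimes R) (W : Set (PrimeSpectrum R)) (hWo : IsOpen W) (hWc : IsCompact W) (hpW : p ∉ W) :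
    ∃ f : R, f ∉ p.asIdeal ∧ Disjoint (PrimeSpectrum.basicOpen f : Set (PrimeSpectrum R)) W := by
  exact main p hp W hWo hWc hpW

end Groth.Agent.S9621
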