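import Groth.Statements.S9622
import Mathlib.RingTheory.Finiteness.NilpotentKer
import Mathlib.RingTheory.KrullDimension.Zero
import Mathlib.RingTheory.HopkinsLevitzki

set_option autoImplicit false
universe u
open CAlg

namespace Groth.Agent.S9622

open IsLocalRing

variable {R S : Type u} [CommRing R] [CommRing S] [Algebra R S] [IsArtinianRing S] [IsLocalRing S]


theorem finite_of_quot [Module.Finite R (S ⧸ maximalIdeal S)] : Module.Finite R S := by
  refine Module.finite_of_surjective_of_ker_le_nilradical (Ideal.Quotient.mkₐ R (maximalIdeal S))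
    Ideal.Quotient.mk_surjective ?_ ?_
  · rw [← RingHom.ker_coe_toRingHom, Ideal.Quotient.mkₐ_ker,
      ← Ring.KrullDimLE.nilradical_eq_maximalIdeal]
  · rw [← RingHom.ker_coe_toRingHom, Ideal.Quotient.mkₐ_ker]
    exact IsNoetherian.noetherian _

theorem finiteType_of_quot [Algebra.FiniteType R (S ⧸ maximalIdeal S)] : Algebra.FiniteType R S := by
  classical
  obtain ⟨s, hs⟩ := (Algebra.FiniteType.out : (⊤ : Subalgebra R (S ⧸ maximalIdeal S)).FG)
  let lift : S ⧸ maximalIdeal S → S := Function.surjInv Ideal.Quotient.mk_surjective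
  have hlift : ∀ y, Ideal.Quotient.mk (maximalIdeal S) (lift y) = y :=
    Function.surjInv_eq Ideal.Quotient.mk_surjective
  let T : Subalgebra R S := Algebra.adjoin R (↑(s.image lift) : Set S)
  have hTfg : T.FG := Subalgebra.fg_adjoin_finset _
  have hT : Algebra.FiniteType R T := (Subalgebra.fg_iff_finiteType T).mp hTfg
  have hsurj : Function.Surjective (algebraMap T (S ⧸ maximalIdeal S)) := by
    have h1 : T.map (Ideal.Quotient.mkₐ R (maximalIdeal S)) = ⊤ := by
      rw [AlgHom.map_adjoin, ← hs]
      congr 1
      ext y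
      simp only [Finset.coe_image, Set.mem_image, Finset.mem_coe, exists_exists_and_eq_and]
      constructor
      · rintro ⟨z, hz, rfl⟩
        rw [Ideal.Quotient.mkₐ_eq_mk, hlift]; exact hz
      · intro hy
        exact ⟨y, hy, by rw [Ideal.Quotient.mkₐ_eq_mk, hlift]⟩
    intro y
    have : y ∈ T.map (Ideal.Quotient.mkₐ R (maximalIdeal S)) := by rw [h1]; trivial
    obtain ⟨x, hx, rfl⟩ := this
    exact ⟨⟨x, hx⟩, rfl⟩
  have hfin : Module.Finite T (S ⧸ maximalIdeal S) :=
    Module.Finite.of_surjective (Algebra.linearMap T (S ⧸ maximalIdeal S)) hsurj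
  have hfin' : Module.Finite T S := finite_of_quot
  exact Algebra.FiniteType.trans hT inferInstance

theorem main : (Module.Finite R S ↔ Module.Finite R (S ⧸ IsLocalRing.maximalIdeal S)) ∧
      (Algebra.FiniteType R S ↔ Algebra.FiniteType R (S ⧸ IsLocalRing.maximalIdeal S)) := by
  refine ⟨⟨fun h => inferInstance, fun h => finite_of_quot⟩, ⟨fun h => inferInstance, fun h => finiteType_of_quot⟩⟩


/-- Let R → S be a ring map whose target S is a local Artinian ring, and write m for the maximal ideal
of S. Then S is a finite R-module exactly when S/m is, and S is an R-algebra of finite type exactly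
when S/m is. -/
theorem result {R S : Type u} [CommRing R] [CommRing S] [Algebra R S] [IsArtinianRing S] [IsLocalRing S] :
    (Module.Finite R S ↔ Module.Finite R (S ⧸ IsLocalRing.maximalIdeal S)) ∧
      (Algebra.FiniteType R S ↔ Algebra.FiniteType R (S ⧸ IsLocalRing.maximalIdeal S)) := by
  exact main

end Groth.Agent.S9622
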