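import Groth.Statements.S9624
import Mathlib
import Groth.Agent.Lib.Helper22.GeomConn2
-- import your own Groth.Agent.* helpers here

set_option autoImplicit false
universe u
open CAlg

namespace Groth.Agent.S9624

open TensorProduct in
/-- Let k be a field, S a geometrically connected k-algebra (the spectrum of k' ⊗_k S is connected for
every field extension k'/k) and R any k-algebra. Then the map R → R ⊗_k S induces a bijection on
idempotents: each idempotent of R ⊗_k S comes from exactly one idempotent of R. Here the test fields
range over field extensions in the universe of k; this is equivalent to the unrestricted notion,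
since an algebraic closure of k suffices as a test. -/
theorem result {k R S : Type u} [Field k] [CommRing R] [CommRing S] [Algebra k R] [Algebra k S]
    (hS : ∀ (k' : Type u) [Field k'] [Algebra k k'], ConnectedSpace (PrimeSpectrum (k' ⊗[k] S)))
    (x : R ⊗[k] S) (hx : IsIdempotentElem x) :
    ∃! e : R, IsIdempotentElem e ∧ algebraMap R (R ⊗[k] S) e = x := by
  obtain ⟨e, he, hex⟩ := Groth.Agent.Lib.Helper22.GeomConn2.exists_idempotent_of_geomConn hS x hx
  refine ⟨e, ⟨he, hex⟩, ?_⟩
  rintro e' ⟨-, he'⟩
  have hne : Nonempty (PrimeSpectrum (k ⊗[k] S)) := (hS k).toNonempty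
  have hnt : Nontrivial (k ⊗[k] S) := PrimeSpectrum.nonempty_iff_nontrivial.mp hne
  have hS' : Nontrivial S := by
    by_contra hcon
    rw [not_nontrivial_iff_subsingleton] at hcon
    have : Subsingleton (k ⊗[k] S) := by
      refine ⟨fun a b => ?_⟩
      have h0 : ∀ z : k ⊗[k] S, z = 0 := by
        intro z
        induction z using TensorProduct.induction_on with
        | zero => rfl
        | tmul a s => rw [Subsingleton.elim s 0, TensorProduct.tmul_zero]
        | add a b ha hb => rw [ha, hb, add_zero]
      rw [h0 a, h0 b]
    exact not_subsingleton _ this
  have hinj : Function.Injective (algebraMap R (R ⊗[k] S)) :=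
    Algebra.TensorProduct.includeLeft_injective (S := R) (R := k) (algebraMap k S).injective
  exact hinj (by rw [he', hex])

end Groth.Agent.S9624
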