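import Groth.Statements.S9633
import Mathlib.RingTheory.Spectrum.Prime.Topology
import Mathlib.RingTheory.Localization.Away.Basic
import Mathlib.Topology.Connected.Separation

set_option autoImplicit false
universe u
open CAlg

namespace Groth.Agent.S9633

open PrimeSpectrum

variable {R : Type u} [CommRing R]

theorem h52 (h : ∀ p q : PrimeSpectrum R, p ≤ q → p = q) (f : R) :
    IsClosed (PrimeSpectrum.basicOpen f : Set (PrimeSpectrum R)) := by
  rw [← localization_away_comap_range (Localization.Away f) f]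
  apply isClosed_range_of_stableUnderSpecialization
  intro x y hxy hx
  have := h x y ((le_iff_specializes x y).mpr hxy)
  rwa [← this]

theorem h8_sep (h : ∀ f : R, IsClosed (PrimeSpectrum.basicOpen f : Set (PrimeSpectrum R)))
    (p q : PrimeSpectrum R) (hpq : p ≠ q) :
    ∃ U : Set (PrimeSpectrum R), IsClopen U ∧ p ∈ U ∧ q ∈ Uᶜ := by
  have : ¬ (p.asIdeal ≤ q.asIdeal ∧ q.asIdeal ≤ p.asIdeal) := by
    rintro ⟨h1, h2⟩
    exact hpq (PrimeSpectrum.ext (le_antisymm h1 h2))
  rw [not_and_or] at this
  rcases this with h1 | h1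
  · obtain ⟨f, hfp, hfq⟩ := Set.not_subset.mp h1
    refine ⟨(basicOpen f : Set (PrimeSpectrum R))ᶜ, ⟨(basicOpen f).isOpen.isClosed_compl, (h f).isOpen_compl⟩, ?_, ?_⟩
    · exact fun hp => hp hfp
    · rw [compl_compl]; exact hfq
  · obtain ⟨f, hfq, hfp⟩ := Set.not_subset.mp h1
    refine ⟨(basicOpen f : Set (PrimeSpectrum R)), ⟨h f, (basicOpen f).isOpen⟩, hfp, ?_⟩
    exact fun hq => hq hfq

theorem main : 
    [CompactSpace (PrimeSpectrum R) ∧ T2Space (PrimeSpectrum R) ∧ TotallyDisconnectedSpace (PrimeSpectrum R),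
      T2Space (PrimeSpectrum R),
      TotallyDisconnectedSpace (PrimeSpectrum R),
      ∀ W : Set (PrimeSpectrum R), IsOpen W → IsCompact W → IsClosed W,
      ∀ p q : PrimeSpectrum R, p ≤ q → p = q,
      ∀ p : Ideal R, p.IsPrime → p.IsMaximal,
      ∀ p : Ideal R, p.IsPrime → p ∈ minimalPrimes R,
      ∀ f : R, IsClosed (PrimeSpectrum.basicOpen f : Set (PrimeSpectrum R))].TFAE := by
  tfae_have 1 → 2 := fun h => h.2.1
  tfae_have 1 → 3 := fun h => h.2.2
  tfae_have 2 → 5 := by
    intro h p q hpq
    have hc : IsClosed ({p} : Set (PrimeSpectrum R)) := isClosed_singleton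
    have hm := (isClosed_singleton_iff_isMaximal p).mp hc
    exact PrimeSpectrum.ext (hm.eq_of_le q.isPrime.ne_top hpq)
  tfae_have 3 → 5 := by
    intro h p q hpq
    have hq : q ∈ closure ({p} : Set (PrimeSpectrum R)) :=
      ((le_iff_specializes p q).mp hpq).mem_closure
    have hp : p ∈ closure ({p} : Set (PrimeSpectrum R)) := subset_closure rfl
    exact (isPreconnected_singleton.closure).subsingleton hp hq
  tfae_have 5 → 8 := h52
  tfae_have 8 → 1 := by
    intro h
    have hts : TotallySeparatedSpace (PrimeSpectrum R) :=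
      totallySeparatedSpace_iff_exists_isClopen.mpr (fun p q hpq => h8_sep h p q hpq)
    exact ⟨inferInstance, inferInstance, inferInstance⟩
  tfae_have 8 → 4 := by
    intro h W hWo hWc
    obtain ⟨t, rfl⟩ := isCompact_isOpen_iff.mp ⟨hWc, hWo⟩
    have : (zeroLocus (t : Set R))ᶜ = ⋃ f ∈ t, (basicOpen f : Set (PrimeSpectrum R)) := by
      simp only [basicOpen_eq_zeroLocus_compl, ← Set.compl_iInter₂, ← zeroLocus_iUnion₂]
      congr 2
      ext x; simp
    rw [this]
    exact t.finite_toSet.isClosed_biUnion fun f _ => h f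
  tfae_have 4 → 8 := fun h f => h _ (basicOpen f).isOpen (isCompact_basicOpen f)
  tfae_have 5 → 6 := by
    intro h p hp
    obtain ⟨m, hm, hpm⟩ := p.exists_le_maximal hp.ne_top
    have := h ⟨p, hp⟩ ⟨m, hm.isPrime⟩ hpm
    have : p = m := congrArg PrimeSpectrum.asIdeal this
    rw [this]; exact hm
  tfae_have 6 → 5 := by
    intro h p q hpq
    exact PrimeSpectrum.ext ((h p.asIdeal p.isPrime).eq_of_le q.isPrime.ne_top hpq)
  tfae_have 5 → 7 := by
    intro h p hp
    refine ⟨⟨hp, bot_le⟩, fun q hq hqp => ?_⟩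
    have := h ⟨q, hq.1⟩ ⟨p, hp⟩ hqp
    have : q = p := congrArg PrimeSpectrum.asIdeal this
    exact this.ge
  tfae_have 7 → 5 := by
    intro h p q hpq
    have hq := h q.asIdeal q.isPrime
    exact PrimeSpectrum.ext (le_antisymm hpq (hq.2 ⟨p.isPrime, bot_le⟩ hpq))
  tfae_finish


/-- For a ring R with spectrum X the following are equivalent: (1) X is profinite, i.e. compact,
Hausdorff and totally disconnected; (2) X is Hausdorff; (3) X is totally disconnected; (4) every
quasi-compact open subset of X is closed; (5) there are no nontrivial inclusions among prime ideals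
of R; (6) every prime ideal of R is maximal; (7) every prime ideal of R is a minimal prime; (8)
every standard open D(f) is closed. -/
theorem result {R : Type u} [CommRing R] :
    [CompactSpace (PrimeSpectrum R) ∧ T2Space (PrimeSpectrum R) ∧ TotallyDisconnectedSpace (PrimeSpectrum R),
      T2Space (PrimeSpectrum R),
      TotallyDisconnectedSpace (PrimeSpectrum R),
      ∀ W : Set (PrimeSpectrum R), IsOpen W → IsCompact W → IsClosed W,
      ∀ p q : PrimeSpectrum R, p ≤ q → p = q,
      ∀ p : Ideal R, p.IsPrime → p.IsMaximal,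
      ∀ p : Ideal R, p.IsPrime → p ∈ minimalPrimes R,
      ∀ f : R, IsClosed (PrimeSpectrum.basicOpen f : Set (PrimeSpectrum R))].TFAE := by
  exact main

end Groth.Agent.S9633
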