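import Groth.Statements.S9636
import Mathlib

set_option autoImplicit false
universe u
open CAlg

namespace Groth.Agent.S9636

section aux
open TensorProduct

-- universe u declared in template

section
variable {k k' : Type u} [Field k] [Field k'] [Algebra k k']

/-- the map L ⊗ L → k' ⊗ k' -/
noncomputable abbrev ΦL (L : IntermediateField k k') : L ⊗[k] L →ₐ[k] k' ⊗[k] k' :=
  Algebra.TensorProduct.map L.val L.val

lemma lmul_ΦL (L : IntermediateField k k') (y : L ⊗[k] L) :
    Algebra.TensorProduct.lmul' (S := k') k (ΦL L y) = (Algebra.TensorProduct.lmul' (S := L) k y : k') := by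
  induction y using TensorProduct.induction_on with
  | zero => simp
  | tmul a b => simp [ΦL]
  | add x y hx hy => simp only [map_add, hx, hy, IntermediateField.coe_add]

lemma range_mono {L L' : IntermediateField k k'} (h : L ≤ L') :
    (ΦL L).range ≤ (ΦL L').range := by
  rintro _ ⟨y, rfl⟩
  refine ⟨Algebra.TensorProduct.map (IntermediateField.inclusion h) (IntermediateField.inclusion h) y, ?_⟩
  induction y using TensorProduct.induction_on with
  | zero => simp
  | tmul a b => simp [ΦL]
  | add x y hx hy => simp only [map_add, hx, hy]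

lemma exists_fin [Algebra.IsAlgebraic k k'] (x : k' ⊗[k] k') :
    ∃ L : IntermediateField k k', FiniteDimensional k L ∧ x ∈ (ΦL L).range := by
  induction x using TensorProduct.induction_on with
  | zero => exact ⟨⊥, inferInstance, Subalgebra.zero_mem _⟩
  | tmul a b =>
    refine ⟨IntermediateField.adjoin k {a, b}, ?_, ?_⟩
    · exact IntermediateField.finiteDimensional_adjoin (fun x _ => Algebra.IsIntegral.isIntegral x)
    · refine ⟨(⟨a, IntermediateField.subset_adjoin k _ (by simp)⟩ : IntermediateField.adjoin k {a, b}) ⊗ₜ[k]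
        (⟨b, IntermediateField.subset_adjoin k _ (by simp)⟩ : IntermediateField.adjoin k {a, b}), ?_⟩
      simp [ΦL]
  | add x y hx hy =>
    obtain ⟨L₁, h₁, hx⟩ := hx
    obtain ⟨L₂, h₂, hy⟩ := hy
    refine ⟨L₁ ⊔ L₂, IntermediateField.finiteDimensional_sup L₁ L₂, ?_⟩
    exact Subalgebra.add_mem _ (range_mono le_sup_left hx) (range_mono le_sup_right hy)

lemma key [Algebra.IsSeparable k k'] (x : k' ⊗[k] k')
    (hx : Algebra.TensorProduct.lmul' (S := k') k x = 0) :
    ∃ t : k' ⊗[k] k', Algebra.TensorProduct.lmul' (S := k') k t = 1 ∧ t * x = 0 := by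
  have : Algebra.IsAlgebraic k k' := Algebra.IsSeparable.isAlgebraic k k'
  obtain ⟨L, hfin, y, rfl⟩ := exists_fin x
  have hsep : Algebra.IsSeparable k L := Algebra.isSeparable_tower_bot_of_isSeparable k L k'
  have hunr : Algebra.FormallyUnramified k L := Algebra.FormallyUnramified.of_isSeparable k L
  have hy : Algebra.TensorProduct.lmul' (S := L) k y = 0 := by
    have := lmul_ΦL L y
    have hx' : Algebra.TensorProduct.lmul' (S := k') k (ΦL L y) = 0 := hx
    rw [hx'] at this
    exact_mod_cast this.symm
  have hyI : y ∈ KaehlerDifferential.ideal k L := hy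
  rw [← KaehlerDifferential.span_range_eq_ideal] at hyI
  have hkill' : ∀ z ∈ Ideal.span (Set.range fun s : L => (1 : L) ⊗ₜ[k] s - s ⊗ₜ[k] (1 : L)),
      Algebra.FormallyUnramified.elem k L * z = 0 := by
    intro z hz
    induction hz using Submodule.span_induction with
    | mem z hz =>
      obtain ⟨s, rfl⟩ := hz
      rw [mul_comm]
      exact Algebra.FormallyUnramified.one_tmul_sub_tmul_one_mul_elem s
    | zero => simp
    | add a b _ _ ha hb => rw [mul_add, ha, hb, add_zero]
    | smul c a _ ha => rw [smul_eq_mul, mul_left_comm, ha, mul_zero]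
  have hkill := hkill' y hyI
  refine ⟨ΦL L (Algebra.FormallyUnramified.elem k L), ?_, ?_⟩
  · rw [lmul_ΦL, Algebra.FormallyUnramified.lmul_elem]; rfl
  · show ΦL L (Algebra.FormallyUnramified.elem k L) * ΦL L y = 0
    rw [← map_mul, hkill, map_zero]

theorem main [Algebra.IsSeparable k k'] :
    ∃ (S : Submonoid (k' ⊗[k] k')) (e : Localization S ≃+* k'), ∀ x : k' ⊗[k] k',
      e (algebraMap (k' ⊗[k] k') (Localization S) x) = Algebra.TensorProduct.lmul' (S := k') k x := by
  let μ : k' ⊗[k] k' →+* k' := (Algebra.TensorProduct.lmul' (S := k') k).toRingHom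
  letI : Algebra (k' ⊗[k] k') k' := μ.toAlgebra
  let S : Submonoid (k' ⊗[k] k') := MonoidHom.mker (μ : k' ⊗[k] k' →* k')
  have hS : ∀ s : S, μ s = 1 := fun s => s.2
  have : IsLocalization S k' := by
    refine ⟨?_, ?_, ?_⟩
    · intro s
      show IsUnit (μ s)
      rw [hS]; exact isUnit_one
    · intro z
      refine ⟨(z ⊗ₜ[k] 1, 1), ?_⟩
      show z * μ 1 = μ (z ⊗ₜ[k] 1)
      simp [μ]
    · intro x y hxy
      have h0 : Algebra.TensorProduct.lmul' (S := k') k (x - y) = 0 := by
        rw [map_sub, sub_eq_zero]; exact hxy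
      obtain ⟨t, ht1, ht0⟩ := key (x - y) h0
      refine ⟨⟨t, ht1⟩, ?_⟩
      rw [mul_sub, sub_eq_zero] at ht0
      exact ht0
  refine ⟨S, (IsLocalization.algEquiv S (Localization S) k').toRingEquiv, fun x => ?_⟩
  exact (IsLocalization.algEquiv S (Localization S) k').commutes x

end


end aux

open TensorProduct in
/-- Let k'/k be a separable algebraic field extension. Then for some multiplicative subset S of k' ⊗_k
k' the multiplication map k' ⊗_k k' → k' is a localization at S: there is a ring isomorphism S⁻¹(k'
⊗_k k') ≅ k' carrying the localization map to the multiplication map. -/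
theorem result {k k' : Type u} [Field k] [Field k'] [Algebra k k'] [Algebra.IsSeparable k k'] :
    ∃ (S : Submonoid (k' ⊗[k] k')) (e : Localization S ≃+* k'), ∀ x : k' ⊗[k] k', e (algebraMap (k' ⊗[k] k') (Localization S) x) = Algebra.TensorProduct.lmul' (S := k') k x := by
  exact main

end Groth.Agent.S9636
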