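import Groth.Statements.S9637
import Mathlib.RingTheory.Ideal.AssociatedPrime.Finiteness

set_option autoImplicit false
universe u
open CAlg

namespace Groth.Agent.S9637

/-- Let R be a local Noetherian ring, I an ideal contained in its maximal ideal, and M a finite
R-module. Then I contains an M-regular element (one acting injectively on M) if and only if no
associated prime of M contains I. -/
theorem result {R : Type u} [CommRing R] [IsNoetherianRing R] [IsLocalRing R] (I : Ideal R) (hI : I ≤ IsLocalRing.maximalIdeal R) (M : Type u) [AddCommGroup M] [Module R M] [Module.Finite R M] :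
    (∃ x ∈ I, IsSMulRegular M x) ↔ ∀ q ∈ associatedPrimes R M, ¬ I ≤ q := by
  classical
  constructor
  · rintro ⟨x, hxI, hx⟩ q hq hIq
    have hxq : x ∈ (q : Set R) := hIq hxI
    have hmem : x ∈ ⋃ p ∈ associatedPrimes R M, (p : Set R) := Set.mem_biUnion hq hxq
    rw [biUnion_associatedPrimes_eq_zero_divisors] at hmem
    obtain ⟨m, hm, hxm⟩ := hmem
    exact hm ((isSMulRegular_iff_right_eq_zero_of_smul.mp hx) m hxm)
  · intro h
    have hfin : (associatedPrimes R M).Finite := associatedPrimes.finite R M
    by_contra hcon
    push_neg at hcon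
    have hsub : (I : Set R) ⊆ ⋃ p ∈ (↑hfin.toFinset : Set (Ideal R)), ((fun p => p) p : Ideal R) := by
      intro x hx
      have hx' := hcon x hx
      rw [isSMulRegular_iff_right_eq_zero_of_smul] at hx'
      push_neg at hx'
      obtain ⟨m, hxm, hm⟩ := hx'
      have : x ∈ ⋃ p ∈ associatedPrimes R M, (p : Set R) := by
        rw [biUnion_associatedPrimes_eq_zero_divisors]
        exact ⟨m, hm, hxm⟩
      simpa using this
    obtain ⟨q, hq, hIq⟩ := (Ideal.subset_union_prime (R := R) (s := hfin.toFinset)
      (f := fun p => p) ⊥ ⊥ (fun p hp _ _ => by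
        have : p ∈ associatedPrimes R M := hfin.mem_toFinset.mp hp
        exact this.isPrime)).mp hsub
    exact h q (hfin.mem_toFinset.mp hq) hIq

end Groth.Agent.S9637
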