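import Groth.Statements.S9639
import Mathlib.RingTheory.Spectrum.Prime.Topology
import Mathlib.RingTheory.Flat.Basic
import Mathlib.LinearAlgebra.Basis.VectorSpace

set_option autoImplicit false
universe u
open CAlg

namespace Groth.Agent.S9639

lemma connected_of_injective {A' A : Type u} [CommRing A'] [CommRing A] (φ : A' →+* A)
    (hφ : Function.Injective φ) [ConnectedSpace (PrimeSpectrum A)] :
    ConnectedSpace (PrimeSpectrum A') := by
  have hA : Nontrivial A := by
    by_contra h
    rw [not_nontrivial_iff_subsingleton] at h
    exact (inferInstance : Nonempty (PrimeSpectrum A)).elim fun x => x.2.ne_top (Subsingleton.elim _ _)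
  have hA' : Nontrivial A' := φ.domain_nontrivial
  have key : ∀ e : A', IsIdempotentElem e → PrimeSpectrum.basicOpen (φ e) = ⊥ → e = 0 := by
    intro e he h
    rw [PrimeSpectrum.basicOpen_eq_bot_iff] at h
    obtain ⟨n, hn⟩ := h
    have he' : IsIdempotentElem (φ e) := he.map φ
    cases n with
    | zero => simp at hn
    | succ n =>
      rw [he'.pow_succ_eq] at hn
      exact hφ (by rw [hn, map_zero])
  have : PreconnectedSpace (PrimeSpectrum A') := by
    rw [preconnectedSpace_iff_clopen]
    intro s hs
    obtain ⟨e, he, rfl⟩ := PrimeSpectrum.isClopen_iff.mp hs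
    have hcl : IsClopen (PrimeSpectrum.basicOpen (φ e) : Set (PrimeSpectrum A)) :=
      PrimeSpectrum.isClopen_iff.mpr ⟨φ e, he.map φ, rfl⟩
    rcases (preconnectedSpace_iff_clopen.mp inferInstance) _ hcl with h | h
    · left
      have : e = 0 := key e he (TopologicalSpace.Opens.ext h)
      rw [this]
      simp
    · right
      have h1 : PrimeSpectrum.basicOpen (φ (1 - e)) = ⊥ := by
        have h2 : PrimeSpectrum.basicOpen (φ (1 - e)) ⊓ PrimeSpectrum.basicOpen (φ e) = ⊥ := by
          rw [← PrimeSpectrum.basicOpen_mul, ← map_mul, sub_mul, one_mul, he.eq, sub_self,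
            map_zero]
          simp
        have h3 : PrimeSpectrum.basicOpen (φ e) = ⊤ := TopologicalSpace.Opens.ext h
        rwa [h3, inf_top_eq] at h2
      have : 1 - e = 0 := key _ he.one_sub h1
      have : e = 1 := (sub_eq_zero.mp this).symm
      rw [this]
      simp
  exact { toNonempty := inferInstance }

open TensorProduct in
/-- Let k be a field and S a k-algebra such that Spec(k' ⊗_k S) is connected for every field extension
k'/k. Then every k-subalgebra of S has the same property. Here the test fields range over field
extensions in the universe of k; this is equivalent to the unrestricted notion, since an algebraic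
closure of k suffices as a test. -/
theorem result {k S : Type u} [Field k] [CommRing S] [Algebra k S]
    (hS : ∀ (k' : Type u) [Field k'] [Algebra k k'], ConnectedSpace (PrimeSpectrum (k' ⊗[k] S))) (S' : Subalgebra k S) :
    ∀ (k' : Type u) [Field k'] [Algebra k k'], ConnectedSpace (PrimeSpectrum (k' ⊗[k] S')) := by
  intro k' _ _
  have := hS k'
  let φ : k' ⊗[k] S' →ₐ[k] k' ⊗[k] S := Algebra.TensorProduct.map (AlgHom.id k k') S'.val
  have hφ : Function.Injective φ := by
    have := Module.Flat.lTensor_preserves_injective_linearMap (R := k) (M := k')
      S'.val.toLinearMap Subtype.val_injective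
    exact this
  exact connected_of_injective φ.toRingHom hφ

end Groth.Agent.S9639
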