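import Groth.Statements.S9640
import Groth.Agent.Lib.Helper24.AssLoc
import Mathlib.RingTheory.Flat.TorsionFree
import Mathlib.RingTheory.Ideal.MinimalPrime.Localization
-- import your own Groth.Agent.* helpers here

set_option autoImplicit false
universe u
open CAlg

namespace Groth.Agent.S9640

/-- Let R → S be a ring map with R a domain with fraction field K and N an S-module flat over R. Writing
T for the image in S of the nonzero elements of R, so that T⁻¹S = S ⊗_R K and T⁻¹N = N ⊗_R K, the
primes of S weakly associated to N are exactly the inverse images in S of the primes of T⁻¹S weakly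
associated to T⁻¹N. -/
theorem result {R S : Type u} [CommRing R] [IsDomain R] [CommRing S] [Algebra R S] (N : Type u) [AddCommGroup N] [Module S N] [Module R N] [IsScalarTower R S N] [Module.Flat R N] :
    FlatCA.weakAss S N = Ideal.comap (algebraMap S (Localization (Algebra.algebraMapSubmonoid S (nonZeroDivisors R)))) '' FlatCA.weakAss (Localization (Algebra.algebraMapSubmonoid S (nonZeroDivisors R))) (LocalizedModule (Algebra.algebraMapSubmonoid S (nonZeroDivisors R)) N) := by
  have hS : ∀ s ∈ Algebra.algebraMapSubmonoid S (nonZeroDivisors R), IsSMulRegular N s := by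
    rintro s ⟨r, hr, rfl⟩
    have h := Module.Flat.isSMulRegular_of_nonZeroDivisors (M := N) hr
    intro a b hab
    apply h
    simpa [algebraMap_smul] using hab
  set T := Algebra.algebraMapSubmonoid S (nonZeroDivisors R) with hT
  have hcomap : ∀ x : LocalizedModule T N, Ideal.comap (algebraMap S (Localization T))
      (Submodule.span (Localization T) {x}).annihilator =
      (Submodule.span S {x}).annihilator := by
    intro x
    ext r
    rw [Ideal.mem_comap, Submodule.mem_annihilator_span_singleton,
      Submodule.mem_annihilator_span_singleton, algebraMap_smul]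
  ext p
  constructor
  · rintro ⟨m, hm⟩
    have h1 := IsLocalization.minimalPrimes_comap T (Localization T)
      (Submodule.span (Localization T) {LocalizedModule.mk m (1 : T)}).annihilator
    rw [hcomap, Groth.Agent.Lib.Helper24.ann_mk_eq_of_regular T hS] at h1
    rw [h1] at hm
    obtain ⟨q, hq, rfl⟩ := hm
    exact ⟨q, ⟨_, hq⟩, rfl⟩
  · rintro ⟨q, ⟨x, hq⟩, rfl⟩
    induction x using LocalizedModule.induction_on with
    | h m s =>
      have h1 := IsLocalization.minimalPrimes_comap T (Localization T)
        (Submodule.span (Localization T) {LocalizedModule.mk m s}).annihilator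
      rw [hcomap, Groth.Agent.Lib.Helper24.ann_mk_eq_of_regular T hS] at h1
      refine ⟨m, ?_⟩
      rw [h1]
      exact ⟨q, hq, rfl⟩

end Groth.Agent.S9640
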