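import Groth.Statements.S9641
import Mathlib.RingTheory.Flat.Basic
import Mathlib.LinearAlgebra.Basis.VectorSpace
import Mathlib.LinearAlgebra.TensorProduct.Finiteness
import Mathlib.RingTheory.Adjoin.FG
import Mathlib.RingTheory.Nilpotent.Defs

set_option autoImplicit false
universe u
open CAlg

namespace Groth.Agent.S9641

open TensorProduct in
/-- Let k be a field and R, S two k-algebras. If R ⊗_k S is not reduced then there are finitely
generated k-subalgebras R' ⊆ R and S' ⊆ S such that R' ⊗_k S' is not reduced. -/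
theorem result {k R S : Type u} [Field k] [CommRing R] [CommRing S] [Algebra k R] [Algebra k S] (h : ¬ IsReduced (R ⊗[k] S)) :
    ∃ (R' : Subalgebra k R) (S' : Subalgebra k S), R'.FG ∧ S'.FG ∧ ¬ IsReduced (R' ⊗[k] S') := by
  classical
  rw [isReduced_iff] at h
  push_neg at h
  obtain ⟨z, hz, hz0⟩ := h
  obtain ⟨T, hT⟩ := TensorProduct.exists_finset z
  let R' : Subalgebra k R := Algebra.adjoin k (↑(T.image Prod.fst) : Set R)
  let S' : Subalgebra k S := Algebra.adjoin k (↑(T.image Prod.snd) : Set S)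
  have hR' : ∀ i ∈ T, i.1 ∈ R' := fun i hi =>
    Algebra.subset_adjoin (Finset.mem_coe.mpr (Finset.mem_image_of_mem _ hi))
  have hS' : ∀ i ∈ T, i.2 ∈ S' := fun i hi =>
    Algebra.subset_adjoin (Finset.mem_coe.mpr (Finset.mem_image_of_mem _ hi))
  refine ⟨R', S', Subalgebra.fg_adjoin_finset _, Subalgebra.fg_adjoin_finset _, ?_⟩
  let φ : R' ⊗[k] S' →ₐ[k] R ⊗[k] S := Algebra.TensorProduct.map R'.val S'.val
  have hφ : Function.Injective φ := by
    have := TensorProduct.map_injective_of_flat_flat (R := k) R'.val.toLinearMap S'.val.toLinearMap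
      Subtype.val_injective Subtype.val_injective
    exact this
  let z' : R' ⊗[k] S' := ∑ i ∈ T.attach, (⟨i.1.1, hR' i.1 i.2⟩ : R') ⊗ₜ[k] (⟨i.1.2, hS' i.1 i.2⟩ : S')
  have hz' : φ z' = z := by
    rw [hT, map_sum, ← Finset.sum_attach T]
    rfl
  intro hred
  obtain ⟨n, hn⟩ := hz
  have : z' ^ n = 0 := hφ (by rw [map_pow, hz', hn, map_zero])
  have hz'0 : z' = 0 := hred.eq_zero _ ⟨n, this⟩
  exact hz0 (by rw [← hz', hz'0, map_zero])

end Groth.Agent.S9641
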