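import Groth.Statements.S9642
-- import your own Groth.Agent.* helpers here

set_option autoImplicit false
universe u
open CAlg

namespace Groth.Agent.S9642

/-- In the general form stated there: let R → S be a ring map inducing an open map Spec(S) → Spec(R),
with Spec(R) irreducible, such that for a dense set of primes p of R the fibre ring κ(p) ⊗_R S has
irreducible spectrum. Then Spec(S) is irreducible. The flat and finitely presented case is the
special case in which the map on spectra is open by fppf-openness. -/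
theorem result {R S : Type u} [CommRing R] [CommRing S] [Algebra R S]
    (hopen : IsOpenMap (PrimeSpectrum.comap (algebraMap R S))) [IrreducibleSpace (PrimeSpectrum R)]
    (D : Set (PrimeSpectrum R)) (hD : Dense D) (hfib : ∀ p ∈ D, IrreducibleSpace (PrimeSpectrum (p.asIdeal.Fiber S))) :
    IrreducibleSpace (PrimeSpectrum S) := by
  classical
  set f := PrimeSpectrum.comap (algebraMap R S) with hf
  have hfibre : ∀ p ∈ D, IsIrreducible (f ⁻¹' {p}) := by
    intro p hp
    haveI := hfib p hp
    let e := PrimeSpectrum.preimageHomeomorphFiber R S p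
    let g : PrimeSpectrum (p.asIdeal.Fiber S) → PrimeSpectrum S := fun q => (e.symm q).1
    have hg : Continuous g := continuous_subtype_val.comp e.symm.continuous
    have himg : g '' Set.univ = f ⁻¹' {p} := by
      ext y
      constructor
      · rintro ⟨q, _, rfl⟩
        exact (e.symm q).2
      · intro hy
        exact ⟨e ⟨y, hy⟩, trivial, by simp [g]⟩
    rw [← himg]
    exact (IrreducibleSpace.isIrreducible_univ _).image g hg.continuousOn
  have hDne : D.Nonempty := hD.nonempty
  refine { toPreirreducibleSpace := ⟨?_⟩, toNonempty := ?_ }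
  · intro U V hU hV hUne hVne
    obtain ⟨u, -, huU⟩ := hUne
    obtain ⟨v, -, hvV⟩ := hVne
    have h1 : IsOpen (f '' U) := hopen U hU
    have h2 : IsOpen (f '' V) := hopen V hV
    have h3 : (f '' U ∩ f '' V).Nonempty :=
      nonempty_preirreducible_inter h1 h2 ⟨f u, u, huU, rfl⟩ ⟨f v, v, hvV, rfl⟩
    obtain ⟨p, ⟨⟨u', hu'U, hu'p⟩, ⟨v', hv'V, hv'p⟩⟩, hpD⟩ :=
      hD.inter_open_nonempty _ (h1.inter h2) h3
    obtain ⟨y, hy1, hy2⟩ := (hfibre p hpD).2 U V hU hV ⟨u', hu'p, hu'U⟩ ⟨v', hv'p, hv'V⟩
    exact ⟨y, trivial, hy2⟩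
  · obtain ⟨p, hpD⟩ := hDne
    obtain ⟨y, _⟩ := (hfibre p hpD).1
    exact ⟨y⟩

end Groth.Agent.S9642
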