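import Groth.Statements.S9646
import Mathlib.RingTheory.Localization.Integral
import Mathlib.RingTheory.Localization.AtPrime.Basic

set_option autoImplicit false
universe u
open CAlg

namespace Groth.Agent.S9646

/-- (2) ⇒ (1): let R → S be a ring map and x ∈ S. If for every prime ideal p of R the image of x in S_p
(the localization of S at the image of R ∖ p) is integral over R_p, then x is integral over R. Here
R_p and S_p are any rings satisfying the localization universal properties. -/
theorem result {R S : Type u} [CommRing R] [CommRing S] [Algebra R S] (x : S)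
    (h : ∀ (p : Ideal R) [p.IsPrime] (Rp Sp : Type u) [CommRing Rp] [CommRing Sp] [Algebra R Rp] [Algebra S Sp] [Algebra Rp Sp] [Algebra R Sp] [IsScalarTower R S Sp] [IsScalarTower R Rp Sp] [IsLocalization.AtPrime Rp p] [IsLocalization (Algebra.algebraMapSubmonoid S p.primeCompl) Sp], IsIntegral Rp (algebraMap S Sp x)) :
    IsIntegral R x := by
  classical
  -- the ideal of `r` with `r • x` integral
  let I : Ideal R :=
    { carrier := {r | IsIntegral R (r • x)}
      add_mem' := fun {a b} ha hb => by
        simp only [Set.mem_ofPred_eq, add_smul] at *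
        exact ha.add hb
      zero_mem' := by simp [isIntegral_zero]
      smul_mem' := fun c r hr => by
        simp only [Set.mem_ofPred_eq, smul_eq_mul, mul_smul] at *
        exact hr.smul c }
  suffices h1 : (1 : R) ∈ I by simpa [I] using h1
  rw [← Ideal.eq_top_iff_one]
  by_contra hI
  obtain ⟨p, hp, hIp⟩ := Ideal.exists_le_maximal I hI
  have hpp : p.IsPrime := hp.isPrime
  have hx := h p (Localization.AtPrime p)
    (Localization (Algebra.algebraMapSubmonoid S p.primeCompl))
  obtain ⟨⟨m, hm⟩, hmx⟩ := IsIntegral.exists_multiple_integral_of_isLocalization p.primeCompl _ hx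
  have e1 : (⟨m, hm⟩ : p.primeCompl) •
      (algebraMap S (Localization (Algebra.algebraMapSubmonoid S p.primeCompl))) x =
      algebraMap S (Localization (Algebra.algebraMapSubmonoid S p.primeCompl)) (m • x) := by
    rw [Submonoid.smul_def, Algebra.smul_def, Algebra.smul_def, map_mul,
      ← IsScalarTower.algebraMap_apply]
  rw [e1] at hmx
  obtain ⟨m', hm', hm'x⟩ := IsLocalization.exists_isIntegral_smul_of_isIntegral_map
    (Sₘ := Localization (Algebra.algebraMapSubmonoid S p.primeCompl)) p.primeCompl hmx
  have hmem : m' * m ∈ I := by
    show IsIntegral R ((m' * m) • x)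
    rwa [mul_smul]
  exact (p.primeCompl.mul_mem hm' hm) (hIp hmem)

end Groth.Agent.S9646
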