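import Groth.Statements.S9649
import Mathlib
import Groth.Agent.Lib.Helper22.SepGen
-- import your own Groth.Agent.* helpers here

set_option autoImplicit false
universe u
open CAlg

namespace Groth.Agent.S9649

/-- A separably generated field extension is separable. Precisely: let K/k be a field extension
admitting a transcendence basis x over whose generated subfield k(x) the field K is separable
algebraic; then every finitely generated subextension K' of K/k also admits such a transcendence
basis. -/
theorem result {k K : Type u} [Field k] [Field K] [Algebra k K]
    (h : ∃ (ι : Type u) (x : ι → K), IsTranscendenceBasis k x ∧ Algebra.IsSeparable (IntermediateField.adjoin k (Set.range x)) K)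
    (K' : IntermediateField k K) (hK' : ∃ s : Finset K, IntermediateField.adjoin k (s : Set K) = K') :
    ∃ (ι : Type u) (x : ι → K'), IsTranscendenceBasis k x ∧ Algebra.IsSeparable (IntermediateField.adjoin k (Set.range x)) K' := by
  obtain ⟨ι, x, hx, hsep⟩ := h
  have hfg : K'.FG := hK'
  have : Algebra.EssFiniteType k K' := IntermediateField.essFiniteType_iff.mpr hfg
  have key : ∃ s : Finset K', IsTranscendenceBasis k ((↑) : s → K') ∧
      Algebra.IsSeparable (IntermediateField.adjoin k (s : Set K')) K' := by
    obtain _ | ⟨p, hp, hpk⟩ := CharP.exists' k
    · exact exists_isTranscendenceBasis_and_isSeparable_of_perfectField k K'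
    · have : ExpChar k p := .prime hp.out
      refine exists_isTranscendenceBasis_and_isSeparable_of_linearIndepOn_pow_of_essFiniteType
        p hp.out ?_
      intro s hs
      have h1 : LinearIndependent k (fun i : (s : Set K') => ((i : K') : K)) :=
        LinearIndependent.map' hs K'.val.toLinearMap (LinearMap.ker_eq_bot.mpr K'.val.injective)
      have h2 := Groth.Agent.Lib.Helper22.SepGen.linearIndependent_pow_of_sepGen p x hx.1 _ h1
      apply LinearIndependent.of_comp K'.val.toLinearMap
      exact h2
  obtain ⟨s, hs, hs'⟩ := key
  refine ⟨↥s, (↑), hs, ?_⟩
  have : ∀ T : Set K', T = (s : Set K') →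
      Algebra.IsSeparable (IntermediateField.adjoin k T) K' := by
    rintro T rfl
    exact hs'
  exact this _ Subtype.range_coe

end Groth.Agent.S9649
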