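import Groth.Statements.S9654
-- import your own Groth.Agent.* helpers here
import Groth.Agent.Lib.Helper23.Seidenberg

set_option autoImplicit false
universe u
open CAlg

namespace Groth.Agent.S9654

/-- Let R be a ring and x, y ∈ R nonzerodivisors. In the localization R_{xy} let a = x/y and b = y/x,
and let R[a], R[b], R[a, b] be the R-subalgebras they generate. If R is integrally closed in R_x or
in R_y, then the sequence 0 → R → R[a] ⊕ R[b] → R[a, b] → 0 (difference map, then sum map) is short
exact; equivalently R[a] ∩ R[b] is the image of R and R[a] + R[b] = R[a, b] inside R_{xy}. -/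
theorem result {R : Type u} [CommRing R] (x y : R) (hx : x ∈ nonZeroDivisors R) (hy : y ∈ nonZeroDivisors R)
    (hint : IsIntegrallyClosedIn R (Localization.Away x) ∨ IsIntegrallyClosedIn R (Localization.Away y)) :
    (Algebra.adjoin R {algebraMap R (Localization.Away (x * y)) (x * x) * IsLocalization.Away.invSelf (x * y)}).toSubmodule ⊓
        (Algebra.adjoin R {algebraMap R (Localization.Away (x * y)) (y * y) * IsLocalization.Away.invSelf (x * y)}).toSubmodule =
        (⊥ : Subalgebra R (Localization.Away (x * y))).toSubmodule ∧
      (Algebra.adjoin R {algebraMap R (Localization.Away (x * y)) (x * x) * IsLocalization.Away.invSelf (x * y)}).toSubmodule ⊔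
        (Algebra.adjoin R {algebraMap R (Localization.Away (x * y)) (y * y) * IsLocalization.Away.invSelf (x * y)}).toSubmodule =
        (Algebra.adjoin R {algebraMap R (Localization.Away (x * y)) (x * x) * IsLocalization.Away.invSelf (x * y), algebraMap R (Localization.Away (x * y)) (y * y) * IsLocalization.Away.invSelf (x * y)}).toSubmodule := by
  classical
  set A := Localization.Away (x * y) with hA
  set a : A := algebraMap R A (x * x) * IsLocalization.Away.invSelf (x * y) with ha
  set b : A := algebraMap R A (y * y) * IsLocalization.Away.invSelf (x * y) with hb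
  have hinv : algebraMap R A (x * y) * IsLocalization.Away.invSelf (x * y) = 1 :=
    IsLocalization.Away.mul_invSelf (x * y)
  have hab : a * b = 1 := by
    have : a * b = (algebraMap R A (x * y) * IsLocalization.Away.invSelf (x * y)) ^ 2 := by
      rw [ha, hb, map_mul, map_mul, map_mul]; ring
    rw [this, hinv, one_pow]
  have hay : a * algebraMap R A y = algebraMap R A x := by
    have : a * algebraMap R A y =
        algebraMap R A x * (algebraMap R A (x * y) * IsLocalization.Away.invSelf (x * y)) := by
      rw [ha, map_mul, map_mul]; ring
    rw [this, hinv, mul_one]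
  have hbx : b * algebraMap R A x = algebraMap R A y := by
    have : b * algebraMap R A x =
        algebraMap R A y * (algebraMap R A (x * y) * IsLocalization.Away.invSelf (x * y)) := by
      rw [hb, map_mul, map_mul]; ring
    rw [this, hinv, mul_one]
  let u : Aˣ := Units.mkOfMulEqOne a b hab
  have hua : (u : A) = a := rfl
  have hub : ((u⁻¹ : Aˣ) : A) = b := rfl
  have hxyu : IsUnit (algebraMap R A (x * y)) := IsUnit.of_mul_eq_one _ hinv
  have hxu : IsUnit (algebraMap R A x) := by
    rw [map_mul] at hxyu; exact isUnit_of_mul_isUnit_left hxyu
  have hyu : IsUnit (algebraMap R A y) := by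
    rw [map_mul] at hxyu; exact isUnit_of_mul_isUnit_right hxyu
  have hinjA : Function.Injective (algebraMap R A) := by
    apply IsLocalization.injective A (M := Submonoid.powers (x * y))
    exact Submonoid.powers_le.mpr (mul_mem hx hy)
  refine ⟨?_, Helper23.Seidenberg.sup_eq (R := R) u⟩
  rcases hint with hint | hint
  · -- integrally closed in R_x : use b = y/x
    let ψ : Localization.Away x →ₐ[R] A :=
      { IsLocalization.Away.awayToAwayRight x y with
        commutes' := fun r => IsLocalization.Away.awayToAwayRight_eq x y r }
    have hψ : Function.Injective ψ := by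
      rw [injective_iff_map_eq_zero]
      intro s hs
      obtain ⟨r, m, rfl⟩ := IsLocalization.exists_mk'_eq (Submonoid.powers x) s
      have h1 : ψ (IsLocalization.mk' (Localization.Away x) r m) * ψ (algebraMap R _ (m : R)) =
          ψ (algebraMap R _ r) := by
        rw [← map_mul, IsLocalization.mk'_spec]
      rw [hs, zero_mul, AlgHom.commutes] at h1
      have : r = 0 := hinjA (by rw [← h1, map_zero])
      rw [this, IsLocalization.mk'_zero]
    let b' : Localization.Away x :=
      IsLocalization.mk' (Localization.Away x) y (⟨x, Submonoid.mem_powers x⟩ : Submonoid.powers x)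
    have hb' : ψ b' = b := by
      have h1 : ψ b' * algebraMap R A x = algebraMap R A y := by
        have : ψ b' * ψ (algebraMap R _ x) = ψ (algebraMap R _ y) := by
          rw [← map_mul]
          congr 1
          exact IsLocalization.mk'_spec _ y (⟨x, Submonoid.mem_powers x⟩ : Submonoid.powers x)
        rwa [AlgHom.commutes, AlgHom.commutes] at this
      exact hxu.mul_right_cancel (h1.trans hbx.symm)
    exact Helper23.Seidenberg.inf_eq_bot (R := R) u ψ hψ b' (Or.inr hb')
  · let ψ : Localization.Away y →ₐ[R] A :=
      { IsLocalization.Away.awayToAwayLeft y x with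
        commutes' := fun r => IsLocalization.Away.awayToAwayLeft_eq y x r }
    have hψ : Function.Injective ψ := by
      rw [injective_iff_map_eq_zero]
      intro s hs
      obtain ⟨r, m, rfl⟩ := IsLocalization.exists_mk'_eq (Submonoid.powers y) s
      have h1 : ψ (IsLocalization.mk' (Localization.Away y) r m) * ψ (algebraMap R _ (m : R)) =
          ψ (algebraMap R _ r) := by
        rw [← map_mul, IsLocalization.mk'_spec]
      rw [hs, zero_mul, AlgHom.commutes] at h1
      have : r = 0 := hinjA (by rw [← h1, map_zero])
      rw [this, IsLocalization.mk'_zero]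
    let a' : Localization.Away y :=
      IsLocalization.mk' (Localization.Away y) x (⟨y, Submonoid.mem_powers y⟩ : Submonoid.powers y)
    have ha' : ψ a' = a := by
      have h1 : ψ a' * algebraMap R A y = algebraMap R A x := by
        have : ψ a' * ψ (algebraMap R _ y) = ψ (algebraMap R _ x) := by
          rw [← map_mul]
          congr 1
          exact IsLocalization.mk'_spec _ x (⟨y, Submonoid.mem_powers y⟩ : Submonoid.powers y)
        rwa [AlgHom.commutes, AlgHom.commutes] at this
      exact hyu.mul_right_cancel (h1.trans hay.symm)
    exact Helper23.Seidenberg.inf_eq_bot (R := R) u ψ hψ a' (Or.inl ha')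

end Groth.Agent.S9654
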