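import Groth.Statements.S9656
import Mathlib.RingTheory.IntegralClosure.IsIntegralClosure.Basic
import Mathlib.Algebra.Polynomial.Monic
-- import your own Groth.Agent.* helpers here

set_option autoImplicit false
universe u
open CAlg

namespace Groth.Agent.S9656

open Polynomial in
theorem pi_integral {ι : Type u} [Fintype ι] {R S : ι → Type u} [∀ i, CommRing (R i)] [∀ i, CommRing (S i)] (f : ∀ i, R i →+* S i) (s : ∀ i, S i) :
    (RingHom.pi fun i => (f i).comp (Pi.evalRingHom R i)).IsIntegralElem s ↔ ∀ i, (f i).IsIntegralElem (s i) := by
  have key : ∀ (P : (∀ i, R i)[X]) (i : ι),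
      (eval₂ (RingHom.pi fun i => (f i).comp (Pi.evalRingHom R i)) s P) i =
        eval₂ (f i) (s i) (P.map (Pi.evalRingHom R i)) := by
    intro P i
    rw [eval₂_map]
    exact Polynomial.hom_eval₂ P (RingHom.pi fun i => (f i).comp (Pi.evalRingHom R i))
      (Pi.evalRingHom S i) s
  constructor
  · rintro ⟨P, hP, h0⟩ i
    refine ⟨P.map (Pi.evalRingHom R i), hP.map _, ?_⟩
    rw [← key, h0]
    rfl
  · intro h
    choose p hp h0 using h
    let N := Finset.univ.sup (fun i => (p i).natDegree)
    let q : ∀ i, (R i)[X] := fun i => p i * X ^ (N - (p i).natDegree)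
    have hq : ∀ i, (q i).Monic := fun i => (hp i).mul (monic_X_pow _)
    have hle : ∀ i, (p i).natDegree ≤ N := fun i =>
      Finset.le_sup (f := fun i => (p i).natDegree) (Finset.mem_univ i)
    have hqN : ∀ i, (q i).natDegree ≤ N := by
      intro i
      refine natDegree_mul_le.trans ?_
      have := natDegree_X_pow_le (R := R i) (N - (p i).natDegree)
      have := hle i
      omega
    have hqc : ∀ i, (q i).coeff N = 1 := by
      intro i
      have h1 : N = (p i).natDegree + (N - (p i).natDegree) := by have := hle i; omega
      conv_lhs => rw [h1]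
      simp only [q]
      rw [coeff_mul_X_pow]
      exact (hp i).coeff_natDegree
    have hq0 : ∀ i, eval₂ (f i) (s i) (q i) = 0 := by
      intro i
      rw [eval₂_mul, h0 i, zero_mul]
    let P : (∀ i, R i)[X] := ∑ k ∈ Finset.range (N + 1), C (fun i => (q i).coeff k) * X ^ k
    have hPcoeff : ∀ k, P.coeff k = fun i => (q i).coeff k := by
      intro k
      simp only [P, finsetSum_coeff, coeff_C_mul, coeff_X_pow]
      by_cases hk : k < N + 1
      · rw [Finset.sum_eq_single k]
        · simp
        · intro b _ hb
          simp [hb.symm]
        · intro h; exact absurd (Finset.mem_range.mpr hk) h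
      · rw [Finset.sum_eq_zero]
        · funext i
          have : (q i).natDegree < k := by have := hqN i; omega
          simp [coeff_eq_zero_of_natDegree_lt this]
        · intro b hb
          have : b ≠ k := by
            rw [Finset.mem_range] at hb; omega
          simp [this.symm]
    have hPmap : ∀ i, P.map (Pi.evalRingHom R i) = q i := by
      intro i
      ext k
      rw [coeff_map, hPcoeff]
      rfl
    refine ⟨P, ?_, ?_⟩
    · apply monic_of_natDegree_le_of_coeff_eq_one N
      · rw [natDegree_le_iff_coeff_eq_zero]
        intro k hk
        rw [hPcoeff]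
        funext i
        have : (q i).natDegree < k := lt_of_le_of_lt (hqN i) hk
        simp [coeff_eq_zero_of_natDegree_lt this]
      · rw [hPcoeff]
        funext i
        exact hqc i
    · funext i
      rw [key, hPmap, hq0]
      rfl

/-- Let R_i → S_i be ring maps indexed by a finite type ι, with product map R = Π R_i → S = Π S_i. Then
an element (s_i) of S is integral over R exactly when s_i is integral over R_i for every i; so
integral closure in a finite product is computed factor by factor. -/
theorem result {ι : Type u} [Fintype ι] {R S : ι → Type u} [∀ i, CommRing (R i)] [∀ i, CommRing (S i)] (f : ∀ i, R i →+* S i) (s : ∀ i, S i) :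
    (RingHom.pi fun i => (f i).comp (Pi.evalRingHom R i)).IsIntegralElem s ↔ ∀ i, (f i).IsIntegralElem (s i) := by
  exact pi_integral f s

end Groth.Agent.S9656
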