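import Groth.Statements.S9657
import Mathlib
import Groth.Agent.Lib.Helper22.RatFuncIrr
import Groth.Agent.S2150
-- import your own Groth.Agent.* helpers here

set_option autoImplicit false
universe u
open CAlg

namespace Groth.Agent.S9657

open TensorProduct in
/-- Let K/k be a field extension and let k(t) ⊆ K(t) be the purely transcendental extensions in one
variable, realised as fraction fields of k[t] and K[t] compatibly with k[t] → K[t]. Then K is
geometrically irreducible over k (Spec(k' ⊗_k K) irreducible for every field extension k'/k) if and
only if K(t) is geometrically irreducible over k(t). Here the test fields range over field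
extensions of k, respectively of k(t), in the universe of k; this is equivalent to the unrestricted
notions, since an algebraic closure of the base field suffices as a test. -/
theorem result {k K : Type u} [Field k] [Field K] [Algebra k K]
    (kt Kt : Type u) [Field kt] [Field Kt] [Algebra (Polynomial k) kt] [IsFractionRing (Polynomial k) kt] [Algebra (Polynomial K) Kt] [IsFractionRing (Polynomial K) Kt]
    [Algebra kt Kt] (hcompat : ∀ p : Polynomial k, algebraMap kt Kt (algebraMap (Polynomial k) kt p) = algebraMap (Polynomial K) Kt (Polynomial.map (algebraMap k K) p)) :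
    (∀ (k' : Type u) [Field k'] [Algebra k k'], IrreducibleSpace (PrimeSpectrum (k' ⊗[k] K))) ↔
      ∀ (L : Type u) [Field L] [Algebra kt L], IrreducibleSpace (PrimeSpectrum (L ⊗[kt] Kt)) := by
  open Groth.Agent.Lib.Helper22.RatFuncIrr in
  letI : Algebra k kt := ((algebraMap (Polynomial k) kt).comp (algebraMap k (Polynomial k))).toAlgebra
  haveI : IsScalarTower k (Polynomial k) kt := IsScalarTower.of_algebraMap_eq (fun _ => rfl)
  letI : Algebra k Kt := ((algebraMap kt Kt).comp (algebraMap k kt)).toAlgebra
  haveI : IsScalarTower k kt Kt := IsScalarTower.of_algebraMap_eq (fun _ => rfl)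
  letI : Algebra K Kt := ((algebraMap (Polynomial K) Kt).comp (algebraMap K (Polynomial K))).toAlgebra
  haveI : IsScalarTower K (Polynomial K) Kt := IsScalarTower.of_algebraMap_eq (fun _ => rfl)
  haveI : IsScalarTower k K Kt := by
    refine IsScalarTower.of_algebraMap_eq (fun c => ?_)
    change algebraMap kt Kt (algebraMap (Polynomial k) kt (Polynomial.C c)) =
      algebraMap (Polynomial K) Kt (Polynomial.C (algebraMap k K c))
    rw [hcompat, Polynomial.map_C]
  constructor
  · intro h L _ _
    exact geomIrr_ratFunc kt Kt hcompat h L
  · intro h
    rw [Groth.Agent.S2150.result]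
    have h' := (Groth.Agent.S2150.result (k := kt) (K := Kt)).mp h
    exact mem_range_of_sepClosed_ratFunc kt Kt hcompat h'

end Groth.Agent.S9657
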