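import Groth.Statements.S9662
import Groth.Agent.Lib.Helper14.K0Hilb

set_option autoImplicit false
universe u
open CategoryTheory
open CAlg

namespace Groth.Agent.S9662

open Groth.Agent.Lib.Helper14.K0Hilb DirectSum

section
variable {A S : Type u} [CommRing A] [CommRing S] [Algebra A S] (𝒜 : ℕ → Submodule A S) [GradedAlgebra 𝒜]
  {M : Type u} [AddCommGroup M] [Module A M] [Module S M] [IsScalarTower A S M]
  (ℳ : ℕ → Submodule A M) [DirectSum.Decomposition ℳ] [SetLike.GradedSMul 𝒜 ℳ]

omit [GradedAlgebra 𝒜] [IsScalarTower A S M] in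
theorem smul_mem_piece {i j : ℕ} {a : S} {m : M} (ha : a ∈ 𝒜 i) (hm : m ∈ ℳ j) :
    a • m ∈ ℳ (i + j) := by
  have := SetLike.GradedSMul.smul_mem (A := 𝒜) (B := ℳ) ha hm
  rwa [vadd_eq_add] at this

omit [GradedAlgebra 𝒜] [IsScalarTower A S M] in
theorem key {a : S} (ha : a ∈ 𝒜 1) (m : M) :
    (∀ n, ((decompose ℳ (a • m)) (n + 1) : M) = a • ((decompose ℳ m) n : M)) ∧
      ((decompose ℳ (a • m)) 0 : M) = 0 := by
  classical
  induction m using DirectSum.Decomposition.inductionOn ℳ with
  | zero => simp
  | homogeneous m =>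
    obtain ⟨m, hm⟩ := m
    rename_i k
    have h1 : a • m ∈ ℳ (1 + k) := smul_mem_piece 𝒜 ℳ ha hm
    constructor
    · intro n
      by_cases hkn : k = n
      · subst hkn
        rw [decompose_of_mem_same ℳ hm]
        have : a • m ∈ ℳ (k + 1) := by rwa [add_comm] at h1
        exact decompose_of_mem_same ℳ this
      · rw [decompose_of_mem_ne ℳ hm hkn, smul_zero]
        exact decompose_of_mem_ne ℳ h1 (by omega)
    · exact decompose_of_mem_ne ℳ h1 (by omega)
  | add m m' hm hm' =>
    constructor
    · intro n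
      rw [smul_add, decompose_add, decompose_add]
      simp only [DirectSum.add_apply, Submodule.coe_add, smul_add]
      rw [hm.1 n, hm'.1 n]
    · rw [smul_add, decompose_add]
      simp only [DirectSum.add_apply, Submodule.coe_add]
      rw [hm.2, hm'.2, add_zero]

/-- the projection onto the degree `n` piece -/
noncomputable def pr (n : ℕ) : M →ₗ[A] M :=
  (ℳ n).subtype ∘ₗ (DirectSum.component A ℕ (fun i => ℳ i) n) ∘ₗ
    (DirectSum.decomposeLinearEquiv ℳ).toLinearMap

omit [Module S M] [IsScalarTower A S M] in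
theorem pr_apply (n : ℕ) (m : M) : pr ℳ n m = ((decompose ℳ m) n : M) := rfl

omit [Module S M] [IsScalarTower A S M] in
theorem range_pr (n : ℕ) : LinearMap.range (pr ℳ n) = ℳ n := by
  ext m
  constructor
  · rintro ⟨y, rfl⟩
    rw [pr_apply]
    exact SetLike.coe_mem _
  · intro hm
    exact ⟨m, by rw [pr_apply, decompose_of_mem_same ℳ hm]⟩

end


/-- Let S be a Noetherian ℕ-graded ring, presented as a graded algebra over a ring A mapping onto S₀,
whose irrelevant ideal S₊ is generated as an ideal by the degree-1 part S₁, and let M be a finitely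
generated graded S-module, graded in nonnegative degrees. (The published statement allows modules
graded in all integer degrees; this row takes modules graded in degrees ≥ 0, which loses nothing for
large n.) Write K'₀(A) for the Grothendieck group of finite A-modules (the free abelian group on the
finite A-modules modulo the relations given by short exact sequences) and [M_n] for the class of the
finite A-module M_n. Then n ↦ [M_n] is a numerical polynomial: there are a_0, …, a_{r-1} in K'₀(A)
with [M_n] = Σ_i C(n, i) · a_i for all large n. (When A → S₀ is bijective K'₀(A) is K'₀(S₀), the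
group of the published statement; in general the classes are taken after restricting scalars along A
→ S₀.) -/
theorem result {A S : Type u} [CommRing A] [CommRing S] [Algebra A S] [IsNoetherianRing S] (𝒜 : ℕ → Submodule A S) [GradedAlgebra 𝒜]
    (h0 : ∀ s ∈ 𝒜 0, s ∈ Set.range (algebraMap A S))
    (h1 : (HomogeneousIdeal.irrelevant 𝒜).toIdeal = Ideal.span (𝒜 1 : Set S))
    (M : Type u) [AddCommGroup M] [Module A M] [Module S M] [IsScalarTower A S M] [Module.Finite S M] (ℳ : ℕ → Submodule A M) [DirectSum.Decomposition ℳ] [SetLike.GradedSMul 𝒜 ℳ] :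
    ∃ (r : ℕ) (a : Fin r → KZero.K0sub (fun X : ModuleCat.{u} A => Module.Finite A X)) (N : ℕ), ∀ n : ℕ, N ≤ n →
      KZero.clSub (fun X : ModuleCat.{u} A => Module.Finite A X) (ModuleCat.of A ↥(ℳ n)) = ∑ i : Fin r, ((n.choose (i : ℕ) : ℕ) : ℤ) • a i := by
  classical
  have hfg : (Ideal.span (𝒜 1 : Set S)).FG := (isNoetherianRing_iff_ideal_fg S).mp inferInstance _
  obtain ⟨F, hF1, hF⟩ := (Submodule.fg_span_iff_fg_span_finset_subset (𝒜 1 : Set S)).mp hfg
  let x : Fin F.card → S := fun i => ((F.equivFin.symm i : F) : S)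
  have hx1 : ∀ i, x i ∈ 𝒜 1 := fun i => hF1 (F.equivFin.symm i).2
  have hrange : Set.range x = (F : Set S) := by
    ext s
    constructor
    · rintro ⟨i, rfl⟩
      exact (F.equivFin.symm i).2
    · intro hs
      exact ⟨F.equivFin ⟨s, hs⟩, by simp [x]⟩
  have hS : ∀ s : S, ∃ a : A, s - algebraMap A S a ∈ Ideal.span (Set.range x) := by
    intro s
    obtain ⟨a, ha⟩ := h0 _ (SetLike.coe_mem ((decompose 𝒜 s) 0))
    refine ⟨a, ?_⟩
    rw [hrange]
    change _ ∈ Submodule.span S (F : Set S)
    rw [← hF]
    change _ ∈ Ideal.span (𝒜 1 : Set S)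
    rw [← h1, HomogeneousIdeal.mem_iff, HomogeneousIdeal.mem_irrelevant_iff, ha, map_sub,
      GradedRing.proj_apply, GradedRing.proj_apply,
      decompose_of_mem_same 𝒜 (SetLike.coe_mem ((decompose 𝒜 s) 0)), sub_self]
  let G : GrD (A := A) x M :=
    { π := pr ℳ
      idem := fun i m => by
        rw [pr_apply, pr_apply]
        exact decompose_of_mem_same ℳ (SetLike.coe_mem _)
      orth := fun i j m hij => by
        rw [pr_apply, pr_apply]
        exact decompose_of_mem_ne ℳ (SetLike.coe_mem _) (Ne.symm hij)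
      fin := fun m => ⟨(decompose ℳ m).support, fun i hi => by
          rw [pr_apply, DFinsupp.notMem_support_iff.mp hi]; rfl,
        (DirectSum.sum_support_decompose ℳ m).symm⟩
      hXs := fun j i m => (key 𝒜 ℳ (hx1 j) m).1 i
      hX0 := fun j m => (key 𝒜 ℳ (hx1 j) m).2 }
  have hN : IsNoetherian S M := inferInstance
  obtain ⟨-, hpoly⟩ := hprop_all hS F.card le_rfl M G (fun i hi => absurd i.2 (by omega))
  obtain ⟨r, a, N, h⟩ := hpoly.exists_fin
  refine ⟨r, a, N, fun n hn => ?_⟩
  rw [← h n hn]
  change lam A (ℳ n) = lam A (LinearMap.range (pr ℳ n))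
  rw [range_pr]

end Groth.Agent.S9662
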