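import Groth.Statements.S9663
import Groth.Agent.Lib.Helper2.GlueLoc

set_option autoImplicit false
universe u
open CAlg

namespace Groth.Agent.S9663

/-- Let R be a ring and f_i, i in a finite index set, elements of R (no condition on the ideal they
generate). Suppose given for each i an R-module M_i on which f_i acts invertibly, for each pair (i,
j) an R-linear isomorphism ψ_ij : (M_i)_{f_j} → (M_j)_{f_i}, and suppose the cocycle condition ψ_jk
∘ ψ_ij = ψ_ik holds as maps (M_i)_{f_j f_k} → (M_k)_{f_i f_j} for all triples (i, j, k). All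
localizations are given through their universal properties: (M_i)_{f_j} with its map g from M_i;
(M_i)_{f_j f_k} with its map t from M_i and the compatible maps u from (M_i)_{f_j} and v from
(M_i)_{f_k}; and the three localized isomorphisms Ψ₁ (ψ_ij on (M_i)_{f_j f_k}), Ψ₂ (ψ_jk on
(M_j)_{f_i f_k}) and Ψ₃ (ψ_ik on (M_i)_{f_j f_k}) are given as maps compatible with the ψ's. Let M ⊆
Π_i M_i be the submodule of families (m_i) with m_i/1 = ψ_ji(m_j/1) in (M_i)_{f_j} for all i, j.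
Then for each i the projection M → M_i exhibits M_i as the localization of M at f_i. -/
theorem result {R : Type u} [CommRing R] {ι : Type u} [Finite ι] (f : ι → R)
    (Mi : ι → Type u) [∀ i, AddCommGroup (Mi i)] [∀ i, Module R (Mi i)]
    (hMi : ∀ i, IsUnit (algebraMap R (Module.End R (Mi i)) (f i)))
    (Mij : ι → ι → Type u) [∀ i j, AddCommGroup (Mij i j)] [∀ i j, Module R (Mij i j)]
    (g : ∀ i j, Mi i →ₗ[R] Mij i j) [∀ i j, IsLocalizedModule (Submonoid.powers (f j)) (g i j)]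
    (ψ : ∀ i j, Mij i j ≃ₗ[R] Mij j i)
    (T : ι → ι → ι → Type u) [∀ i j k, AddCommGroup (T i j k)] [∀ i j k, Module R (T i j k)]
    (t : ∀ i j k, Mi i →ₗ[R] T i j k) [∀ i j k, IsLocalizedModule (Submonoid.powers (f j * f k)) (t i j k)]
    (u : ∀ i j k, Mij i j →ₗ[R] T i j k) (hu : ∀ i j k, u i j k ∘ₗ g i j = t i j k)
    (v : ∀ i j k, Mij i k →ₗ[R] T i j k) (hv : ∀ i j k, v i j k ∘ₗ g i k = t i j k)
    (Ψ₁ : ∀ i j k, T i j k →ₗ[R] T j i k) (hΨ₁ : ∀ i j k, Ψ₁ i j k ∘ₗ u i j k = u j i k ∘ₗ (ψ i j).toLinearMap)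
    (Ψ₂ : ∀ i j k, T j i k →ₗ[R] T k i j) (hΨ₂ : ∀ i j k, Ψ₂ i j k ∘ₗ v j i k = v k i j ∘ₗ (ψ j k).toLinearMap)
    (Ψ₃ : ∀ i j k, T i j k →ₗ[R] T k i j) (hΨ₃ : ∀ i j k, Ψ₃ i j k ∘ₗ v i j k = u k i j ∘ₗ (ψ i k).toLinearMap)
    (hcoc : ∀ i j k, Ψ₂ i j k ∘ₗ Ψ₁ i j k = Ψ₃ i j k)
    (M : Submodule R (∀ i, Mi i)) (hM : ∀ m : ∀ i, Mi i, m ∈ M ↔ ∀ i j, g i j (m i) = ψ j i (g j i (m j))) (i : ι) :
    IsLocalizedModule (Submonoid.powers (f i)) ((LinearMap.proj i).comp M.subtype : ↥M →ₗ[R] Mi i) := by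
  classical
  have kerv : ∀ a b c (z : Mij a c), v a b c z = 0 → ∃ n : ℕ, f b ^ n • z = 0 :=
    fun a b c z hz =>
      Groth.Agent.Lib.Helper2.GlueLoc.ker_v (f c) (f b) (g a c) (t a b c) (v a b c) (hv a b c) z hz
  have key : ∀ (x : Mi i) (y : ∀ j, Mi j), (∀ j, g j i (y j) = ψ i j (g i j x)) →
      ∀ j k, ∃ n : ℕ, f i ^ n • (g j k (y j) - ψ k j (g k j (y k))) = 0 := by
    intro x y hy j k
    apply kerv j i k
    rw [map_sub, sub_eq_zero]
    have e1 : v j i k (g j k (y j)) = Ψ₃ i k j (t i k j x) := by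
      have h1 : v j i k (g j k (y j)) = t j i k (y j) := LinearMap.congr_fun (hv j i k) (y j)
      have h2 : u j i k (g j i (y j)) = t j i k (y j) := LinearMap.congr_fun (hu j i k) (y j)
      have h3 : Ψ₃ i k j (v i k j (g i j x)) = u j i k (ψ i j (g i j x)) :=
        LinearMap.congr_fun (hΨ₃ i k j) (g i j x)
      have h4 : v i k j (g i j x) = t i k j x := LinearMap.congr_fun (hv i k j) x
      rw [h1, ← h2, hy j, ← h3, h4]
    have e2 : v j i k (ψ k j (g k j (y k))) = Ψ₂ i k j (Ψ₁ i k j (t i k j x)) := by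
      have h1 : Ψ₂ i k j (v k i j (g k j (y k))) = v j i k (ψ k j (g k j (y k))) :=
        LinearMap.congr_fun (hΨ₂ i k j) (g k j (y k))
      have h2 : v k i j (g k j (y k)) = t k i j (y k) := LinearMap.congr_fun (hv k i j) (y k)
      have h3 : u k i j (g k i (y k)) = t k i j (y k) := LinearMap.congr_fun (hu k i j) (y k)
      have h4 : Ψ₁ i k j (u i k j (g i k x)) = u k i j (ψ i k (g i k x)) :=
        LinearMap.congr_fun (hΨ₁ i k j) (g i k x)
      have h5 : u i k j (g i k x) = t i k j x := LinearMap.congr_fun (hu i k j) x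
      rw [← h1, h2, ← h3, hy k, ← h4, h5]
    rw [e1, e2]
    exact (LinearMap.congr_fun (hcoc i k j) (t i k j x)).symm
  refine ⟨?_, ?_, ?_⟩
  · rintro ⟨_, ⟨n, rfl⟩⟩
    change IsUnit (algebraMap R (Module.End R (Mi i)) (f i ^ n))
    rw [map_pow]
    exact (hMi i).pow n
  · intro x
    have hA : ∀ j, ∃ n : ℕ, ∃ yj : Mi j, g j i yj = f i ^ n • ψ i j (g i j x) := by
      intro j
      obtain ⟨⟨yj, ⟨_, ⟨n, rfl⟩⟩⟩, h⟩ :=
        IsLocalizedModule.surj (Submonoid.powers (f i)) (g j i) (ψ i j (g i j x))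
      exact ⟨n, yj, h.symm⟩
    obtain ⟨n, hn⟩ := Groth.Agent.Lib.Helper2.GlueLoc.exists_uniform
      (fun j n => ∃ yj : Mi j, g j i yj = f i ^ n • ψ i j (g i j x)) (by
        rintro j n n' hnn' ⟨yj, hyj⟩
        refine ⟨f i ^ (n' - n) • yj, ?_⟩
        rw [map_smul, hyj, smul_smul, ← pow_add, Nat.sub_add_cancel hnn']) hA
    choose y hy using hn
    have hy' : ∀ j, g j i (y j) = ψ i j (g i j (f i ^ n • x)) := by
      intro j
      rw [hy j, map_smul, map_smul]
    obtain ⟨N, hN⟩ := Groth.Agent.Lib.Helper2.GlueLoc.exists_uniform (ι := ι × ι)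
      (fun p N => f i ^ N • (g p.1 p.2 (y p.1) - ψ p.2 p.1 (g p.2 p.1 (y p.2))) = 0) (by
        rintro p N N' hNN' h
        rw [← Nat.sub_add_cancel hNN', pow_add, mul_smul, h, smul_zero])
      (fun p => key _ y hy' p.1 p.2)
    have hmem : (fun j => f i ^ N • y j) ∈ M := by
      rw [hM]
      intro j k
      have := hN (j, k)
      simp only at this
      rw [smul_sub, sub_eq_zero] at this
      rw [map_smul, map_smul, map_smul]
      exact this
    have hii : g i i (f i ^ N • y i) = g i i (f i ^ (N + n) • x) := by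
      have h1 : g i i (f i ^ N • y i) = ψ i i (g i i (f i ^ N • y i)) := (hM _).mp hmem i i
      have h2 : g i i (f i ^ N • y i) = ψ i i (g i i (f i ^ (N + n) • x)) := by
        rw [map_smul, hy' i, pow_add, mul_smul, map_smul (g i i) (f i ^ N), map_smul (ψ i i)]
      have h3 : ψ i i (g i i (f i ^ (N + n) • x)) =
          ψ i i (ψ i i (g i i (f i ^ (N + n) • x))) := by
        rw [← h2]
        exact h1
      have h4 := (ψ i i).injective h3
      rw [h2, ← h4]
    obtain ⟨⟨_, ⟨e, rfl⟩⟩, he⟩ := IsLocalizedModule.exists_of_eq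
      (S := Submonoid.powers (f i)) (f := g i i) hii
    change f i ^ e • (f i ^ N • y i) = f i ^ e • (f i ^ (N + n) • x) at he
    refine ⟨⟨f i ^ e • ⟨_, hmem⟩, ⟨f i ^ (e + (N + n)), ⟨_, rfl⟩⟩⟩, ?_⟩
    change f i ^ (e + (N + n)) • x = f i ^ e • (f i ^ N • y i)
    rw [he, smul_smul, ← pow_add]
  · intro m m' hmm'
    have hi : m.1 i = m'.1 i := hmm'
    have h1 : ∀ j, ∃ n : ℕ, f i ^ n • m.1 j = f i ^ n • m'.1 j := by
      intro j
      have hm := (hM m.1).mp m.2 j i
      have hm' := (hM m'.1).mp m'.2 j i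
      have : g j i (m.1 j) = g j i (m'.1 j) := by rw [hm, hm', hi]
      obtain ⟨⟨_, ⟨e, rfl⟩⟩, he⟩ := IsLocalizedModule.exists_of_eq
        (S := Submonoid.powers (f i)) (f := g j i) this
      exact ⟨e, he⟩
    obtain ⟨n, hn⟩ := Groth.Agent.Lib.Helper2.GlueLoc.exists_uniform
      (fun j n => f i ^ n • m.1 j = f i ^ n • m'.1 j) (by
        rintro j n n' hnn' h
        rw [← Nat.sub_add_cancel hnn', pow_add, mul_smul, mul_smul, h]) h1
    refine ⟨⟨f i ^ n, ⟨n, rfl⟩⟩, ?_⟩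
    apply Subtype.ext
    funext j
    exact hn j

end Groth.Agent.S9663
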