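import Groth.Statements.S9664
-- import your own Groth.Agent.* helpers here

set_option autoImplicit false
universe u
open CAlg

namespace Groth.Agent.S9664

/-- General lemma: if every element of `B` is a unit multiple of an element coming from `S`,
then primality of the `S`-annihilator of `x` implies primality of the `B`-annihilator. -/
theorem ann_isPrime_of_unit_mul {S B : Type u} [CommRing S] [CommRing B] (ι : S →+* B)
    (F : Type u) [AddCommGroup F] [Module S F] [Module B F]
    (hsm : ∀ (s : S) (x : F), s • x = ι s • x)
    (hB : ∀ b : B, ∃ u : B, IsUnit u ∧ ∃ s : S, u * b = ι s)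
    (x : F) (hx : (Submodule.span S {x}).annihilator.IsPrime) :
    (Submodule.span B {x}).annihilator.IsPrime := by
  have hx0 : x ≠ 0 := by
    rintro rfl
    apply hx.ne_top
    rw [Ideal.eq_top_iff_one, Submodule.mem_annihilator_span_singleton, smul_zero]
  refine ⟨?_, ?_⟩
  · rw [Ne, Ideal.eq_top_iff_one, Submodule.mem_annihilator_span_singleton, one_smul]
    exact hx0
  · intro b b' hbb'
    rw [Submodule.mem_annihilator_span_singleton] at hbb'
    obtain ⟨u, hu, s, hs⟩ := hB b
    obtain ⟨u', hu', s', hs'⟩ := hB b'
    have h1 : (s * s') ∈ (Submodule.span S {x}).annihilator := by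
      rw [Submodule.mem_annihilator_span_singleton, hsm, map_mul, ← hs, ← hs']
      have : u * b * (u' * b') = (u * u') * (b * b') := by ring
      rw [this, mul_smul, hbb', smul_zero]
    have key : ∀ (v c : B) (t : S), IsUnit v → v * c = ι t →
        t ∈ (Submodule.span S {x}).annihilator → c ∈ (Submodule.span B {x}).annihilator := by
      intro v c t hv hvc ht
      rw [Submodule.mem_annihilator_span_singleton] at ht ⊢
      rw [hsm, ← hvc, mul_smul] at ht
      obtain ⟨w, rfl⟩ := hv
      have := congrArg (fun y => (↑w⁻¹ : B) • y) ht
      simpa [smul_smul] using this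
    rcases hx.mem_or_mem h1 with h | h
    · exact Or.inl (key u b s hu hs h)
    · exact Or.inr (key u' b' s' hu' hs' h)

open TensorProduct in
attribute [local instance] Algebra.TensorProduct.rightAlgebra in
theorem smul_tensor {R S : Type u} [CommRing R] [CommRing S] [Algebra R S] (N : Type u)
    [AddCommGroup N] [Module S N] (p : Ideal R) [p.IsPrime] (s : S) (x : (p.Fiber S) ⊗[S] N) :
    s • x = (Algebra.TensorProduct.includeRight (R := R) (A := p.ResidueField) (B := S)).toRingHom s • x := by
  induction x using TensorProduct.induction_on with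
  | zero => simp
  | add a b ha hb => rw [smul_add, ha, hb, smul_add]
  | tmul b n =>
    rw [TensorProduct.smul_tmul', TensorProduct.smul_tmul', Algebra.smul_def]
    rfl

theorem smul_fiberMod {R S : Type u} [CommRing R] [CommRing S] [Algebra R S] (N : Type u)
    [AddCommGroup N] [Module S N] (p : Ideal R) [p.IsPrime] (s : S) (x : FlatCA.fiberMod p S N) :
    s • x = (Algebra.TensorProduct.includeRight (R := R) (A := p.ResidueField) (B := S)).toRingHom s • x :=
  smul_tensor N p s x

theorem exists_unit_mul {R S : Type u} [CommRing R] [CommRing S] [Algebra R S]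
    (p : Ideal R) [p.IsPrime] (b : p.Fiber S) :
    ∃ u : p.Fiber S, IsUnit u ∧ ∃ s : S, u * b =
      (Algebra.TensorProduct.includeRight (R := R) (A := p.ResidueField) (B := S)).toRingHom s := by
  obtain ⟨r, hr, s, e⟩ := Ideal.Fiber.exists_smul_eq_one_tmul p b
  refine ⟨algebraMap R (p.Fiber S) r, ?_, s, ?_⟩
  · rw [IsScalarTower.algebraMap_apply R p.ResidueField (p.Fiber S)]
    apply IsUnit.map
    rw [isUnit_iff_ne_zero, Ne, Ideal.algebraMap_residueField_eq_zero]
    exact hr
  · rw [← Algebra.smul_def, e]
    rfl

/-- Let R → S be a ring map, N an S-module, q a prime of S and p the prime of R below q; an associated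
prime of a module is a prime ideal equal to the annihilator of some element. Then q is an associated
prime of the S-module N ⊗_R κ(p) (the fibre module of N over p, an S-module by restriction of
scalars along S → S ⊗_R κ(p)) if and only if q is the inverse image in S of an associated prime of N
⊗_R κ(p) regarded as a module over the fibre ring S ⊗_R κ(p). -/
theorem result {R S : Type u} [CommRing R] [CommRing S] [Algebra R S] (N : Type u) [AddCommGroup N] [Module S N] [Module R N] [IsScalarTower R S N]
    (p : Ideal R) [p.IsPrime] (q : Ideal S) [q.IsPrime] (hq : q.comap (algebraMap R S) = p) :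
    q ∈ FlatCA.ass S (FlatCA.fiberMod p S N) ↔
      ∃ Q ∈ FlatCA.ass (p.Fiber S) (FlatCA.fiberMod p S N),
        Q.comap (Algebra.TensorProduct.includeRight (R := R) (A := p.ResidueField) (B := S)).toRingHom = q := by
  have hcomap : ∀ x : FlatCA.fiberMod p S N, Ideal.comap
      (Algebra.TensorProduct.includeRight (R := R) (A := p.ResidueField) (B := S)).toRingHom
      (Submodule.span (p.Fiber S) {x}).annihilator = (Submodule.span S {x}).annihilator := by
    intro x
    ext r
    rw [Ideal.mem_comap, Submodule.mem_annihilator_span_singleton,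
      Submodule.mem_annihilator_span_singleton, smul_fiberMod]
  constructor
  · rintro ⟨hq', x, rfl⟩
    refine ⟨(Submodule.span (p.Fiber S) {x}).annihilator, ⟨?_, x, rfl⟩, hcomap x⟩
    exact ann_isPrime_of_unit_mul _ _ (smul_fiberMod N p) (exists_unit_mul p) x hq'
  · rintro ⟨Q, ⟨hQ, x, rfl⟩, rfl⟩
    exact ⟨inferInstance, x, hcomap x⟩

end Groth.Agent.S9664
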