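import Groth.Statements.S9667
import Mathlib.LinearAlgebra.TensorProduct.Finiteness
import Mathlib.LinearAlgebra.TensorProduct.Tower
import Mathlib.Algebra.Colimit.TensorProduct
import Mathlib.Tactic

set_option autoImplicit false
universe u
open CAlg

namespace Groth.Agent.S9667

open TensorProduct in
theorem smul_lTensor' {R S : Type u} [CommRing R] [CommRing S] [Algebra R S]
    (N : Type u) [AddCommGroup N] [Module S N] [Module R N] [IsScalarTower R S N]
    {M' M : Type u} [AddCommGroup M'] [Module R M'] [AddCommGroup M] [Module R M]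
    (f : M' →ₗ[R] M) (z' : N ⊗[R] M') (s : S) :
    s • (f.lTensor N z') = f.lTensor N (s • z') :=
  ((TensorProduct.AlgebraTensorModule.lTensor S N f).map_smul s z').symm

open TensorProduct in
theorem exists_fg_lTensor_eq_zero {R : Type u} [CommRing R] (N : Type u) [AddCommGroup N]
    [Module R N] {M : Type u} [AddCommGroup M] [Module R M] {M₀ : Submodule R M} (h₀ : M₀.FG)
    (x : N ⊗[R] M₀) (hx : M₀.subtype.lTensor N x = 0) :
    ∃ M₁ : Submodule R M, M₁.FG ∧ ∃ h : M₀ ≤ M₁, (Submodule.inclusion h).lTensor N x = 0 := by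
  have h1 : M₀.subtype.rTensor N (TensorProduct.comm R N M₀ x) = M₀.subtype.rTensor N 0 := by
    rw [LinearMap.rTensor_comm, hx, map_zero, map_zero]
  obtain ⟨M₁, hfg, hle, heq⟩ := h₀.exists_rTensor_fg_inclusion_eq h1
  refine ⟨M₁, hfg, hle, ?_⟩
  rw [LinearMap.rTensor_comm, map_zero] at heq
  exact (TensorProduct.comm R N M₁).injective (by rw [heq, map_zero])

open TensorProduct in
/-- Part (3): (B = B_fin): let R → S be a ring map with S Noetherian, N an S-module, M an R-module and q
a prime of S; an associated prime of a module is a prime ideal equal to the annihilator of some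
element. If q is an associated prime of the S-module N ⊗_R M, then there is a finitely generated
R-submodule M' ⊆ M such that q is an associated prime of the S-module N ⊗_R M'. -/
theorem result {R S : Type u} [CommRing R] [CommRing S] [Algebra R S] (N : Type u) [AddCommGroup N] [Module S N] [Module R N] [IsScalarTower R S N] [IsNoetherianRing S]
    (M : Type u) [AddCommGroup M] [Module R M] (q : Ideal S) [q.IsPrime] (h : q ∈ FlatCA.ass S (N ⊗[R] M)) :
    ∃ M' : Submodule R M, M'.FG ∧ q ∈ FlatCA.ass S (N ⊗[R] ↥M') := by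
  classical
  obtain ⟨hq, z, hz⟩ := h
  obtain ⟨F, hF⟩ := (isNoetherianRing_iff_ideal_fg S).mp inferInstance q
  obtain ⟨M₀, hfin₀, hsub⟩ :=
    TensorProduct.exists_finite_submodule_right_of_setFinite {z} (Set.finite_singleton z)
  have hfg₀ : M₀.FG := Module.Finite.iff_fg.mp hfin₀
  obtain ⟨z₀, hz₀⟩ := hsub (Set.mem_singleton z)
  have hs : ∀ s ∈ F, ∃ M₁ : Submodule R M, M₁.FG ∧ ∃ h : M₀ ≤ M₁,
      (Submodule.inclusion h).lTensor N (s • z₀) = 0 := by
    intro s hsF
    apply exists_fg_lTensor_eq_zero N hfg₀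
    rw [← smul_lTensor', hz₀]
    have : s ∈ q := hF ▸ Ideal.subset_span hsF
    rw [hz, Submodule.mem_annihilator_span_singleton] at this
    exact this
  choose! M₁ hM₁fg hM₁le hM₁eq using hs
  let M' : Submodule R M := M₀ ⊔ F.sup M₁
  have hM'fg : M'.FG := hfg₀.sup (Submodule.fg_finset_sup F M₁ hM₁fg)
  have hle₀ : M₀ ≤ M' := le_sup_left
  let z' : N ⊗[R] M' := (Submodule.inclusion hle₀).lTensor N z₀
  have hz' : M'.subtype.lTensor N z' = z := by
    rw [← hz₀, ← LinearMap.lTensor_comp_apply]
    rfl
  refine ⟨M', hM'fg, hq, z', ?_⟩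
  apply le_antisymm
  · rw [← hF, Ideal.span_le]
    intro s hsF
    rw [SetLike.mem_coe, Submodule.mem_annihilator_span_singleton]
    have hle₁ : M₁ s ≤ M' := le_trans (Finset.le_sup (f := M₁) hsF) le_sup_right
    have : Submodule.inclusion hle₀ =
        (Submodule.inclusion hle₁).comp (Submodule.inclusion (hM₁le s hsF)) := rfl
    rw [smul_lTensor', this, LinearMap.lTensor_comp_apply, hM₁eq s hsF, map_zero]
  · intro s hs'
    rw [Submodule.mem_annihilator_span_singleton] at hs'
    rw [hz, Submodule.mem_annihilator_span_singleton, ← hz', smul_lTensor', hs', map_zero]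

end Groth.Agent.S9667
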