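import Groth.Statements.S9668
import Mathlib.LinearAlgebra.TensorProduct.Finiteness
import Mathlib.LinearAlgebra.TensorProduct.Tower
import Mathlib.Tactic

set_option autoImplicit false
universe u
open CAlg

namespace Groth.Agent.S9668

open TensorProduct in
/-- `s • z' = 0 ↔ s • (1 ⊗ f) z' = 0` when `1 ⊗ f` is injective (the map is `S`-linear). -/
theorem smul_lTensor_eq_zero_iff {R S : Type u} [CommRing R] [CommRing S] [Algebra R S]
    (N : Type u) [AddCommGroup N] [Module S N] [Module R N] [IsScalarTower R S N]
    {M' M : Type u} [AddCommGroup M'] [Module R M'] [AddCommGroup M] [Module R M]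
    (f : M' →ₗ[R] M) (hf : Function.Injective (f.lTensor N)) (z' : N ⊗[R] M') (s : S) :
    s • (f.lTensor N z') = 0 ↔ s • z' = 0 := by
  have h1 : s • (f.lTensor N z') = f.lTensor N (s • z') := by
    exact ((TensorProduct.AlgebraTensorModule.lTensor S N f).map_smul s z').symm
  rw [h1]
  constructor
  · intro h
    apply hf
    rw [h, map_zero]
  · intro h
    rw [h, map_zero]

open TensorProduct in
/-- Part (4): (B = B_fin): let R → S be a ring map, N an S-module flat over R, M an R-module and q a
prime of S; an associated prime of a module is a prime ideal equal to the annihilator of some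
element. If q is an associated prime of the S-module N ⊗_R M, then there is a finitely generated
R-submodule M' ⊆ M such that q is an associated prime of the S-module N ⊗_R M'. -/
theorem result {R S : Type u} [CommRing R] [CommRing S] [Algebra R S] (N : Type u) [AddCommGroup N] [Module S N] [Module R N] [IsScalarTower R S N] [Module.Flat R N]
    (M : Type u) [AddCommGroup M] [Module R M] (q : Ideal S) [q.IsPrime] (h : q ∈ FlatCA.ass S (N ⊗[R] M)) :
    ∃ M' : Submodule R M, M'.FG ∧ q ∈ FlatCA.ass S (N ⊗[R] ↥M') := by
  obtain ⟨hq, z, hz⟩ := h
  obtain ⟨M', hfin, hsub⟩ :=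
    TensorProduct.exists_finite_submodule_right_of_setFinite {z} (Set.finite_singleton z)
  obtain ⟨z', hz'⟩ := hsub (Set.mem_singleton z)
  refine ⟨M', Module.Finite.iff_fg.mp hfin, hq, z', ?_⟩
  have hinj : Function.Injective (M'.subtype.lTensor N) :=
    Module.Flat.lTensor_preserves_injective_linearMap _ M'.injective_subtype
  ext s
  rw [hz, Submodule.mem_annihilator_span_singleton, Submodule.mem_annihilator_span_singleton,
    ← hz', smul_lTensor_eq_zero_iff N M'.subtype hinj]

end Groth.Agent.S9668
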