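import Groth.Statements.S9677
import Groth.Agent.S2156
import Mathlib
set_option backward.isDefEq.respectTransparency.types false

set_option autoImplicit false
universe u
open CategoryTheory CategoryTheory.Limits AlgebraicGeometry
open Mor

namespace Groth.Agent.S9677
open TopologicalSpace

/-- A generization of the generic point of an irreducible component is that point. -/
theorem eq_of_specializes_of_mem_irreducibleComponents {T : Type*} [TopologicalSpace T] [T0Space T]
    {y y' : T} (hy : closure {y} ∈ irreducibleComponents T) (h : y' ⤳ y) : y' = y := by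
  have h1 : closure {y} ⊆ closure {y'} := h.closure_subset
  have h2 : IsIrreducible (closure ({y'} : Set T)) := isIrreducible_singleton.closure
  have h3 : closure {y'} ⊆ closure {y} := hy.2 h2 h1
  have h4 : closure {y'} = closure ({y} : Set T) := le_antisymm h3 h1
  exact (inseparable_iff_closure_eq.mpr h4).eq

/-- If `λ ∘ φ` is bijective with `A` local and `A₀` nontrivial, then `λ` is a local hom. -/
theorem isLocalHom_of_comp_bijective {K A A₀ : Type*} [CommRing K] [CommRing A] [CommRing A₀]
    [IsLocalRing A] [Nontrivial A₀] (φ : K →+* A) (l : A →+* A₀)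
    (h : Function.Bijective (l.comp φ)) : IsLocalHom l := by
  refine ⟨fun a ha => ?_⟩
  obtain ⟨b, hb⟩ := h.2 (l a)
  have hbu : IsUnit b := by
    let e := RingEquiv.ofBijective (l.comp φ) h
    have : IsUnit (e b) := by
      show IsUnit ((l.comp φ) b)
      rw [hb]; exact ha
    exact (isUnit_map_iff e b).mp this
  have hφb : IsUnit (φ b) := hbu.map φ
  by_contra hna
  have hsub : IsUnit (φ b - a) := by
    by_contra hns
    have h1 : a ∈ nonunits A := hna
    have h2 : φ b - a ∈ nonunits A := hns
    have h3 := IsLocalRing.nonunits_add h2 h1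
    rw [sub_add_cancel] at h3
    exact h3 hφb
  have h0 : l (φ b - a) = 0 := by
    rw [map_sub]
    have : l (φ b) = l a := hb
    rw [this, sub_self]
  have := hsub.map l
  rw [h0] at this
  exact not_isUnit_zero this

/-- If the specialization map of stalks for `x₀ ⤳ x` is a local hom then `x₀ = x`. -/
theorem eq_of_isLocalHom_stalkSpecializes {X : Scheme.{u}} {x₀ x : X} (h : x₀ ⤳ x)
    (hl : IsLocalHom (X.presheaf.stalkSpecializes h).hom) : x₀ = x := by
  have h1 := Scheme.SpecMap_stalkSpecializes_fromSpecStalk h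
  have h2 : (Spec.map (X.presheaf.stalkSpecializes h) ≫ X.fromSpecStalk x)
      (IsLocalRing.closedPoint (X.presheaf.stalk x₀)) = x₀ := by
    rw [h1]; exact Scheme.fromSpecStalk_closedPoint
  rw [Scheme.Hom.comp_apply] at h2
  have h3 : (Spec.map (X.presheaf.stalkSpecializes h))
      (IsLocalRing.closedPoint (X.presheaf.stalk x₀)) =
      IsLocalRing.closedPoint (X.presheaf.stalk x) := by
    exact IsLocalRing.comap_closedPoint (X.presheaf.stalkSpecializes h).hom
  rw [h3, Scheme.fromSpecStalk_closedPoint] at h2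
  exact h2.symm

/-- Specialization maps of stalks between equal points are isomorphisms. -/
theorem isIso_stalkSpecializes_of_eq {Y : Scheme.{u}} {a b : Y} (h : a ⤳ b) (e : a = b) :
    IsIso (Y.presheaf.stalkSpecializes h) := by
  subst e
  have : Y.presheaf.stalkSpecializes h = 𝟙 _ := TopCat.Presheaf.stalkSpecializes_refl _ _
  rw [this]
  infer_instance

/-- Under the birationality hypotheses, the only point over a generic point `f x₀` is `x₀`. -/
theorem eq_of_map_eq_generic {X Y : Scheme.{u}} (f : X ⟶ Y)
    (hbij : Set.BijOn (fun x : X => f.base x) {x : X | closure {x} ∈ irreducibleComponents ↥X}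
      {y : Y | closure {y} ∈ irreducibleComponents ↥Y})
    (hiso : ∀ x : X, closure {x} ∈ irreducibleComponents ↥X → IsIso (f.stalkMap x))
    (x₀ : X) (hx₀ : closure {x₀} ∈ irreducibleComponents ↥X) (x : X) (hx : f x = f x₀) :
    x = x₀ := by
  have hy : closure {f x₀} ∈ irreducibleComponents ↥Y := hbij.mapsTo hx₀
  -- a generic point x₁ specializing to x
  have hZ : IsIrreducible (irreducibleComponent x) := isIrreducible_irreducibleComponent
  have hZc : IsClosed (irreducibleComponent x) := isClosed_irreducibleComponent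
  obtain ⟨x₁, hx₁⟩ := QuasiSober.sober hZ hZc
  have hx₁c : closure {x₁} ∈ irreducibleComponents ↥X := by
    rw [hx₁.def]; exact irreducibleComponent_mem_irreducibleComponents x
  have hsp : x₁ ⤳ x := by
    rw [specializes_iff_mem_closure, hx₁.def]
    exact mem_irreducibleComponent
  have hfsp : f x₁ ⤳ f x := hsp.map f.continuous
  have hfx₁ : f x₁ = f x₀ := by
    rw [hx] at hfsp
    exact eq_of_specializes_of_mem_irreducibleComponents hy hfsp
  have hx₁₀ : x₁ = x₀ := hbij.injOn hx₁c hx₀ hfx₁
  subst hx₁₀
  -- naturality of specialization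
  have hnat := Scheme.Hom.stalkSpecializes_stalkMap f x₁ x hsp
  have hiso1 : IsIso (Y.presheaf.stalkSpecializes (f.base.hom.map_specializes hsp)) :=
    isIso_stalkSpecializes_of_eq _ hx.symm
  have hiso2 : IsIso (f.stalkMap x₁) := hiso x₁ hx₁c
  have hiso3 : IsIso (f.stalkMap x ≫ X.presheaf.stalkSpecializes hsp) := by
    rw [← hnat]; infer_instance
  have hbij' : Function.Bijective ((X.presheaf.stalkSpecializes hsp).hom.comp (f.stalkMap x).hom) := by
    rw [← CommRingCat.hom_comp]
    exact (ConcreteCategory.isIso_iff_bijective _).mp hiso3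
  have hl := isLocalHom_of_comp_bijective _ _ hbij'
  exact (eq_of_isLocalHom_stalkSpecializes hsp hl).symm

theorem bijective_algebraMap_of_unique_prime {R A K B : Type*} [CommRing R] [CommRing A]
    [CommRing K] [CommRing B] [Algebra R A] [Algebra R K] [Algebra A B] [Algebra K B] [Algebra R B]
    [IsScalarTower R A B] [IsScalarTower R K B]
    (q : Ideal R) [q.IsPrime] (p : Ideal A) [p.IsPrime] (hqp : q = p.comap (algebraMap R A))
    [IsLocalization.AtPrime K q] [Algebra.IsPushout R A K B]
    [Subsingleton (PrimeSpectrum B)]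
    (hbij : Function.Bijective (Localization.localRingHom q p (algebraMap R A) hqp)) :
    Function.Bijective (algebraMap K B) := by
  set M := Algebra.algebraMapSubmonoid A q.primeCompl with hM
  have hloc : IsLocalization M B :=
    (Algebra.isLocalization_iff_isPushout q.primeCompl K).mpr inferInstance
  have hMp : M ≤ p.primeCompl := by
    rintro _ ⟨r, hr, rfl⟩
    intro hmem
    apply hr
    rw [hqp]
    exact hmem
  have hdisj : Disjoint (M : Set A) (p : Set A) := by
    rw [Set.disjoint_left]
    intro a ha hap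
    exact hMp ha hap
  -- units
  have hunits : ∀ a : A, a ∉ p → IsUnit (algebraMap A B a) := by
    intro a ha
    by_contra hnu
    obtain ⟨m, hm, ham⟩ := exists_max_ideal_of_mem_nonunits hnu
    have hp' : (Ideal.map (algebraMap A B) p).IsPrime :=
      IsLocalization.isPrime_of_isPrime_disjoint M B p inferInstance hdisj
    have hcomap : Ideal.comap (algebraMap A B) (Ideal.map (algebraMap A B) p) = p :=
      IsLocalization.comap_map_of_isPrime_disjoint M B inferInstance hdisj
    have heq : (⟨m, hm.isPrime⟩ : PrimeSpectrum B) = ⟨Ideal.map (algebraMap A B) p, hp'⟩ :=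
      Subsingleton.elim _ _
    have hm_eq : m = Ideal.map (algebraMap A B) p := congrArg PrimeSpectrum.asIdeal heq
    rw [hm_eq] at ham
    have : a ∈ Ideal.comap (algebraMap A B) (Ideal.map (algebraMap A B) p) := ham
    rw [hcomap] at this
    exact ha this
  -- the map B → A_p
  let Sp := Localization.AtPrime p
  have hMunits : ∀ y : M, IsUnit (algebraMap A Sp y) := fun y =>
    IsLocalization.map_units (M := p.primeCompl) Sp ⟨y.1, hMp y.2⟩
  let g : B →+* Sp := IsLocalization.lift (M := M) (g := algebraMap A Sp) hMunits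
  have hgA : ∀ a : A, g (algebraMap A B a) = algebraMap A Sp a := fun a =>
    IsLocalization.lift_eq hMunits a
  have hg : Function.Bijective g := by
    constructor
    · rw [injective_iff_map_eq_zero]
      intro b hb
      obtain ⟨⟨a, s⟩, hab⟩ := IsLocalization.surj M b
      have h1 : g (algebraMap A B a) = 0 := by
        rw [← hab, map_mul, hb, zero_mul]
      rw [hgA] at h1
      obtain ⟨c, hc⟩ := (IsLocalization.map_eq_zero_iff p.primeCompl Sp a).mp h1
      have hcu := hunits c.1 c.2
      have h2 : algebraMap A B c.1 * algebraMap A B a = 0 := by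
        rw [← map_mul, hc, map_zero]
      have h3 : algebraMap A B a = 0 := by
        have := hcu.mul_right_eq_zero.mp h2
        exact this
      have hsu : IsUnit (algebraMap A B s.1) := IsLocalization.map_units B s
      have h4 : b * algebraMap A B s.1 = 0 := by rw [hab, h3]
      exact hsu.mul_left_eq_zero.mp h4
    · intro z
      obtain ⟨⟨a, s⟩, has⟩ := IsLocalization.surj p.primeCompl z
      have hsu := hunits s.1 s.2
      refine ⟨algebraMap A B a * ↑hsu.unit⁻¹, ?_⟩
      have hgs : g (algebraMap A B s.1) * g ↑hsu.unit⁻¹ = 1 := by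
        rw [← map_mul]
        have : algebraMap A B s.1 * ↑hsu.unit⁻¹ = 1 := hsu.mul_val_inv
        rw [this, map_one]
      rw [hgA] at hgs
      rw [map_mul, hgA]
      have hsu' : IsUnit (algebraMap A Sp s.1) := IsLocalization.map_units Sp s
      apply hsu'.mul_left_injective
      show (algebraMap A Sp) a * g ↑hsu.unit⁻¹ * (algebraMap A Sp) ↑s = z * (algebraMap A Sp) ↑s
      have has' : z * (algebraMap A Sp) ↑s = (algebraMap A Sp) a := has
      rw [has', mul_assoc, mul_comm (g _), hgs, mul_one]
  let eK : K ≃ₐ[R] Localization.AtPrime q :=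
    IsLocalization.algEquiv q.primeCompl K (Localization.AtPrime q)
  have hcomp : g.comp (algebraMap K B) =
      (Localization.localRingHom q p (algebraMap R A) hqp).comp
        (eK : K →+* Localization.AtPrime q) := by
    apply IsLocalization.ringHom_ext q.primeCompl
    ext r
    simp only [RingHom.comp_apply]
    rw [← IsScalarTower.algebraMap_apply R K B, IsScalarTower.algebraMap_apply R A B, hgA]
    have : (eK : K →+* _) (algebraMap R K r) = algebraMap R (Localization.AtPrime q) r :=
      eK.commutes r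
    rw [this, Localization.localRingHom_to_map]
  have hbij2 : Function.Bijective (g.comp (algebraMap K B)) := by
    rw [hcomp]
    exact hbij.comp eK.bijective
  exact (Function.Bijective.of_comp_iff' hg _).mp hbij2


theorem fromSpecStalk_appLE {Y : Scheme.{u}} (y : Y) (U : Y.Opens) (hy : y ∈ U)
    (hle : (⊤ : (Spec (Y.presheaf.stalk y)).Opens) ≤ (Y.fromSpecStalk y) ⁻¹ᵁ U) :
    (Y.fromSpecStalk y).appLE U ⊤ hle =
      Y.presheaf.germ U y hy ≫ (Scheme.ΓSpecIso (Y.presheaf.stalk y)).inv := by
  rw [Scheme.Hom.appLE, Scheme.fromSpecStalk_app hy]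
  simp only [Category.assoc]
  rw [← Functor.map_comp]
  have : (Spec (Y.presheaf.stalk y)).presheaf.map ((homOfLE le_top).op ≫ (homOfLE hle).op) = 𝟙 _ := by
    rw [← (Spec (Y.presheaf.stalk y)).presheaf.map_id]
    rfl
  rw [this, Category.comp_id]


/-- Suppose X and Y have finitely many irreducible components and f : X ⟶ Y is birational, i.e. f
restricts to a bijection between the generic points of the irreducible components of X and those of
Y and induces an isomorphism of local rings at every generic point of an irreducible component of X.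
Then for any generic point y of a component of Y, pulling f back along the canonical map Spec
O_{Y,y} ⟶ Y gives an isomorphism onto Spec O_{Y,y}. -/
theorem result {X Y : Scheme.{u}} (f : X ⟶ Y)
    (hXfin : (irreducibleComponents ↥X).Finite) (hYfin : (irreducibleComponents ↥Y).Finite)
    (hbij : Set.BijOn (fun x : X => f.base x) {x : X | closure {x} ∈ irreducibleComponents ↥X}
      {y : Y | closure {y} ∈ irreducibleComponents ↥Y})
    (hiso : ∀ x : X, closure {x} ∈ irreducibleComponents ↥X → IsIso (f.stalkMap x))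
    (y : Y) (hy : closure {y} ∈ irreducibleComponents ↥Y) :
    IsIso (pullback.snd f (Y.fromSpecStalk y)) := by
  obtain ⟨x₀, hx₀, hfx₀⟩ := hbij.surjOn hy
  have hfx₀' : f x₀ = y := hfx₀
  subst hfx₀'
  have hfst : ∀ p : ↑(pullback f (Y.fromSpecStalk (f x₀))),
      pullback.fst f (Y.fromSpecStalk (f x₀)) p = x₀ := by
    intro p
    apply eq_of_map_eq_generic f hbij hiso x₀ hx₀
    have h1 : f (pullback.fst f (Y.fromSpecStalk (f x₀)) p) =
        (Y.fromSpecStalk (f x₀)) (pullback.snd f (Y.fromSpecStalk (f x₀)) p) := by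
      rw [← Scheme.Hom.comp_apply, ← Scheme.Hom.comp_apply, pullback.condition]
    have h2 : (Y.fromSpecStalk (f x₀)) (pullback.snd f (Y.fromSpecStalk (f x₀)) p) ⤳ f x₀ := by
      have : (Y.fromSpecStalk (f x₀)) (pullback.snd f (Y.fromSpecStalk (f x₀)) p) ∈
          Set.range (Y.fromSpecStalk (f x₀)) := ⟨_, rfl⟩
      rw [Scheme.range_fromSpecStalk] at this
      exact this
    rw [h1]
    exact eq_of_specializes_of_mem_irreducibleComponents hy h2
  set j := Y.fromSpecStalk (f x₀) with hj
  haveI : IsPreimmersion (pullback.fst f j) := MorphismProperty.pullback_fst _ _ inferInstance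
  have hinj : Function.Injective (pullback.fst f j) := (pullback.fst f j).isEmbedding.injective
  have hsub : ∀ a b : ↑(pullback f j), a = b := fun a b => hinj (by rw [hfst a, hfst b])
  obtain ⟨p₀, hp₀, hp₀'⟩ := Scheme.Pullback.exists_preimage_pullback (f := f) (g := j) x₀
    (IsLocalRing.closedPoint _) (by rw [hj, Scheme.fromSpecStalk_closedPoint])
  -- affine opens
  obtain ⟨_, ⟨U, hU, rfl⟩, hyU, -⟩ :=
    Y.isBasis_affineOpens.exists_subset_of_mem_open (Set.mem_univ (f x₀)) isOpen_univ
  obtain ⟨_, ⟨V, hV, rfl⟩, hxV, hVU⟩ :=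
    X.isBasis_affineOpens.exists_subset_of_mem_open hyU (U.2.preimage f.continuous)
  have H : IsPullback (pullback.fst f j) (pullback.snd f j) f j := IsPullback.of_hasPullback _ _
  have hUT : IsAffineOpen (⊤ : (Spec (Y.presheaf.stalk (f x₀))).Opens) := isAffineOpen_top _
  have hjU : j ⁻¹ᵁ U = ⊤ := by
    rw [← top_le_iff]
    intro t _
    have ht : t ⤳ IsLocalRing.closedPoint (Y.presheaf.stalk (f x₀)) :=
      IsLocalRing.specializes_closedPoint t
    have h2 := ht.map j.continuous
    rw [hj, Scheme.fromSpecStalk_closedPoint] at h2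
    exact h2.mem_open U.2 hyU
  have hUST : (⊤ : (Spec (Y.presheaf.stalk (f x₀))).Opens) ≤ j ⁻¹ᵁ U := by rw [hjU]
  have hUY : (⊤ : (pullback f j).Opens) = (pullback.fst f j) ⁻¹ᵁ V ⊓ (pullback.snd f j) ⁻¹ᵁ ⊤ := by
    symm
    rw [← top_le_iff]
    intro p _
    refine ⟨?_, trivial⟩
    show pullback.fst f j p ∈ V
    rw [hfst p]; exact hxV
  have hPaff : IsAffineOpen (⊤ : (pullback f j).Opens) := by
    have : IsAffine _ := hU
    have : IsAffine _ := hUT
    have : IsAffine _ := hV
    exact .of_isIso (Scheme.Hom.isPullback_resLE H hUST hVU hUY).isoPullback.hom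
  have hUYV : (⊤ : (pullback f j).Opens) ≤ (pullback.fst f j) ⁻¹ᵁ V := by rw [hUY]; exact inf_le_left
  have hUYT : (⊤ : (pullback f j).Opens) ≤ (pullback.snd f j) ⁻¹ᵁ ⊤ := le_top
  have hpo : IsPushout (f.appLE U V hVU) (j.appLE U ⊤ hUST)
      ((pullback.fst f j).appLE V ⊤ hUYV) ((pullback.snd f j).appLE ⊤ ⊤ hUYT) :=
    (isIso_pushoutSection_iff H hUST hVU hUY).mp
      (isIso_pushoutSection_of_isAffineOpen H hUST hVU hUY hU hUT hV)
  letI : Algebra Γ(Y, U) Γ(X, V) := (f.appLE U V hVU).hom.toAlgebra
  letI : Algebra Γ(Y, U) Γ(Spec (Y.presheaf.stalk (f x₀)), ⊤) := (j.appLE U ⊤ hUST).hom.toAlgebra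
  letI : Algebra Γ(X, V) Γ(pullback f j, ⊤) := ((pullback.fst f j).appLE V ⊤ hUYV).hom.toAlgebra
  letI : Algebra Γ(Spec (Y.presheaf.stalk (f x₀)), ⊤) Γ(pullback f j, ⊤) :=
    ((pullback.snd f j).appLE ⊤ ⊤ hUYT).hom.toAlgebra
  letI : Algebra Γ(Y, U) Γ(pullback f j, ⊤) :=
    ((algebraMap Γ(X, V) Γ(pullback f j, ⊤)).comp (algebraMap Γ(Y, U) Γ(X, V))).toAlgebra
  haveI : IsScalarTower Γ(Y, U) Γ(X, V) Γ(pullback f j, ⊤) :=
    IsScalarTower.of_algebraMap_eq (fun _ => rfl)
  haveI : IsScalarTower Γ(Y, U) Γ(Spec (Y.presheaf.stalk (f x₀)), ⊤) Γ(pullback f j, ⊤) := by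
    refine IsScalarTower.of_algebraMap_eq' ?_
    simp only [RingHom.algebraMap_toAlgebra]
    rw [← CommRingCat.hom_comp, ← CommRingCat.hom_comp, hpo.w]
  haveI : Algebra.IsPushout Γ(Y, U) Γ(X, V) Γ(Spec (Y.presheaf.stalk (f x₀)), ⊤)
      Γ(pullback f j, ⊤) := by
    rw [← CommRingCat.isPushout_iff_isPushout]
    simp only [RingHom.algebraMap_toAlgebra, CommRingCat.ofHom_hom]
    exact hpo
  set q := (hU.primeIdealOf ⟨f x₀, hyU⟩).asIdeal with hq
  set p := (hV.primeIdealOf ⟨x₀, hxV⟩).asIdeal with hp
  have hqp : q = p.comap (algebraMap Γ(Y, U) Γ(X, V)) :=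
    congr($(IsAffineOpen.comap_primeIdealOf_appLE U hU V hV hVU hxV).1).symm
  haveI hlocK : IsLocalization.AtPrime Γ(Spec (Y.presheaf.stalk (f x₀)), ⊤) q := by
    letI : Algebra Γ(Y, U) (Y.presheaf.stalk (f x₀)) :=
      (Y.presheaf.germ U (f x₀) hyU).hom.toAlgebra
    haveI := hU.isLocalization_stalk ⟨f x₀, hyU⟩
    let e : Y.presheaf.stalk (f x₀) ≃ₐ[Γ(Y, U)] Γ(Spec (Y.presheaf.stalk (f x₀)), ⊤) :=
      { (Scheme.ΓSpecIso (Y.presheaf.stalk (f x₀))).symm.commRingCatIsoToRingEquiv with
        commutes' := fun r => by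
          show (Scheme.ΓSpecIso _).inv.hom (Y.presheaf.germ U (f x₀) hyU r) =
            (j.appLE U ⊤ hUST).hom r
          exact (congrArg (fun φ => φ.hom r) (fromSpecStalk_appLE (f x₀) U hyU hUST)).symm }
    exact IsLocalization.isLocalization_of_algEquiv q.primeCompl e
  haveI hsubB : Subsingleton (PrimeSpectrum Γ(pullback f j, ⊤)) := by
    refine ⟨fun P₁ P₂ => ?_⟩
    have hinj' : Function.Injective hPaff.fromSpec := hPaff.fromSpec.isOpenEmbedding.injective
    exact hinj' (hsub _ _)
  have hbijloc : Function.Bijective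
      (Localization.localRingHom q p (algebraMap Γ(Y, U) Γ(X, V)) hqp) := by
    have hi : IsIso (f.stalkMap x₀) := hiso x₀ hx₀
    have h1 := ((MorphismProperty.isomorphisms CommRingCat).arrow_mk_iso_iff
      (IsAffineOpen.arrowStalkMapIso f U hU V hV hVU hxV)).mp hi
    exact (ConcreteCategory.isIso_iff_bijective _).mp h1
  have hbijKB := bijective_algebraMap_of_unique_prime (R := Γ(Y, U)) (A := Γ(X, V))
    (K := Γ(Spec (Y.presheaf.stalk (f x₀)), ⊤)) (B := Γ(pullback f j, ⊤)) q p hqp hbijloc
  haveI hPaffine : IsAffine (pullback f j) := by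
    have h1 : IsAffine ((⊤ : (pullback f j).Opens) : Scheme) := hPaff
    exact .of_isIso (Scheme.topIso _).inv
  have happ : IsIso (pullback.snd f j).appTop := by
    rw [ConcreteCategory.isIso_iff_bijective]
    have : (pullback.snd f j).appTop = (pullback.snd f j).appLE ⊤ ⊤ hUYT := by
      simp [Scheme.Hom.appLE]
    rw [this]
    exact hbijKB
  exact (HasAffineProperty.iff_of_isAffine (P := MorphismProperty.isomorphisms Scheme)).mpr
    ⟨hPaffine, happ⟩

end Groth.Agent.S9677
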