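import Groth.Statements.S9689
import Groth.Agent.Lib.Helper13.BranchUnib

set_option autoImplicit false
universe u
open CategoryTheory CategoryTheory.Limits AlgebraicGeometry
open Mor

namespace Groth.Agent.S9689

/-- For an integral scheme X: if every local ring of X is geometrically unibranch, then the
normalization morphism X^ν ⟶ X is a universal homeomorphism. (The published statement assumes only X
irreducible; this row takes X integral, which loses nothing since the normalization of X equals that
of its reduction.) (The quasi-compactness and quasi-separatedness binders on Spec K(X) ⟶ X always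
hold; they are only needed to form the normalization.) -/
theorem result (X : Scheme.{u}) [IsIntegral X] [QuasiCompact (X.fromSpecStalk (genericPoint ↥X))] [QuasiSeparated (X.fromSpecStalk (genericPoint ↥X))]
    (hX : ∀ x : X, CAlg2.IsGeomUnibranch (X.presheaf.stalk x)) :
    FlatMor.IsUnivHomeo (Curv2.normalizationι X) := by
  change FlatMor.IsUnivHomeo (Groth.Agent.Lib.Helper13.BranchGeom.nu X)
  haveI : IsIntegralHom (Groth.Agent.Lib.Helper13.BranchGeom.nu X) := inferInstance
  haveI : Surjective (Groth.Agent.Lib.Helper13.BranchGeom.nu X) :=
    ⟨fun x => Groth.Agent.Lib.Helper13.BranchUnib.exists_over X x⟩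
  haveI : UniversallyInjective (Groth.Agent.Lib.Helper13.BranchGeom.nu X) := by
    have htfae := (tfae_universallyInjective (Groth.Agent.Lib.Helper13.BranchGeom.nu X)).out 0 2
    rw [htfae]
    refine ⟨?_, ?_⟩
    · intro x₁ x₂ h
      exact Groth.Agent.Lib.Helper13.BranchUnib.eq_of_isLocalRing X _ (hX _).1.2 x₁ x₂ h rfl
    · intro x'
      exact Groth.Agent.Lib.Helper13.BranchUnib.isPurelyInseparable_residueFieldMap X x' (hX _)
  -- integral + universally injective + surjective ⇒ universal homeomorphism
  intro X' Y' i₁ i₂ f' sq
  have h1 : IsIntegralHom f' := MorphismProperty.of_isPullback sq.flip ‹_›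
  have h2 : UniversallyInjective f' := MorphismProperty.of_isPullback sq.flip ‹_›
  have h3 : Surjective f' := MorphismProperty.of_isPullback sq.flip ‹_›
  change IsHomeomorph f'.base
  rw [isHomeomorph_iff_continuous_isClosedMap_bijective]
  exact ⟨f'.continuous, f'.isClosedMap, f'.injective, f'.surjective⟩

end Groth.Agent.S9689
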