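import Groth.Statements.S9692
import Groth.Agent.S1616

set_option autoImplicit false
universe u
open CategoryTheory CategoryTheory.Limits AlgebraicGeometry
open Mor

namespace Groth.Agent.S9692

set_option backward.isDefEq.respectTransparency false in
theorem comp_aux {X Y Z : Scheme.{u}} (n m : ℕ) (i : X ⟶ CohB1.ProjSpaceOver n Y)
    (hi : IsClosedImmersion i) (j : Y ⟶ CohB1.ProjSpaceOver m Z) (hj : IsClosedImmersion j) :
    ∃ (N : ℕ) (l : X ⟶ CohB1.ProjSpaceOver N Z), IsClosedImmersion l ∧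
      l ≫ CohB1.ProjSpaceOver.toBase N Z =
        (i ≫ CohB1.ProjSpaceOver.toBase n Y) ≫ (j ≫ CohB1.ProjSpaceOver.toBase m Z) := by
  obtain ⟨φ, hφ, hφc⟩ := Groth.Agent.S1616.result Z n m
  set g := j ≫ CohB1.ProjSpaceOver.toBase m Z with hg
  let pn := CohB1.ProjSpace.toSpec n (ULift.{u} ℤ)
  let tY := specULiftZIsTerminal.from Y
  let tZ := specULiftZIsTerminal.from Z
  -- the map `P^n_Y ⟶ P^n_Z`
  let r : CohB1.ProjSpaceOver n Y ⟶ CohB1.ProjSpaceOver n Z :=
    pullback.lift (pullback.fst pn tY) (CohB1.ProjSpaceOver.toBase n Y ≫ g)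
      (specULiftZIsTerminal.hom_ext _ _)
  have hr1 : r ≫ pullback.fst pn tZ = pullback.fst pn tY := pullback.lift_fst _ _ _
  have hr2 : r ≫ CohB1.ProjSpaceOver.toBase n Z = CohB1.ProjSpaceOver.toBase n Y ≫ g :=
    pullback.lift_snd _ _ _
  have sA : IsPullback (pullback.fst pn tY) (CohB1.ProjSpaceOver.toBase n Y) pn tY :=
    IsPullback.of_hasPullback _ _
  have sB : IsPullback (pullback.fst pn tZ) (CohB1.ProjSpaceOver.toBase n Z) pn tZ :=
    IsPullback.of_hasPullback _ _
  have sA' : IsPullback (r ≫ pullback.fst pn tZ) (CohB1.ProjSpaceOver.toBase n Y) pn (g ≫ tZ) := by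
    rw [hr1, specULiftZIsTerminal.hom_ext (g ≫ tZ) tY]; exact sA
  have sC : IsPullback r (CohB1.ProjSpaceOver.toBase n Y) (CohB1.ProjSpaceOver.toBase n Z) g :=
    IsPullback.of_right sA' hr2 sB
  -- the map `P^n_Y ⟶ P^n_Z ×_Z P^m_Z`
  let k : CohB1.ProjSpaceOver n Y ⟶
      pullback (CohB1.ProjSpaceOver.toBase n Z) (CohB1.ProjSpaceOver.toBase m Z) :=
    pullback.lift r (CohB1.ProjSpaceOver.toBase n Y ≫ j) (by rw [hr2, hg, Category.assoc])
  have hk1 : k ≫ pullback.fst _ _ = r := pullback.lift_fst _ _ _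
  have hk2 : k ≫ pullback.snd _ _ = CohB1.ProjSpaceOver.toBase n Y ≫ j := pullback.lift_snd _ _ _
  have sD : IsPullback (pullback.fst (CohB1.ProjSpaceOver.toBase n Z) (CohB1.ProjSpaceOver.toBase m Z))
      (pullback.snd _ _) (CohB1.ProjSpaceOver.toBase n Z) (CohB1.ProjSpaceOver.toBase m Z) :=
    IsPullback.of_hasPullback _ _
  have sC' : IsPullback (k ≫ pullback.fst _ _) (CohB1.ProjSpaceOver.toBase n Y)
      (CohB1.ProjSpaceOver.toBase n Z) (j ≫ CohB1.ProjSpaceOver.toBase m Z) := by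
    rw [hk1]; exact sC
  have sE : IsPullback k (CohB1.ProjSpaceOver.toBase n Y) (pullback.snd _ _) j :=
    IsPullback.of_right sC' hk2 sD
  have hkcl : IsClosedImmersion k := MorphismProperty.of_isPullback sE.flip hj
  refine ⟨n * m + n + m, i ≫ k ≫ φ, inferInstance, ?_⟩
  rw [Category.assoc, Category.assoc, hφc, ← Category.assoc k, hk1, hr2, Category.assoc]

/-- A composition of H-projective morphisms (closed immersions into a projective space P^n over the
target, followed by the projection) is H-projective. -/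
theorem result {X Y Z : Scheme.{u}} (f : X ⟶ Y) (g : Y ⟶ Z)
    (hf : RelProj.IsHProjective f) (hg : RelProj.IsHProjective g) :
    RelProj.IsHProjective (f ≫ g) := by
  obtain ⟨n, i, hi, rfl⟩ := hf
  obtain ⟨m, j, hj, rfl⟩ := hg
  obtain ⟨N, l, hl, hlc⟩ := comp_aux n m i hi j hj
  exact ⟨N, l, hl, hlc⟩

end Groth.Agent.S9692
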