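import Groth.Statements.S9693
import Mathlib.Tactic
-- import your own Groth.Agent.* helpers here

set_option autoImplicit false
universe u
open CategoryTheory CategoryTheory.Limits AlgebraicGeometry
open Mor

namespace Groth.Agent.S9693

open CategoryTheory CategoryTheory.Limits AlgebraicGeometry

theorem aux {PZ T X S S' : Scheme.{u}} (p : PZ ⟶ T) (tS : S ⟶ T) (tS' : S' ⟶ T) (g : S' ⟶ S)
    (htg : g ≫ tS = tS') (i : X ⟶ pullback p tS) [IsClosedImmersion i] :
    ∃ i' : pullback (i ≫ pullback.snd p tS) g ⟶ pullback p tS',
      IsClosedImmersion i' ∧ i' ≫ pullback.snd p tS' = pullback.snd (i ≫ pullback.snd p tS) g := by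
  let h : pullback p tS' ⟶ pullback p tS :=
    pullback.lift (pullback.fst _ _) (pullback.snd _ _ ≫ g)
      (by rw [Category.assoc, htg, pullback.condition])
  have sq : IsPullback h (pullback.snd p tS') (pullback.snd p tS) g := by
    refine IsPullback.of_right (h₁₂ := pullback.fst _ _) (h₂₂ := tS)
      (v₁₃ := p) ?_ ?_ (IsPullback.of_hasPullback _ _)
    · have : h ≫ pullback.fst _ _ = pullback.fst _ _ := pullback.lift_fst _ _ _
      rw [this, htg]
      exact IsPullback.of_hasPullback _ _
    · exact pullback.lift_snd _ _ _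
  have big := (IsPullback.of_hasPullback i h).paste_vert sq
  refine ⟨big.isoPullback.inv ≫ pullback.snd i h, inferInstance, ?_⟩
  rw [Category.assoc]
  exact big.isoPullback_inv_snd



/-- A base change of an H-projective morphism (a closed immersion into some P^n over the base followed
by the projection) is H-projective. -/
theorem result {X S S' : Scheme.{u}} (f : X ⟶ S) (hf : RelProj.IsHProjective f)
    (g : S' ⟶ S) : RelProj.IsHProjective (pullback.snd f g) := by
  obtain ⟨n, i, hi, rfl⟩ := hf
  have htg : g ≫ specULiftZIsTerminal.from S = specULiftZIsTerminal.from S' :=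
    specULiftZIsTerminal.hom_ext _ _
  obtain ⟨i', h1, h2⟩ := @aux _ _ _ _ _ (CohB1.ProjSpace.toSpec n (ULift.{u} ℤ)) _ _ g htg i hi
  exact ⟨n, i', h1, h2⟩

end Groth.Agent.S9693
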