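import Groth.Statements.S9694
import Groth.Agent.Lib.Helper17.UCAmple
import Mathlib
set_option backward.isDefEq.respectTransparency.types false

set_option autoImplicit false
universe u
open CategoryTheory CategoryTheory.Limits AlgebraicGeometry
open Mor

namespace Groth.Agent.S9694
open Groth.Agent.Lib.Helper28 Groth.Agent.Lib.Helper28.QCohLoc Groth.Agent.Lib.Helper28.TensorGen
  Groth.Agent.Lib.Helper28.InvTensor Groth.Agent.Lib.Helper28.AmpleUnit Groth.Agent.Lib.Helper28.TwistAmple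
  Groth.Agent.Lib.Helper28.GenLocus Groth.Agent.Lib.Helper17


/-- Let f : X ⟶ S be universally closed, L an O_X-module ample relative to f and s a global section of
L, viewed as a morphism O_X ⟶ L. Then the open subscheme X_s of X where s generates L is affine over
S: the inclusion of X_s followed by f is an affine morphism. -/
theorem result {X S : Scheme.{u}} (f : X ⟶ S) [UniversallyClosed f]
    (L : X.Modules) (hL : RelAmple.IsRelAmple f L) (s : Coh.structureModule X ⟶ L) :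
    IsAffineHom ((CohB1.genLocus L s).ι ≫ f) := by
  have hLinv : PicF.IsInvertible L := by
    refine isInvertible_of_isGen L fun x => ?_
    obtain ⟨_, ⟨V, (hV : IsAffineOpen V), rfl⟩, hxV, -⟩ :=
      S.isBasis_affineOpens.exists_subset_of_mem_open (Set.mem_univ (f x)) isOpen_univ
    have hA := hL.2 ⟨V, hV⟩
    obtain ⟨V', γ, hyV', hγ⟩ := exists_isGen (L.restrict (f ⁻¹ᵁ V).ι) hA.1 ⟨x, hxV⟩
    exact ⟨(f ⁻¹ᵁ V).ι ''ᵁ V', γ, ⟨⟨x, hxV⟩, hyV', rfl⟩, isGen_of_isGen_restrict L (f ⁻¹ᵁ V) γ hγ⟩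
  refine ⟨fun V hV => ?_⟩
  haveI : IsAffine (↑V : Scheme.{u}) := hV
  have h1 := UCAmple.isAffineOpen_genLocus (f ∣_ V) (L.restrict (f ⁻¹ᵁ V).ι) (hL.2 ⟨V, hV⟩)
    (restrictSec (f ⁻¹ᵁ V) s)
  rw [genLocus_restrictSec hLinv] at h1
  rw [← Scheme.Hom.isAffineOpen_iff_of_isOpenImmersion (f ⁻¹ᵁ V).ι,
    Scheme.Hom.image_preimage_eq_opensRange_inf, Scheme.Opens.opensRange_ι] at h1
  rw [← Scheme.Hom.isAffineOpen_iff_of_isOpenImmersion (CohB1.genLocus L s).ι]
  have h2 : ((CohB1.genLocus L s).ι ≫ f) ⁻¹ᵁ V = (CohB1.genLocus L s).ι ⁻¹ᵁ (f ⁻¹ᵁ V) := rfl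
  rw [h2, Scheme.Hom.image_preimage_eq_opensRange_inf, Scheme.Opens.opensRange_ι, inf_comm]
  exact h1

end Groth.Agent.S9694
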