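import Groth.Statements.S9696
import Groth.Agent.S9697
import Mathlib
set_option backward.isDefEq.respectTransparency.types false

set_option autoImplicit false
universe u
open CategoryTheory CategoryTheory.Limits AlgebraicGeometry
open Mor

namespace Groth.Agent.S9696


/-- Let f : X ⟶ S be flat and locally of finite presentation and g : S' ⟶ S any morphism, with base
change f' : X ×_S S' ⟶ S' and projection g' : X ×_S S' ⟶ X. Then the open set of points where f' is
etale is the inverse image under g' of the open set of points where f is etale. -/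
theorem result {X S S' : Scheme.{u}} (f : X ⟶ S) [Flat f]
    [LocallyOfFinitePresentation f] (g : S' ⟶ S) (x' : ↑(pullback f g)) :
    (∃ U' : (pullback f g).Opens, x' ∈ U' ∧ Etale (U'.ι ≫ pullback.snd f g)) ↔
      (∃ U : X.Opens, (pullback.fst f g).base x' ∈ U ∧ Etale (U.ι ≫ f)) := by
  constructor
  · rintro ⟨W, hxW, hW⟩
    have h1 := Groth.Agent.S2807.stalkMap_formallyUnramified_of_nhd (pullback.snd f g) x'
      ⟨W, hxW, inferInstance⟩
    have h2 := Groth.Agent.Lib.Helper17.UnramPullback.stalkMap_formallyUnramified_of_pullback
      f g x' h1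
    have hflat : (f.stalkMap (pullback.fst f g x')).hom.Flat := Flat.stalkMap f _
    obtain ⟨U, hU, V, hV, hVU, hxV, H⟩ := Groth.Agent.S2738.exists_etale_appLE f
      (pullback.fst f g x') h2 (RingHom.id _) (by rwa [RingHom.id_comp])
    refine ⟨V, hxV, ?_⟩
    have : IsAffine U.toScheme := hU
    have : IsAffine V.toScheme := hV
    have h2 : Etale (f.resLE U V hVU) := by
      rw [HasRingHomProperty.iff_of_isAffine (P := @Etale)]
      exact (RingHom.Etale.respectsIso.arrow_mk_iso_iff (arrowResLEAppIso f U V hVU)).mpr H
    rw [← Scheme.Hom.resLE_comp_ι f hVU]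
    infer_instance
  · intro h
    exact Groth.Agent.S9697.of_baseChange_nhd @Etale f g x' h

end Groth.Agent.S9696
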