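import Groth.Statements.S9700
-- import your own Groth.Agent.* helpers here
import Groth.Agent.S19891
import Groth.Agent.Lib.Helper13.Dominant

set_option autoImplicit false
universe u
open CategoryTheory CategoryTheory.Limits AlgebraicGeometry
open Mor

namespace Groth.Agent.S9700

/-- Let f : X ⟶ S and h : U ⟶ X be quasi-compact with h(U) dense in X. Suppose each valuative square
over f, whose map Spec K ⟶ X factors through h, has a unique diagonal lift. Then f is universally
closed, and f is also separated provided it is quasi-separated. -/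
theorem result {U X S : Scheme.{u}} (f : X ⟶ S) (h : U ⟶ X)
    [QuasiCompact f] [QuasiCompact h] (hd : DenseRange h.base)
    (H : ∀ sq : ValuativeCommSq f, (∃ i : Spec (.of sq.K) ⟶ U, i ≫ h = sq.i₁) →
      Nonempty (Unique sq.commSq.LiftStruct)) :
    UniversallyClosed f ∧ (QuasiSeparated f → IsSeparated f) := by
  -- the hypothesis in terms of valuation subrings of residue fields of `U`
  have H' : ∀ (z : U) (R : ValuationSubring (U.residueField z))
      (φ : Spec (CommRingCat.of R) ⟶ S),
      Spec.map (CommRingCat.ofHom R.subtype) ≫ φ = U.fromSpecResidueField z ≫ h ≫ f →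
      ∃ φ' : Spec (CommRingCat.of R) ⟶ X,
        (Spec.map (CommRingCat.ofHom R.subtype) ≫ φ' = U.fromSpecResidueField z ≫ h ∧
          φ' ≫ f = φ) ∧
        ∀ φ'' : Spec (CommRingCat.of R) ⟶ X,
          Spec.map (CommRingCat.ofHom R.subtype) ≫ φ'' = U.fromSpecResidueField z ≫ h →
          φ'' ≫ f = φ → φ'' = φ' := by
    intro z R φ hφ
    let Sq : ValuativeCommSq f :=
      { R := R, K := U.residueField z, i₁ := U.fromSpecResidueField z ≫ h, i₂ := φ,
        commSq := ⟨by rw [Category.assoc, ← hφ]; rfl⟩ }
    obtain ⟨hu⟩ := H Sq ⟨U.fromSpecResidueField z, rfl⟩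
    refine ⟨hu.default.l, ⟨hu.default.fac_left, hu.default.fac_right⟩, ?_⟩
    intro φ'' h1 h2
    let m : Sq.commSq.LiftStruct := ⟨φ'', h1, h2⟩
    exact congrArg CommSq.LiftStruct.l (hu.uniq m)
  have hιR : ∀ (z : U) (A : ValuationSubring (X.residueField (h.base z)))
      (R : ValuationSubring (U.residueField z)) (ι : A →+* R),
      (∀ a : A, ((ι a : R) : U.residueField z) = (h.residueFieldMap z).hom a) →
      CommRingCat.ofHom ι ≫ CommRingCat.ofHom R.subtype =
        CommRingCat.ofHom A.subtype ≫ h.residueFieldMap z := by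
    intro z A R ι hι
    ext a
    exact hι a
  have hres : ∀ (z : U) (A : ValuationSubring (X.residueField (h.base z)))
      (R : ValuationSubring (U.residueField z)) (ι : A →+* R),
      (∀ a : A, ((ι a : R) : U.residueField z) = (h.residueFieldMap z).hom a) →
      ∀ l : Spec (CommRingCat.of A) ⟶ X,
      Spec.map (CommRingCat.ofHom A.subtype) ≫ l = X.fromSpecResidueField (h.base z) →
      Spec.map (CommRingCat.ofHom R.subtype) ≫ Spec.map (CommRingCat.ofHom ι) ≫ l =
        U.fromSpecResidueField z ≫ h := by
    intro z A R ι hι l hl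
    rw [← Category.assoc, ← Spec.map_comp, hιR z A R ι hι, Spec.map_comp, Category.assoc, hl,
      Scheme.Hom.SpecMap_residueFieldMap_fromSpecResidueField]
  constructor
  · have himgE : ∀ z : U, Groth.Agent.Lib.Helper13.ValCrit.ResExistenceAt f (h.base z) := by
      intro z A yA hyA
      obtain ⟨R, ι, hι, hRA⟩ :=
        Groth.Agent.Lib.Helper13.Dominant.exists_valuationSubring_extension h z A
      obtain ⟨φ', ⟨hφ'1, hφ'2⟩, -⟩ := H' z R (Spec.map (CommRingCat.ofHom ι) ≫ yA) (by
        rw [← Category.assoc, ← Spec.map_comp, hιR z A R ι hι, Spec.map_comp, Category.assoc,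
          ← hyA, ← Category.assoc, Scheme.Hom.SpecMap_residueFieldMap_fromSpecResidueField,
          Category.assoc])
      obtain ⟨l, hl1, hl2, -⟩ :=
        Groth.Agent.Lib.Helper13.Dominant.exists_lift_of_extension h f z A yA R ι hι hRA φ'
          hφ'1 hφ'2
      exact ⟨l, hl1, hl2⟩
    have himgU : ∀ z : U, Groth.Agent.Lib.Helper13.ValCrit.ResUniquenessAt f (h.base z) := by
      intro z A l₁ l₂ h12 h1 h2
      obtain ⟨R, ι, hι, hRA⟩ :=
        Groth.Agent.Lib.Helper13.Dominant.exists_valuationSubring_extension h z A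
      obtain ⟨hιinj, hιloc⟩ :=
        Groth.Agent.Lib.Helper13.Dominant.extension_injective_local h z A R ι hι hRA
      obtain ⟨φ', -, huniq⟩ := H' z R ((Spec.map (CommRingCat.ofHom ι) ≫ l₁) ≫ f) (by
        rw [← Category.assoc, ← Category.assoc, Category.assoc (Spec.map _) (Spec.map _) l₁,
          hres z A R ι hι l₁ h1, Category.assoc])
      apply Groth.Agent.Lib.Helper13.Dominant.cancel_specMap_of_injective ι hιinj l₁ l₂
      rw [huniq _ (hres z A R ι hι l₁ h1) rfl,
        huniq _ (hres z A R ι hι l₂ h2) (by rw [Category.assoc, Category.assoc, h12])]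
    have hall : ∀ x : X, Groth.Agent.Lib.Helper13.ValCrit.ResExistenceAt f x := by
      intro x
      obtain ⟨z, hz⟩ :=
        Groth.Agent.Lib.Helper13.Dominant.exists_specializes_of_denseRange h hd x
      exact Groth.Agent.Lib.Helper13.ValCrit.resExistenceAt_of_specializes' f hz (himgE z)
        (himgU z)
    exact UniversallyClosed.of_valuativeCriterion f fun Sq =>
      Groth.Agent.Lib.Helper13.ValCrit.hasLift_of_resExistenceAt f Sq (hall _)
  · intro hqs
    have hspec := Groth.Agent.S19891.specializingMap_diagonal h f hd (by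
      intro z R φ hφ φ₁ φ₂ h1 h1' h2 h2'
      obtain ⟨φ', -, huniq⟩ := H' z R φ hφ
      rw [huniq φ₁ h1 h1', huniq φ₂ h2 h2'])
    have hqc : QuasiCompact (Limits.pullback.diagonal f) := hqs.1
    have hclosed : IsClosedMap (Limits.pullback.diagonal f).base :=
      (isClosedMap_iff_specializingMap (Limits.pullback.diagonal f)).mpr hspec
    exact ⟨IsClosedImmersion.of_isPreimmersion _ hclosed.isClosed_range⟩

end Groth.Agent.S9700
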