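import Groth.Statements.S9701
import Groth.Agent.Lib.Helper13.GlueTwo
import Groth.Agent.Lib.Helper13.IntegralNhd
import Groth.Agent.Lib.Helper13.CodimOne

set_option autoImplicit false
universe u
open CategoryTheory CategoryTheory.Limits AlgebraicGeometry
open Mor

namespace Groth.Agent.S9701

/-- Let p : X ⟶ S and q : Y ⟶ S with q proper, let x be a point of X whose local ring is a valuation
ring, U ⊆ X an open with x in the closure of U, and f : U ⟶ Y a morphism over S. Assume that X is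
Noetherian, or else that X is reduced and has only finitely many irreducible components. Then there
are an open U' of X containing U and x and a morphism f' : U' ⟶ Y over S extending f. -/
theorem result {X Y S : Scheme.{u}} (p : X ⟶ S) (q : Y ⟶ S)
    [IsProper q] (x : X) (U : X.Opens) (f : (U : Scheme.{u}) ⟶ Y) (hf : f ≫ q = U.ι ≫ p)
    (hx : x ∈ closure (U : Set ↥X))
    (hX : (IsReduced X ∧ (irreducibleComponents ↥X).Finite) ∨ IsNoetherian X)
    (hdom : IsDomain (X.presheaf.stalk x)) (hval : @ValuationRing (X.presheaf.stalk x) _ hdom) :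
    ∃ (U' : X.Opens) (hUU' : U ≤ U'), x ∈ U' ∧
      ∃ f' : (U' : Scheme.{u}) ⟶ Y, f' ≫ q = U'.ι ≫ p ∧ X.homOfLE hUU' ≫ f' = f := by
  classical
  haveI := hdom
  haveI := hval
  -- Step 1: an integral open neighbourhood of `x`
  obtain ⟨X₀, hxX₀, hint⟩ : ∃ X₀ : X.Opens, x ∈ X₀ ∧ IsIntegral X₀.toScheme := by
    rcases hX with ⟨hred, hfin⟩ | hN
    · haveI := hred
      exact Groth.Agent.Lib.Helper13.IntegralNhd.exists_isIntegral_of_isReduced hfin x
    · haveI := hN
      exact Groth.Agent.Lib.Helper13.IntegralNhd.exists_isIntegral_of_isLocallyNoetherian x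
  haveI := hint
  -- Step 2: the local ring of `X₀` at `x`
  let x₀ : X₀.toScheme := ⟨x, hxX₀⟩
  let e : X₀.toScheme.presheaf.stalk x₀ ≃+* X.presheaf.stalk x :=
    (X₀.stalkIso x₀).commRingCatIsoToRingEquiv
  haveI : IsDomain (X₀.toScheme.presheaf.stalk x₀) := e.toMulEquiv.isDomain _
  haveI : ValuationRing (X₀.toScheme.presheaf.stalk x₀) := by
    refine { cond' := ?_ }
    intro a b
    obtain ⟨c, hc | hc⟩ := ValuationRing.cond (e a) (e b)
    · exact ⟨e.symm c, Or.inl (e.injective (by simp [hc]))⟩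
    · exact ⟨e.symm c, Or.inr (e.injective (by simp [hc]))⟩
  -- Step 3: the base change of `q` to `X₀` and the section over `V = X₀ ∩ U`
  let π : pullback (X₀.ι ≫ p) q ⟶ X₀.toScheme := pullback.fst (X₀.ι ≫ p) q
  haveI : IsProper π := by
    dsimp only [π]
    infer_instance
  have hcl : IsClosedMap π.base := π.isClosedMap
  let V : X₀.toScheme.Opens := X₀.ι ⁻¹ᵁ U
  have hVne : (V : Set X₀.toScheme).Nonempty := by
    have h1 := mem_closure_iff.mp hx (X₀ : Set X) X₀.isOpen hxX₀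
    obtain ⟨z, hzX₀, hzU⟩ := h1
    exact ⟨⟨z, hzX₀⟩, hzU⟩
  have hV : Dense (V : Set X₀.toScheme) := V.isOpen.dense hVne
  let sU : (V : Scheme.{u}) ⟶ (U : Scheme.{u}) := X₀.ι ∣_ U
  have hsU : sU ≫ U.ι = V.ι ≫ X₀.ι := morphismRestrict_ι X₀.ι U
  have hcond : V.ι ≫ (X₀.ι ≫ p) = (sU ≫ f) ≫ q := by
    rw [Category.assoc, hf, ← Category.assoc sU, hsU, Category.assoc]
  let s : (V : Scheme.{u}) ⟶ pullback (X₀.ι ≫ p) q := pullback.lift V.ι (sU ≫ f) hcond
  have hs : s ≫ π = V.ι := pullback.lift_fst _ _ _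
  have hs2 : s ≫ pullback.snd (X₀.ι ≫ p) q = sU ≫ f := pullback.lift_snd _ _ _
  -- Step 4: the local extension
  obtain ⟨W, hx₀W, g, hg, hagree⟩ :=
    Groth.Agent.Lib.Helper13.CodimOne.exists_local_extension π hcl V hV s hs x₀
  have hagree' : ∀ (T : Scheme.{u}) (a : T ⟶ (V : Scheme.{u})) (b : T ⟶ (W : Scheme.{u})),
      a ≫ V.ι = b ≫ W.ι → a ≫ s = b ≫ g := by
    intro T a b hab
    have h1 := congrArg (fun ξ => pullback.lift a b hab ≫ ξ) hagree
    simpa only [pullback.lift_fst_assoc, pullback.lift_snd_assoc] using h1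
  -- Step 5: transport to an open of `X`
  let W' : X.Opens := X₀.ι ''ᵁ W
  have hxW' : x ∈ W' := ⟨x₀, hx₀W, rfl⟩
  let g' : (W' : Scheme.{u}) ⟶ Y := (X₀.ι.isoImage W).inv ≫ g ≫ pullback.snd (X₀.ι ≫ p) q
  have hg' : g' ≫ q = W'.ι ≫ p := by
    dsimp only [g']
    rw [Category.assoc, Category.assoc, ← pullback.condition, ← Category.assoc g, hg,
      ← Scheme.Hom.isoImage_inv_ι X₀.ι W, Category.assoc, Category.assoc]
  have hfg : pullback.fst U.ι W'.ι ≫ f = pullback.snd U.ι W'.ι ≫ g' := by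
    set a := pullback.fst U.ι W'.ι with ha
    set b := pullback.snd U.ι W'.ι with hb
    let b' := b ≫ (X₀.ι.isoImage W).inv
    have hab : (b' ≫ W.ι) ≫ X₀.ι = a ≫ U.ι := by
      dsimp only [b']
      rw [Category.assoc, Category.assoc, Scheme.Hom.isoImage_inv_ι, ha, hb, pullback.condition]
    obtain ⟨c, hc1, hc2⟩ : ∃ c : pullback U.ι W'.ι ⟶ (V : Scheme.{u}),
        c ≫ V.ι = b' ≫ (W.ι : (W : Scheme.{u}) ⟶ (X₀ : Scheme.{u})) ∧ c ≫ sU = a :=
      ⟨(isPullback_morphismRestrict X₀.ι U).lift a (b' ≫ W.ι) hab.symm,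
        (isPullback_morphismRestrict X₀.ι U).lift_snd _ _ _,
        (isPullback_morphismRestrict X₀.ι U).lift_fst _ _ _⟩
    have h1 := hagree' _ c b' hc1
    dsimp only [g']
    rw [← hc2, Category.assoc, ← hs2, ← Category.assoc c, h1, Category.assoc, Category.assoc]
  -- Step 6: glue
  obtain ⟨f', hf'1, hf'2, hext⟩ := Groth.Agent.Lib.Helper13.GlueTwo.exists_glue_two U W' f g' hfg
  refine ⟨U ⊔ W', le_sup_left, Or.inr hxW', f', ?_, hf'1⟩
  apply hext
  · rw [← Category.assoc, hf'1, hf, ← Category.assoc, Scheme.homOfLE_ι]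
  · rw [← Category.assoc, hf'2, hg', ← Category.assoc, Scheme.homOfLE_ι]

end Groth.Agent.S9701
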