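import Groth.Statements.S9715
import Groth.Agent.S3815
import Groth.Agent.Lib.Helper29.PPDeltaChart
import Groth.Agent.Lib.Helper29.AffHom

set_option autoImplicit false
universe u
open CategoryTheory CategoryTheory.Limits AlgebraicGeometry
open Opposite
open Mor

namespace Groth.Agent.S9715



open Groth.Agent.Lib.Helper29.PPChart Groth.Agent.Lib.Helper29.PPSq
  Groth.Agent.Lib.Helper29.PPChart2 Groth.Agent.Lib.Helper29.PPDelta
  Groth.Agent.Lib.Helper29.PPDeltaChart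
  Groth.Agent.Lib.Helper29.OmegaCan Groth.Agent.Lib.Helper29.OmegaLoc TensorProduct

section Alg

variable {X S : Scheme.{u}} (f : X ⟶ S) (k : ℕ)
  {U : X.Opens} (hU : IsAffineOpen U) {V : S.Opens} (hV : IsAffineOpen V) (e : U ≤ f ⁻¹ᵁ V)

/-- the ring isomorphism `P^k_{B/A} ≃ Γ(X^{(k)}, pr₁⁻¹ U)`. -/
noncomputable def θ : letI := alg f e
    PP16.P k Γ(S, V) Γ(X, U) ≃+* RR f k U :=
  letI := alg f e
  (Ideal.quotEquivOfEq (ker_ρ f k hU hV e).symm).trans
    (RingHom.quotientKerEquivOfSurjective (ρ_surjective f k hU hV e))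

theorem θ_mk : letI := alg f e
    ∀ z : Γ(X, U) ⊗[Γ(S, V)] Γ(X, U),
      θ f k hU hV e (Ideal.Quotient.mk _ z) = ρ f k hU hV e z := by
  letI := alg f e
  intro z
  rfl

theorem θ_left (b : Γ(X, U)) : letI := alg f e
    θ f k hU hV e (algebraMap Γ(X, U) (PP16.P k Γ(S, V) Γ(X, U)) b) =
      (show RR f k U from (PrinPart.pr1 f k).app U b) := by
  letI := alg f e
  exact (θ_mk f k hU hV e _).trans (ρ_inl f k hU hV e b)

theorem θ_dn (b : Γ(X, U)) : letI := alg f e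
    θ f k hU hV e (PP16.dn k Γ(S, V) Γ(X, U) b) = algebraMap Γ(X, U) (RR f k U) b := by
  letI := alg f e
  exact (θ_mk f k hU hV e _).trans (ρ_inr f k hU hV e b)

/-- `θ` as a linear equivalence for the right structures. -/
noncomputable def θB : letI := alg f e
    PP16.Pr k Γ(S, V) Γ(X, U) ≃ₗ[Γ(X, U)] RR f k U :=
  letI := alg f e
  { toFun := fun x => θ f k hU hV e x
    invFun := fun y => (θ f k hU hV e).symm y
    left_inv := fun x => (θ f k hU hV e).symm_apply_apply x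
    right_inv := fun y => (θ f k hU hV e).apply_symm_apply y
    map_add' := fun x y => map_add (θ f k hU hV e) x y
    map_smul' := fun b x => by
      change θ f k hU hV e (PP16.dn k Γ(S, V) Γ(X, U) b * (show PP16.P k Γ(S, V) Γ(X, U) from x)) = _
      rw [map_mul, θ_dn]
      rfl }

end Alg

section Psi

variable {X S : Scheme.{u}} (f : X ⟶ S) (k : ℕ)
  {U : X.Opens} (hU : IsAffineOpen U) {V : S.Opens} (hV : IsAffineOpen V) (e : U ≤ f ⁻¹ᵁ V)
  (M : Type u) [AddCommGroup M] [Module Γ(X, U) M]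

/-- `P^k(M) ≃ RR ⊗ M`. -/
noncomputable def Θ : letI := alg f e
    PP16.PM k Γ(S, V) Γ(X, U) M ≃ₗ[Γ(X, U)] RR f k U ⊗[Γ(X, U)] M :=
  letI := alg f e
  TensorProduct.congr (θB f k hU hV e) (LinearEquiv.refl Γ(X, U) M)

theorem Θ_tmul (x : letI := alg f e; PP16.Pr k Γ(S, V) Γ(X, U)) (m : M) : letI := alg f e
    Θ f k hU hV e M (x ⊗ₜ[Γ(X, U)] m) = (θ f k hU hV e x : RR f k U) ⊗ₜ[Γ(X, U)] m := by
  letI := alg f e
  rfl

theorem Θ_smul : letI := alg f e
    ∀ (p : PP16.P k Γ(S, V) Γ(X, U)) (t : PP16.PM k Γ(S, V) Γ(X, U) M),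
      Θ f k hU hV e M (p • t) = (θ f k hU hV e p : RR f k U) • Θ f k hU hV e M t := by
  letI := alg f e
  intro p t
  induction t using TensorProduct.induction_on with
  | zero => simp
  | tmul x m =>
    rw [TensorProduct.smul_tmul', Θ_tmul, Θ_tmul, TensorProduct.smul_tmul']
    congr 1
    exact map_mul (θ f k hU hV e) p (show PP16.P k Γ(S, V) Γ(X, U) from x)
  | add x y hx hy => rw [smul_add, map_add, hx, hy, map_add, smul_add]

theorem Θ_dM (m : M) : letI := alg f e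
    Θ f k hU hV e M (PP16.dM k Γ(S, V) Γ(X, U) M m) = (1 : RR f k U) ⊗ₜ[Γ(X, U)] m := by
  letI := alg f e
  change Θ f k hU hV e M ((1 : PP16.Pr k Γ(S, V) Γ(X, U)) ⊗ₜ[Γ(X, U)] m) = _
  rw [Θ_tmul]
  congr 1
  exact map_one (θ f k hU hV e)

end Psi

section Main

variable {X S : Scheme.{u}} (f : X ⟶ S) (k : ℕ)
  {U : X.Opens} (hU : IsAffineOpen U) {V : S.Opens} (hV : IsAffineOpen V) (e : U ≤ f ⁻¹ᵁ V)

include hU hV in
theorem exists_psi (F G : X.Modules) [F.IsQuasicoherent]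
    (φ : Γ(S, V) →+* Γ(X, U)) (hφ : φ = (f.appLE V U e).hom) :
    letI : Algebra Γ(S, V) Γ(X, U) := φ.toAlgebra
    letI : Module Γ(S, V) Γ(F, U) := Module.compHom Γ(F, U) φ
    letI : Module Γ(S, V) Γ(G, U) := Module.compHom Γ(G, U) φ
    haveI : IsScalarTower Γ(S, V) Γ(X, U) Γ(F, U) := IsScalarTower.of_algebraMap_smul fun _ _ => rfl
    haveI : IsScalarTower Γ(S, V) Γ(X, U) Γ(G, U) := IsScalarTower.of_algebraMap_smul fun _ _ => rfl
    ∀ D' : Γ(F, U) →ₗ[Γ(S, V)] Γ(G, U), Diff16.IsDiffOpLE Γ(S, V) Γ(X, U) Γ(F, U) Γ(G, U) k D' →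
      ∃ ψ : Γ(PrinPart.PMod f k F, U) →+ Γ(G, U),
        (∀ (b : Γ(X, U)) (x : Γ(PrinPart.PMod f k F, U)), ψ (b • x) = b • ψ x) ∧
        ∀ t : Γ(F, U), ψ (PrinPart.dP f k F U t) = D' t := by
  subst hφ
  intro D' hD'
  letI : Algebra Γ(S, V) Γ(X, U) := (f.appLE V U e).hom.toAlgebra
  letI : Module Γ(S, V) Γ(F, U) := Module.compHom Γ(F, U) (f.appLE V U e).hom
  letI : Module Γ(S, V) Γ(G, U) := Module.compHom Γ(G, U) (f.appLE V U e).hom
  haveI : IsScalarTower Γ(S, V) Γ(X, U) Γ(F, U) := IsScalarTower.of_algebraMap_smul fun _ _ => rfl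
  haveI : IsScalarTower Γ(S, V) Γ(X, U) Γ(G, U) := IsScalarTower.of_algebraMap_smul fun _ _ => rfl
  obtain ⟨u₀, ⟨hu1, hu2⟩, -⟩ :=
    (Groth.Agent.S3815.result k Γ(S, V) Γ(X, U) Γ(F, U) Γ(G, U) D').mp hD'
  obtain ⟨eqv, heqv⟩ := exists_eqv f k hU hV e F
  refine ⟨u₀.comp ((Θ f k hU hV e Γ(F, U)).symm.toLinearMap.toAddMonoidHom.comp
    eqv.toLinearMap.toAddMonoidHom), ?_, ?_⟩
  · intro b x
    simp only [AddMonoidHom.comp_apply, LinearMap.toAddMonoidHom_coe, LinearEquiv.coe_coe]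
    rw [smul_eq, map_smul eqv, ← hu1]
    congr 1
    rw [LinearEquiv.symm_apply_eq, Θ_smul, LinearEquiv.apply_symm_apply, θ_left]
  · intro t
    simp only [AddMonoidHom.comp_apply, LinearMap.toAddMonoidHom_coe, LinearEquiv.coe_coe]
    rw [heqv, ← Θ_dM f k hU hV e, LinearEquiv.symm_apply_apply, hu2]

end Main

/-- Let f : X ⟶ S be a morphism of affine schemes, R = Γ(S, O_S) → A = Γ(X, O_X) the corresponding ring
map, F a quasi-coherent O_X-module and G an O_X-module, with global sections M and N. Every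
differential operator M → N of order at most k relative to A over R is induced on global sections by
a differential operator F → G of order at most k relative to X over S. (The published statement
asserts that D ↦ Γ(X, D) is a bijection between the two sets of operators of order at most k; its
injectivity is not verified in the published proof and is not claimed here. Differential operators
on X/S are taken in the principal-parts sense, those of A/R in the commutator sense.) -/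
theorem result {X S : Scheme.{u}} [IsAffine X] [IsAffine S] (f : X ⟶ S)
    (F G : X.Modules) (hF : Coh.IsQCoh F) (k : ℕ) :
    letI : Algebra Γ(S, ⊤) Γ(X, ⊤) := f.appTop.hom.toAlgebra
    letI : Module Γ(S, ⊤) Γ(F, ⊤) := Module.compHom Γ(F, ⊤) f.appTop.hom
    letI : Module Γ(S, ⊤) Γ(G, ⊤) := Module.compHom Γ(G, ⊤) f.appTop.hom
    haveI : IsScalarTower Γ(S, ⊤) Γ(X, ⊤) Γ(F, ⊤) := IsScalarTower.of_algebraMap_smul fun _ _ => rfl
    haveI : IsScalarTower Γ(S, ⊤) Γ(X, ⊤) Γ(G, ⊤) := IsScalarTower.of_algebraMap_smul fun _ _ => rfl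
    ∀ D' : Γ(F, ⊤) →ₗ[Γ(S, ⊤)] Γ(G, ⊤), Diff16.IsDiffOpLE Γ(S, ⊤) Γ(X, ⊤) Γ(F, ⊤) Γ(G, ⊤) k D' →
      ∃ D : F.presheaf ⟶ G.presheaf, PrinPart.IsDiffOpLE f F G k D ∧
        ∀ m : Γ(F, ⊤), (D.app (op ⊤)).hom m = D' m := by
  intro D' hD'
  haveI : F.IsQuasicoherent := hF
  have e : (⊤ : X.Opens) ≤ f ⁻¹ᵁ ⊤ := le_rfl
  have hφ : f.appTop.hom = (f.appLE ⊤ ⊤ e).hom := by
    simp [Scheme.Hom.appLE, Scheme.Hom.appTop]
  obtain ⟨ψ, hψ1, hψ2⟩ := exists_psi f k (isAffineOpen_top X) (isAffineOpen_top S) e F G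
    f.appTop.hom hφ D' hD'
  haveI : (PrinPart.PMod f k F).IsQuasicoherent := Groth.Agent.S5954.isQuasicoherent_PMod f k F
  obtain ⟨u, hu⟩ := Groth.Agent.Lib.Helper29.AffHom.exists_hom (PrinPart.PMod f k F) G ψ hψ1
  refine ⟨PrinPart.dPHom f k F ≫ u.mapPresheaf, ⟨u, fun U t => rfl⟩, fun m => ?_⟩
  change u.app ⊤ (PrinPart.dP f k F ⊤ m) = _
  rw [hu, hψ2]



end Groth.Agent.S9715
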