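import Groth.Statements.S9721
import Mathlib
-- import your own Groth.Agent.* helpers here

set_option autoImplicit false
universe u
open CategoryTheory AlgebraicGeometry
open Mor

namespace Groth.Agent.S9721

section H
open CategoryTheory CategoryTheory.Limits AlgebraicGeometry
namespace W10
set_option backward.isDefEq.respectTransparency.types false

theorem resLE_iff_appLE {P : MorphismProperty Scheme.{u}}
    {Q : ∀ {R S : Type u} [CommRing R] [CommRing S], (R →+* S) → Prop}
    [HasRingHomProperty P Q] {X S : Scheme.{u}} (f : X ⟶ S)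
    (V : S.Opens) (hV : IsAffineOpen V) (U : X.Opens) (hU : IsAffineOpen U) (e : U ≤ f ⁻¹ᵁ V) :
    P (f.resLE V U e) ↔ Q (f.appLE V U e).hom := by
  have : IsAffine V := hV
  have : IsAffine U := hU
  rw [HasRingHomProperty.iff_of_isAffine (P := P)]
  have : (RingHom.toMorphismProperty Q).RespectsIso :=
    RingHom.toMorphismProperty_respectsIso_iff.mp <|
      (HasRingHomProperty.isLocal_ringHomProperty P).respectsIso
  exact (MorphismProperty.arrow_mk_iso_iff (RingHom.toMorphismProperty Q)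
      (arrowResLEAppIso f V U e))

theorem nhd_iff {P : MorphismProperty Scheme.{u}}
    {Q : ∀ {R S : Type u} [CommRing R] [CommRing S], (R →+* S) → Prop}
    [HasRingHomProperty P Q] [P.RespectsRight @IsOpenImmersion] {X S : Scheme.{u}} (f : X ⟶ S) (x : X)
    (V : S.Opens) (hV : IsAffineOpen V) (hxV : f x ∈ V) :
    (∃ W : X.Opens, x ∈ W ∧ P (W.ι ≫ f)) ↔
      ∃ (U : X.Opens) (_ : IsAffineOpen U) (_ : x ∈ U) (e : U ≤ f ⁻¹ᵁ V),
        Q (f.appLE V U e).hom := by
  have hpost : P.HasOfPostcompProperty @IsOpenImmersion :=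
    hasOfPostcompProperty_isOpenImmersion_of_morphismRestrict P
      (fun f U hf => IsZariskiLocalAtTarget.restrict hf U)
  constructor
  · rintro ⟨W, hxW, hW⟩
    obtain ⟨(U : X.Opens), hU, hxU, hUW⟩ := TopologicalSpace.Opens.isBasis_iff_nbhd.mp X.isBasis_affineOpens
      (show x ∈ W ⊓ f ⁻¹ᵁ V from ⟨hxW, hxV⟩)
    have hUW' : U ≤ W := hUW.trans inf_le_left
    have e : U ≤ f ⁻¹ᵁ V := hUW.trans inf_le_right
    have h1 : P (U.ι ≫ f) := by
      rw [← X.homOfLE_ι hUW', Category.assoc]
      exact IsZariskiLocalAtSource.comp hW _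
    rw [← Scheme.Hom.resLE_comp_ι f e] at h1
    have h2 : P (f.resLE V U e) :=
      MorphismProperty.of_postcomp (W := P) (W' := @IsOpenImmersion) _ V.ι inferInstance h1
    exact ⟨U, hU, hxU, e, (resLE_iff_appLE f V hV U hU e).1 h2⟩
  · rintro ⟨U, hU, hxU, e, h⟩
    refine ⟨U, hxU, ?_⟩
    rw [← Scheme.Hom.resLE_comp_ι f e]
    exact MorphismProperty.RespectsRight.postcomp (Q := @IsOpenImmersion) _ inferInstance _
      ((resLE_iff_appLE f V hV U hU e).2 h)

theorem main {X S : Scheme.{u}} (f : X ⟶ S) (x : X)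
    (V : S.Opens) (hV : IsAffineOpen V) (hxV : f x ∈ V) :
    (∃ W : X.Opens, x ∈ W ∧ Smooth (W.ι ≫ f)) ↔
      ∃ (U : X.Opens) (_ : IsAffineOpen U) (_ : x ∈ U) (e : U ≤ f ⁻¹ᵁ V),
        (f.appLE V U e).hom.IsStandardSmooth := by
  rw [nhd_iff (P := @Smooth) (Q := RingHom.Smooth) f x V hV hxV]
  constructor
  · rintro ⟨U, hU, hxU, e, h⟩
    rw [RingHom.smooth_iff_locally_isStandardSmooth,
      RingHom.locally_iff_isLocalization RingHom.isStandardSmooth_respectsIso] at h
    obtain ⟨s, hs, hfs⟩ := h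
    apply iSup_basicOpen_of_span_eq_top at hs
    have : x ∈ (⨆ i ∈ s, X.basicOpen i) := hs.symm ▸ hxU
    have : ∃ r ∈ s, x ∈ X.basicOpen r := by simpa using this
    obtain ⟨r, hr, hrs⟩ := this
    refine ⟨X.basicOpen r, hU.basicOpen r, hrs, (X.basicOpen_le r).trans e, ?_⟩
    rw [← f.appLE_map e (homOfLE (X.basicOpen_le r)).op]
    have : IsLocalization.Away r Γ(X, X.basicOpen r) := hU.isLocalization_basicOpen r
    exact hfs r hr _
  · rintro ⟨U, hU, hxU, e, h⟩
    exact ⟨U, hU, hxU, e, h.smooth⟩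

end W10
end H


/-- Let f : X ⟶ S be a morphism, x a point of X and V an affine open neighbourhood of f(x) in S. Then f
is smooth on some open neighbourhood of x if and only if there is an affine open neighbourhood U of
x with f(U) ⊆ V such that the induced ring map Γ(S, V) ⟶ Γ(X, U) is standard smooth. -/
theorem result {X S : Scheme.{u}} (f : X ⟶ S) (x : X)
    (V : S.Opens) (hV : IsAffineOpen V) (hxV : f x ∈ V) :
    (∃ W : X.Opens, x ∈ W ∧ Smooth (W.ι ≫ f)) ↔
      ∃ (U : X.Opens) (_ : IsAffineOpen U) (_ : x ∈ U) (e : U ≤ f ⁻¹ᵁ V),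
        (f.appLE V U e).hom.IsStandardSmooth := by
  exact W10.main f x V hV hxV

end Groth.Agent.S9721
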