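import Groth.Statements.S9727
import Mathlib
import Groth.Agent.Lib.Helper22.EtLiftSch
-- import your own Groth.Agent.* helpers here

set_option autoImplicit false
universe u
open FlatMor

namespace Groth.Agent.S9727

open AlgebraicGeometry CategoryTheory Limits in
/-- Let f : X ⟶ S be a morphism, x a point of X with image s, and (V, v) ⟶ (X_s, x) an étale
neighbourhood of x in its fibre. Then there is an étale neighbourhood (U, u) ⟶ (X, x) whose fibre
U_s over s admits a morphism of étale neighbourhoods (U_s, u) ⟶ (V, v) over X_s which is an open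
immersion. -/
theorem result {X S V : Scheme.{u}} (f : X ⟶ S) (x : X)
    (g : V ⟶ f.fiber (f x)) [Etale g] (v : V) (hv : g v = f.asFiber x) :
    ∃ (U : Scheme.{u}) (p : U ⟶ X) (u : U) (m : (p ≫ f).fiber (f x) ⟶ V) (u' : ↑((p ≫ f).fiber (f x))),
      Etale p ∧ p u = x ∧ IsOpenImmersion m ∧ m ≫ g = MoreMor.fiberMap p f (f x) ∧
      (p ≫ f).fiberι (f x) u' = u ∧ m u' = v := by
  obtain ⟨U, F, p, ι, jm, hp, hjm, sq, hcomp, z, hz⟩ :=
    Groth.Agent.Lib.Helper22.EtLiftSch.exists_lift_nbhd f x g v hv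
  let e : F ≅ (p ≫ f).fiber (f x) := sq.isoPullback
  have he1 : e.hom ≫ (p ≫ f).fiberι (f x) = ι := sq.isoPullback_hom_fst
  have he2 : e.inv ≫ ι = (p ≫ f).fiberι (f x) := sq.isoPullback_inv_fst
  have he3 : e.inv ≫ (jm ≫ g ≫ f.fiberToSpecResidueField (f x)) =
      (p ≫ f).fiberToSpecResidueField (f x) := sq.isoPullback_inv_snd
  have sqF : IsPullback (f.fiberι (f x)) (f.fiberToSpecResidueField (f x)) f
      (S.fromSpecResidueField (f x)) := IsPullback.of_hasPullback _ _
  have hm1 : MoreMor.fiberMap p f (f x) ≫ f.fiberι (f x) = (p ≫ f).fiberι (f x) ≫ p :=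
    pullback.lift_fst _ _ _
  have hm2 : MoreMor.fiberMap p f (f x) ≫ f.fiberToSpecResidueField (f x) =
      (p ≫ f).fiberToSpecResidueField (f x) := pullback.lift_snd _ _ _
  refine ⟨U, p, ι z, e.inv ≫ jm, e.hom z, hp, ?_, inferInstance, ?_, ?_, ?_⟩
  · have h1 : p (ι z) = (jm ≫ g ≫ f.fiberι (f x)) z := by
      rw [hcomp]; rfl
    rw [h1, Scheme.Hom.comp_apply, Scheme.Hom.comp_apply, hz, hv, f.fiberι_asFiber]
  · apply sqF.hom_ext
    · rw [hm1, ← he2, Category.assoc, Category.assoc, Category.assoc]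
      exact congrArg (e.inv ≫ ·) hcomp
    · rw [hm2, ← he3, Category.assoc, Category.assoc]
  · rw [← Scheme.Hom.comp_apply, he1]
  · rw [← Scheme.Hom.comp_apply, Iso.hom_inv_id_assoc, hz]

end Groth.Agent.S9727
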