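import Groth.Statements.S9728
import Groth.Agent.Lib.Helper5.LciS

set_option autoImplicit false
universe u
open FlatMor

namespace Groth.Agent.S9728

open AlgebraicGeometry CategoryTheory Limits in
/-- Given S-schemes U, P, P' with P and P' smooth over S, immersions i : U ⟶ P and i' : U ⟶ P'
compatible with the structure maps to S, and a point u of U, some restriction of i to an open
neighbourhood of u is a Koszul-regular immersion exactly when some restriction of i' to an open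
neighbourhood of u is. -/
theorem result {S U P P' : Scheme.{u}} (q : U ⟶ S)
    (p : P ⟶ S) (p' : P' ⟶ S) [Smooth p] [Smooth p'] (i : U ⟶ P) (i' : U ⟶ P') [IsImmersion i] [IsImmersion i']
    (hi : i ≫ p = q) (hi' : i' ≫ p' = q) (u : U) :
    (∃ V : U.Opens, u ∈ V ∧ RegImm.IsRegularImmersion RegImm.Kind.koszul (V.ι ≫ i)) ↔
      (∃ V : U.Opens, u ∈ V ∧ RegImm.IsRegularImmersion RegImm.Kind.koszul (V.ι ≫ i')) := by
  have key : ∀ {P₁ P₂ : Scheme.{u}} (p₁ : P₁ ⟶ S) (p₂ : P₂ ⟶ S) [Smooth p₁] [Smooth p₂]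
      (i₁ : U ⟶ P₁) (i₂ : U ⟶ P₂) [IsImmersion i₁] [IsImmersion i₂]
      (h₁ : i₁ ≫ p₁ = q) (h₂ : i₂ ≫ p₂ = q),
      (∃ V : U.Opens, u ∈ V ∧ RegImm.IsRegularImmersion RegImm.Kind.koszul (V.ι ≫ i₁)) →
      (∃ V : U.Opens, u ∈ V ∧ RegImm.IsRegularImmersion RegImm.Kind.koszul (V.ι ≫ i₂)) := by
    intro P₁ P₂ p₁ p₂ _ _ i₁ i₂ _ _ h₁ h₂
    rintro ⟨V, huV, hV⟩
    refine ⟨V, huV, ?_⟩
    have h1 : Groth.Agent.Lib.Helper5.Lci.LciMor ((V.ι ≫ i₁) ≫ p₁) :=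
      Groth.Agent.Lib.Helper5.Lci.LciMor.comp_mem _ _ (Groth.Agent.Lib.Helper5.Lci.lciMor_of_isRegularImmersion _ hV) (Groth.Agent.Lib.Helper5.Lci.lciMor_of_smooth p₁)
    have h2 : (V.ι ≫ i₁) ≫ p₁ = (V.ι ≫ i₂) ≫ p₂ := by
      rw [Category.assoc, Category.assoc, h₁, h₂]
    rw [h2] at h1
    exact Groth.Agent.Lib.Helper5.Lci.isRegularImmersion_of_lciMor _ (Groth.Agent.Lib.Helper5.Lci.lciMor_of_comp_smooth _ p₂ h1)
  exact ⟨key p p' i i' hi hi', key p' p i' i hi' hi⟩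

end Groth.Agent.S9728
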