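import Groth.Statements.S9734
import Mathlib
set_option backward.isDefEq.respectTransparency.types false

set_option autoImplicit false
universe u
open FlatMor

namespace Groth.Agent.S9734

open AlgebraicGeometry CategoryTheory Limits Opposite Polynomial

/-- finitely many elements of the residue field lift to sections on a common affine open nbhd -/
lemma exists_affine_range (S : Scheme.{u}) (s : S) (T : Finset (S.residueField s)) :
    ∃ (V : S.Opens) (_ : IsAffineOpen V) (hs : s ∈ V),
      ∀ c ∈ T, c ∈ Set.range (S.evaluation V s hs).hom := by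
  classical
  induction T using Finset.induction_on with
  | empty =>
    obtain ⟨_, ⟨V, hV, rfl⟩, hsV, -⟩ :=
      S.isBasis_affineOpens.exists_subset_of_mem_open (Set.mem_univ s) isOpen_univ
    exact ⟨V, hV, hsV, by simp⟩
  | insert c T' hc ih =>
    obtain ⟨V', hV', hs', h'⟩ := ih
    obtain ⟨t, ht⟩ := IsLocalRing.residue_surjective (R := S.presheaf.stalk s) c
    obtain ⟨V'', hs'', a, ha⟩ := TopCat.Presheaf.exists_germ_eq S.presheaf t
    obtain ⟨_, ⟨V, hV, rfl⟩, hsV, hVle⟩ :=
      S.isBasis_affineOpens.exists_subset_of_mem_open (show s ∈ V' ⊓ V'' from ⟨hs', hs''⟩)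
        (V' ⊓ V'').2
    have hle' : V ≤ V' := fun x hx => (hVle hx).1
    have hle'' : V ≤ V'' := fun x hx => (hVle hx).2
    have key : ∀ (W : S.Opens) (hW : V ≤ W) (b : Γ(S, W)),
        (S.evaluation W s (hW hsV)).hom b =
          (S.evaluation V s hsV).hom (S.presheaf.map (homOfLE hW).op b) := by
      intro W hW b
      simp only [← Scheme.germ_residue, CommRingCat.hom_comp, RingHom.comp_apply]
      congr 1
      exact (TopCat.Presheaf.germ_res_apply S.presheaf (homOfLE hW) s hsV b).symm
    refine ⟨V, hV, hsV, ?_⟩
    intro d hd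
    rcases Finset.mem_insert.mp hd with rfl | hd
    · refine ⟨S.presheaf.map (homOfLE hle'').op a, ?_⟩
      rw [← key V'' hle'' a, ← Scheme.germ_residue, CommRingCat.hom_comp, RingHom.comp_apply]
      erw [ha]
      exact ht
    · obtain ⟨b, hb⟩ := h' d hd
      exact ⟨S.presheaf.map (homOfLE hle').op b, by rw [← key V' hle' b]; exact hb⟩


open AlgebraicGeometry CategoryTheory Limits in
/-- Let S be a scheme, s a point of S and k a finite separable field extension of the residue field
κ(s). Then there is an étale neighbourhood (U, u) ⟶ (S, s) whose residue field extension κ(u)/κ(s)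
is isomorphic to k/κ(s). -/
theorem result (S : Scheme.{u}) (s : S) (k : Type u) [Field k]
    [Algebra (S.residueField s) k] [FiniteDimensional (S.residueField s) k] [Algebra.IsSeparable (S.residueField s) k] :
    ∃ (U : Scheme.{u}) (g : U ⟶ S) (u : U) (hu : g u = s), Etale g ∧
      letI := ((S.residueFieldCongr hu).inv ≫ g.residueFieldMap u).hom.toAlgebra
      Nonempty (k ≃ₐ[S.residueField s] U.residueField u) := by
  classical
  -- primitive element
  obtain ⟨α, hα⟩ := Field.exists_primitive_element (S.residueField s) k
  let fbar : (S.residueField s)[X] := minpoly (S.residueField s) α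
  have hαint : IsIntegral (S.residueField s) α := Algebra.IsIntegral.isIntegral α
  have hfmonic : fbar.Monic := minpoly.monic hαint
  have hfsep : fbar.Separable := Algebra.IsSeparable.isSeparable (S.residueField s) α
  -- lift to an affine open
  obtain ⟨V, hV, hsV, hcoef⟩ := exists_affine_range S s fbar.coeffs
  let ev : Γ(S, V) →+* S.residueField s := (S.evaluation V s hsV).hom
  have hlifts : fbar ∈ Polynomial.lifts ev := by
    rw [Polynomial.lifts_iff_coeff_lifts]
    intro n
    by_cases hn : fbar.coeff n = 0
    · exact ⟨0, by rw [hn, map_zero]⟩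
    · exact hcoef _ (Polynomial.coeff_mem_coeffs hn)
  obtain ⟨F, hFmap, -, hFmonic⟩ := Polynomial.lifts_and_natDegree_eq_and_monic hlifts hfmonic
  -- algebra structures
  letI : Algebra Γ(S, V) (S.residueField s) := ev.toAlgebra
  letI : Algebra Γ(S, V) k := ((algebraMap (S.residueField s) k).comp ev).toAlgebra
  haveI : IsScalarTower Γ(S, V) (S.residueField s) k := IsScalarTower.of_algebraMap_eq (fun _ => rfl)
  let P : StandardEtalePair Γ(S, V) := ⟨F, hFmonic, derivative F, ⟨1, 0, 1, by simp⟩⟩
  have hFα : aeval α F = 0 := by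
    have : aeval α F = aeval α (F.map (algebraMap Γ(S, V) (S.residueField s))) := by
      rw [aeval_map_algebraMap]
    rw [this]
    show aeval α (F.map ev) = 0
    rw [hFmap]
    exact minpoly.aeval _ _
  have hF'α : aeval α (derivative F) ≠ 0 := by
    have : aeval α (derivative F) =
        aeval α (derivative (F.map (algebraMap Γ(S, V) (S.residueField s)))) := by
      rw [derivative_map, aeval_map_algebraMap]
    rw [this]
    show aeval α (derivative (F.map ev)) ≠ 0
    rw [hFmap]
    exact hfsep.aeval_derivative_ne_zero (minpoly.aeval _ _)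
  have hmap : P.HasMap α := ⟨hFα, isUnit_iff_ne_zero.mpr hF'α⟩
  let ψ : P.Ring →ₐ[Γ(S, V)] k := P.lift α hmap
  have hψX : ψ P.X = α := P.lift_X α hmap
  -- the scheme
  let R : CommRingCat.{u} := CommRingCat.of P.Ring
  let a : Γ(S, V) ⟶ R := CommRingCat.ofHom (algebraMap Γ(S, V) P.Ring)
  let g : Spec R ⟶ S := Spec.map a ≫ hV.fromSpec
  have : Etale (Spec.map a) := by
    rw [HasRingHomProperty.Spec_iff (P := @Etale)]
    exact (RingHom.etale_algebraMap).mpr inferInstance
  have : Etale g := inferInstance
  let ψc : R ⟶ CommRingCat.of k := CommRingCat.ofHom ψ.toRingHom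
  let pt : Spec (CommRingCat.of k) ⟶ Spec R := Spec.map ψc
  have hcomp : pt ≫ g = Spec.map (CommRingCat.ofHom (algebraMap (S.residueField s) k)) ≫
      S.fromSpecResidueField s := by
    have h1 : a ≫ ψc = S.evaluation V s hsV ≫
        CommRingCat.ofHom (algebraMap (S.residueField s) k) := by
      ext x
      exact ψ.commutes x
    have h2 : Spec.map (S.evaluation V s hsV) ≫ hV.fromSpec = S.fromSpecResidueField s := by
      rw [Scheme.fromSpecResidueField, ← hV.fromSpecStalk_eq_fromSpecStalk hsV,
        IsAffineOpen.fromSpecStalk, ← Spec.map_comp_assoc, Scheme.germ_residue]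
    simp only [pt, g]
    rw [← Spec.map_comp_assoc, h1, Spec.map_comp, Category.assoc, h2]
    rfl
  let u : Spec R := pt (IsLocalRing.closedPoint k)
  let θ : (Spec R).residueField u ⟶ CommRingCat.of k :=
    Scheme.descResidueField (Scheme.stalkClosedPointTo pt)
  have h2 : (Scheme.SpecToEquivOfField k S) (pt ≫ g) =
      ⟨s, CommRingCat.ofHom (algebraMap (S.residueField s) k)⟩ := by
    rw [hcomp]
    exact (Scheme.SpecToEquivOfField k S).apply_symm_apply
      ⟨s, CommRingCat.ofHom (algebraMap (S.residueField s) k)⟩
  rw [Scheme.SpecToEquivOfField_eq_iff] at h2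
  obtain ⟨e, he⟩ := h2
  have hu : g u = s := e
  have he' : g.residueFieldMap u ≫ θ =
      (S.residueFieldCongr hu).hom ≫ CommRingCat.ofHom (algebraMap (S.residueField s) k) := by
    exact (Scheme.descResidueField_stalkClosedPointTo_comp g pt).symm.trans he
  refine ⟨Spec R, g, u, hu, inferInstance, ?_⟩
  let _ := ((S.residueFieldCongr hu).inv ≫ g.residueFieldMap u).hom.toAlgebra
  let θa : (Spec R).residueField u →ₐ[S.residueField s] k :=
    { θ.hom with
      commutes' := fun c => by
        show θ.hom (g.residueFieldMap u ((S.residueFieldCongr hu).inv c)) = _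
        have := congr($(he').hom ((S.residueFieldCongr hu).inv c))
        simp only [CommRingCat.hom_comp, RingHom.comp_apply] at this
        rw [this]
        have h3 : (S.residueFieldCongr hu).hom ((S.residueFieldCongr hu).inv c) = c := by
          rw [← CommRingCat.comp_apply, Iso.inv_hom_id]; rfl
        rw [h3]
        rfl }
  have hαrange : α ∈ θa.fieldRange := by
    have h4 : Spec.map θ ≫ (Spec R).fromSpecResidueField u = pt :=
      Scheme.descResidueField_stalkClosedPointTo_fromSpecResidueField k (Spec R) pt
    rw [← Scheme.Spec.map_residueFieldIso_inv_eq_fromSpecResidueField, ← Spec.map_comp,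
      ← Spec.map_comp] at h4
    have h5 := Spec.map_injective h4
    have h6 := congr($(h5).hom P.X)
    simp only [CommRingCat.hom_comp, RingHom.comp_apply] at h6
    refine ⟨_, h6.trans ?_⟩
    exact hψX
  have hsurj : Function.Surjective θa := by
    rw [← AlgHom.fieldRange_eq_top, eq_top_iff, ← hα]
    exact IntermediateField.adjoin_simple_le_iff.mpr hαrange
  exact ⟨(AlgEquiv.ofBijective θa ⟨θa.toRingHom.injective, hsurj⟩).symm⟩

end Groth.Agent.S9734
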