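import Groth.Statements.S9738
import Groth.Agent.S1360
import Mathlib
set_option backward.isDefEq.respectTransparency.types false

set_option autoImplicit false
universe u
open FlatMor

namespace Groth.Agent.S9738

open CategoryTheory CategoryTheory.Limits AlgebraicGeometry TopologicalSpace

open TensorProduct IsLocalRing

theorem flat_stalkMap_iff {X Y : Scheme.{u}} {f : X ⟶ Y} {x : X} (U : Y.Opens)
    (hU : IsAffineOpen U) (V : X.Opens) (hV : IsAffineOpen V) (hVU : V ≤ f ⁻¹ᵁ U)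
    (hx : x ∈ V) :
    letI := (f.appLE U V hVU).hom.toAlgebra
    (f.stalkMap x).hom.Flat ↔
      Module.Flat Γ(Y, U) (Localization.AtPrime (hV.primeIdealOf ⟨x, hx⟩).asIdeal) := by
  let := (f.appLE U V hVU).hom.toAlgebra
  let p := (hU.primeIdealOf ⟨f x, hVU hx⟩).asIdeal
  let q := (hV.primeIdealOf ⟨x, hx⟩).asIdeal
  have : q.LiesOver p :=
    ⟨congr($(IsAffineOpen.comap_primeIdealOf_appLE U hU V hV hVU hx).1).symm⟩
  let := Localization.AtPrime.algebraOfLiesOver p q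
  trans Module.Flat (Localization.AtPrime p) (Localization.AtPrime q)
  · rw [← RingHom.flat_algebraMap_iff]
    exact RingHom.Flat.respectsIso.arrow_mk_iso_iff
      (IsAffineOpen.arrowStalkMapIso f U hU V hV hVU hx)
  · exact Module.flat_iff_of_isLocalization (Localization.AtPrime p) p.primeCompl
      (Localization.AtPrime q)


open AlgebraicGeometry CategoryTheory Limits in
/-- For a morphism f : X ⟶ S between locally Noetherian schemes, an ideal sheaf I on S with closed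
subscheme Z, and Z_n the closed subscheme cut out by I^(n+1): if each base change X ×_S Z_n ⟶ Z_n is
flat, then f is flat at each point of X lying over Z. -/
theorem result {X S : Scheme.{u}} (f : X ⟶ S) [IsLocallyNoetherian X] [IsLocallyNoetherian S]
    (I : S.IdealSheafData) (h : ∀ n : ℕ, Flat (pullback.snd f (I ^ (n + 1)).subschemeι)) (x : X) (hx : f x ∈ I.support) :
    (f.stalkMap x).hom.Flat := by
  obtain ⟨U₀, hU₀, V₀, hV₀, hVU, hxV⟩ :=
    Groth.Agent.Lib.Helper17.UnibranchScheme.exists_affine_nhds f x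
  algebraize [(f.appLE U₀ V₀ hVU).hom]
  haveI : IsNoetherianRing Γ(S, U₀) := IsLocallyNoetherian.component_noetherian ⟨U₀, hU₀⟩
  haveI : IsNoetherianRing Γ(X, V₀) := IsLocallyNoetherian.component_noetherian ⟨V₀, hV₀⟩
  -- the ideal
  have hq : (I.ideal ⟨U₀, hU₀⟩).map (algebraMap Γ(S, U₀) Γ(X, V₀)) ≤
      (hV₀.primeIdealOf ⟨x, hxV⟩).asIdeal := by
    rw [Ideal.map_le_iff_le_comap]
    intro a ha
    rw [Ideal.mem_comap]
    by_contra hcon
    have hmem : x ∈ X.basicOpen (f.appLE U₀ V₀ hVU a) := by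
      have hcon' : algebraMap Γ(S, U₀) Γ(X, V₀) a ∉ (hV₀.primeIdealOf ⟨x, hxV⟩).asIdeal := hcon
      rw [← PrimeSpectrum.mem_basicOpen, IsAffineOpen.primeIdealOf,
        ← hV₀.fromSpec_preimage_basicOpen] at hcon'
      change hV₀.fromSpec (hV₀.isoSpec.hom ⟨x, hxV⟩) ∈ X.basicOpen _ at hcon'
      rwa [← Scheme.Hom.comp_apply, IsAffineOpen.isoSpec_hom, IsAffineOpen.toSpecΓ_fromSpec]
        at hcon'
    rw [Scheme.basicOpen_appLE] at hmem
    have h1 : f x ∈ S.basicOpen a := hmem.2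
    have h2 := (Scheme.IdealSheafData.mem_support_iff_of_mem (I := I) (U := ⟨U₀, hU₀⟩)
      (hVU hxV)).mp hx
    rw [Scheme.mem_zeroLocus_iff] at h2
    exact h2 a ha h1
  have hfl : ∀ n, 0 < n → Module.Flat (Γ(S, U₀) ⧸ I.ideal ⟨U₀, hU₀⟩ ^ n)
      (TensorProduct (Γ(S, U₀)) (Γ(S, U₀) ⧸ I.ideal ⟨U₀, hU₀⟩ ^ n) Γ(X, V₀)) := by
    intro n hn
    obtain ⟨m, rfl⟩ : ∃ m, n = m + 1 := ⟨n - 1, by omega⟩
    have hE := h m
    let ι := (I ^ (m + 1)).subschemeι
    let UZ : (I ^ (m + 1)).subscheme.Opens := ι ⁻¹ᵁ U₀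
    have hUZ : IsAffineOpen UZ := hU₀.preimage ι
    let W : (pullback f ι).Opens := pullback.fst f ι ⁻¹ᵁ V₀
    have hW : IsAffineOpen W := hV₀.preimage (pullback.fst f ι)
    have hWle : W ≤ pullback.snd f ι ⁻¹ᵁ UZ := by
      intro p hp
      show ι (pullback.snd f ι p) ∈ U₀
      rw [← Scheme.Hom.comp_apply, ← pullback.condition, Scheme.Hom.comp_apply]
      exact hVU hp
    have hWeq : W = pullback.fst f ι ⁻¹ᵁ V₀ ⊓ pullback.snd f ι ⁻¹ᵁ UZ :=
      (inf_eq_left.mpr hWle).symm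
    have hpb : IsPullback (pullback.fst f ι) (pullback.snd f ι) f ι := IsPullback.of_hasPullback f ι
    haveI := isIso_pushoutSection_of_isAffineOpen hpb (le_refl UZ) hVU hWeq hU₀ hUZ hV₀
    have hpo := (isIso_pushoutSection_iff hpb (le_refl UZ) hVU hWeq).mp inferInstance
    have hc : ((pullback.snd f ι).appLE UZ W (by simp [hWeq])).hom.Flat :=
      HasRingHomProperty.appLE (P := @Flat) _ hE ⟨UZ, hUZ⟩ ⟨W, hW⟩ _
    have hρ : Function.Surjective (ι.appLE U₀ UZ (le_refl UZ)).hom := by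
      rw [Scheme.Hom.appLE_eq_app]
      exact (I ^ (m + 1)).subschemeι_app_surjective ⟨U₀, hU₀⟩
    have hker : RingHom.ker (ι.appLE U₀ UZ (le_refl UZ)).hom = I.ideal ⟨U₀, hU₀⟩ ^ (m + 1) := by
      rw [Scheme.Hom.appLE_eq_app]
      exact (I ^ (m + 1)).ker_subschemeι_app ⟨U₀, hU₀⟩
    exact Groth.Agent.S1360.flat_tensor_of_isPushout _ _ _ _ hpo hρ hc _ hker
  have hflat := Groth.Agent.S1360.flat_localization_of_flat_quotient_pow (I.ideal ⟨U₀, hU₀⟩)
    (hV₀.primeIdealOf ⟨x, hxV⟩).asIdeal hq hfl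
  exact (flat_stalkMap_iff U₀ hU₀ V₀ hV₀ hVU hxV).mpr hflat

end Groth.Agent.S9738
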