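import Groth.Statements.S9741
import Mathlib
import Groth.Prelude.Def_Omega3
import Groth.Agent.Lib.Helper15.UnivThick
-- import your own Groth.Agent.* helpers here

set_option autoImplicit false
universe u
open OmegaSh

namespace Groth.Agent.S9741

section H
namespace W1
open CategoryTheory CategoryTheory.Limits AlgebraicGeometry Opposite
open Groth.Agent.Lib.Helper15
set_option backward.isDefEq.respectTransparency.types false

theorem main {Z Y X Z' Y' : Scheme.{u}} (a : Z ⟶ Y) (b : Y ⟶ X)
    (i : Z ⟶ Z') (c : Z' ⟶ X) (hZ : OmegaSh.IsUnivThickening (a ≫ b) i c)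
    (j : Y ⟶ Y') (d : Y' ⟶ X) (hY : OmegaSh.IsUnivThickening b j d) :
    ∃ (m : Z' ⟶ Y') (hm : i ≫ m = a ≫ j), m ≫ d = c ∧
      OmegaSh.IsUnivThickening a (pullback.lift a i hm.symm) (pullback.fst j m) := by
  obtain ⟨hi, hic, hZu⟩ := hZ
  obtain ⟨hj, hjd, hYu⟩ := hY
  obtain ⟨m, ⟨hm1, hm2⟩, -⟩ := hYu Z Z' i c a hi hic
  refine ⟨m, hm1, hm2, ?_⟩
  have : IsClosedImmersion j := hj.1.1
  set iQ : Z ⟶ pullback j m := pullback.lift a i hm1.symm with hiQ
  have e1 : iQ ≫ pullback.fst j m = a := pullback.lift_fst _ _ _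
  have e2 : iQ ≫ pullback.snd j m = i := pullback.lift_snd _ _ _
  refine ⟨?_, e1, ?_⟩
  · apply UnivThick.isFirstOrderThickening_of_comp iQ (pullback.snd j m)
    rw [e2]; exact hi
  · intro T T' jT β α hjT hcomm
    have hcomm' : jT ≫ (β ≫ b) = α ≫ (a ≫ b) := by
      rw [← Category.assoc, hcomm, Category.assoc]
    obtain ⟨γ, ⟨hγ1, hγ2⟩, hγu⟩ := hZu T T' jT (β ≫ b) α hjT hcomm'
    have hcomm'' : jT ≫ (β ≫ b) = (α ≫ a) ≫ b := by
      rw [hcomm', Category.assoc]
    obtain ⟨δ, -, hδu⟩ := hYu T T' jT (β ≫ b) (α ≫ a) hjT hcomm''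
    have hδ1 : β ≫ j = δ := by
      apply hδu
      refine ⟨?_, ?_⟩
      · rw [← Category.assoc, hcomm, Category.assoc]
      · rw [Category.assoc, hjd]
    have hδ2 : γ ≫ m = δ := by
      apply hδu
      refine ⟨?_, ?_⟩
      · rw [← Category.assoc, hγ1, Category.assoc, hm1, Category.assoc]
      · rw [Category.assoc, hm2, hγ2]
    have hcond : β ≫ j = γ ≫ m := hδ1.trans hδ2.symm
    refine ⟨pullback.lift β γ hcond, ⟨?_, pullback.lift_fst _ _ _⟩, ?_⟩
    · apply pullback.hom_ext
      · rw [Category.assoc, pullback.lift_fst, Category.assoc, e1, hcomm]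
      · rw [Category.assoc, pullback.lift_snd, Category.assoc, e2, hγ1]
    · rintro α'' ⟨h1, h2⟩
      have hsnd : α'' ≫ pullback.snd j m = γ := by
        apply hγu
        refine ⟨?_, ?_⟩
        · rw [← Category.assoc, h1, Category.assoc, e2]
        · rw [← hm2, Category.assoc, ← Category.assoc (pullback.snd j m), ← pullback.condition,
            Category.assoc, hjd, ← Category.assoc, h2]
      apply pullback.hom_ext
      · rw [h2, pullback.lift_fst]
      · rw [hsnd, pullback.lift_snd]

end W1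
end H


open AlgebraicGeometry CategoryTheory Limits in
/-- Let a : Z ⟶ Y and b : Y ⟶ X be formally unramified, let (i : Z ⟶ Z', c : Z' ⟶ X) be universal among
first order thickenings of Z relative to X (for a ≫ b), and (j : Y ⟶ Y', d : Y' ⟶ X) likewise for Y
relative to X (for b). Then there is a morphism of thickenings m : Z' ⟶ Y' over X (i ≫ m = a ≫ j and
m ≫ d = c) such that Z ⟶ Y ×_{Y'} Z' (components a and i), together with the projection to Y, is
universal among first order thickenings of Z relative to Y (for a). The published statement also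
asserts an exact sequence of conormal sheaves; this row states only the thickening assertion. -/
theorem result {Z Y X Z' Y' : Scheme.{u}} (a : Z ⟶ Y) (b : Y ⟶ X)
    [FormallyUnramified a] [FormallyUnramified b] (i : Z ⟶ Z') (c : Z' ⟶ X) (hZ : OmegaSh.IsUnivThickening (a ≫ b) i c)
    (j : Y ⟶ Y') (d : Y' ⟶ X) (hY : OmegaSh.IsUnivThickening b j d) :
    ∃ (m : Z' ⟶ Y') (hm : i ≫ m = a ≫ j), m ≫ d = c ∧
      OmegaSh.IsUnivThickening a (pullback.lift a i hm.symm) (pullback.fst j m) := by
  exact W1.main a b i c hZ j d hY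

end Groth.Agent.S9741
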