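import Groth.Statements.S9742
import Groth.Agent.Lib.Helper29.RelFPGeom

set_option autoImplicit false
universe u
open Flatn

namespace Groth.Agent.S9742

open AlgebraicGeometry CategoryTheory CategoryTheory.Limits Opposite TopologicalSpace
open Groth.Agent.Lib.Helper29.RelFP Groth.Agent.Lib.Helper29.RelFPGeom FlatCA


open AlgebraicGeometry CategoryTheory Limits in
/-- Given a morphism f : X ⟶ S that is locally of finite type and a quasi-coherent O_X-module F, the
module F is relatively finitely presented over S (the defining condition on some affine open covers)
if and only if, for every affine open V of S and every affine open U of X contained in the preimage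
of V, the sections F(U) are finitely presented relative to Γ(V) through the induced ring map. The
published statement also asserts that, under these conditions, the restriction of F to any open of X
mapping into an open V of S is of finite presentation relative to V; this row states only the
equivalence. -/
theorem result {X S : Scheme.{u}} (f : X ⟶ S) [LocallyOfFiniteType f] (F : X.Modules) [Coh.IsQCoh F] :
    Flatn.IsRelFP f F ↔
      ∀ (U : X.affineOpens) (V : S.affineOpens) (h : (U : X.Opens) ≤ f ⁻¹ᵁ (V : S.Opens)), Flatn.RelFPOn f F U V h := by
  haveI : F.IsQuasicoherent := ‹Coh.IsQCoh F›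
  constructor
  · intro hF U V h
    exact relFPOn_of_isRelFP f F hF U V h
  · intro H
    refine isRelFP_of_local f F fun W x hx => ?_
    obtain ⟨U, hU, hxU, hUW⟩ := (TopologicalSpace.Opens.isBasis_iff_nbhd.1 X.isBasis_affineOpens)
      (show x ∈ f ⁻¹ᵁ (W : S.Opens) from hx)
    exact ⟨⟨U, hU⟩, hUW, hxU, H ⟨U, hU⟩ W hUW⟩



end Groth.Agent.S9742
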