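import Groth.Statements.S9743
import Groth.Agent.Lib.Helper28.QCohPush
import Groth.Agent.Lib.Helper29.RelFPFinite
import Groth.Agent.Lib.Helper29.RelFPGeom

set_option autoImplicit false
universe u
open Flatn

namespace Groth.Agent.S9743

open AlgebraicGeometry CategoryTheory Limits Opposite TopologicalSpace
open Groth.Agent.Lib.Helper29.RelFP Groth.Agent.Lib.Helper29.RelFPGeom Groth.Agent.Lib.Helper29.RelFPFinite
  Groth.Agent.Lib.Helper28.QCohLoc FlatCA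

/-- the key local statement: over an affine `V ⊆ Y` mapping into the affine `W ⊆ S` -/
theorem relFPOn_push_iff {X Y S : Scheme.{u}} (π : X ⟶ Y) (g : Y ⟶ S) [IsFinite π] [LocallyOfFiniteType g]
    (F : X.Modules) (V : Y.affineOpens) (W : S.affineOpens) (hVW : (V : Y.Opens) ≤ g ⁻¹ᵁ (W : S.Opens))
    (hUW : ((⟨π ⁻¹ᵁ (V : Y.Opens), V.2.preimage π⟩ : X.affineOpens) : X.Opens) ≤ (π ≫ g) ⁻¹ᵁ (W : S.Opens)) :
    Flatn.RelFPOn (π ≫ g) F ⟨π ⁻¹ᵁ (V : Y.Opens), V.2.preimage π⟩ W hUW ↔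
      Flatn.RelFPOn g ((Scheme.Modules.pushforward π).obj F) V W hVW := by
  rw [relFPOn_iff', relFPOn_iff']
  letI : Algebra Γ(S, (W : S.Opens)) Γ(Y, (V : Y.Opens)) := (g.appLE (W : S.Opens) (V : Y.Opens) hVW).hom.toAlgebra
  letI : Algebra Γ(S, (W : S.Opens)) Γ(X, π ⁻¹ᵁ (V : Y.Opens)) :=
    ((π ≫ g).appLE (W : S.Opens) (π ⁻¹ᵁ (V : Y.Opens)) hUW).hom.toAlgebra
  letI : Algebra Γ(Y, (V : Y.Opens)) Γ(X, π ⁻¹ᵁ (V : Y.Opens)) := (π.app (V : Y.Opens)).hom.toAlgebra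
  haveI : Module.Finite Γ(Y, (V : Y.Opens)) Γ(X, π ⁻¹ᵁ (V : Y.Opens)) := IsFinite.finite_app π _ V.2
  haveI : Algebra.FiniteType Γ(S, (W : S.Opens)) Γ(Y, (V : Y.Opens)) :=
    LocallyOfFiniteType.finiteType_appLE g W.2 V.2 hVW
  haveI : IsScalarTower Γ(S, (W : S.Opens)) Γ(Y, (V : Y.Opens)) Γ(X, π ⁻¹ᵁ (V : Y.Opens)) := by
    refine IsScalarTower.of_algebraMap_eq' ?_
    change ((π ≫ g).appLE (W : S.Opens) (π ⁻¹ᵁ (V : Y.Opens)) hUW).hom =
      (π.app (V : Y.Opens)).hom.comp (g.appLE (W : S.Opens) (V : Y.Opens) hVW).hom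
    rw [← CommRingCat.hom_comp]
    congr 1
    rw [Scheme.Hom.app_eq_appLE, Scheme.Hom.appLE_comp_appLE]
  have key := relFP_finite_iff (R := Γ(S, (W : S.Opens))) (B := Γ(Y, (V : Y.Opens)))
    (C := Γ(X, π ⁻¹ᵁ (V : Y.Opens))) Γ(F, π ⁻¹ᵁ (V : Y.Opens))
    Γ((Scheme.Modules.pushforward π).obj F, (V : Y.Opens)) (AddEquiv.refl _) (fun b x => rfl)
  exact key

open AlgebraicGeometry CategoryTheory Limits in
/-- Suppose π : X ⟶ Y is finite, g : Y ⟶ S is locally of finite type, and F is a quasi-coherent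
O_X-module. Then F is relatively finitely presented over S via π ≫ g exactly when the direct image
π_*F is relatively finitely presented over S via g. -/
theorem result {X Y S : Scheme.{u}} (π : X ⟶ Y) (g : Y ⟶ S) [IsFinite π] [LocallyOfFiniteType g]
    (F : X.Modules) [Coh.IsQCoh F] : Flatn.IsRelFP (π ≫ g) F ↔ Flatn.IsRelFP g ((Coh.push π).obj F) := by
  haveI : F.IsQuasicoherent := ‹Coh.IsQCoh F›
  haveI : ((Scheme.Modules.pushforward π).obj F).IsQuasicoherent := isQuasicoherent_pushforward π F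
  haveI : LocallyOfFiniteType (π ≫ g) := inferInstance
  constructor
  · intro hF
    refine isRelFP_of_local g _ fun W y hy => ?_
    obtain ⟨V, hV, hyV, hVW⟩ := (TopologicalSpace.Opens.isBasis_iff_nbhd.1 Y.isBasis_affineOpens)
      (show y ∈ g ⁻¹ᵁ (W : S.Opens) from hy)
    have hUW : ((⟨π ⁻¹ᵁ V, hV.preimage π⟩ : X.affineOpens) : X.Opens) ≤ (π ≫ g) ⁻¹ᵁ (W : S.Opens) := by
      intro x hx
      exact hVW hx
    refine ⟨⟨V, hV⟩, hVW, hyV, ?_⟩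
    exact (relFPOn_push_iff π g F ⟨V, hV⟩ W hVW hUW).1 (relFPOn_of_isRelFP (π ≫ g) F hF _ W hUW)
  · intro hF
    refine isRelFP_of_local (π ≫ g) _ fun W x hx => ?_
    obtain ⟨V, hV, hyV, hVW⟩ := (TopologicalSpace.Opens.isBasis_iff_nbhd.1 Y.isBasis_affineOpens)
      (show π x ∈ g ⁻¹ᵁ (W : S.Opens) from hx)
    have hUW : ((⟨π ⁻¹ᵁ V, hV.preimage π⟩ : X.affineOpens) : X.Opens) ≤ (π ≫ g) ⁻¹ᵁ (W : S.Opens) := by
      intro x hx
      exact hVW hx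
    refine ⟨⟨π ⁻¹ᵁ V, hV.preimage π⟩, hUW, hyV, ?_⟩
    exact (relFPOn_push_iff π g F ⟨V, hV⟩ W hVW hUW).2
      (relFPOn_of_isRelFP g _ hF ⟨V, hV⟩ W hVW)



end Groth.Agent.S9743
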