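import Groth.Statements.S9744
import Groth.Agent.Lib.Helper17.ModPullback
import Groth.Agent.Lib.Helper29.RelFPPull
import Groth.Agent.Lib.Helper29.RelFPBaseChange
import Groth.Agent.Lib.Helper29.RelFPGeom

set_option autoImplicit false
universe u
open Flatn

namespace Groth.Agent.S9744

open AlgebraicGeometry CategoryTheory Limits Opposite TopologicalSpace TensorProduct
open Groth.Agent.Lib.Helper29.RelFP Groth.Agent.Lib.Helper29.RelFPGeom Groth.Agent.Lib.Helper29.RelFPPull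
  Groth.Agent.Lib.Helper29.RelFPBaseChange Groth.Agent.Lib.Helper17.ModPullback FlatCA

/-- affineness of the product open -/
theorem isAffineOpen_inf_preimage {X S X' S' : Scheme.{u}} {f : X ⟶ S} {g : S' ⟶ S} {f' : X' ⟶ S'} {g' : X' ⟶ X}
    (hc : IsPullback g' f' f g) {W : S.Opens} {W' : S'.Opens} {U : X.Opens}
    (hW'W : W' ≤ g ⁻¹ᵁ W) (hUW : U ≤ f ⁻¹ᵁ W) {U' : X'.Opens} (hU' : U' = g' ⁻¹ᵁ U ⊓ f' ⁻¹ᵁ W')
    (hW : IsAffineOpen W) (hW' : IsAffineOpen W') (hU : IsAffineOpen U) : IsAffineOpen U' := by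
  have : IsAffine _ := hW
  have : IsAffine _ := hW'
  have : IsAffine _ := hU
  exact .of_isIso (Scheme.Hom.isPullback_resLE hc hW'W hUW hU').isoPullback.hom

/-- the key local statement -/
theorem relFPOn_baseChange {X S X' S' : Scheme.{u}} (f : X ⟶ S) (F : X.Modules) [F.IsQuasicoherent]
    (g : S' ⟶ S) (f' : X' ⟶ S') (g' : X' ⟶ X) (hc : IsPullback g' f' f g)
    (U : X.affineOpens) (W : S.affineOpens) (W' : S'.affineOpens) (U' : X'.affineOpens)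
    (hUW : (U : X.Opens) ≤ f ⁻¹ᵁ (W : S.Opens)) (hW'W : (W' : S'.Opens) ≤ g ⁻¹ᵁ (W : S.Opens))
    (hU' : (U' : X'.Opens) = g' ⁻¹ᵁ (U : X.Opens) ⊓ f' ⁻¹ᵁ (W' : S'.Opens))
    (hU'W' : (U' : X'.Opens) ≤ f' ⁻¹ᵁ (W' : S'.Opens))
    (h : Flatn.RelFPOn f F U W hUW) :
    Flatn.RelFPOn f' ((Scheme.Modules.pullback g').obj F) U' W' hU'W' := by
  rw [relFPOn_iff'] at h ⊢
  have hU'U : (U' : X'.Opens) ≤ g' ⁻¹ᵁ (U : X.Opens) := by rw [hU']; exact inf_le_left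
  letI : Algebra Γ(S, (W : S.Opens)) Γ(X, (U : X.Opens)) := (f.appLE (W : S.Opens) (U : X.Opens) hUW).hom.toAlgebra
  letI : Algebra Γ(S, (W : S.Opens)) Γ(S', (W' : S'.Opens)) :=
    (g.appLE (W : S.Opens) (W' : S'.Opens) hW'W).hom.toAlgebra
  letI : Algebra Γ(X, (U : X.Opens)) Γ(X', (U' : X'.Opens)) :=
    (g'.appLE (U : X.Opens) (U' : X'.Opens) hU'U).hom.toAlgebra
  letI : Algebra Γ(S', (W' : S'.Opens)) Γ(X', (U' : X'.Opens)) :=
    (f'.appLE (W' : S'.Opens) (U' : X'.Opens) hU'W').hom.toAlgebra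
  letI : Algebra Γ(S, (W : S.Opens)) Γ(X', (U' : X'.Opens)) :=
    ((f'.appLE (W' : S'.Opens) (U' : X'.Opens) hU'W').hom.comp
      (g.appLE (W : S.Opens) (W' : S'.Opens) hW'W).hom).toAlgebra
  haveI : IsScalarTower Γ(S, (W : S.Opens)) Γ(S', (W' : S'.Opens)) Γ(X', (U' : X'.Opens)) :=
    IsScalarTower.of_algebraMap_eq' rfl
  haveI : IsScalarTower Γ(S, (W : S.Opens)) Γ(X, (U : X.Opens)) Γ(X', (U' : X'.Opens)) := by
    refine IsScalarTower.of_algebraMap_eq' ?_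
    change (f'.appLE (W' : S'.Opens) (U' : X'.Opens) hU'W').hom.comp
      (g.appLE (W : S.Opens) (W' : S'.Opens) hW'W).hom =
      (g'.appLE (U : X.Opens) (U' : X'.Opens) hU'U).hom.comp (f.appLE (W : S.Opens) (U : X.Opens) hUW).hom
    rw [← CommRingCat.hom_comp, ← CommRingCat.hom_comp]
    congr 1
    simp only [Scheme.Hom.appLE_comp_appLE, hc.w]
  have hpo : CategoryTheory.IsPushout (f.appLE (W : S.Opens) (U : X.Opens) hUW)
      (g.appLE (W : S.Opens) (W' : S'.Opens) hW'W)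
      (g'.appLE (U : X.Opens) (U' : X'.Opens) hU'U) (f'.appLE (W' : S'.Opens) (U' : X'.Opens) hU'W') :=
    (isIso_pushoutSection_iff hc hW'W hUW hU').1
      (isIso_pushoutSection_of_isAffineOpen hc hW'W hUW hU' W.2 W'.2 U.2)
  haveI : Algebra.IsPushout Γ(S, (W : S.Opens)) Γ(X, (U : X.Opens)) Γ(S', (W' : S'.Opens))
      Γ(X', (U' : X'.Opens)) := CommRingCat.isPushout_iff_isPushout.mp hpo
  obtain ⟨e⟩ := nonempty_linearEquiv_pullback_sections g' F U'.2 U.2 hU'U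
  have key : RelFinitePresentation Γ(S', (W' : S'.Opens)) Γ(X', (U' : X'.Opens))
      (Γ(X', (U' : X'.Opens)) ⊗[Γ(X, (U : X.Opens))] Γ(F, (U : X.Opens))) :=
    relFP_baseChange Γ(F, (U : X.Opens)) h
  have key2 : RelFinitePresentation Γ(S', (W' : S'.Opens)) Γ(X', (U' : X'.Opens))
      Γ((Scheme.Modules.pullback g').obj F, (U' : X'.Opens)) := relFP_of_linearEquiv e.symm key
  exact key2

open AlgebraicGeometry CategoryTheory Limits in
/-- Let f : X ⟶ S be locally of finite type and F a quasi-coherent O_X-module of finite presentation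
relative to S. For a base change f' : X' ⟶ S' of f along S' ⟶ S with projection g' : X' ⟶ X, the
pullback (g')^*F is of finite presentation relative to S'. -/
theorem result {X S X' S' : Scheme.{u}} (f : X ⟶ S) [LocallyOfFiniteType f] (F : X.Modules) [Coh.IsQCoh F]
    (g : S' ⟶ S) (f' : X' ⟶ S') (g' : X' ⟶ X) (hc : IsPullback g' f' f g) (hF : Flatn.IsRelFP f F) :
    Flatn.IsRelFP f' ((Scheme.Modules.pullback g').obj F) := by
  haveI : F.IsQuasicoherent := ‹Coh.IsQCoh F›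
  refine isRelFP_of_local f' _ fun W₀ x' hx' => ?_
  obtain ⟨W, hW, hxW, -⟩ := (TopologicalSpace.Opens.isBasis_iff_nbhd.1 S.isBasis_affineOpens)
    (show g (f' x') ∈ (⊤ : S.Opens) from trivial)
  obtain ⟨b, hbW, hxb⟩ := W₀.2.exists_basicOpen_le (V := g ⁻¹ᵁ W) ⟨f' x', hxW⟩ hx'
  have hfx : f (g' x') ∈ W := by
    have h1 : f (g' x') = g (f' x') := by
      rw [← Scheme.Hom.comp_apply, hc.w, Scheme.Hom.comp_apply]
    rw [h1]
    exact hxW
  obtain ⟨U, hU, hxU, hUW⟩ := (TopologicalSpace.Opens.isBasis_iff_nbhd.1 X.isBasis_affineOpens)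
    (show g' x' ∈ f ⁻¹ᵁ W from hfx)
  have hb : IsAffineOpen (S'.basicOpen b) := W₀.2.basicOpen b
  have hU'aff : IsAffineOpen (g' ⁻¹ᵁ U ⊓ f' ⁻¹ᵁ (S'.basicOpen b)) :=
    isAffineOpen_inf_preimage hc hbW hUW rfl hW hb hU
  have hle1 : g' ⁻¹ᵁ U ⊓ f' ⁻¹ᵁ (S'.basicOpen b) ≤ f' ⁻¹ᵁ (S'.basicOpen b) := inf_le_right
  have hle2 : g' ⁻¹ᵁ U ⊓ f' ⁻¹ᵁ (S'.basicOpen b) ≤ f' ⁻¹ᵁ (W₀ : S'.Opens) :=
    hle1.trans (f'.preimage_mono (S'.basicOpen_le b))
  refine ⟨⟨_, hU'aff⟩, hle2, ⟨hxU, hxb⟩, ?_⟩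
  refine relFPOn_base_up f' _ ⟨_, hU'aff⟩ W₀ hle2 b hle1 ?_
  exact relFPOn_baseChange f F g f' g' hc ⟨U, hU⟩ ⟨W, hW⟩ (S'.affineBasicOpen b) ⟨_, hU'aff⟩ hUW hbW rfl hle1
    (relFPOn_of_isRelFP f F hF ⟨U, hU⟩ ⟨W, hW⟩ hUW)



end Groth.Agent.S9744
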