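import Groth.Statements.S9745
import Groth.Agent.Lib.Helper17.ModPullback
import Groth.Agent.Lib.Helper29.RelFPPull
import Groth.Agent.Lib.Helper29.RelFPGeom

set_option autoImplicit false
universe u
open Flatn

namespace Groth.Agent.S9745

open AlgebraicGeometry CategoryTheory Limits Opposite TopologicalSpace TensorProduct
open Groth.Agent.Lib.Helper29.RelFP Groth.Agent.Lib.Helper29.RelFPGeom Groth.Agent.Lib.Helper29.RelFPPull
  Groth.Agent.Lib.Helper17.ModPullback FlatCA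

/-- the key local statement -/
theorem relFPOn_pullback {X Y S : Scheme.{u}} (f : X ⟶ Y) (g : Y ⟶ S) [LocallyOfFinitePresentation f]
    (G : Y.Modules) [G.IsQuasicoherent] (U : X.affineOpens) (V : Y.affineOpens) (W : S.affineOpens)
    (hUV : (U : X.Opens) ≤ f ⁻¹ᵁ (V : Y.Opens)) (hVW : (V : Y.Opens) ≤ g ⁻¹ᵁ (W : S.Opens))
    (hUW : (U : X.Opens) ≤ (f ≫ g) ⁻¹ᵁ (W : S.Opens))
    (h : Flatn.RelFPOn g G V W hVW) :
    Flatn.RelFPOn (f ≫ g) ((Scheme.Modules.pullback f).obj G) U W hUW := by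
  rw [relFPOn_iff'] at h ⊢
  letI : Algebra Γ(S, (W : S.Opens)) Γ(Y, (V : Y.Opens)) := (g.appLE (W : S.Opens) (V : Y.Opens) hVW).hom.toAlgebra
  letI : Algebra Γ(S, (W : S.Opens)) Γ(X, (U : X.Opens)) :=
    ((f ≫ g).appLE (W : S.Opens) (U : X.Opens) hUW).hom.toAlgebra
  letI : Algebra Γ(Y, (V : Y.Opens)) Γ(X, (U : X.Opens)) := (f.appLE (V : Y.Opens) (U : X.Opens) hUV).hom.toAlgebra
  haveI : Algebra.FinitePresentation Γ(Y, (V : Y.Opens)) Γ(X, (U : X.Opens)) :=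
    LocallyOfFinitePresentation.finitePresentation_appLE f V.2 U.2 hUV
  haveI : IsScalarTower Γ(S, (W : S.Opens)) Γ(Y, (V : Y.Opens)) Γ(X, (U : X.Opens)) := by
    refine IsScalarTower.of_algebraMap_eq' ?_
    change ((f ≫ g).appLE (W : S.Opens) (U : X.Opens) hUW).hom =
      (f.appLE (V : Y.Opens) (U : X.Opens) hUV).hom.comp (g.appLE (W : S.Opens) (V : Y.Opens) hVW).hom
    rw [← CommRingCat.hom_comp]
    congr 1
    rw [Scheme.Hom.appLE_comp_appLE]
  obtain ⟨e⟩ := nonempty_linearEquiv_pullback_sections f G U.2 V.2 hUV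
  have key : RelFinitePresentation Γ(S, (W : S.Opens)) Γ(X, (U : X.Opens))
      (Γ(X, (U : X.Opens)) ⊗[Γ(Y, (V : Y.Opens))] Γ(G, (V : Y.Opens))) :=
    relFP_tensor_of_fp Γ(G, (V : Y.Opens)) h
  have key2 : RelFinitePresentation Γ(S, (W : S.Opens)) Γ(X, (U : X.Opens))
      Γ((Scheme.Modules.pullback f).obj G, (U : X.Opens)) := relFP_of_linearEquiv e.symm key
  exact key2

open AlgebraicGeometry CategoryTheory Limits in
/-- Let f : X ⟶ Y be locally of finite presentation and g : Y ⟶ S locally of finite type, and let G be a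
quasi-coherent O_Y-module that is finitely presented relative to S. Then the pullback f^*G is
finitely presented relative to S along f ≫ g. -/
theorem result {X Y S : Scheme.{u}} (f : X ⟶ Y) (g : Y ⟶ S) [LocallyOfFinitePresentation f] [LocallyOfFiniteType g]
    (G : Y.Modules) [Coh.IsQCoh G] (hG : Flatn.IsRelFP g G) : Flatn.IsRelFP (f ≫ g) ((Scheme.Modules.pullback f).obj G) := by
  haveI : G.IsQuasicoherent := ‹Coh.IsQCoh G›
  refine isRelFP_of_local (f ≫ g) _ fun W x hx => ?_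
  obtain ⟨V, hV, hyV, hVW⟩ := (TopologicalSpace.Opens.isBasis_iff_nbhd.1 Y.isBasis_affineOpens)
    (show f x ∈ g ⁻¹ᵁ (W : S.Opens) from hx)
  obtain ⟨U, hU, hxU, hUV⟩ := (TopologicalSpace.Opens.isBasis_iff_nbhd.1 X.isBasis_affineOpens)
    (show x ∈ f ⁻¹ᵁ V from hyV)
  have hUW : ((⟨U, hU⟩ : X.affineOpens) : X.Opens) ≤ (f ≫ g) ⁻¹ᵁ (W : S.Opens) := by
    intro z hz
    exact hVW (hUV hz)
  refine ⟨⟨U, hU⟩, hUW, hxU, ?_⟩
  exact relFPOn_pullback f g G ⟨U, hU⟩ ⟨V, hV⟩ W hUV hVW hUW (relFPOn_of_isRelFP g G hG ⟨V, hV⟩ W hVW)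



end Groth.Agent.S9745
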