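import Groth.Statements.S9746
import Groth.Agent.Lib.Helper29.RelFPGeom

set_option autoImplicit false
universe u
open Flatn

namespace Groth.Agent.S9746

open AlgebraicGeometry CategoryTheory CategoryTheory.Limits Opposite TopologicalSpace
open Groth.Agent.Lib.Helper29.RelFP Groth.Agent.Lib.Helper29.RelFPGeom FlatCA


open AlgebraicGeometry CategoryTheory Limits in
/-- Let f : X ⟶ Y be locally of finite type, g : Y ⟶ S locally of finite presentation, and F a
quasi-coherent O_X-module that is finitely presented relative to Y. Then F, viewed over S through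
the composite f ≫ g, is finitely presented relative to S. -/
theorem result {X Y S : Scheme.{u}} (f : X ⟶ Y) (g : Y ⟶ S) [LocallyOfFiniteType f] [LocallyOfFinitePresentation g]
    (F : X.Modules) [Coh.IsQCoh F] (hF : Flatn.IsRelFP f F) : Flatn.IsRelFP (f ≫ g) F := by
  haveI : F.IsQuasicoherent := ‹Coh.IsQCoh F›
  refine isRelFP_of_local (f ≫ g) F fun W x hx => ?_
  -- an affine neighbourhood of `f x` inside `g⁻¹ W`
  obtain ⟨V, hV, hyV, hVW⟩ := (TopologicalSpace.Opens.isBasis_iff_nbhd.1 Y.isBasis_affineOpens)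
    (show f x ∈ g ⁻¹ᵁ (W : S.Opens) from hx)
  obtain ⟨U, hU, hxU, -, hP⟩ := exists_relFPOn_nhd f F hF x ⟨V, hV⟩ (f ⁻¹ᵁ V) hyV le_rfl
  have hUW : (U : X.Opens) ≤ (f ≫ g) ⁻¹ᵁ (W : S.Opens) := fun z hz => hVW (hU hz)
  refine ⟨U, hUW, hxU, ?_⟩
  rw [relFPOn_iff'] at hP
  refine (relFPOn_iff' (f ≫ g) F U W hUW).2 ?_
  letI := (g.appLE (W : S.Opens) V hVW).hom.toAlgebra
  letI := (f.appLE V (U : X.Opens) hU).hom.toAlgebra
  letI := ((f ≫ g).appLE (W : S.Opens) (U : X.Opens) hUW).hom.toAlgebra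
  haveI : IsScalarTower Γ(S, (W : S.Opens)) Γ(Y, V) Γ(X, (U : X.Opens)) := by
    refine IsScalarTower.of_algebraMap_eq' ?_
    change ((f ≫ g).appLE (W : S.Opens) (U : X.Opens) hUW).hom =
      (f.appLE V (U : X.Opens) hU).hom.comp (g.appLE (W : S.Opens) V hVW).hom
    rw [← CommRingCat.hom_comp, Scheme.Hom.appLE_comp_appLE]
  haveI : Algebra.FinitePresentation Γ(S, (W : S.Opens)) Γ(Y, V) :=
    LocallyOfFinitePresentation.finitePresentation_appLE g W.2 hV hVW
  exact relFP_of_tower hP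



end Groth.Agent.S9746
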