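import Groth.Statements.S9748
import Groth.Agent.Lib.Helper29.RelFPExact

set_option autoImplicit false
universe u
open Flatn

namespace Groth.Agent.S9748

open AlgebraicGeometry CategoryTheory CategoryTheory.Limits Opposite TopologicalSpace
open Groth.Agent.Lib.Helper29.RelFP Groth.Agent.Lib.Helper29.RelFPGeom Groth.Agent.Lib.Helper29.RelFPExact FlatCA


open AlgebraicGeometry CategoryTheory Limits in
/-- Let f : X ⟶ S be locally of finite type and let 0 → F' → F → F'' → 0 be exact in quasi-coherent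
O_X-modules. Suppose the submodule F' is of finite type and F has finite presentation relative to
the base S. Then the quotient F'' also has finite presentation relative to S. -/
theorem result {X S : Scheme.{u}} (f : X ⟶ S) [LocallyOfFiniteType f] (E : ShortComplex X.Modules) (hE : E.ShortExact)
    [Coh.IsQCoh E.X₁] [Coh.IsQCoh E.X₂] [Coh.IsQCoh E.X₃] (h₁ : CohB1.IsFT E.X₁) (h₂ : Flatn.IsRelFP f E.X₂) :
    Flatn.IsRelFP f E.X₃ := by
  haveI : E.X₁.IsQuasicoherent := ‹Coh.IsQCoh E.X₁›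
  haveI : E.X₂.IsQuasicoherent := ‹Coh.IsQCoh E.X₂›
  haveI : SheafOfModules.IsFiniteType.{u} (R := X.ringCatSheaf) E.X₁ := h₁
  refine isRelFP_of_local f E.X₃ fun W x hx => ?_
  obtain ⟨U, hU, hxU, hUW⟩ := (TopologicalSpace.Opens.isBasis_iff_nbhd.1 X.isBasis_affineOpens)
    (show x ∈ f ⁻¹ᵁ (W : S.Opens) from hx)
  exact ⟨⟨U, hU⟩, hUW, hxU, relFPOn_quotient f E hE ⟨U, hU⟩ W hUW
    (relFPOn_of_isRelFP f E.X₂ h₂ ⟨U, hU⟩ W hUW)⟩



end Groth.Agent.S9748
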