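import Groth.Statements.S9749
import Mathlib

set_option autoImplicit false
universe u
open Flatn

namespace Groth.Agent.S9749

open AlgebraicGeometry CategoryTheory CategoryTheory.Limits Opposite

/-- a retract of a finitely presented module is finitely presented -/
theorem fp_of_retract {A M N : Type*} [CommRing A] [AddCommGroup M] [AddCommGroup N] [Module A M] [Module A N]
    (i : N →ₗ[A] M) (p : M →ₗ[A] N) (h : ∀ x, p (i x) = x) [Module.FinitePresentation A M] :
    Module.FinitePresentation A N := by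
  have hp : Function.Surjective p := fun x => ⟨i x, h x⟩
  refine Module.finitePresentation_of_surjective p hp ?_
  have hker : LinearMap.ker p = LinearMap.range (LinearMap.id - i ∘ₗ p) := by
    ext m
    constructor
    · intro hm
      refine ⟨m, ?_⟩
      have : p m = 0 := hm
      simp [this]
    · rintro ⟨m', rfl⟩
      simp [LinearMap.mem_ker, h]
  rw [hker]
  exact Submodule.fg_range _

theorem relFPOn_of_retract {X S : Scheme.{u}} (f : X ⟶ S) {F G : X.Modules} (i : F ⟶ G) (p : G ⟶ F)
    (hip : i ≫ p = 𝟙 F) (U : X.affineOpens) (V : S.affineOpens) (h : (U : X.Opens) ≤ f ⁻¹ᵁ (V : S.Opens))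
    (hG : Flatn.RelFPOn f G U V h) : Flatn.RelFPOn f F U V h := by
  letI := (f.appLE (V : S.Opens) (U : X.Opens) h).hom.toAlgebra
  obtain ⟨n, φ, hφ, hfp⟩ := hG
  refine ⟨n, φ, hφ, ?_⟩
  letI : Module (MvPolynomial (Fin n) Γ(S, (V : S.Opens))) (G.val.obj (op (U : X.Opens))) :=
    Module.compHom _ φ.toRingHom
  letI : Module (MvPolynomial (Fin n) Γ(S, (V : S.Opens))) (F.val.obj (op (U : X.Opens))) :=
    Module.compHom _ φ.toRingHom
  haveI : Module.FinitePresentation (MvPolynomial (Fin n) Γ(S, (V : S.Opens))) (G.val.obj (op (U : X.Opens))) := hfp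
  let il : (F.val.obj (op (U : X.Opens))) →ₗ[MvPolynomial (Fin n) Γ(S, (V : S.Opens))]
      (G.val.obj (op (U : X.Opens))) :=
    { toFun := fun x => (i.val.app (op (U : X.Opens))).hom x
      map_add' := fun x y => map_add _ x y
      map_smul' := fun r x => (i.val.app (op (U : X.Opens))).hom.map_smul (φ r) x }
  let pl : (G.val.obj (op (U : X.Opens))) →ₗ[MvPolynomial (Fin n) Γ(S, (V : S.Opens))]
      (F.val.obj (op (U : X.Opens))) :=
    { toFun := fun x => (p.val.app (op (U : X.Opens))).hom x
      map_add' := fun x y => map_add _ x y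
      map_smul' := fun r x => (p.val.app (op (U : X.Opens))).hom.map_smul (φ r) x }
  refine fp_of_retract il pl fun x => ?_
  have h1 := congrArg (fun ψ : F ⟶ F => (ψ.val.app (op (U : X.Opens))).hom x) hip
  exact h1

open AlgebraicGeometry CategoryTheory Limits in
/-- For f : X ⟶ S locally of finite type and quasi-coherent O_X-modules F, F', relative finite
presentation over S of the biproduct F ⊞ F' implies the same property for each summand. -/
theorem result {X S : Scheme.{u}} (f : X ⟶ S) [LocallyOfFiniteType f] (F F' : X.Modules) [Coh.IsQCoh F] [Coh.IsQCoh F']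
    (h : Flatn.IsRelFP f (F ⊞ F')) : Flatn.IsRelFP f F ∧ Flatn.IsRelFP f F' := by
  obtain ⟨𝒱, hcov, h𝒱⟩ := h
  constructor
  · refine ⟨𝒱, hcov, fun V hV => ?_⟩
    obtain ⟨𝒰, h𝒰, hP⟩ := h𝒱 V hV
    exact ⟨𝒰, h𝒰, fun U hU hle => relFPOn_of_retract f biprod.inl biprod.fst biprod.inl_fst U V hle (hP U hU hle)⟩
  · refine ⟨𝒱, hcov, fun V hV => ?_⟩
    obtain ⟨𝒰, h𝒰, hP⟩ := h𝒱 V hV
    exact ⟨𝒰, h𝒰, fun U hU hle => relFPOn_of_retract f biprod.inr biprod.snd biprod.inr_snd U V hle (hP U hU hle)⟩



end Groth.Agent.S9749
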