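import Groth.Statements.S9751
import Groth.Agent.Lib.helper19.SmDiv8

set_option autoImplicit false
universe u
open FlatMor

namespace Groth.Agent.S9751

open AlgebraicGeometry CategoryTheory Limits in
/-- Let f : X ⟶ S be a morphism and x a point such that f is smooth on an open neighbourhood of x, and
such that the natural map from Ω_{O_{X,x}/O_{S,f x}} ⊗ κ(x) (the fibre at x of the sheaf of
differentials, equal to that of the fibre X_{f x}) to Ω_{κ(x)/κ(f x)} has a nonzero kernel. Then
there are an affine open U ∋ x and a nonzerodivisor h' of Γ(X, U) vanishing at x such that the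
closed subscheme V(h') of U, an effective Cartier divisor through x, is smooth over S. -/
theorem result {X S : Scheme.{u}} (f : X ⟶ S) (x : X)
    (W : X.Opens) (hxW : x ∈ W) (hW : Smooth (W.ι ≫ f))
    (hker : letI := (f.stalkMap x).hom.toAlgebra
      letI := ((IsLocalRing.residue ↑(X.presheaf.stalk x)).comp (f.stalkMap x).hom).toAlgebra
      haveI : IsScalarTower ↑(S.presheaf.stalk (f x)) ↑(X.presheaf.stalk x) (IsLocalRing.ResidueField ↑(X.presheaf.stalk x)) :=
        IsScalarTower.of_algebraMap_eq (fun _ => rfl)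
      LinearMap.ker (KaehlerDifferential.mapBaseChange ↑(S.presheaf.stalk (f x)) ↑(X.presheaf.stalk x)
        (IsLocalRing.ResidueField ↑(X.presheaf.stalk x))) ≠ ⊥) :
    ∃ (U : X.Opens) (hU : IsAffineOpen U) (hx : x ∈ U) (h' : Γ(X, U)), h' ∈ nonZeroDivisors Γ(X, U) ∧
      X.presheaf.germ U x hx h' ∈ IsLocalRing.maximalIdeal ↑(X.presheaf.stalk x) ∧
      Smooth (Spec.map (CommRingCat.ofHom (Ideal.Quotient.mk (Ideal.span {h'}))) ≫ hU.fromSpec ≫ f) := by
  letI inst1 : Algebra ↑(S.presheaf.stalk (f x)) ↑(X.presheaf.stalk x) :=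
    (f.stalkMap x).hom.toAlgebra
  letI inst2 : Algebra ↑(S.presheaf.stalk (f x)) (IsLocalRing.ResidueField ↑(X.presheaf.stalk x)) :=
    ((IsLocalRing.residue ↑(X.presheaf.stalk x)).comp (f.stalkMap x).hom).toAlgebra
  haveI tower : IsScalarTower ↑(S.presheaf.stalk (f x)) ↑(X.presheaf.stalk x)
      (IsLocalRing.ResidueField ↑(X.presheaf.stalk x)) :=
    IsScalarTower.of_algebraMap_eq (fun _ => rfl)
  have hsurj : Function.Surjective (algebraMap ↑(X.presheaf.stalk x)
      (IsLocalRing.ResidueField ↑(X.presheaf.stalk x))) := IsLocalRing.residue_surjective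
  have hex := KaehlerDifferential.exact_kerCotangentToTensor_mapBaseChange
    ↑(S.presheaf.stalk (f x)) ↑(X.presheaf.stalk x)
    (IsLocalRing.ResidueField ↑(X.presheaf.stalk x)) hsurj
  obtain ⟨z, hzker, hz0⟩ := (Submodule.ne_bot_iff _).mp hker
  obtain ⟨c, rfl⟩ := (hex z).mp (LinearMap.mem_ker.mp hzker)
  obtain ⟨⟨h, hh⟩, rfl⟩ := Ideal.toCotangent_surjective _ c
  rw [KaehlerDifferential.kerCotangentToTensor_toCotangent] at hz0
  have hm : h ∈ IsLocalRing.maximalIdeal ↑(X.presheaf.stalk x) := by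
    have : RingHom.ker (algebraMap ↑(X.presheaf.stalk x)
        (IsLocalRing.ResidueField ↑(X.presheaf.stalk x))) =
        IsLocalRing.maximalIdeal ↑(X.presheaf.stalk x) := IsLocalRing.ker_residue
    rw [← this]; exact hh
  obtain ⟨U, hU, hx, h', hgerm, hnzd, hsm⟩ :=
    Groth.Agent.Lib.Helper19.SmDiv8.main9725 f x W hxW hW h hz0
  exact ⟨U, hU, hx, h', hnzd, by rw [hgerm]; exact hm, hsm⟩

end Groth.Agent.S9751
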