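import Groth.Statements.S9754
import Mathlib
import Groth.Agent.S9727
import Groth.Agent.Lib.Helper22.BrFibre
import Groth.Agent.Lib.Helper22.BrCountGeoMain
import Groth.Agent.Lib.Helper22.BrCountGeoLe
-- import your own Groth.Agent.* helpers here

set_option autoImplicit false
universe u
open Brnch

namespace Groth.Agent.S9754

open AlgebraicGeometry CategoryTheory Limits in
/-- For a morphism f : X ⟶ S and a point x of X over s = f x, the geometric branch count of the fibre
X_s at x equals the supremum, over étale neighbourhoods (U, u) of (X, x), of how many irreducible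
components of U_s (the fibre of U ⟶ X ⟶ S over s) contain the point of U_s lying over u. -/
theorem result {X S : Scheme.{u}} (f : X ⟶ S) (x : X) :
    Brnch.numGeomBranchesAt (f.fiber (f x)) (f.asFiber x) = ⨆ (U : Scheme.{u}) (g : U ⟶ X) (u : U) (_ : Etale g ∧ g u = x),
      {Z : Set ↑((g ≫ f).fiber (f x)) | Z ∈ irreducibleComponents ↑((g ≫ f).fiber (f x)) ∧
        ∃ u' ∈ Z, (g ≫ f).fiberι (f x) u' = u}.encard := by
  apply le_antisymm
  · rw [← ENat.forall_natCast_le_iff_le]
    intro N hN
    obtain ⟨V, h, v, ⟨hEt, hv⟩, hcard⟩ :=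
      Groth.Agent.Lib.Helper22.BrCountGeoMain.exists_nbhd_of_le_geo (f.fiber (f x))
        (f.asFiber x) N hN
    haveI := hEt
    obtain ⟨U, p, u, m, u', hp, hpu, hm, hmg, hu', hmu'⟩ := Groth.Agent.S9727.result f x h v hv
    haveI := hm
    refine le_trans ?_ (le_iSup_of_le U (le_iSup_of_le p (le_iSup_of_le u
      (le_iSup_of_le ⟨hp, hpu⟩ le_rfl))))
    refine hcard.trans ?_
    rw [← hmu']
    refine (Groth.Agent.Lib.Helper22.BrFibre.encard_components_le_of_openImmersion m u').trans
      (Set.encard_le_encard ?_)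
    rintro Z ⟨hZ, hZu⟩
    exact ⟨hZ, u', hZu, hu'⟩
  · refine iSup_le fun U => iSup_le fun g => iSup_le fun u => iSup_le fun hnb => ?_
    obtain ⟨het, hgu⟩ := hnb
    haveI := het
    obtain ⟨u', hu', hpt, huniq⟩ :=
      Groth.Agent.Lib.Helper22.BrFibre.exists_fibre_point g f x u hgu
    have hset : {Z : Set ↑((g ≫ f).fiber (f x)) |
        Z ∈ irreducibleComponents ↑((g ≫ f).fiber (f x)) ∧
          ∃ u'' ∈ Z, (g ≫ f).fiberι (f x) u'' = u} =
        {Z : Set ↑((g ≫ f).fiber (f x)) |
          Z ∈ irreducibleComponents ↑((g ≫ f).fiber (f x)) ∧ u' ∈ Z} := by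
      ext Z
      constructor
      · rintro ⟨hZ, u'', hu''Z, hu''⟩
        exact ⟨hZ, huniq u'' hu'' ▸ hu''Z⟩
      · rintro ⟨hZ, h⟩
        exact ⟨hZ, u', h, hu'⟩
    rw [hset]
    haveI := Groth.Agent.Lib.Helper22.BrFibre.etale_fiberMap g f (f x)
    have := Groth.Agent.Lib.Helper22.BrCountGeoLe.encard_le_of_nbhd
      (MoreMor.fiberMap g f (f x)) u'
    rw [hpt] at this
    exact this

end Groth.Agent.S9754
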