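import Groth.Statements.S9756
import Groth.Agent.S1348
import Groth.Agent.Lib.Helper21.FibreStalk

set_option autoImplicit false
universe u
open FlatMor

namespace Groth.Agent.S9756

open AlgebraicGeometry CategoryTheory Limits
open Groth.Agent.Lib.Helper21.FibreStalk IsLocalRing

/-- depth ≥ 1 of a local ring gives a nonzerodivisor in the maximal ideal. -/
theorem exists_nzd_of_one_le_depth (R : Type u) [CommRing R] [IsLocalRing R]
    (h : 1 ≤ LocCoh.depth R R) : ∃ r ∈ maximalIdeal R, r ∈ nonZeroDivisors R := by
  unfold LocCoh.depth LocCoh.idealDepth at h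
  have hne : (maximalIdeal R) • (⊤ : Submodule R R) ≠ ⊤ := by
    rw [smul_eq_mul, Ideal.mul_top]
    exact (maximalIdeal.isMaximal R).ne_top
  rw [if_neg hne] at h
  by_contra hcon
  push Not at hcon
  have : (⨆ (rs : List R) (_ : RingTheory.Sequence.IsWeaklyRegular R rs ∧ ∀ r ∈ rs, r ∈ maximalIdeal R),
      (rs.length : ℕ∞)) ≤ 0 := by
    refine iSup_le fun rs => iSup_le fun hrs => ?_
    rcases rs with _ | ⟨r, rs⟩
    · simp
    · exfalso
      have h1 : IsSMulRegular R r := ((RingTheory.Sequence.isWeaklyRegular_cons_iff R r rs).mp hrs.1).1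
      refine hcon r (hrs.2 r (List.mem_cons_self)) ?_
      rw [mem_nonZeroDivisors_iff_left]
      intro z hz
      exact h1 (show r • z = r • 0 by rw [smul_eq_mul, hz, smul_zero])
  exact absurd (h.trans this) (by norm_num)


open AlgebraicGeometry CategoryTheory Limits in
/-- Let f : X ⟶ S be locally of finite presentation and flat at a point x, and assume the local ring of
the fibre X_{f x} at x has depth at least 1. Then there are an affine open U ∋ x and a
nonzerodivisor h' of Γ(X, U) vanishing at x such that the closed subscheme V(h') of U, an effective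
Cartier divisor through x, is flat and locally of finite presentation over S. The published
statement concludes that V(h') ⟶ S is of finite presentation; this row concludes only that it is
flat and locally of finite presentation, which is what the published argument (slicing by a lift of
a fibrewise nonzerodivisor) yields, and which is equivalent when S is quasi-separated, V(h') being
affine. -/
theorem result {X S : Scheme.{u}} (f : X ⟶ S) [LocallyOfFinitePresentation f] (x : X)
    (hflat : (f.stalkMap x).hom.Flat)
    (hdepth : 1 ≤ LocCoh.depth ↑((f.fiber (f x)).presheaf.stalk (f.asFiber x)) ↑((f.fiber (f x)).presheaf.stalk (f.asFiber x))) :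
    ∃ (U : X.Opens) (hU : IsAffineOpen U) (hx : x ∈ U) (h' : Γ(X, U)), h' ∈ nonZeroDivisors Γ(X, U) ∧
      X.presheaf.germ U x hx h' ∈ IsLocalRing.maximalIdeal ↑(X.presheaf.stalk x) ∧
      Flat (Spec.map (CommRingCat.ofHom (Ideal.Quotient.mk (Ideal.span {h'}))) ≫ hU.fromSpec ≫ f) ∧
      LocallyOfFinitePresentation (Spec.map (CommRingCat.ofHom (Ideal.Quotient.mk (Ideal.span {h'}))) ≫ hU.fromSpec ≫ f) := by
  obtain ⟨r, hrm, hr⟩ := exists_nzd_of_one_le_depth _ hdepth
  obtain ⟨e⟩ := nonempty_fibreStalkEquiv f x
  obtain ⟨h, hh⟩ := Ideal.Quotient.mk_surjective (e r)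
  have hm : h ∈ maximalIdeal (X.presheaf.stalk x) := by
    rw [mem_maximalIdeal, mem_nonunits_iff] at hrm ⊢
    intro hu
    apply hrm
    have h1 : IsUnit (e r) := hh ▸ hu.map (Ideal.Quotient.mk (fibIdeal f x))
    have h2 := h1.map e.symm
    rwa [RingEquiv.symm_apply_apply] at h2
  have hreg : Ideal.Quotient.mk (fibIdeal f x) h ∈
      nonZeroDivisors (X.presheaf.stalk x ⧸ fibIdeal f x) := by
    rw [hh, mem_nonZeroDivisors_iff_left]
    intro z hz
    rw [mem_nonZeroDivisors_iff_left] at hr
    have h1 : r * e.symm z = 0 := by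
      apply e.injective
      rw [map_mul, RingEquiv.apply_symm_apply, hz, map_zero]
    have h2 := hr _ h1
    rw [← e.apply_symm_apply z, h2, map_zero]
  obtain ⟨U, hU, hxU, h', hgerm, hnzd, hfl, hlfp⟩ := Groth.Agent.S1348.result f x hflat h hm hreg
  exact ⟨U, hU, hxU, h', hnzd, hgerm ▸ hm, hfl, hlfp⟩

end Groth.Agent.S9756
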