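import Groth.Statements.S9758
import Groth.Agent.Lib.Helper5.SyntMorA

set_option autoImplicit false
universe u
open FlatMor

namespace Groth.Agent.S9758

open AlgebraicGeometry CategoryTheory Limits in
/-- A morphism of schemes f : X ⟶ S is flat and a local complete intersection morphism (Koszul at every
point) if and only if it is syntomic. -/
theorem result {X S : Scheme.{u}} (f : X ⟶ S) :
    (Flat f ∧ ∀ x : X, Synt.IsKoszulAt f x) ↔ Synt.IsSyntomicMor f := by
  rw [Groth.Agent.Lib.Helper5.SyntMor.isSyntomicMor_iff_flat_and_lciMor]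
  constructor
  · rintro ⟨hfl, hk⟩
    exact ⟨hfl, Groth.Agent.Lib.Helper5.Lci.lciMor_of_isKoszulAt f hk⟩
  · rintro ⟨hfl, hl⟩
    exact ⟨hfl, fun x => Groth.Agent.Lib.Helper5.Lci.isKoszulAt_of_lciMor f hl x⟩

end Groth.Agent.S9758
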