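import Groth.Statements.S9759
import Groth.Agent.Lib.Helper21.FlatDescQ

set_option autoImplicit false
universe u
open FlatMor

namespace Groth.Agent.S9759

open AlgebraicGeometry CategoryTheory Limits TensorProduct in
theorem ring_case (R B : Type u) [CommRing R] [CommRing B] [Algebra R B]
    [Algebra.FinitePresentation R B] [Module.Flat R B] :
    ∃ (R₀ B₀ : CommRingCat.{u}) (φ₀ : R₀ ⟶ B₀) (ψ : R₀ ⟶ CommRingCat.of R)
      (ψ' : B₀ ⟶ CommRingCat.of B),
      IsPushout φ₀ ψ ψ' (CommRingCat.ofHom (algebraMap R B)) ∧ Algebra.FiniteType ℤ R₀ ∧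
        φ₀.hom.FiniteType ∧ φ₀.hom.Flat := by
  obtain ⟨R₀, _, _, S₀, _, _, _, _, _, _, h1, h2, h3, h4⟩ :=
    Groth.Agent.Lib.Helper21.FlatDesc.exists_flat_algebra_model R B
  haveI : Algebra.IsPushout R₀ S₀ R B := h4.symm
  refine ⟨.of R₀, .of S₀, CommRingCat.ofHom (algebraMap R₀ S₀), CommRingCat.ofHom (algebraMap R₀ R),
    CommRingCat.ofHom (algebraMap S₀ B), CommRingCat.isPushout_of_isPushout R₀ S₀ R B, h1, ?_, ?_⟩
  · exact (RingHom.finiteType_algebraMap).mpr h2
  · exact (RingHom.flat_algebraMap_iff).mpr h3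

open AlgebraicGeometry CategoryTheory Limits in
/-- Let f : X ⟶ S be a flat morphism of finite presentation between affine schemes. Then f is the base
change of a morphism of finite type f₀ : X₀ ⟶ S₀ between affine schemes with S₀ of finite type over
ℤ and f₀ flat. -/
theorem result {X S : Scheme.{u}} (f : X ⟶ S) [IsAffine X] [IsAffine S] [LocallyOfFinitePresentation f] [Flat f] :
    ∃ (X₀ S₀ : Scheme.{u}) (f₀ : X₀ ⟶ S₀) (g : S ⟶ S₀) (g' : X ⟶ X₀), IsAffine X₀ ∧ IsAffine S₀ ∧ IsPullback g' f f₀ g ∧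
      Algebra.FiniteType ℤ Γ(S₀, ⊤) ∧ LocallyOfFiniteType f₀ ∧ Flat f₀ := by
  algebraize [f.appTop.hom]
  have hfp : Algebra.FinitePresentation Γ(S, ⊤) Γ(X, ⊤) := by
    have h1 : RingHom.FinitePresentation f.appTop.hom :=
      (HasRingHomProperty.iff_of_isAffine (P := @LocallyOfFinitePresentation)).mp inferInstance
    exact h1
  have hflat : Module.Flat Γ(S, ⊤) Γ(X, ⊤) := by
    have h1 : RingHom.Flat f.appTop.hom :=
      (HasRingHomProperty.iff_of_isAffine (P := @Flat)).mp inferInstance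
    exact h1
  obtain ⟨R₀, B₀, φ₀, ψ, ψ', hpo, hR₀, hφ₀, hfl⟩ := ring_case Γ(S, ⊤) Γ(X, ⊤)
  have hpb := isPullback_SpecMap_of_isPushout _ _ _ _ hpo
  have hsq : IsPullback X.isoSpec.hom f (Spec.map f.appTop) S.isoSpec.hom :=
    IsPullback.of_horiz_isIso ⟨Scheme.isoSpec_hom_naturality f⟩
  have hpb' : IsPullback (Spec.map ψ') (Spec.map f.appTop) (Spec.map φ₀) (Spec.map ψ) := hpb
  refine ⟨Spec B₀, Spec R₀, Spec.map φ₀, S.isoSpec.hom ≫ Spec.map ψ, X.isoSpec.hom ≫ Spec.map ψ',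
    inferInstance, inferInstance, hsq.paste_horiz hpb', ?_, ?_, ?_⟩
  · exact Algebra.FiniteType.equiv hR₀
      { (Scheme.ΓSpecIso R₀).symm.commRingCatIsoToRingEquiv with
        commutes' := fun r => by simp }
  · exact (HasRingHomProperty.Spec_iff (P := @LocallyOfFiniteType)).mpr hφ₀
  · exact (HasRingHomProperty.Spec_iff (P := @Flat)).mpr hfl

end Groth.Agent.S9759
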