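import Groth.Statements.S9760
import Groth.Agent.S2265
import Groth.Agent.Lib.Helper29.FPModel
import Groth.Agent.Lib.Helper29.FPDict
import Groth.Agent.Lib.Helper17.ModPullback
import Groth.Agent.Lib.Helper28.FinTypeConv
import Mathlib.RingTheory.Extension.Presentation.Core

set_option autoImplicit false
universe u
open FlatMor

namespace Groth.Agent.S9760

open AlgebraicGeometry CategoryTheory Limits TensorProduct Groth.Agent.Lib.Helper29.FPModel

theorem ring_case (R B : Type u) [CommRing R] [CommRing B] [Algebra R B]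
    [Algebra.FinitePresentation R B] (M : Type u) [AddCommGroup M] [Module B M] [Module.FinitePresentation B M] :
    ∃ (R₀ B₀ : CommRingCat.{u}) (φ₀ : R₀ ⟶ B₀) (ψ : R₀ ⟶ CommRingCat.of R)
      (ψ' : B₀ ⟶ CommRingCat.of B),
      IsPushout φ₀ ψ ψ' (CommRingCat.ofHom (algebraMap R B)) ∧ Algebra.FiniteType ℤ R₀ ∧
        φ₀.hom.FiniteType ∧ ∃ (M₀ : ModuleCat.{u} B₀), Module.Finite B₀ M₀ ∧
          Nonempty ((ModuleCat.extendScalars.{u, u, u} ψ'.hom).obj M₀ ≅ ModuleCat.of B M) := by
  classical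
  let P := Algebra.Presentation.ofFinitePresentation R B
  obtain ⟨n, K, eM, ⟨s, hs⟩⟩ := Module.FinitePresentation.exists_fin B M
  have hsurj : Function.Surjective (MvPolynomial.aeval (R := R) P.val) := P.toGenerators.aeval_val_surjective
  choose p hp using fun (v : s) (i : Fin n) => hsurj (v.1 i)
  let T : Set R := ⋃ (v : s) (i : Fin n), ((p v i).coeffs : Set R)
  have hT : T.Finite := Set.finite_iUnion fun v => Set.finite_iUnion fun i => Finset.finite_toSet _
  let e : CommRingCat.of (R ⊗[Algebra.adjoin P.Core T] P.ModelOfHasCoeffs (Algebra.adjoin P.Core T)) ≅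
      CommRingCat.of B :=
    (P.tensorModelOfHasCoeffsEquiv (Algebra.adjoin P.Core T)).toRingEquiv.toCommRingCatIso
  have h := (CommRingCat.isPushout_tensorProduct (Algebra.adjoin P.Core T) R
    (P.ModelOfHasCoeffs (Algebra.adjoin P.Core T))).flip
  refine ⟨.of (Algebra.adjoin P.Core T), .of (P.ModelOfHasCoeffs (Algebra.adjoin P.Core T)),
    CommRingCat.ofHom (algebraMap _ _), CommRingCat.ofHom (algebraMap _ _),
    CommRingCat.ofHom Algebra.TensorProduct.includeRight.toRingHom ≫ e.hom, ?_, ?_, ?_, ?_⟩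
  · refine h.of_iso (Iso.refl _) (Iso.refl _) (Iso.refl _) e (by simp) (by simp) (by simp) ?_
    ext r
    have := (P.tensorModelOfHasCoeffsEquiv (Algebra.adjoin P.Core T)).commutes r
    simpa [Algebra.TensorProduct.algebraMap_apply, e] using this
  · haveI h1 : Algebra.FiniteType ℤ P.Core := inferInstance
    haveI h2 : Algebra.FiniteType P.Core (Algebra.adjoin P.Core T) := Algebra.FiniteType.adjoin_of_finite hT
    exact Algebra.FiniteType.trans h1 h2
  · have h2 : Algebra.FiniteType (Algebra.adjoin P.Core T) (P.ModelOfHasCoeffs (Algebra.adjoin P.Core T)) :=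
      inferInstance
    exact (RingHom.finiteType_algebraMap).mpr h2
  · -- the module
    have hTsub : ∀ (v : s) (i : Fin n), ((p v i).coeffs : Set R) ⊆
        Set.range (algebraMap (Algebra.adjoin P.Core T) R) := by
      intro v i c hc
      have hcT : c ∈ T := Set.mem_iUnion.2 ⟨v, Set.mem_iUnion.2 ⟨i, hc⟩⟩
      exact ⟨⟨c, Algebra.subset_adjoin hcT⟩, rfl⟩
    choose p₀ hp₀ using fun (v : s) (i : Fin n) =>
      (MvPolynomial.mem_range_map_iff_coeffs_subset (f := algebraMap (Algebra.adjoin P.Core T) R)).2 (hTsub v i)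
    letI : Algebra (P.ModelOfHasCoeffs (Algebra.adjoin P.Core T)) B :=
      (CommRingCat.ofHom Algebra.TensorProduct.includeRight.toRingHom ≫ e.hom).hom.toAlgebra
    have key : ∀ (v : s) (i : Fin n), algebraMap (P.ModelOfHasCoeffs (Algebra.adjoin P.Core T)) B
        (Ideal.Quotient.mk _ (p₀ v i)) = v.1 i := by
      intro v i
      have h1 : algebraMap (P.ModelOfHasCoeffs (Algebra.adjoin P.Core T)) B (Ideal.Quotient.mk _ (p₀ v i)) =
          P.tensorModelOfHasCoeffsEquiv (Algebra.adjoin P.Core T) ((1 : R) ⊗ₜ (Ideal.Quotient.mk _ (p₀ v i))) := rfl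
      rw [h1]
      have h2 := P.tensorModelOfHasCoeffsEquiv_tmul (Algebra.adjoin P.Core T) (1 : R) (p₀ v i)
      rw [h2, map_one, one_mul, ← MvPolynomial.aeval_map_algebraMap R, hp₀ v i, hp v i]
    let v₀ : s → (Fin n → P.ModelOfHasCoeffs (Algebra.adjoin P.Core T)) :=
      fun v i => Ideal.Quotient.mk _ (p₀ v i)
    have hv : ∀ v : s, mapVec (B := B) n (v₀ v) = v.1 := by
      intro v
      ext i
      exact key v i
    have hK : Submodule.span B (Set.range fun j => mapVec (B := B) n (v₀ j)) = K := by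
      rw [← hs]
      congr 1
      ext w
      constructor
      · rintro ⟨v, rfl⟩
        change mapVec (B := B) n (v₀ v) ∈ (s : Set (Fin n → B))
        rw [hv v]
        exact v.2
      · intro hw
        exact ⟨⟨w, hw⟩, hv ⟨w, hw⟩⟩
    have hbc := isBaseChange_quotMap (B := B) n v₀
    refine ⟨ModuleCat.of _ ((Fin n → P.ModelOfHasCoeffs (Algebra.adjoin P.Core T)) ⧸
      Submodule.span (P.ModelOfHasCoeffs (Algebra.adjoin P.Core T)) (Set.range v₀)), ?_, ⟨?_⟩⟩
    · exact inferInstanceAs (Module.Finite _ ((Fin n → P.ModelOfHasCoeffs (Algebra.adjoin P.Core T)) ⧸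
        Submodule.span (P.ModelOfHasCoeffs (Algebra.adjoin P.Core T)) (Set.range v₀)))
    · refine Groth.Agent.S2265.extendIso (P.ModelOfHasCoeffs (Algebra.adjoin P.Core T)) B _ ≪≫ ?_
      exact (hbc.equiv ≪≫ₗ Submodule.quotEquivOfEq _ _ hK ≪≫ₗ eM.symm).toModuleIso

/-- the quasi-coherent module of a finite module is of finite type -/
theorem isFiniteType_tilde {A : CommRingCat.{u}} (M₀ : ModuleCat.{u} A) [Module.Finite A M₀] :
    SheafOfModules.IsFiniteType.{u} (R := (Spec A).ringCatSheaf) (tilde M₀) := by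
  refine Groth.Agent.Lib.Helper28.FinType.isFiniteType_of_finite_cover (tilde M₀)
    (fun _ : PUnit.{u + 1} => (⊤ : (Spec A).Opens)) ?_ (fun _ => isAffineOpen_top _) (fun _ => ?_)
  · exact TopologicalSpace.IsOpenCover.mk (by simp)
  · haveI : Module.Finite A Γ(tilde M₀, (⊤ : (Spec A).Opens)) :=
      Module.Finite.equiv (tilde.isoTop M₀).toLinearEquiv
    exact Module.Finite.of_restrictScalars_finite A Γ(Spec A, (⊤ : (Spec A).Opens)) Γ(tilde M₀, (⊤ : (Spec A).Opens))


open AlgebraicGeometry CategoryTheory Limits in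
/-- Given affine schemes X and S, a finitely presented morphism f : X ⟶ S, and a finitely presented
quasi-coherent O_X-module F, the morphism f is a pullback, along some g' : X ⟶ X₀, of a finite type
morphism f₀ : X₀ ⟶ S₀ of affine schemes with Γ(S₀) of finite type over ℤ, and there is a coherent
O_{X₀}-module F₀ whose pullback along g' is isomorphic to F. -/
theorem result {X S : Scheme.{u}} (f : X ⟶ S) [IsAffine X] [IsAffine S] [LocallyOfFinitePresentation f]
    (F : X.Modules) [Coh.IsQCoh F] (hF : CohB1.IsFP F) :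
    ∃ (X₀ S₀ : Scheme.{u}) (f₀ : X₀ ⟶ S₀) (g : S ⟶ S₀) (g' : X ⟶ X₀), IsAffine X₀ ∧ IsAffine S₀ ∧ IsPullback g' f f₀ g ∧
      Algebra.FiniteType ℤ Γ(S₀, ⊤) ∧ LocallyOfFiniteType f₀ ∧
      ∃ F₀ : X₀.Modules, Coh.IsCoh F₀ ∧ Nonempty ((Scheme.Modules.pullback g').obj F₀ ≅ F) := by
  haveI : F.IsQuasicoherent := ‹Coh.IsQCoh F›
  haveI : SheafOfModules.IsFinitePresentation.{u} (R := X.ringCatSheaf) F := hF
  algebraize [f.appTop.hom]
  have hfp : Algebra.FinitePresentation Γ(S, ⊤) Γ(X, ⊤) := by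
    have h1 : RingHom.FinitePresentation f.appTop.hom :=
      (HasRingHomProperty.iff_of_isAffine (P := @LocallyOfFinitePresentation)).mp inferInstance
    exact h1
  have hX : IsAffineOpen (⊤ : X.Opens) := isAffineOpen_top X
  have eN := Groth.Agent.Lib.Helper17.ModPullback.sectionsRestrictEquiv F hX
  haveI : Module.FinitePresentation Γ(X, ⊤) Γ(F, (⊤ : X.Opens)) :=
    Groth.Agent.Lib.Helper29.FPDict.fp_of_isAffineOpen F hX
  haveI : Module.FinitePresentation Γ(X, ⊤) (moduleSpecΓFunctor.obj (F.restrict hX.fromSpec)) :=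
    Module.FinitePresentation.of_equiv eN.symm
  obtain ⟨R₀, B₀, φ₀, ψ, ψ', hpo, hR₀, hφ₀, M₀, hM₀, ⟨iM⟩⟩ :=
    ring_case Γ(S, ⊤) Γ(X, ⊤) (moduleSpecΓFunctor.obj (F.restrict hX.fromSpec))
  have hpb := isPullback_SpecMap_of_isPushout _ _ _ _ hpo
  have hsq : IsPullback X.isoSpec.hom f (Spec.map f.appTop) S.isoSpec.hom :=
    IsPullback.of_horiz_isIso ⟨Scheme.isoSpec_hom_naturality f⟩
  have hpb' : IsPullback (Spec.map ψ') (Spec.map f.appTop) (Spec.map φ₀) (Spec.map ψ) := hpb
  refine ⟨Spec B₀, Spec R₀, Spec.map φ₀, S.isoSpec.hom ≫ Spec.map ψ, X.isoSpec.hom ≫ Spec.map ψ',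
    inferInstance, inferInstance, hsq.paste_horiz hpb', ?_, ?_, tilde M₀, ⟨inferInstance, ?_⟩, ⟨?_⟩⟩
  · exact Algebra.FiniteType.equiv hR₀
      { (Scheme.ΓSpecIso R₀).symm.commRingCatIsoToRingEquiv with
        commutes' := fun r => by simp }
  · exact (HasRingHomProperty.Spec_iff (P := @LocallyOfFiniteType)).mpr hφ₀
  · exact isFiniteType_tilde M₀
  · -- the isomorphism
    have hj : X.isoSpec.hom ≫ hX.fromSpec = 𝟙 X := by
      rw [IsAffineOpen.fromSpec_top]
      exact X.isoSpec.hom_inv_id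
    -- on `Spec Γ(X, ⊤)`
    have i1 : (Scheme.Modules.pullback (Spec.map ψ')).obj (tilde M₀) ≅
        tilde (moduleSpecΓFunctor.obj (F.restrict hX.fromSpec)) :=
      (Groth.Agent.S2265.leftIso ψ').app M₀ ≪≫ (tilde.functor _).mapIso iM
    have i2 : tilde (moduleSpecΓFunctor.obj (F.restrict hX.fromSpec)) ≅ F.restrict hX.fromSpec :=
      (Groth.Agent.Lib.Helper17.ModPullback.restrictIsoTilde F hX).symm
    have i3 : F.restrict hX.fromSpec ≅ (Scheme.Modules.pullback hX.fromSpec).obj F :=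
      (Scheme.Modules.restrictFunctorIsoPullback hX.fromSpec).app F
    have i4 : (Scheme.Modules.pullback X.isoSpec.hom).obj ((Scheme.Modules.pullback hX.fromSpec).obj F) ≅ F :=
      (Scheme.Modules.pullbackComp X.isoSpec.hom hX.fromSpec).app F ≪≫
        (Scheme.Modules.pullbackCongr hj).app F ≪≫ (Scheme.Modules.pullbackId X).app F
    exact ((Scheme.Modules.pullbackComp X.isoSpec.hom (Spec.map ψ')).app (tilde M₀)).symm ≪≫
      (Scheme.Modules.pullback X.isoSpec.hom).mapIso (i1 ≪≫ i2 ≪≫ i3) ≪≫ i4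



end Groth.Agent.S9760
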