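import Groth.Statements.S9761
import Groth.Agent.S9760
import Groth.Agent.S2394
import Groth.Agent.Lib.Helper21.FlatDescP
import Groth.Agent.Lib.Helper17.FlatDict

set_option autoImplicit false
universe u
open FlatMor

namespace Groth.Agent.S9761

open AlgebraicGeometry CategoryTheory Limits in
/-- For a finitely presented morphism f : X ⟶ S of affine schemes and a quasi-coherent, finitely
presented O_X-module F that is flat over S, f is the base change along some g' : X ⟶ X₀ of a finite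
type morphism f₀ : X₀ ⟶ S₀ of affine schemes with S₀ of finite type over ℤ, and some coherent
O_{X₀}-module F₀, flat over S₀, satisfies g'^*F₀ ≅ F. -/
theorem result {X S : Scheme.{u}} (f : X ⟶ S) [IsAffine X] [IsAffine S] [LocallyOfFinitePresentation f]
    (F : X.Modules) [Coh.IsQCoh F] (hF : CohB1.IsFP F) (hfl : FlatMod.IsFlatOver f F) :
    ∃ (X₀ S₀ : Scheme.{u}) (f₀ : X₀ ⟶ S₀) (g : S ⟶ S₀) (g' : X ⟶ X₀), IsAffine X₀ ∧ IsAffine S₀ ∧ IsPullback g' f f₀ g ∧
      Algebra.FiniteType ℤ Γ(S₀, ⊤) ∧ LocallyOfFiniteType f₀ ∧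
      ∃ F₀ : X₀.Modules, Coh.IsCoh F₀ ∧ FlatMod.IsFlatOver f₀ F₀ ∧ Nonempty ((Scheme.Modules.pullback g').obj F₀ ≅ F) := by
  haveI : F.IsQuasicoherent := ‹Coh.IsQCoh F›
  haveI : SheafOfModules.IsFinitePresentation.{u} (R := X.ringCatSheaf) F := hF
  algebraize [f.appTop.hom]
  have hfp : Algebra.FinitePresentation Γ(S, ⊤) Γ(X, ⊤) := by
    have h1 : RingHom.FinitePresentation f.appTop.hom :=
      (HasRingHomProperty.iff_of_isAffine (P := @LocallyOfFinitePresentation)).mp inferInstance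
    exact h1
  have hX : IsAffineOpen (⊤ : X.Opens) := isAffineOpen_top X
  have hS : IsAffineOpen (⊤ : S.Opens) := isAffineOpen_top S
  have eN := Groth.Agent.Lib.Helper17.ModPullback.sectionsRestrictEquiv F hX
  haveI : Module.FinitePresentation Γ(X, ⊤) Γ(F, (⊤ : X.Opens)) :=
    Groth.Agent.Lib.Helper29.FPDict.fp_of_isAffineOpen F hX
  haveI : Module.FinitePresentation Γ(X, ⊤) (moduleSpecΓFunctor.obj (F.restrict hX.fromSpec)) :=
    Module.FinitePresentation.of_equiv eN.symm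
  -- flatness of the sections
  letI mR : Module Γ(S, ⊤) (moduleSpecΓFunctor.obj (F.restrict hX.fromSpec)) :=
    Module.compHom _ (algebraMap Γ(S, ⊤) Γ(X, ⊤))
  haveI : IsScalarTower Γ(S, ⊤) Γ(X, ⊤) (moduleSpecΓFunctor.obj (F.restrict hX.fromSpec)) :=
    IsScalarTower.of_compHom _ _ _
  letI mR' : Module Γ(S, ⊤) Γ(F, (⊤ : X.Opens)) :=
    Module.compHom _ (algebraMap Γ(S, ⊤) Γ(X, ⊤))
  haveI : IsScalarTower Γ(S, ⊤) Γ(X, ⊤) Γ(F, (⊤ : X.Opens)) := IsScalarTower.of_compHom _ _ _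
  have hflat' : Module.Flat Γ(S, ⊤) Γ(F, (⊤ : X.Opens)) := by
    have hle : (⊤ : X.Opens) ≤ f ⁻¹ᵁ (⊤ : S.Opens) := le_of_eq rfl
    have := (Groth.Agent.Lib.Helper17.FlatDict.flat_sections_iff f F hX hS hle).2 (fun x _ => hfl x)
    convert this using 2
    rw [RingHom.algebraMap_toAlgebra]
    exact congrArg CommRingCat.Hom.hom (Scheme.Hom.app_eq_appLE f (U := ⊤))
  haveI hflat : Module.Flat Γ(S, ⊤) (moduleSpecΓFunctor.obj (F.restrict hX.fromSpec)) :=
    Module.Flat.of_linearEquiv (eN.restrictScalars Γ(S, ⊤))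
  obtain ⟨R₀, _, _, S₀, _, _, _, _, _, _, M₀, _, _, _, _, _, _, f₁, h1, h2, h3, h4, h5, h6⟩ :=
    Groth.Agent.Lib.Helper21.FlatDesc.exists_flat_model Γ(S, ⊤) Γ(X, ⊤)
      (moduleSpecΓFunctor.obj (F.restrict hX.fromSpec))
  haveI : Algebra.IsPushout R₀ S₀ Γ(S, ⊤) Γ(X, ⊤) := h5.symm
  have hpo := CommRingCat.isPushout_of_isPushout R₀ S₀ Γ(S, ⊤) Γ(X, ⊤)
  have hpb := isPullback_SpecMap_of_isPushout _ _ _ _ hpo
  have hsq : IsPullback X.isoSpec.hom f (Spec.map f.appTop) S.isoSpec.hom :=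
    IsPullback.of_horiz_isIso ⟨Scheme.isoSpec_hom_naturality f⟩
  have hpb' : IsPullback (Spec.map (CommRingCat.ofHom (algebraMap S₀ Γ(X, ⊤)))) (Spec.map f.appTop)
      (Spec.map (CommRingCat.ofHom (algebraMap R₀ S₀)))
      (Spec.map (CommRingCat.ofHom (algebraMap R₀ Γ(S, ⊤)))) := hpb
  haveI : Module.Finite (CommRingCat.of S₀) (ModuleCat.of S₀ M₀) := h3
  refine ⟨Spec (.of S₀), Spec (.of R₀), Spec.map (CommRingCat.ofHom (algebraMap R₀ S₀)),
    S.isoSpec.hom ≫ Spec.map (CommRingCat.ofHom (algebraMap R₀ Γ(S, ⊤))),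
    X.isoSpec.hom ≫ Spec.map (CommRingCat.ofHom (algebraMap S₀ Γ(X, ⊤))),
    inferInstance, inferInstance, hsq.paste_horiz hpb', ?_, ?_, tilde (ModuleCat.of S₀ M₀),
    ⟨inferInstance, ?_⟩, ?_, ⟨?_⟩⟩
  · exact Algebra.FiniteType.equiv h1
      { (Scheme.ΓSpecIso (.of R₀)).symm.commRingCatIsoToRingEquiv with
        commutes' := fun r => by simp }
  · exact (HasRingHomProperty.Spec_iff (P := @LocallyOfFiniteType)).mpr
      ((RingHom.finiteType_algebraMap).mpr h2)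
  · exact Groth.Agent.S9760.isFiniteType_tilde (A := CommRingCat.of S₀) (ModuleCat.of S₀ M₀)
  · exact (Groth.Agent.S2394.result R₀ S₀ M₀).2 h4
  · -- the isomorphism
    have hj : X.isoSpec.hom ≫ hX.fromSpec = 𝟙 X := by
      rw [IsAffineOpen.fromSpec_top]
      exact X.isoSpec.hom_inv_id
    have iM : (ModuleCat.extendScalars.{u, u, u} (algebraMap S₀ Γ(X, ⊤))).obj (ModuleCat.of S₀ M₀) ≅
        ModuleCat.of Γ(X, ⊤) (moduleSpecΓFunctor.obj (F.restrict hX.fromSpec)) :=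
      Groth.Agent.S2265.extendIso S₀ Γ(X, ⊤) M₀ ≪≫ h6.equiv.toModuleIso
    have i1 : (Scheme.Modules.pullback (Spec.map (CommRingCat.ofHom (algebraMap S₀ Γ(X, ⊤))))).obj
        (tilde (ModuleCat.of S₀ M₀)) ≅
        tilde (moduleSpecΓFunctor.obj (F.restrict hX.fromSpec)) :=
      (Groth.Agent.S2265.leftIso (CommRingCat.ofHom (algebraMap S₀ Γ(X, ⊤)))).app (ModuleCat.of S₀ M₀) ≪≫
        (tilde.functor _).mapIso iM
    have i2 : tilde (moduleSpecΓFunctor.obj (F.restrict hX.fromSpec)) ≅ F.restrict hX.fromSpec :=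
      (Groth.Agent.Lib.Helper17.ModPullback.restrictIsoTilde F hX).symm
    have i3 : F.restrict hX.fromSpec ≅ (Scheme.Modules.pullback hX.fromSpec).obj F :=
      (Scheme.Modules.restrictFunctorIsoPullback hX.fromSpec).app F
    have i4 : (Scheme.Modules.pullback X.isoSpec.hom).obj ((Scheme.Modules.pullback hX.fromSpec).obj F) ≅ F :=
      (Scheme.Modules.pullbackComp X.isoSpec.hom hX.fromSpec).app F ≪≫
        (Scheme.Modules.pullbackCongr hj).app F ≪≫ (Scheme.Modules.pullbackId X).app F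
    exact ((Scheme.Modules.pullbackComp X.isoSpec.hom
      (Spec.map (CommRingCat.ofHom (algebraMap S₀ Γ(X, ⊤))))).app (tilde (ModuleCat.of S₀ M₀))).symm ≪≫
      (Scheme.Modules.pullback X.isoSpec.hom).mapIso (i1 ≪≫ i2 ≪≫ i3) ≪≫ i4

end Groth.Agent.S9761
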