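import Groth.Statements.S9766
import Groth.Agent.Lib.Helper5.FibreStalkC

set_option autoImplicit false
universe u
open FlatMor

namespace Groth.Agent.S9766

open AlgebraicGeometry CategoryTheory Limits in
/-- For morphisms f : X ⟶ Y, g : Y ⟶ Z and a point x of X whose fibre under f ≫ g is locally Noetherian,
Cohen–Macaulayness of f at x (flat at x with Cohen–Macaulay local ring of the fibre at x) together
with that of g at f x implies that f ≫ g is Cohen–Macaulay at x. The published statement assumes all
fibres of f, g and g ∘ f locally Noetherian; this row assumes only that the fibre of f ≫ g through x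
is, which is all the argument uses. -/
theorem result {X Y Z : Scheme.{u}} (f : X ⟶ Y) (g : Y ⟶ Z) (x : X)
    (hN : IsLocallyNoetherian ((f ≫ g).fiber (g (f x))))
    (hf : MoreMor.IsCMAt f x) (hg : MoreMor.IsCMAt g (f x)) : MoreMor.IsCMAt (f ≫ g) x := by
  have hP := Groth.Agent.Lib.Helper5.FibreStalk.flatLocalProp_cm.{u}
  have hN' : IsNoetherianRing (X.presheaf.stalk x ⧸ Groth.Agent.Lib.Helper5.FibreStalk.mX (f ≫ g) x) :=
    @Groth.Agent.Lib.Helper5.FibreStalk.isNoetherianRing_quot_of_fiber _ _ (f ≫ g) x hN
  exact (Groth.Agent.Lib.Helper5.FibreStalk.fibP_iff hP (f ≫ g) x).1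
    (Groth.Agent.Lib.Helper5.FibreStalk.fibP_comp hP f g x hN' ((Groth.Agent.Lib.Helper5.FibreStalk.fibP_iff hP f x).2 hf) ((Groth.Agent.Lib.Helper5.FibreStalk.fibP_iff hP g (f x)).2 hg))

end Groth.Agent.S9766
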