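import Groth.Statements.S9773
import Groth.Agent.Lib.Helper5.RegImmB

set_option autoImplicit false
universe u
open FlatMor

namespace Groth.Agent.S9773

open AlgebraicGeometry CategoryTheory Limits in
/-- A regular immersion of schemes, and likewise a Koszul-regular immersion, is a local complete
intersection morphism (Koszul at every point). -/
theorem result {Z X : Scheme.{u}} (i : Z ⟶ X) (k : RegImm.Kind)
    (hk : k = RegImm.Kind.regular ∨ k = RegImm.Kind.koszul) (hi : RegImm.IsRegularImmersion k i) (z : Z) :
    Synt.IsKoszulAt i z := by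
  have hk' : RegImm.IsRegularImmersion .koszul i := by
    rcases hk with rfl | rfl
    · exact Groth.Agent.Lib.Helper5.RegImmB.koszul_of_regular i hi
    · exact hi
  have himm : IsImmersion i := hk'.1
  have hiso : IsIso (⊤ : Z.Opens).ι := (inferInstance : IsIso Z.topIso.hom)
  refine ⟨⊤, X, (⊤ : Z.Opens).ι ≫ i, 𝟙 X, trivial, inferInstance,
    Groth.Agent.Lib.Helper5.RegImmB.koszul_iso_comp _ i hk', inferInstance, ?_⟩
  rw [Category.comp_id]

end Groth.Agent.S9773
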