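import Groth.Statements.S9774
import Groth.Agent.Lib.Helper7.AvrRing2
import Groth.Agent.Lib.Helper7.AvrSch

set_option autoImplicit false
universe u
attribute [local instance] HasDerivedCategory.standard
open FlatMor
open AlgebraicGeometry CategoryTheory Limits Groth.Agent.Lib.Helper5.Lci

namespace Groth.Agent.S9774

open AlgebraicGeometry CategoryTheory Limits in
/-- Let S be a locally Noetherian scheme, g : Y ⟶ S locally of finite type, f : X ⟶ Y a perfect morphism
(perfect ring maps on all pairs of affine opens), and assume the composite f ≫ g is Koszul at every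
point of X (a local complete intersection morphism). Then f is Koszul at every point of X, and g is
Koszul at the point f x for each x ∈ X. -/
theorem result {X Y S : Scheme.{u}} (f : X ⟶ Y) (g : Y ⟶ S) [IsLocallyNoetherian S] [LocallyOfFiniteType g]
    (hf : MoreMor.IsPerfectMor f) (h : ∀ x : X, Synt.IsKoszulAt (f ≫ g) x) :
    (∀ x : X, Synt.IsKoszulAt f x) ∧ ∀ x : X, Synt.IsKoszulAt g (f x) := by
  have hL : LciMor (f ≫ g) := lciMor_of_isKoszulAt _ h
  have key : ∀ x : X, Synt.IsKoszulAt f x ∧ Synt.IsKoszulAt g (f x) := by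
    intro x
    obtain ⟨_, ⟨W, hW, rfl⟩, hxW, -⟩ := S.isBasis_affineOpens.exists_subset_of_mem_open
      (Set.mem_univ (g (f x))) isOpen_univ
    obtain ⟨_, ⟨V, hV, rfl⟩, hxV, hVW⟩ := Y.isBasis_affineOpens.exists_subset_of_mem_open
      (show f x ∈ (g ⁻¹ᵁ W : Set Y) from hxW) (g ⁻¹ᵁ W).2
    obtain ⟨_, ⟨U, hU, rfl⟩, hxU, hUV⟩ := X.isBasis_affineOpens.exists_subset_of_mem_open
      (show x ∈ (f ⁻¹ᵁ V : Set X) from hxV) (f ⁻¹ᵁ V).2
    have : IsNoetherianRing Γ(S, W) := IsLocallyNoetherian.component_noetherian ⟨W, hW⟩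
    have hft : (g.appLE W V hVW).hom.FiniteType := g.finiteType_appLE hW hV hVW
    have hperf := hf U V hU hV hUV
    have hcomp := HasRingHomProperty.appLE (P := LciMor) (f ≫ g) hL ⟨W, hW⟩ ⟨U, hU⟩
      (hUV.trans ((TopologicalSpace.Opens.map f.base).map (homOfLE hVW)).le)
    rw [← Scheme.Hom.appLE_comp_appLE f g W V U hVW hUV] at hcomp
    obtain ⟨h1, h2⟩ := Groth.Agent.Lib.Helper7.AvrRing.avramov_ring (g.appLE W V hVW).hom
      (f.appLE V U hUV).hom hft hperf hcomp
    refine ⟨Groth.Agent.Lib.Helper7.AvrSch.isKoszulAt_of_isLciHom_appLE f x hV hU hxU hUV h1, ?_⟩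
    obtain ⟨b, hb, hB'⟩ := h2 (hU.primeIdealOf ⟨x, hxU⟩).asIdeal
    have hbV : b ∉ (hV.primeIdealOf ⟨f x, hUV hxU⟩).asIdeal := by
      rw [← IsAffineOpen.comap_primeIdealOf_appLE V hV U hU hUV hxU]
      exact hb
    have hfx : f x ∈ Y.basicOpen b := by
      have := (Groth.Agent.Lib.Helper5.RegDesc.mem_basicOpen_fromSpec_iff hV
        (hV.primeIdealOf ⟨f x, hUV hxU⟩) b).2 hbV
      rwa [hV.fromSpec_primeIdealOf] at this
    have hDW : Y.basicOpen b ≤ g ⁻¹ᵁ W := (Y.basicOpen_le b).trans hVW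
    have := hV.isLocalization_basicOpen b
    have h3 := hB' Γ(Y, Y.basicOpen b)
    have h4 : (algebraMap Γ(Y, V) Γ(Y, Y.basicOpen b)).comp (g.appLE W V hVW).hom =
        (g.appLE W (Y.basicOpen b) hDW).hom := by
      rw [← Scheme.Hom.appLE_map g hVW (homOfLE (Y.basicOpen_le b)).op]
      rfl
    rw [h4] at h3
    exact Groth.Agent.Lib.Helper7.AvrSch.isKoszulAt_of_isLciHom_appLE g (f x) hW
      (hV.basicOpen b) hfx hDW h3
  exact ⟨fun x => (key x).1, fun x => (key x).2⟩

end Groth.Agent.S9774
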