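import Groth.Statements.S9779
import Groth.Agent.S1411

set_option autoImplicit false
universe u
open FlatMor

namespace Groth.Agent.S9779

section Helpers

open AlgebraicGeometry CategoryTheory Limits

theorem exists_le_mem_of_mem_closure {R : Type u} [CommRing R] [IsNoetherianRing R]
    (O : Set (PrimeSpectrum R)) (hO : IsOpen O) (q : PrimeSpectrum R) (hq : q ∈ closure O) :
    ∃ p ∈ O, p ≤ q := by
  classical
  by_contra H
  push Not at H
  have hfin : {p ∈ minimalPrimes R | ¬ p ≤ q.asIdeal}.Finite :=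
    (minimalPrimes.finite_of_isNoetherianRing R).subset (fun p hp => hp.1)
  have hclosed : IsClosed (⋃ p ∈ {p ∈ minimalPrimes R | ¬ p ≤ q.asIdeal},
      PrimeSpectrum.zeroLocus (p : Set R)) :=
    hfin.isClosed_biUnion fun p _ => PrimeSpectrum.isClosed_zeroLocus _
  have hqG : q ∈ (⋃ p ∈ {p ∈ minimalPrimes R | ¬ p ≤ q.asIdeal},
      PrimeSpectrum.zeroLocus (p : Set R))ᶜ := by
    intro hmem
    simp only [Set.mem_iUnion, PrimeSpectrum.mem_zeroLocus, SetLike.coe_subset_coe,
      exists_prop] at hmem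
    obtain ⟨p, ⟨-, hp⟩, hpq⟩ := hmem
    exact hp hpq
  obtain ⟨r, hrG, hrO⟩ := mem_closure_iff.mp hq _ hclosed.isOpen_compl hqG
  obtain ⟨p, hp, hpr⟩ := Ideal.exists_minimalPrimes_le (bot_le : (⊥ : Ideal R) ≤ r.asIdeal)
  haveI hpp : p.IsPrime := hp.1.1
  have hpq : p ≤ q.asIdeal := by
    by_contra hnot
    apply hrG
    simp only [Set.mem_iUnion, PrimeSpectrum.mem_zeroLocus, SetLike.coe_subset_coe, exists_prop]
    exact ⟨p, ⟨hp, hnot⟩, hpr⟩
  have hspec : (⟨p, hpp⟩ : PrimeSpectrum R) ⤳ r :=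
    (PrimeSpectrum.le_iff_specializes _ _).mp hpr
  exact H ⟨p, hpp⟩ (hspec.mem_open hO hrO) hpq

theorem exists_generization_mem_of_mem_closure {X : Scheme.{u}} [IsLocallyNoetherian X]
    (U : X.Opens) (x : X) (hx : x ∈ closure (U : Set X)) : ∃ x' ∈ U, x' ⤳ x := by
  obtain ⟨_, ⟨W, hW : IsAffineOpen W, rfl⟩, hxW, -⟩ :=
    X.isBasis_affineOpens.exists_subset_of_mem_open (Set.mem_univ x) isOpen_univ
  haveI : IsNoetherianRing Γ(X, W) := IsLocallyNoetherian.component_noetherian ⟨W, hW⟩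
  have hemb : Topology.IsOpenEmbedding hW.fromSpec := hW.fromSpec.isOpenEmbedding
  set q := hW.primeIdealOf ⟨x, hxW⟩ with hq
  have hqx : hW.fromSpec q = x := hW.fromSpec_primeIdealOf ⟨x, hxW⟩
  have hO : IsOpen (hW.fromSpec ⁻¹' (U : Set X)) := U.isOpen.preimage hW.fromSpec.continuous
  have hqcl : q ∈ closure (hW.fromSpec ⁻¹' (U : Set X)) := by
    rw [← hemb.isOpenMap.preimage_closure_eq_closure_preimage hW.fromSpec.continuous]
    show hW.fromSpec q ∈ closure (U : Set X)
    rw [hqx]; exact hx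
  obtain ⟨p, hpO, hpq⟩ := exists_le_mem_of_mem_closure (R := Γ(X, W)) _ hO q hqcl
  refine ⟨hW.fromSpec p, hpO, ?_⟩
  have h1 : @Specializes (PrimeSpectrum Γ(X, W)) _ p q :=
    (PrimeSpectrum.le_iff_specializes _ _).mp hpq
  have h2 := hemb.isInducing.specializes_iff.mpr h1
  rwa [hqx] at h2

end Helpers

open AlgebraicGeometry CategoryTheory Limits in
/-- Suppose S is locally Noetherian and the morphism f : X ⟶ S is locally of finite type; take x a point
of X closed in its fibre, and U ⊆ X an open subscheme not meeting the fibre through x but with x in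
the closure of U. Then there is a closed subscheme Z of X passing through x such that Z ⟶ S is
quasi-finite at x and Z contains a point z of U specializing to x with f z ≠ f x. -/
theorem result {X S : Scheme.{u}} (f : X ⟶ S) [LocallyOfFiniteType f] [IsLocallyNoetherian S] (x : X)
    (hcl : IsClosed (Subtype.val ⁻¹' {x} : Set ↑(f ⁻¹' {f x}))) (U : X.Opens)
    (hU : ∀ x' ∈ U, f x' ≠ f x) (hxU : x ∈ closure (U : Set ↑X)) :
    ∃ (I : X.IdealSheafData) (z₀ x₀ : ↑I.subscheme), I.subschemeι x₀ = x ∧ (I.subschemeι ≫ f).QuasiFiniteAt x₀ ∧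
      I.subschemeι z₀ ∈ U ∧ I.subschemeι z₀ ⤳ x ∧ f (I.subschemeι z₀) ≠ f x := by
  haveI : IsLocallyNoetherian X := LocallyOfFiniteType.isLocallyNoetherian f
  obtain ⟨x', hx'U, hx'x⟩ := exists_generization_mem_of_mem_closure U x hxU
  exact Groth.Agent.S1411.result f x hcl U ⟨x', hx'U, hx'x, hU x' hx'U⟩

end Groth.Agent.S9779
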