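import Groth.Statements.S9792
-- import your own Groth.Agent.* helpers here
import Groth.Agent.Lib.Helper26.AntichainNoeth

set_option autoImplicit false
universe u
open CategoryTheory AlgebraicGeometry TopologicalSpace
open Props

namespace Groth.Agent.S9792

/-- In a Noetherian scheme, every infinite set of points contains an infinite subset no two distinct
members of which are related by specialization. -/
theorem result (S : Scheme.{u}) [IsNoetherian S]
    (T : Set S) (hT : T.Infinite) :
    ∃ T' : Set S, T' ⊆ T ∧ T'.Infinite ∧ ∀ a ∈ T', ∀ b ∈ T', a ⤳ b → a = b := by
  exact Groth.Agent.Lib.Helper26.AntichainNoeth.main S T hT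

end Groth.Agent.S9792
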