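import Groth.Statements.S9798
import Groth.Agent.Lib.Helper21.TopDim2
import Mathlib

set_option autoImplicit false
universe u
open CategoryTheory AlgebraicGeometry TopologicalSpace
open Props

namespace Groth.Agent.S9798

open AlgebraicGeometry TopologicalSpace Groth.Agent.Lib.Helper21.TopDim in
theorem main (X : Scheme.{u}) [IsLocallyNoetherian X] (x : X) :
    FlatMor.localDim X x = 0 ↔ IsOpen ({x} : Set X) := by
  constructor
  · intro h
    obtain ⟨V, hV, hxV, -⟩ := exists_isAffineOpen_mem_and_subset (U := ⊤) (x := x) (by simp)
    have : IsNoetherianRing Γ(X, V) := IsLocallyNoetherian.component_noetherian ⟨V, hV⟩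
    have : NoetherianSpace ↥(V : Set X) := noetherianSpace_of_isAffineOpen V hV
    exact isOpen_singleton_of_localDim_eq_zero x V hxV h
  · exact localDim_eq_zero_of_isOpen_singleton x


/-- A point of a locally Noetherian scheme has local dimension zero exactly when it is isolated. -/
theorem result (X : Scheme.{u}) [IsLocallyNoetherian X] (x : X) :
    FlatMor.localDim X x = 0 ↔ IsOpen ({x} : Set X) := by
  exact main X x

end Groth.Agent.S9798
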