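import Groth.Statements.S9800
import Mathlib.RingTheory.DiscreteValuationRing.TFAE
import Mathlib.RingTheory.RegularLocalRing.Defs
import Mathlib.AlgebraicGeometry.Noetherian
import Mathlib.AlgebraicGeometry.Properties
import Mathlib.Topology.KrullDimension

set_option autoImplicit false
universe u
open CategoryTheory AlgebraicGeometry TopologicalSpace
open Props

namespace Groth.Agent.S9800

/-- A locally Noetherian normal scheme of dimension at most one is regular, that is, all of its local
rings are regular local rings. -/
theorem result (X : Scheme.{u})
    [IsLocallyNoetherian X] (hN : Pi1.IsNormalScheme X) (hd : topologicalKrullDim X ≤ 1) (x : X) :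
    IsRegularLocalRing (X.presheaf.stalk x) := by
  have hco : Order.coheight x ≤ 1 := by
    have h1 : (Order.coheight x : WithBot ℕ∞) ≤ Order.krullDim X := Order.coheight_le_krullDim x
    have h2 : Order.krullDim X = topologicalKrullDim X := by
      unfold topologicalKrullDim
      exact (Order.krullDim_eq_of_orderIso (irreducibleSetEquivPoints (α := X))).symm
    rw [h2] at h1
    exact_mod_cast h1.trans hd
  have hdim : Ring.KrullDimLE 1 (X.presheaf.stalk x) :=
    krullDimLE_of_coheight_le (n := 1) (by exact_mod_cast hco)
  obtain ⟨hdom, hic⟩ := hN x
  by_cases hfield : IsField (X.presheaf.stalk x)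
  · have : IsPrincipalIdealRing (X.presheaf.stalk x) := by
      let _ := hfield.toField
      infer_instance
    infer_instance
  · have hdvr : IsDiscreteValuationRing (X.presheaf.stalk x) := by
      have htfae := (IsDiscreteValuationRing.TFAE (X.presheaf.stalk x) hfield).out 3 0
      refine htfae.mp ⟨hic, ?_⟩
      have hne : IsLocalRing.maximalIdeal (X.presheaf.stalk x) ≠ ⊥ :=
        IsLocalRing.isField_iff_maximalIdeal_eq.not.mp hfield
      refine ⟨IsLocalRing.maximalIdeal _, ⟨hne, inferInstance⟩, ?_⟩
      rintro P ⟨hP0, hP⟩
      have : P.IsMaximal := hP.isMaximal_of_ne_bot hP0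
      exact IsLocalRing.eq_maximalIdeal this
    infer_instance


end Groth.Agent.S9800
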