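import Groth.Statements.S9801
import Mathlib
import Groth.Agent.Lib.Helper12.SerreNormalC
import Groth.Agent.Lib.helper11.CMRegular
import Groth.Agent.Lib.Helper3.SchemeDim
-- import your own Groth.Agent.* helpers here

set_option autoImplicit false
universe u
open CategoryTheory AlgebraicGeometry TopologicalSpace
open Props

namespace Groth.Agent.S9801

/-- A locally Noetherian normal scheme of dimension at most two is Cohen-Macaulay, that is, all of its
local rings are Cohen-Macaulay local rings. -/
theorem result (X : Scheme.{u})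
    [IsLocallyNoetherian X] (hN : Pi1.IsNormalScheme X) (hd : topologicalKrullDim X ≤ 2) (x : X) :
    LocCoh.IsCohenMacaulayLocalRing (X.presheaf.stalk x) := by
  classical
  set A := X.presheaf.stalk x with hA
  obtain ⟨hdom, hic⟩ := hN x
  haveI : IsDomain A := hdom
  haveI : IsIntegrallyClosed A := hic
  haveI : IsNoetherianRing A := inferInstance
  have hdimA : ringKrullDim A ≤ 2 := by
    refine le_trans ?_ hd
    rw [Groth.Agent.Lib.Helper3.topologicalKrullDim_eq_iSup_stalk]
    exact le_iSup (fun y : X => ringKrullDim (X.presheaf.stalk y)) x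
  have h1 := Groth.Agent.Lib.Helper12.SerreNormal.min_two_le_depth A
  have h2 : ((LocCoh.depth A A : ℕ∞) : WithBot ℕ∞) ≤ ringKrullDim (A ⧸ (⊥ : Ideal A)) := by
    apply Groth.Agent.Lib.helper11.CMRegular.depth_le_dim_of_mem_ass A (⊥ : Ideal A)
    rw [AssociatedPrimes.mem_iff, isAssociatedPrime_iff]
    refine ⟨Ideal.bot_prime, 1, ?_⟩
    ext a
    rw [Submodule.mem_colon_singleton, Submodule.mem_bot, Ideal.mem_bot, smul_eq_mul, mul_one]
  have h3 : ringKrullDim (A ⧸ (⊥ : Ideal A)) = ringKrullDim A :=
    ringKrullDim_eq_of_ringEquiv (RingEquiv.quotientBot A)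
  rw [h3] at h2
  have h4 : min ((2 : ℕ) : WithBot ℕ∞) (ringKrullDim A) = ringKrullDim A :=
    min_eq_right (by exact_mod_cast hdimA)
  rw [h4] at h1
  refine { supportDim_eq_depth := ?_ }
  rw [Module.supportDim_self_eq_ringKrullDim]
  exact le_antisymm h1 h2

end Groth.Agent.S9801
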