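import Groth.Statements.S9804
import Mathlib
-- import your own Groth.Agent.* helpers here

set_option autoImplicit false
universe u
open CategoryTheory AlgebraicGeometry TopologicalSpace
open Props

namespace Groth.Agent.S9804

section H
open CategoryTheory CategoryTheory.Limits AlgebraicGeometry
namespace W12
set_option backward.isDefEq.respectTransparency.types false

/-- If `U.basicOpen r` is affine (U qcqs), then `D(r) ⊆ Spec Γ(U)` lies in the range of `U.toSpecΓ`. -/
theorem basicOpen_subset_range (U : Scheme.{u}) [CompactSpace U] [QuasiSeparatedSpace U]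
    (r : Γ(U, ⊤)) (hr : IsAffineOpen (U.basicOpen r)) (p : Spec Γ(U, ⊤))
    (hp : p ∈ PrimeSpectrum.basicOpen r) : p ∈ Set.range U.toSpecΓ := by
  have hloc : IsLocalization.Away r Γ(U, U.basicOpen r) :=
    isLocalization_basicOpen_of_qcqs isCompact_univ isQuasiSeparated_univ r
  have hrange := PrimeSpectrum.localization_away_comap_range Γ(U, U.basicOpen r) r
  have hp' : (p : PrimeSpectrum Γ(U, ⊤)) ∈
      Set.range (PrimeSpectrum.comap (algebraMap ↑Γ(U, ⊤) ↑Γ(U, U.basicOpen r))) := by
    rw [hrange]; exact hp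
  obtain ⟨q, hq⟩ := hp'
  have hiso : IsIso (U.basicOpen r).toSpecΓ := by
    rw [← hr.isoSpec_hom]; infer_instance
  obtain ⟨w, hw⟩ := (U.basicOpen r).toSpecΓ.surjective q
  refine ⟨(U.basicOpen r).ι w, ?_⟩
  rw [← Scheme.Hom.comp_apply, ← Scheme.Opens.toSpecΓ_SpecMap_presheaf_map_top,
    Scheme.Hom.comp_apply, hw, ← hq]
  rfl

theorem main {U V : Scheme.{u}} (j : U ⟶ V)
    [IsOpenImmersion j] [U.IsQuasiAffine] [V.IsQuasiAffine] :
    IsPullback (𝟙 U) U.toSpecΓ (j ≫ V.toSpecΓ) (Spec.map j.appTop) := by
  apply IsOpenImmersion.isPullback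
  · rw [Category.id_comp, Scheme.toSpecΓ_naturality]
  · apply le_antisymm
    · rintro p ⟨u, hu⟩
      obtain ⟨_, ⟨_, ⟨r, hr, rfl⟩, rfl⟩, hvr, hrj⟩ :=
        (Scheme.IsQuasiAffine.isBasis_basicOpen V).exists_subset_of_mem_open
          (show j u ∈ (j.opensRange : Set V) from ⟨u, rfl⟩) j.opensRange.2
      have h0 : Spec.map j.appTop p ∈ PrimeSpectrum.basicOpen r := by
        rw [← hu, Scheme.Hom.comp_apply]
        have : j u ∈ V.toSpecΓ ⁻¹ᵁ PrimeSpectrum.basicOpen r := by
          rw [Scheme.toSpecΓ_preimage_basicOpen]; exact hvr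
        exact this
      have h1 : p ∈ PrimeSpectrum.basicOpen (j.appTop r) := h0
      have h2 : IsAffineOpen (U.basicOpen (j.appTop r)) := by
        rw [← Scheme.preimage_basicOpen_top, ← Scheme.Hom.isAffineOpen_iff_of_isOpenImmersion j,
          Scheme.Hom.image_preimage_eq_opensRange_inf]
        convert hr using 1
        exact inf_eq_right.mpr hrj
      exact basicOpen_subset_range U _ h2 p h1
    · rintro _ ⟨u, rfl⟩
      refine ⟨u, ?_⟩
      change (j ≫ V.toSpecΓ) u = (U.toSpecΓ ≫ Spec.map (Scheme.Hom.appTop j)) u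
      rw [Scheme.toSpecΓ_naturality]

end W12
end H


/-- For quasi-affine schemes U and V and an open immersion j : U → V, the scheme U is the fibre product
of the composite U → V → Spec Γ(V, O_V) and the morphism Spec Γ(U, O_U) → Spec Γ(V, O_V) induced by
restriction of sections along j: the square whose sides are the identity of U, the canonical
morphism U → Spec Γ(U, O_U), that composite and that induced morphism is cartesian. -/
theorem result {U V : Scheme.{u}} (j : U ⟶ V)
    [IsOpenImmersion j] [U.IsQuasiAffine] [V.IsQuasiAffine] :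
    IsPullback (𝟙 U) U.toSpecΓ (j ≫ V.toSpecΓ) (Spec.map j.appTop) := by
  exact W12.main j

end Groth.Agent.S9804
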