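import Groth.Statements.S9807
import Groth.Agent.Lib.helper19.OpenGenApp
import Groth.Agent.Lib.Helper21.RegLift

set_option autoImplicit false
universe u
open CategoryTheory AlgebraicGeometry TopologicalSpace
open Props

namespace Groth.Agent.S9807

/-- A locally Noetherian scheme is regular (all local rings regular) as soon as its local rings at
closed points are regular, and conversely. -/
theorem result (X : Scheme.{u}) [IsLocallyNoetherian X] :
    (∀ x : X, IsRegularLocalRing (X.presheaf.stalk x)) ↔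
      ∀ x : X, IsClosed ({x} : Set X) → IsRegularLocalRing (X.presheaf.stalk x) := by
  constructor
  · intro h x _
    exact h x
  · intro h x
    obtain ⟨y, hy, hycl⟩ := Groth.Agent.Lib.Helper19.OpenGenApp.exists_closedPoint
      (closure ({x} : Set X)) isClosed_closure ⟨x, subset_closure rfl⟩
    have hxy : x ⤳ y := specializes_iff_mem_closure.mpr hy
    obtain ⟨_, ⟨U, hU, rfl⟩, hyU, -⟩ := X.isBasis_affineOpens.exists_subset_of_mem_open
      (Set.mem_univ y) isOpen_univ
    have hxU : x ∈ U := hxy.mem_open U.2 hyU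
    have hle := (Groth.Agent.Lib.Helper19.OpenGenSch.specializes_iff_primeIdealOf_le hU x y
      hxU hyU).mp hxy
    letI : Algebra Γ(X, U) (X.presheaf.stalk x) :=
      TopCat.Presheaf.algebra_section_stalk X.presheaf ⟨x, hxU⟩
    letI : Algebra Γ(X, U) (X.presheaf.stalk y) :=
      TopCat.Presheaf.algebra_section_stalk X.presheaf ⟨y, hyU⟩
    haveI : IsLocalization.AtPrime (X.presheaf.stalk x) (hU.primeIdealOf ⟨x, hxU⟩).asIdeal :=
      hU.isLocalization_stalk ⟨x, hxU⟩
    haveI : IsLocalization.AtPrime (X.presheaf.stalk y) (hU.primeIdealOf ⟨y, hyU⟩).asIdeal :=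
      hU.isLocalization_stalk ⟨y, hyU⟩
    have hy_reg : IsRegularLocalRing (X.presheaf.stalk y) := h y hycl
    let ey : Localization.AtPrime (hU.primeIdealOf ⟨y, hyU⟩).asIdeal ≃ₐ[Γ(X, U)]
        X.presheaf.stalk y :=
      IsLocalization.algEquiv (hU.primeIdealOf ⟨y, hyU⟩).asIdeal.primeCompl _ _
    let ex : Localization.AtPrime (hU.primeIdealOf ⟨x, hxU⟩).asIdeal ≃ₐ[Γ(X, U)]
        X.presheaf.stalk x :=
      IsLocalization.algEquiv (hU.primeIdealOf ⟨x, hxU⟩).asIdeal.primeCompl _ _
    haveI : IsRegularLocalRing (Localization.AtPrime (hU.primeIdealOf ⟨y, hyU⟩).asIdeal) :=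
      IsRegularLocalRing.of_ringEquiv ey.symm.toRingEquiv
    haveI : IsRegularLocalRing (Localization.AtPrime (hU.primeIdealOf ⟨x, hxU⟩).asIdeal) :=
      Groth.Agent.Lib.Helper21.RegLift.isRegularLocalRing_localization_of_le _ _ hle
    exact IsRegularLocalRing.of_ringEquiv ex.toRingEquiv

end Groth.Agent.S9807
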