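import Groth.Statements.S9809
import Mathlib
import Groth.Agent.Lib.Helper22.SHConnMain
-- import your own Groth.Agent.* helpers here

set_option autoImplicit false
universe u
open CategoryTheory AlgebraicGeometry TopologicalSpace
open Props

namespace Groth.Agent.S9809

/-- A Noetherian scheme is geometrically unibranch (all local rings geometrically unibranch) if and only
if at every point which is not the generic point of an irreducible component, the punctured spectrum
of a strict henselization of the local ring is connected. -/
theorem result
    (X : Scheme.{u}) [IsNoetherian X] :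
    (∀ x : X, CAlg2.IsGeomUnibranch (X.presheaf.stalk x)) ↔
      ∀ (x : X), closure ({x} : Set X) ∉ irreducibleComponents X →
        ∀ (Ash : Type u) [CommRing Ash] [IsLocalRing Ash] [Algebra (X.presheaf.stalk x) Ash]
          [IsLocalHom (algebraMap (X.presheaf.stalk x) Ash)]
          [Hensel.IsStrictHenselization (X.presheaf.stalk x) Ash],
          ConnectedSpace ↥({IsLocalRing.closedPoint Ash}ᶜ : Set (PrimeSpectrum Ash)) := by
  constructor
  · intro hGU x hx Ash _ _ _ _ _
    exact Groth.Agent.Lib.Helper22.SHConn.connected_of_gu (X.presheaf.stalk x) Ash (hGU x)
      (fun hmin => hx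
        (Groth.Agent.Lib.Helper22.SHConn.component_of_maximalIdeal_mem_minimalPrimes X x hmin))
  · intro H x
    exact Groth.Agent.Lib.Helper22.SHConn.gu_of_forall_connected X H x

end Groth.Agent.S9809
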