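import Groth.Statements.S9811
import Groth.Agent.S9810
import Groth.Agent.Lib.Helper14.MaxHom

set_option autoImplicit false
universe u
open Brnch

namespace Groth.Agent.S9811

open Helper14 IsLocalRing Groth.Agent.S9810

variable (A : Type u) [CommRing A]

/-- the composite `A → A_red → normRed A` -/
noncomputable def fA : A →+* CAlg2.normRed A :=
  (algebraMap (CAlg2.red A) (CAlg2.normRed A)).comp (Ideal.Quotient.mk (nilradical A))

lemma ngb_eq [IsLocalRing A] (h : (minimalPrimes A).Finite) :
    Brnch.numGeomBranches A = ENat.card (MaxHom (fA A) (Brnch.toClosure A)) := by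
  unfold Brnch.numGeomBranches
  rw [if_pos h]
  exact card_pairEmb (fA A) (Brnch.toClosure A)

section Res
variable [IsLocalRing A] (p : Ideal A) [p.IsPrime]

instance : IsLocalHom (Ideal.Quotient.mk p) :=
  IsLocalHom.of_surjective _ Ideal.Quotient.mk_surjective

/-- the residue fields of `A/p` and `A` agree -/
noncomputable def resEquiv : ResidueField (A ⧸ p) ≃+* ResidueField A :=
  (RingEquiv.ofBijective (ResidueField.map (Ideal.Quotient.mk p))
    ⟨RingHom.injective _, by
      intro y
      obtain ⟨y, rfl⟩ := residue_surjective y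
      obtain ⟨a, rfl⟩ := Ideal.Quotient.mk_surjective y
      exact ⟨residue A a, ResidueField.map_residue _ a⟩⟩).symm

lemma resEquiv_residue (a : A) :
    resEquiv A p (residue (A ⧸ p) (Ideal.Quotient.mk p a)) = residue A a := by
  unfold resEquiv
  rw [RingEquiv.symm_apply_eq]
  exact (ResidueField.map_residue _ a).symm

/-- the induced isomorphism of algebraic closures -/
noncomputable def closEquiv :
    AlgebraicClosure (ResidueField (A ⧸ p)) ≃+* AlgebraicClosure (ResidueField A) :=
  IsAlgClosure.equivOfEquiv _ _ (resEquiv A p)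

lemma closEquiv_toClosure :
    Brnch.toClosure A =
      ((closEquiv A p : AlgebraicClosure (ResidueField (A ⧸ p)) →+* _).comp
        ((Brnch.toClosure (A ⧸ p)).comp (Ideal.Quotient.mk p))) := by
  ext a
  unfold Brnch.toClosure closEquiv
  simp only [RingHom.comp_apply, RingHom.coe_coe]
  rw [IsAlgClosure.equivOfEquiv_algebraMap, resEquiv_residue]

end Res

lemma quotEquiv_mk (q : minimalPrimes (CAlg2.red A)) (p : Ideal A) [p.IsPrime]
    (hp : Ideal.comap (Ideal.Quotient.mk (nilradical A)) q.1 = p) (a : A) :
    quotEquiv A q p hp (Ideal.Quotient.mk q.1 (Ideal.Quotient.mk (nilradical A) a)) =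
      Ideal.Quotient.mk (nilradical (A ⧸ p)) (Ideal.Quotient.mk p a) := by
  unfold quotEquiv
  simp only [RingEquiv.trans_apply]
  have h1 : (RingHom.quotientKerEquivOfSurjective
      (f := (Ideal.Quotient.mk q.1).comp (Ideal.Quotient.mk (nilradical A)))
      (Ideal.Quotient.mk_surjective.comp Ideal.Quotient.mk_surjective)).symm
      (Ideal.Quotient.mk q.1 (Ideal.Quotient.mk (nilradical A) a)) =
      Ideal.Quotient.mk _ a := by
    rw [RingEquiv.symm_apply_eq]
    rfl
  rw [h1]
  rfl

/-- the `q`-component of `A → normRed A ≃ ∏ D_q` -/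
noncomputable def fq (q : minimalPrimes (CAlg2.red A)) : A →+* DD (CAlg2.red A) q :=
  (algebraMap (CAlg2.red A) (DD (CAlg2.red A) q)).comp (Ideal.Quotient.mk (nilradical A))

lemma ngb_quot [IsLocalRing A] (q : minimalPrimes (CAlg2.red A)) (p : Ideal A) [p.IsPrime]
    (hp : Ideal.comap (Ideal.Quotient.mk (nilradical A)) q.1 = p) :
    Brnch.numGeomBranches (A ⧸ p) = ENat.card (MaxHom (fq A q) (Brnch.toClosure A)) := by
  have hfin : (minimalPrimes (A ⧸ p)).Finite := by
    rw [IsDomain.minimalPrimes_eq_singleton_bot]
    exact Set.finite_singleton _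
  rw [ngb_eq (A ⧸ p) hfin]
  refine ENat.card_congr ?_
  refine (MaxHom.congrBase (fA (A ⧸ p)) (Brnch.toClosure (A ⧸ p)) (Ideal.Quotient.mk p)
    Ideal.Quotient.mk_surjective).trans ?_
  refine (MaxHom.congrField _ _ (closEquiv A p) (Brnch.toClosure A)
    (closEquiv_toClosure A p)).trans ?_
  refine (MaxHom.congrRing (fq A q) (Brnch.toClosure A)
    (normalizationEquivOfRingEquiv (quotEquiv A q p hp)) _ ?_).symm
  refine RingHom.ext fun a => ?_
  simp only [RingHom.comp_apply, RingHom.coe_coe, fA, fq]
  rw [IsScalarTower.algebraMap_apply (CAlg2.red A) (CAlg2.red A ⧸ q.1) (DD (CAlg2.red A) q),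
    normalizationEquivOfRingEquiv_algebraMap]
  exact congrArg (algebraMap (CAlg2.red (A ⧸ p)) (CAlg2.normRed (A ⧸ p)))
    (quotEquiv_mk A q p hp a).symm


/-- Geometric branches, in terms of the local ring: for a local ring A with finitely many minimal prime
ideals, the number of geometric branches of A is the sum over the minimal primes p of the numbers of
geometric branches of the local domains A/p. -/
theorem result (A : Type u) [CommRing A] [IsLocalRing A]
    (h : (minimalPrimes A).Finite) :
    Brnch.numGeomBranches A =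
      ∑ᶠ p : minimalPrimes A,
        haveI : p.1.IsPrime := p.2.1.1
        Brnch.numGeomBranches (A ⧸ p.1) := by
  classical
  have hR : (minimalPrimes (CAlg2.red A)).Finite := by
    have : Finite (minimalPrimes A) := h
    exact Set.finite_coe_iff.1 (Finite.of_equiv _ (minEquiv A).symm)
  haveI : Finite (minimalPrimes (CAlg2.red A)) := hR
  haveI : Finite (minimalPrimes A) := h
  cases nonempty_fintype (minimalPrimes (CAlg2.red A))
  cases nonempty_fintype (minimalPrimes A)
  rw [finsum_eq_sum_of_fintype]
  have h1 : Brnch.numGeomBranches A = ∑ q : minimalPrimes (CAlg2.red A),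
      ENat.card (MaxHom (fq A q) (Brnch.toClosure A)) := by
    rw [ngb_eq A h]
    have e1 := MaxHom.congrRing (fA A) (Brnch.toClosure A)
      (normalizationPiEquiv (CAlg2.red A) hR).toRingEquiv
      (((normalizationPiEquiv (CAlg2.red A) hR).toRingEquiv :
        CAlg2.normRed A →+* ∀ q : minimalPrimes (CAlg2.red A), DD (CAlg2.red A) q).comp (fA A)) rfl
    rw [ENat.card_congr e1, card_maxHom_pi]
    refine Finset.sum_congr rfl fun q _ => ?_
    have hfq : (Pi.evalRingHom (fun q : minimalPrimes (CAlg2.red A) => DD (CAlg2.red A) q) q).comp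
        (((normalizationPiEquiv (CAlg2.red A) hR).toRingEquiv :
          CAlg2.normRed A →+* ∀ q : minimalPrimes (CAlg2.red A), DD (CAlg2.red A) q).comp (fA A)) =
        fq A q := by
      ext a
      simp only [RingHom.comp_apply, RingHom.coe_coe, fA, fq, Pi.evalRingHom_apply]
      have := (normalizationPiEquiv (CAlg2.red A) hR).commutes
        (Ideal.Quotient.mk (nilradical A) a)
      rw [AlgEquiv.coe_ringEquiv, this]
      rfl
    rw [hfq]
  rw [h1]
  refine Fintype.sum_equiv (minEquiv A) _ _ fun q => ?_
  haveI : (minEquiv A q).1.IsPrime := (minEquiv A q).2.1.1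
  exact (ngb_quot A q (minEquiv A q).1 rfl).symm

end Groth.Agent.S9811
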