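import Groth.Statements.S9812
import Groth.Agent.Lib.Helper12.Unibranch

set_option autoImplicit false
universe u
open CAlg2

namespace Groth.Agent.S9812

/-- At the level of the local ring: an integrally closed local domain is geometrically unibranch.
Consequently a normal scheme is geometrically unibranch. -/
theorem result (A : Type u) [CommRing A] [IsLocalRing A]
    [IsDomain A] [IsIntegrallyClosed A] : CAlg2.IsGeomUnibranch A := by
  have hdom : IsDomain (CAlg2.red A) := by
    haveI : (nilradical A).IsPrime := by
      rw [nilradical_eq_zero, Ideal.zero_eq_bot]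
      exact Ideal.isPrime_bot
    exact Ideal.Quotient.isDomain _
  haveI := hdom
  haveI : IsFractionRing A (FractionRing (CAlg2.red A)) :=
    Groth.Agent.Lib.Helper12.Unibranch.isFractionRing A
  let g : A →+* CAlg2.normRed A :=
    (algebraMap (CAlg2.red A) (CAlg2.normRed A)).comp (Ideal.Quotient.mk (nilradical A))
  have hg : Function.Surjective g := by
    intro z
    have h1 : IsIntegral A (z : FractionRing (CAlg2.red A)) :=
      (Groth.Agent.Lib.Helper12.Unibranch.mem_integralClosure_iff A z.1).mp z.2
    obtain ⟨a, ha⟩ := IsIntegrallyClosed.isIntegral_iff.mp h1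
    exact ⟨a, Subtype.ext ha⟩
  have hloc : IsLocalRing (CAlg2.normRed A) := IsLocalRing.of_surjective' g hg
  refine ⟨⟨hdom, hloc⟩, ?_⟩
  intro m' hm' x
  refine ⟨0, ?_⟩
  obtain ⟨z, rfl⟩ := Ideal.Quotient.mk_surjective x
  obtain ⟨a, rfl⟩ := hg z
  rw [pow_zero, pow_one]
  exact ⟨a, rfl⟩

end Groth.Agent.S9812
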