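import Groth.Statements.S9821
import Mathlib.RingTheory.LocalProperties.IntegrallyClosed
import Mathlib.AlgebraicGeometry.AffineScheme
import Mathlib.AlgebraicGeometry.FunctionField

set_option autoImplicit false
universe u
open CategoryTheory CategoryTheory.Limits AlgebraicGeometry TopologicalSpace Opposite
open Props

namespace Groth.Agent.S9821

/-- An integral scheme is normal if and only if the coordinate ring of every nonempty affine open is an
integrally closed domain. -/
theorem result (X : Scheme.{u}) [IsIntegral X] :
    Pi1.IsNormalScheme X ↔ ∀ (U : X.Opens) [Nonempty U], IsAffineOpen U → IsIntegrallyClosed Γ(X, U) := by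
  constructor
  · intro h U _ hU
    apply IsIntegrallyClosed.of_localization_maximal
    intro p _ hp
    let y : PrimeSpectrum Γ(X, U) := ⟨p, hp.isPrime⟩
    let x : U := hU.isoSpec.inv y
    have hx : hU.primeIdealOf x = y := by
      simp [IsAffineOpen.primeIdealOf, x]
    letI := X.presheaf.algebra_section_stalk x
    have hloc := hU.isLocalization_stalk x
    rw [hx] at hloc
    haveI : IsLocalization.AtPrime (X.presheaf.stalk x.1) p := hloc
    obtain ⟨hd, hic⟩ := h x.1
    exact IsIntegrallyClosed.of_equiv
      (IsLocalization.algEquiv p.primeCompl (X.presheaf.stalk x.1)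
        (Localization.AtPrime p)).toRingEquiv
  · intro h x
    obtain ⟨_, ⟨U, hU, rfl⟩, hxU, -⟩ :=
      X.isBasis_affineOpens.exists_subset_of_mem_open (Set.mem_univ x) isOpen_univ
    haveI : Nonempty U := ⟨⟨x, hxU⟩⟩
    haveI := h U hU
    letI := X.presheaf.algebra_section_stalk ⟨x, hxU⟩
    haveI := hU.isLocalization_stalk ⟨x, hxU⟩
    exact ⟨inferInstance, isIntegrallyClosed_of_isLocalization (X.presheaf.stalk x)
      (hU.primeIdealOf ⟨x, hxU⟩).asIdeal.primeCompl
      (hU.primeIdealOf ⟨x, hxU⟩).asIdeal.primeCompl_le_nonZeroDivisors⟩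

end Groth.Agent.S9821
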