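import Groth.Statements.S9822
import Mathlib.AlgebraicGeometry.Limits

set_option autoImplicit false
universe u
open CategoryTheory CategoryTheory.Limits AlgebraicGeometry TopologicalSpace Opposite
open Props

namespace Groth.Agent.S9822

/-- A scheme is irreducible if and only if it is nonempty and every nonempty affine open subset is
irreducible. -/
theorem result (X : Scheme.{u}) :
    IrreducibleSpace X ↔ Nonempty X ∧ ∀ U : X.Opens, IsAffineOpen U → (U : Set X).Nonempty → IsIrreducible (U : Set X) := by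
  constructor
  · intro h
    refine ⟨h.toNonempty, fun U _ hne => ⟨hne, ?_⟩⟩
    exact (PreirreducibleSpace.isPreirreducible_univ (X := X)).open_subset U.2 (Set.subset_univ _)
  · rintro ⟨hne, H⟩
    haveI : Nonempty X := hne
    refine { toPreirreducibleSpace := ⟨?_⟩, toNonempty := hne }
    rintro u v hu hv ⟨x, -, hx⟩ ⟨y, -, hy⟩
    obtain ⟨U, hU, hxU, hUu⟩ := AlgebraicGeometry.exists_isAffineOpen_mem_and_subset
      (X := X) (x := x) (U := ⟨u, hu⟩) hx
    obtain ⟨V, hV, hyV, hVv⟩ := AlgebraicGeometry.exists_isAffineOpen_mem_and_subset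
      (X := X) (x := y) (U := ⟨v, hv⟩) hy
    by_cases hdis : Disjoint U V
    · have hW := hU.sup_of_disjoint hV hdis
      have hirr := H (U ⊔ V) hW ⟨x, Or.inl hxU⟩
      obtain ⟨z, -, hzU, hzV⟩ := hirr.2 U V U.2 V.2 ⟨x, Or.inl hxU, hxU⟩ ⟨y, Or.inr hyV, hyV⟩
      exact absurd (show z ∈ (U ⊓ V : X.Opens) from ⟨hzU, hzV⟩) (by rw [hdis.eq_bot]; exact id)
    · rw [← TopologicalSpace.Opens.coe_disjoint, Set.not_disjoint_iff] at hdis
      obtain ⟨z, hzU, hzV⟩ := hdis
      exact ⟨z, trivial, hUu hzU, hVv hzV⟩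

end Groth.Agent.S9822
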