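import Groth.Statements.S9827
import Groth.Agent.Lib.Helper29.TildeBridge
import Groth.Agent.Lib.Helper29.FPDict
import Groth.Agent.Lib.Helper29.FPAlg

set_option autoImplicit false
universe u
open CategoryTheory CategoryTheory.Limits AlgebraicGeometry TopologicalSpace Opposite
open Props

namespace Groth.Agent.S9827

open Groth.Agent.Lib.Helper28.QCohLoc Groth.Agent.Lib.Helper29.QCohStalk Groth.Agent.Lib.Helper29.TildeBridge
open Groth.Agent.Lib.Helper29.FPDict Groth.Agent.Lib.Helper29.FPAlg


/-- The sheaf associated to a module over a ring is of finite presentation on the spectrum if and only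
if the module is finitely presented. -/
theorem result (R : CommRingCat.{u}) (M : ModuleCat.{u} R) :
    CohB1.IsFP (tilde M) ↔ Module.FinitePresentation R M := by
  rw [fp_iff_of_semilinear_bij (ι : R ≃+* Γ(Spec R, ⊤)) (e M) (e_add M) (e_smul M) (e_bijective M)]
  constructor
  · intro h
    haveI : SheafOfModules.IsFinitePresentation.{u} (R := (Spec R).ringCatSheaf) (tilde M) := h
    exact fp_of_isAffineOpen (tilde M) (isAffineOpen_top (Spec R))
  · intro h
    refine isFinitePresentation_of_fp_cover (tilde M) (fun _ : PUnit.{u+1} => (⊤ : (Spec R).Opens)) ?_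
      (fun _ => isAffineOpen_top (Spec R)) (fun _ => h)
    exact iSup_const



end Groth.Agent.S9827
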