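import Groth.Statements.S9831
import Groth.Agent.Lib.Helper17.FTExt2
import Groth.Agent.Lib.Helper28.QCohPush
import Mathlib
set_option backward.isDefEq.respectTransparency.types false

set_option autoImplicit false
universe u
open CategoryTheory CategoryTheory.Limits AlgebraicGeometry TopologicalSpace Opposite
open Props

namespace Groth.Agent.S9831
open Groth.Agent.Lib.Helper28.QCohLoc


/-- On a quasi-compact quasi-separated scheme, a quasi-coherent module of finite type on a quasi-compact
open U is the restriction of a quasi-coherent module of finite type on the whole scheme. -/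
theorem result {X : Scheme.{u}} [CompactSpace X]
    [QuasiSeparatedSpace X] (U : X.Opens) (hU : IsCompact (U : Set X)) (G : (U : Scheme.{u}).Modules)
    [Coh.IsQCoh G] (hG : CohB1.IsFT G) :
    ∃ G' : X.Modules, Coh.IsQCoh G' ∧ CohB1.IsFT G' ∧ Nonempty (G'.restrict U.ι ≅ G) := by
  haveI : G.IsQuasicoherent := ‹Coh.IsQCoh G›
  haveI : SheafOfModules.IsFiniteType.{u} (R := (U : Scheme.{u}).ringCatSheaf) G := hG
  haveI : QuasiCompact U.ι := Groth.Agent.Lib.Helper17.FTExt.quasiCompact_ι_of_isCompact U hU
  let B : X.Modules := (Scheme.Modules.pushforward U.ι).obj G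
  haveI : B.IsQuasicoherent := isQuasicoherent_pushforward U.ι G
  let c : B.restrict U.ι ≅ G := (Scheme.Modules.restrictFunctorAdjCounitIso U.ι).app G
  obtain ⟨F, i, e, hi, hFq, hFt, -⟩ :=
    Groth.Agent.Lib.Helper17.FTExt.exists_extension_qcqs U hU B G c.inv
  exact ⟨F, hFq, hFt, ⟨e⟩⟩

end Groth.Agent.S9831
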