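import Groth.Statements.S9838
import Groth.Agent.Lib.Helper28.FinTypeConv
import Groth.Agent.Lib.Helper28.QCohPush

set_option autoImplicit false
open CategoryTheory CategoryTheory.Limits AlgebraicGeometry Opposite
universe u
open Desc

namespace Groth.Agent.S9838

open Groth.Agent.Lib.Helper28.QCohLoc Groth.Agent.Lib.Helper28.FinType

/-- finite generation of the sections of the direct image over `V` vs of the module over the preimage -/
theorem finite_push_iff {X Y : Scheme.{u}} (f : X ⟶ Y) [IsFinite f] (F : X.Modules) {V : Y.Opens}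
    (hV : IsAffineOpen V) :
    Module.Finite Γ(Y, V) Γ((Scheme.Modules.pushforward f).obj F, V) ↔
      Module.Finite Γ(X, f ⁻¹ᵁ V) Γ(F, f ⁻¹ᵁ V) := by
  letI : Algebra Γ(Y, V) Γ(X, f ⁻¹ᵁ V) := (f.app V).hom.toAlgebra
  haveI : Module.Finite Γ(Y, V) Γ(X, f ⁻¹ᵁ V) := IsFinite.finite_app f V hV
  letI : Module Γ(Y, V) Γ(F, f ⁻¹ᵁ V) := Module.compHom _ (f.app V).hom
  haveI : IsScalarTower Γ(Y, V) Γ(X, f ⁻¹ᵁ V) Γ(F, f ⁻¹ᵁ V) :=
    IsScalarTower.of_algebraMap_smul fun r x => rfl
  let E : Γ(F, f ⁻¹ᵁ V) ≃ₗ[Γ(Y, V)] Γ((Scheme.Modules.pushforward f).obj F, V) :=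
    { toFun := fun m => m
      invFun := fun m => m
      map_add' := fun _ _ => rfl
      map_smul' := fun a m => rfl
      left_inv := fun _ => rfl
      right_inv := fun _ => rfl }
  constructor
  · intro h
    haveI : Module.Finite Γ(Y, V) Γ(F, f ⁻¹ᵁ V) := Module.Finite.equiv E.symm
    exact Module.Finite.of_restrictScalars_finite Γ(Y, V) Γ(X, f ⁻¹ᵁ V) Γ(F, f ⁻¹ᵁ V)
  · intro h
    haveI : Module.Finite Γ(Y, V) Γ(F, f ⁻¹ᵁ V) := Module.Finite.trans Γ(X, f ⁻¹ᵁ V) Γ(F, f ⁻¹ᵁ V)
    exact Module.Finite.equiv E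

/-- Let f : X ⟶ Y be a finite morphism of schemes and F a quasi-coherent O_X-module. The pushforward
f_*F is of finite type as an O_Y-module exactly when F itself is of finite type as an O_X-module. -/
theorem result {X Y : Scheme.{u}} (f : X ⟶ Y) [IsFinite f]
    (F : X.Modules) [F.IsQuasicoherent] :
    SheafOfModules.IsFiniteType (R := X.ringCatSheaf) F ↔
      SheafOfModules.IsFiniteType (R := Y.ringCatSheaf) ((Scheme.Modules.pushforward f).obj F) := by
  haveI : ((Scheme.Modules.pushforward f).obj F).IsQuasicoherent := isQuasicoherent_pushforward f F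
  constructor
  · intro h
    haveI : SheafOfModules.IsFiniteType.{u} (R := X.ringCatSheaf) F := h
    refine isFiniteType_of_finite_cover ((Scheme.Modules.pushforward f).obj F)
      (fun V : Y.affineOpens => V.1) ?_ (fun V => V.2) (fun V => ?_)
    · exact TopologicalSpace.IsOpenCover.mk (iSup_affineOpens_eq_top Y)
    · exact (finite_push_iff f F V.2).2 (finite_of_isAffineOpen F (V.2.preimage f))
  · intro h
    haveI : SheafOfModules.IsFiniteType.{u} (R := Y.ringCatSheaf) ((Scheme.Modules.pushforward f).obj F) := h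
    refine isFiniteType_of_finite_cover F (fun V : Y.affineOpens => f ⁻¹ᵁ V.1) ?_
      (fun V => V.2.preimage f) (fun V => ?_)
    · refine TopologicalSpace.IsOpenCover.mk (eq_top_iff.2 fun x _ => ?_)
      obtain ⟨V, hV, hxV, -⟩ := (TopologicalSpace.Opens.isBasis_iff_nbhd.1 Y.isBasis_affineOpens)
        (show f x ∈ (⊤ : Y.Opens) from trivial)
      exact TopologicalSpace.Opens.mem_iSup.2 ⟨⟨V, hV⟩, hxV⟩
    · exact (finite_push_iff f F V.2).1 (finite_of_isAffineOpen _ V.2)



end Groth.Agent.S9838
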