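import Groth.Statements.S9839
import Groth.Agent.Lib.Helper9.FpqcLoc3
import Mathlib.AlgebraicGeometry.PullbackCarrier

set_option autoImplicit false
open CategoryTheory CategoryTheory.Limits AlgebraicGeometry Opposite
universe u
open Desc

namespace Groth.Agent.S9839

/-- Let f i : T i ⟶ T be an fpqc covering family of a scheme T (a family in the fpqc precoverage) and W
i ⊆ T i open subsets such that for all i, j the inverse images of W i and W j under the two
projections of T i ×_T T j coincide. Then there is a unique open subset W ⊆ T with (f i)⁻¹(W) = W i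
for every i. -/
theorem result {ι : Type u} {T : Scheme.{u}} {Ti : ι → Scheme.{u}}
    (f : ∀ i, Ti i ⟶ T) (hf : Presieve.ofArrows Ti f ∈ Scheme.fpqcPrecoverage T)
    (W : ∀ i, (Ti i).Opens)
    (hW : ∀ i j, (pullback.fst (f i) (f j)) ⁻¹ᵁ (W i) = (pullback.snd (f i) (f j)) ⁻¹ᵁ (W j)) :
    ∃! V : T.Opens, ∀ i, (f i) ⁻¹ᵁ V = W i := by
  let 𝒰 : PreZeroHypercover.{u} T := ⟨ι, Ti, f⟩
  have hm : 𝒰.presieve₀ ∈ Scheme.propQCPrecoverage @Flat T := hf
  have : QuasiCompactCover 𝒰 := by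
    rw [← Scheme.presieve₀_mem_qcPrecoverage_iff]; exact hm.1
  have hfl : ∀ i, Flat (𝒰.f i) := ((Scheme.presieve₀_mem_precoverage_iff 𝒰).1 hm.2).2
  have hsurj : ∀ t : T, ∃ i, t ∈ Set.range (f i) := by
    intro t
    have h1 := ((Scheme.presieve₀_mem_precoverage_iff 𝒰).1 hm.2).1 t
    exact h1
  let V₀ : Set T := ⋃ i, f i '' (W i : Set (Ti i))
  have hpre : ∀ i, (f i) ⁻¹' V₀ = (W i : Set (Ti i)) := by
    intro i; ext x; constructor
    · intro hx
      obtain ⟨j, y, hy, hyx⟩ := Set.mem_iUnion.1 hx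
      obtain ⟨w, hw1, hw2⟩ := Scheme.Pullback.exists_preimage_pullback y x hyx
      have h1 : w ∈ ((pullback.fst (f j) (f i)) ⁻¹ᵁ (W j) : Set _) := by
        change (pullback.fst (f j) (f i)) w ∈ (W j : Set _)
        rw [hw1]; exact hy
      rw [hW j i] at h1
      have h2 : (pullback.snd (f j) (f i)) w ∈ (W i : Set _) := h1
      rwa [hw2] at h2
    · intro hx
      exact Set.mem_iUnion.2 ⟨i, x, hx, rfl⟩
  have hopen : IsOpen V₀ :=
    Groth.Agent.Lib.Helper9.FpqcLoc.isOpen_of_forall_isOpen_preimage 𝒰 hfl V₀ (fun i => by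
      change IsOpen ((f i) ⁻¹' V₀)
      rw [hpre]; exact (W i).isOpen)
  refine ⟨⟨V₀, hopen⟩, fun i => ?_, fun V' hV' => ?_⟩
  · ext x
    exact Set.ext_iff.1 (hpre i) x
  · ext t
    obtain ⟨i, x, rfl⟩ := hsurj t
    have h1 : (f i) x ∈ V' ↔ x ∈ W i := by
      rw [← hV' i]; rfl
    have h2 : (f i) x ∈ V₀ ↔ x ∈ W i := Set.ext_iff.1 (hpre i) x
    exact h1.trans h2.symm

end Groth.Agent.S9839
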