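import Groth.Statements.S9841
import Groth.Agent.Lib.Helper3.ReducedSmooth

set_option autoImplicit false
open CategoryTheory CategoryTheory.Limits AlgebraicGeometry Opposite
universe u
open Desc

namespace Groth.Agent.S9841

/-- Being reduced is local in the smooth topology: for a jointly surjective family of smooth morphisms f
i : X i ⟶ S, the scheme S is reduced if and only if every X i is reduced. -/
theorem result {ι : Type u} {S : Scheme.{u}} {X : ι → Scheme.{u}} (f : ∀ i, X i ⟶ S)
    (hf : Presieve.ofArrows X f ∈ Scheme.precoverage @Smooth S) :
    IsReduced S ↔ ∀ i, IsReduced (X i) := by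
  rw [Scheme.ofArrows_mem_precoverage_iff] at hf
  obtain ⟨hsurj, hsm⟩ := hf
  constructor
  · intro hS i
    haveI : Smooth (f i) := hsm i
    exact Groth.Agent.Lib.Helper3.isReduced_of_smooth_scheme (f i)
  · intro hX
    haveI : ∀ s : S, _root_.IsReduced (S.presheaf.stalk s) := by
      intro s
      obtain ⟨i, x, rfl⟩ := hsurj s
      haveI : Smooth (f i) := hsm i
      haveI : IsReduced (X i) := hX i
      letI : Algebra (S.presheaf.stalk ((f i).base x)) ((X i).presheaf.stalk x) :=
        ((f i).stalkMap x).hom.toAlgebra
      haveI : IsLocalHom (algebraMap (S.presheaf.stalk ((f i).base x))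
          ((X i).presheaf.stalk x)) :=
        inferInstanceAs <| IsLocalHom ((f i).stalkMap x).hom
      haveI : Module.Flat (S.presheaf.stalk ((f i).base x)) ((X i).presheaf.stalk x) := by
        have := Flat.stalkMap (f i) x
        exact this
      haveI : Module.FaithfullyFlat (S.presheaf.stalk ((f i).base x))
          ((X i).presheaf.stalk x) := Module.FaithfullyFlat.of_flat_of_isLocalHom
      exact isReduced_of_injective (algebraMap (S.presheaf.stalk ((f i).base x))
        ((X i).presheaf.stalk x)) (FaithfulSMul.algebraMap_injective _ _)
    exact isReduced_of_isReduced_stalk S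

end Groth.Agent.S9841
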