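import Groth.Statements.S9842
import Mathlib.AlgebraicGeometry.PullbackCarrier
import Mathlib.AlgebraicGeometry.Morphisms.UniversallyOpen
-- import your own Groth.Agent.* helpers here

set_option autoImplicit false
open CategoryTheory CategoryTheory.Limits AlgebraicGeometry Opposite
universe u
open Desc

namespace Groth.Agent.S9842

/-- Let E/k be a field extension, Y a scheme over k and f : X ⟶ Y a morphism. Writing Y_E = Y ×_k Spec
E, the morphism f is dominant if and only if its base change X ×_Y Y_E ⟶ Y_E is dominant. -/
theorem result {k E : Type u} [Field k] [Field E] [Algebra k E]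
    {X Y : Scheme.{u}} (f : X ⟶ Y) (q : Y ⟶ Spec (.of k)) :
    IsDominant f ↔
      IsDominant (pullback.snd f (pullback.fst q (Spec.map (CommRingCat.ofHom (algebraMap k E))))) := by
  set ι := Spec.map (CommRingCat.ofHom (algebraMap k E)) with hι
  have hsub : Subsingleton (Spec (.of k)) := inferInstanceAs (Subsingleton (PrimeSpectrum k))
  have huo : UniversallyOpen ι := inferInstance
  have hsurj : Surjective ι := by
    constructor
    intro x
    obtain ⟨y⟩ : Nonempty (Spec (.of E)) := inferInstanceAs (Nonempty (PrimeSpectrum E))
    exact ⟨y, Subsingleton.elim _ _⟩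
  have hπo : IsOpenMap (pullback.fst q ι) := (pullback.fst q ι).isOpenMap
  have hπs : Function.Surjective (pullback.fst q ι) := (pullback.fst q ι).surjective
  constructor
  · intro hf
    constructor
    show Dense (Set.range (pullback.snd f (pullback.fst q ι)))
    rw [Scheme.Pullback.range_snd]
    exact hf.denseRange.preimage hπo
  · intro h
    constructor
    show Dense (Set.range f)
    have hd : Dense (Set.range (pullback.snd f (pullback.fst q ι))) := h.denseRange
    rw [Scheme.Pullback.range_snd] at hd
    intro y
    rw [mem_closure_iff]
    intro V hV hyV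
    obtain ⟨u, rfl⟩ := hπs y
    have hu : u ∈ (pullback.fst q ι) ⁻¹' V := hyV
    obtain ⟨u', hu'V, hu'f⟩ := hd.inter_open_nonempty _
      (hV.preimage (pullback.fst q ι).continuous) ⟨u, hu⟩
    exact ⟨(pullback.fst q ι) u', hu'V, hu'f⟩

end Groth.Agent.S9842
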