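import Groth.Statements.S9843
import Mathlib.AlgebraicGeometry.PullbackCarrier
import Mathlib.AlgebraicGeometry.Morphisms.UniversallyOpen
-- import your own Groth.Agent.* helpers here

set_option autoImplicit false
open CategoryTheory CategoryTheory.Limits AlgebraicGeometry Opposite
universe u
open Desc

namespace Groth.Agent.S9843

/-- Being dominant is fppf local on the base: for every fppf covering family Y i ⟶ Y (flat, locally of
finite presentation, jointly surjective), a morphism X ⟶ Y is dominant if and only if all its base
changes X ×_Y Y i ⟶ Y i are. -/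
theorem result :
    MorphismProperty.IsLocalAtTarget (@IsDominant : MorphismProperty Scheme.{u}) Scheme.fppfPrecoverage := by
  apply MorphismProperty.IsLocalAtTarget.mk_of_iff
  intro X Y f R hR
  have hR1 : ∀ y : Y, ∃ (U : Scheme.{u}) (g : U ⟶ Y), R g ∧ y ∈ Set.range g := by
    have := hR.1
    rw [Presieve.mem_comap_jointlySurjectivePrecoverage_iff] at this
    exact this
  have hR2 : ∀ {U : Scheme.{u}} (g : U ⟶ Y), R g → Flat g ∧ LocallyOfFinitePresentation g := by
    intro U g hg
    exact hR.2 hg
  constructor
  · intro hf U g _ hg
    obtain ⟨h1, h2⟩ := hR2 g hg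
    have hgo : IsOpenMap g := g.isOpenMap
    constructor
    show Dense (Set.range (pullback.snd f g))
    rw [Scheme.Pullback.range_snd]
    exact hf.denseRange.preimage hgo
  · intro h
    constructor
    show Dense (Set.range f)
    intro y
    rw [mem_closure_iff]
    intro V hV hyV
    obtain ⟨U, g, hg, u, rfl⟩ := hR1 y
    have hd : Dense (Set.range (pullback.snd f g)) := (h g hg).denseRange
    rw [Scheme.Pullback.range_snd] at hd
    have hu : u ∈ g ⁻¹' V := hyV
    obtain ⟨u', hu'V, hu'f⟩ := hd.inter_open_nonempty _ (hV.preimage g.continuous) ⟨u, hu⟩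
    exact ⟨g u', hu'V, hu'f⟩

end Groth.Agent.S9843
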