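import Groth.Statements.S9845
-- import your own Groth.Agent.* helpers here

set_option autoImplicit false
open CategoryTheory CategoryTheory.Limits AlgebraicGeometry Opposite
universe u
open Desc

namespace Groth.Agent.S9845

/-- Being an open morphism (open underlying map) is fppf local on the source: for every fppf covering
family g i : X i ⟶ X, a morphism f : X ⟶ Y has open underlying map if and only if every composite g
i ≫ f does. -/
theorem result :
    MorphismProperty.IsLocalAtSource (topologically (fun f => IsOpenMap f) : MorphismProperty Scheme.{u})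
      Scheme.fppfPrecoverage := by
  apply MorphismProperty.IsLocalAtSource.mk_of_iff
  intro X Y f R hR
  have hR1 : ∀ x : X, ∃ (U : Scheme.{u}) (g : U ⟶ X), R g ∧ x ∈ Set.range g := by
    have := hR.1
    rw [Presieve.mem_comap_jointlySurjectivePrecoverage_iff] at this
    exact this
  have hR2 : ∀ {U : Scheme.{u}} (g : U ⟶ X), R g → Flat g ∧ LocallyOfFinitePresentation g := by
    intro U g hg
    exact hR.2 hg
  constructor
  · intro hf U g hg
    obtain ⟨h1, h2⟩ := hR2 g hg
    have hgo : IsOpenMap g := g.isOpenMap
    have hfo : IsOpenMap f := hf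
    show IsOpenMap (g ≫ f)
    have : (⇑(g ≫ f) : U → Y) = ⇑f ∘ ⇑g := by
      ext x; simp
    rw [this]
    exact hfo.comp hgo
  · intro h
    show IsOpenMap f
    intro V hV
    rw [isOpen_iff_forall_mem_open]
    rintro _ ⟨x, hxV, rfl⟩
    obtain ⟨U, g, hg, u, rfl⟩ := hR1 x
    have hgf : IsOpenMap (g ≫ f) := h hg
    refine ⟨(g ≫ f) '' (g ⁻¹' V), ?_, hgf _ (hV.preimage g.continuous), ⟨u, hxV, by simp⟩⟩
    rintro _ ⟨w, hw, rfl⟩
    exact ⟨g w, hw, by simp⟩

end Groth.Agent.S9845
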