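import Groth.Statements.S9848
import Groth.Agent.Lib.Helper5.SyntMorA
import Groth.Agent.Lib.Helper5.LciN
import Groth.Agent.Lib.Helper9.FpqcLoc2

set_option autoImplicit false
open CategoryTheory CategoryTheory.Limits AlgebraicGeometry Opposite
universe u
open Desc

namespace Groth.Agent.S9848

/-- Being syntomic is fpqc local on the base; the descent direction, stated for a single flat surjective
quasi-compact base change g : Y' ⟶ Y: if the base change X ×_Y Y' ⟶ Y' of f : X ⟶ Y is syntomic,
then f is syntomic. (With Zariski-locality on the target this gives the statement for arbitrary fpqc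
coverings; stability of syntomic morphisms under base change is the other direction.) -/
theorem result {X Y Y' : Scheme.{u}} (f : X ⟶ Y) (g : Y' ⟶ Y)
    [Flat g] [Surjective g] [QuasiCompact g] (h : Synt.IsSyntomicMor (pullback.snd f g)) :
    Synt.IsSyntomicMor f := by
  rw [Groth.Agent.Lib.Helper5.SyntMor.isSyntomicMor_iff_flat_and_lciMor] at h ⊢
  obtain ⟨hfl, hl⟩ := h
  have hsq : IsPullback (pullback.fst f g) (pullback.snd f g) f g := IsPullback.of_hasPullback f g
  have hdesc : (Groth.Agent.Lib.Helper5.Lci.LciMor.{u}).DescendsAlong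
      (@AlgebraicGeometry.Surjective ⊓ @AlgebraicGeometry.Flat ⊓ @AlgebraicGeometry.QuasiCompact) :=
    Groth.Agent.Lib.Helper5.Lci.descendsAlong_of_codescendsAlong Groth.Agent.Lib.Helper5.Lci.LciMor
      Groth.Agent.Lib.Helper5.Lci.isLciHom_codescendsAlong_faithfullyFlat
  have hdescF := Groth.Agent.Lib.Helper9.FpqcLoc.descendsAlong_flat_fpqc.{u}
  refine ⟨?_, ?_⟩
  · exact MorphismProperty.of_isPullback_of_descendsAlong (P := @AlgebraicGeometry.Flat)
      (Q := @AlgebraicGeometry.Surjective ⊓ @AlgebraicGeometry.Flat ⊓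
        @AlgebraicGeometry.QuasiCompact) hsq.flip ⟨⟨inferInstance, inferInstance⟩, inferInstance⟩ hfl
  · exact MorphismProperty.of_isPullback_of_descendsAlong (P := Groth.Agent.Lib.Helper5.Lci.LciMor)
      (Q := @AlgebraicGeometry.Surjective ⊓ @AlgebraicGeometry.Flat ⊓
        @AlgebraicGeometry.QuasiCompact) hsq.flip ⟨⟨inferInstance, inferInstance⟩, inferInstance⟩ hl

end Groth.Agent.S9848
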