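import Groth.Statements.S9850
import Groth.Agent.Lib.Helper7.AvrSchFlat
import Groth.Agent.Lib.Helper5.SyntLimA
import Groth.Agent.Lib.Helper5.LciN
import Groth.Agent.Lib.Helper9.FpqcLoc2
import Groth.Agent.Lib.Helper4.QuotFlat
import Groth.Agent.S0114
import Groth.Agent.S9365
import Groth.Agent.S9730
import Groth.Agent.S9758

set_option autoImplicit false
open CategoryTheory CategoryTheory.Limits AlgebraicGeometry Opposite
universe u
open Desc

namespace Groth.Agent.S9850

/-- Let f : X ⟶ Y be surjective, flat and locally of finite presentation and q : Y ⟶ S a morphism such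
that f ≫ q is syntomic. Then q is syntomic, and so is f. -/
theorem result {X Y S : Scheme.{u}} (f : X ⟶ Y) (q : Y ⟶ S)
    [Surjective f] [Flat f] [LocallyOfFinitePresentation f] (h : Synt.IsSyntomicMor (f ≫ q)) :
    Synt.IsSyntomicMor q ∧ Synt.IsSyntomicMor f := by
  have hfq := (Groth.Agent.Lib.Helper5.SyntMor.isSyntomicMor_iff_flat_and_lciMor (f ≫ q)).1 h
  haveI : Flat (f ≫ q) := hfq.1
  haveI : LocallyOfFinitePresentation (f ≫ q) :=
    Groth.Agent.Lib.Helper5.KSyn.lciMor_le_locallyOfFinitePresentation _ hfq.2
  haveI : LocallyOfFinitePresentation q := Groth.Agent.S0114.result f q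
  haveI : Flat q := Groth.Agent.Lib.Helper4.QuotFlat.flat_of_flat_comp f q
  -- the fibres of `f`
  have key : ∀ (s : S) (y' : q.fiber s),
      Synt.IsSyntomicMor (f.fiberToSpecResidueField (q.fiberι s y')) := by
    intro s y'
    have hsq1 : IsPullback (pullback.fst f (q.fiberι s)) (pullback.snd f (q.fiberι s)) f
        (q.fiberι s) := IsPullback.of_hasPullback f (q.fiberι s)
    have hsq2 : IsPullback (q.fiberι s) (q.fiberToSpecResidueField s) q
        (S.fromSpecResidueField s) := IsPullback.of_hasPullback q (S.fromSpecResidueField s)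
    have hsq := hsq1.paste_vert hsq2
    have h1 : Groth.Agent.Lib.Helper25.SyntLocal.SyntMor
        (pullback.snd f (q.fiberι s) ≫ q.fiberToSpecResidueField s) :=
      MorphismProperty.of_isPullback hsq
        ((Groth.Agent.Lib.Helper25.SyntLocal.isSyntomicMor_iff _).1 h)
    have h2 : ∀ x, Synt.IsKoszulAt (pullback.snd f (q.fiberι s) ≫ q.fiberToSpecResidueField s) x :=
      ((Groth.Agent.S9758.result _).2
        ((Groth.Agent.Lib.Helper25.SyntLocal.isSyntomicMor_iff _).2 h1)).2
    haveI : LocallyOfFiniteType q := inferInstance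
    haveI : LocallyOfFiniteType (q.fiberToSpecResidueField s) :=
      MorphismProperty.of_isPullback (P := @LocallyOfFiniteType) hsq2 inferInstance
    obtain ⟨h3, -⟩ := Groth.Agent.Lib.Helper7.AvrSchFlat.koszulAt_of_flat
      (pullback.snd f (q.fiberι s)) (q.fiberToSpecResidueField s) h2
    have h4 : Synt.IsSyntomicMor (pullback.snd f (q.fiberι s)) :=
      (Groth.Agent.S9758.result _).1 ⟨inferInstance, h3⟩
    have hsq3 := isPullback_fiberToSpecResidueField_of_isPullback hsq1 y'
    have h5 : Groth.Agent.Lib.Helper25.SyntLocal.SyntMor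
        ((pullback.snd f (q.fiberι s)).fiberToSpecResidueField y') :=
      MorphismProperty.of_isPullback
        (IsPullback.of_hasPullback (pullback.snd f (q.fiberι s))
          ((q.fiber s).fromSpecResidueField y'))
        ((Groth.Agent.Lib.Helper25.SyntLocal.isSyntomicMor_iff _).1 h4)
    rw [Groth.Agent.Lib.Helper5.SyntLim.syntMor_iff] at h5
    rw [Groth.Agent.Lib.Helper5.SyntMor.isSyntomicMor_iff_flat_and_lciMor]
    have hdesc : (Groth.Agent.Lib.Helper5.Lci.LciMor.{u}).DescendsAlong
        (@AlgebraicGeometry.Surjective ⊓ @AlgebraicGeometry.Flat ⊓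
          @AlgebraicGeometry.QuasiCompact) :=
      Groth.Agent.Lib.Helper5.Lci.descendsAlong_of_codescendsAlong
        Groth.Agent.Lib.Helper5.Lci.LciMor
        Groth.Agent.Lib.Helper5.Lci.isLciHom_codescendsAlong_faithfullyFlat
    have hdescF := Groth.Agent.Lib.Helper9.FpqcLoc.descendsAlong_flat_fpqc.{u}
    have hQ : (@AlgebraicGeometry.Surjective ⊓ @AlgebraicGeometry.Flat ⊓
        @AlgebraicGeometry.QuasiCompact : MorphismProperty Scheme.{u})
        (Spec.map ((q.fiberι s).residueFieldMap y')) := by
      have hff : ((q.fiberι s).residueFieldMap y').hom.FaithfullyFlat := by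
        letI : Algebra (Y.residueField (q.fiberι s y')) ((q.fiber s).residueField y') :=
          ((q.fiberι s).residueFieldMap y').hom.toAlgebra
        change Module.FaithfullyFlat (Y.residueField (q.fiberι s y'))
          ((q.fiber s).residueField y')
        infer_instance
      have := (flat_and_surjective_SpecMap_iff _).2 hff
      exact ⟨⟨this.2, this.1⟩, inferInstance⟩
    exact ⟨MorphismProperty.of_isPullback_of_descendsAlong (P := @AlgebraicGeometry.Flat)
        hsq3.flip hQ h5.1,
      MorphismProperty.of_isPullback_of_descendsAlong (P := Groth.Agent.Lib.Helper5.Lci.LciMor)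
        hsq3.flip hQ h5.2⟩
  have hf : Synt.IsSyntomicMor f := by
    apply Groth.Agent.S9365.result f
    intro y
    have hy : y ∈ Set.range (q.fiberι (q y)) := by
      rw [Scheme.Hom.range_fiberι]
      rfl
    obtain ⟨y', hy'⟩ := hy
    have h6 := key _ y'
    rw [hy'] at h6
    exact h6
  refine ⟨?_, hf⟩
  have hK : ∀ x, Synt.IsKoszulAt (f ≫ q) x := ((Groth.Agent.S9758.result _).2 h).2
  have hK' := (Groth.Agent.S9730.result f hf q).1 hK
  exact (Groth.Agent.S9758.result q).1 ⟨inferInstance, hK'⟩

end Groth.Agent.S9850
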