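import Groth.Statements.S9855
import Groth.Agent.Lib.Helper9.ZarRef5
import Groth.Agent.Lib.Helper9.DescRef

set_option autoImplicit false
open CategoryTheory CategoryTheory.Limits AlgebraicGeometry Opposite
universe u
open Desc

namespace Groth.Agent.S9855

/-- Let u i : U i ⟶ S and v j : V j ⟶ S be two families of morphisms with target S and (α, g) a morphism
of families over the identity of S, i.e. g i : U i ⟶ V (α i) with g i ≫ v (α i) = u i. Assume that
for every index j the family of those g i with α i = j is a Zariski covering of V j (jointly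
surjective open immersions). Then the pullback functor from descent data for schemes relative to (v
j) to descent data relative to (u i) is an equivalence of categories. -/
theorem result {ι κ : Type u} {S : Scheme.{u}} {U : ι → Scheme.{u}} {V : κ → Scheme.{u}}
    (u : ∀ i, U i ⟶ S) (v : ∀ j, V j ⟶ S) (α : ι → κ) (g : ∀ i, U i ⟶ V (α i)) (w : ∀ i, g i ≫ v (α i) = u i)
    (hcov : ∀ j, Presieve.ofArrows (fun i : {i // α i = j} => U i.1)
      (fun i => g i.1 ≫ eqToHom (congrArg V i.2)) ∈ Scheme.zariskiPrecoverage (V j)) :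
    (Desc.pullDDFam (f := v) (f' := u) (α := α) (p := 𝟙 S) (p' := g) (fun i => (w i).trans (Category.comp_id (u i)).symm)).IsEquivalence := by
  have w' : ∀ i, g i ≫ v (α i) = u i ≫ 𝟙 S := fun i => (w i).trans (Category.comp_id (u i)).symm
  have H : Groth.Agent.Lib.Helper9.DescFF.LocRef u v :=
    Groth.Agent.Lib.Helper9.DescFF.locRef_of_refinement v u g w
      (fun j => Scheme.zariskiPrecoverage_le_fpqcPrecoverage _ (hcov j))
  have hfull := Groth.Agent.Lib.Helper9.DescFF.full_pullDDFam w' H
  have hfaith := Groth.Agent.Lib.Helper9.DescFF.faithful_pullDDFam w' H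
  refine ⟨hfaith, hfull, ⟨fun D => ?_⟩⟩
  have hA : ∀ j, ∃ (Y : Over (V j)) (σ : Groth.Agent.Lib.Helper9.DescSec.Sec D (Y.hom ≫ v j)),
      Groth.Agent.Lib.Helper9.DescSec.IsUnivOn (v j) D Y σ := by
    intro j
    have hc := (Scheme.ofArrows_mem_precoverage_iff (P := @IsOpenImmersion)).1 (hcov j)
    haveI : ∀ a : {i // α i = j}, IsOpenImmersion (g a.1 ≫ eqToHom (congrArg V a.2)) := hc.2
    refine Groth.Agent.Lib.Helper9.DescSec.exists_isUnivOn_of_cover D (v j)
      (A := {i // α i = j}) (fun a => a.1) (fun a => g a.1 ≫ eqToHom (congrArg V a.2)) ?_ hc.1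
    rintro ⟨i, rfl⟩
    simp [w]
  choose Y σ hu using hA
  haveI := Groth.Agent.Lib.Helper9.DescSec.isIso_betaHom v Y σ hu g w'
  exact ⟨Groth.Agent.Lib.Helper9.DescSec.repDD v Y σ hu,
    ⟨asIso (Groth.Agent.Lib.Helper9.DescSec.betaHom v Y σ hu g w')⟩⟩


end Groth.Agent.S9855
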