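import Groth.Statements.S9875
import Groth.Agent.Lib.Helper3.AlgSpFibre
import Mathlib.CategoryTheory.Limits.FullSubcategory

set_option autoImplicit false
universe u
open CategoryTheory CategoryTheory.Limits AlgebraicGeometry
open AlgSp

namespace Groth.Agent.S9875

/-- The category of algebraic spaces over `S` has fibre products, and the inclusion functor into fppf
sheaves of sets over `S` preserves them (the fibre product of sheaves of two algebraic spaces over a
third is an algebraic space and is their fibre product as algebraic spaces). -/
theorem result (S : Scheme.{u}) :
    HasPullbacks (AlgSp.Space S) ∧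
      PreservesLimitsOfShape WalkingCospan (ObjectProperty.ι (AlgSp.IsAlgSpace (S := S))) := by
  have hcl : ObjectProperty.IsClosedUnderLimitsOfShape (AlgSp.IsAlgSpace (S := S)) WalkingCospan := by
    refine ⟨?_⟩
    rintro P ⟨h⟩
    have sq := IsPullback.of_isLimit_cone h.isLimit
    exact Groth.Agent.Lib.Helper3.isAlgSpace_of_isPullback' (h.prop_diag_obj WalkingCospan.one)
      (h.prop_diag_obj WalkingCospan.left) (h.prop_diag_obj WalkingCospan.right) sq
  have hP : HasPullbacks (AlgSp.Sp S) := inferInstance
  exact ⟨inferInstance, inferInstance⟩

end Groth.Agent.S9875
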