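import Groth.Statements.S9877
import Groth.Agent.Lib.Helper3.SpCoprod4

set_option autoImplicit false
universe u
open CategoryTheory CategoryTheory.Limits AlgebraicGeometry
open AlgSp

namespace Groth.Agent.S9877

/-- Let `F` be an fppf sheaf of sets over `S` and `F_i ⟶ F` a family of maps of sheaves such that each
`F_i` is an algebraic space over `S`, each `F_i ⟶ F` is representable by open immersions, the
induced map from the coproduct `∐ F_i` (in sheaves) to `F` is a surjective map of sheaves, and `∐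
F_i` is an algebraic space. Then `F` is an algebraic space over `S`. -/
theorem result (S : Scheme.{u}) (F : AlgSp.Sp S) {ι : Type u} (Fi : ι → AlgSp.Sp S)
    (f : ∀ i, Fi i ⟶ F) (halg : ∀ i, AlgSp.IsAlgSpace (Fi i))
    (hopen : ∀ i, AlgSp.RepWith @IsOpenImmersion (f i)) (c : Cofan Fi) (hc : IsColimit c)
    (hsurj : Sheaf.IsLocallySurjective (Cofan.IsColimit.desc hc f)) (hcop : AlgSp.IsAlgSpace c.pt) :
    AlgSp.IsAlgSpace F := by
  refine Groth.Agent.Lib.Helper3.isAlgSpace_of_zarCover Fi f ⟨hopen, fun x => ?_⟩ halg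
  obtain ⟨K, _, str, a, rfl⟩ := Groth.Agent.Lib.Helper3.Points.exists_hom x
  rw [Groth.Agent.S9906.mk_fieldPtOfHom_eq_ofPt]
  have hmem := hsurj.imageSieve_mem ((AlgSp.J S).uliftYonedaEquiv.{u+1} a)
  obtain ⟨T', g, t', ⟨b, hb⟩, ht'⟩ :=
    Groth.Agent.Lib.Helper3.exists_mem_sieve_of_mem_J _ hmem
      (IsLocalRing.closedPoint K : ↥(Over.mk str).left)
  have hb' : (AlgSp.J S).uliftYonedaEquiv.{u+1}.symm b ≫ Cofan.IsColimit.desc hc f =
      (AlgSp.yon S).map g ≫ a := by
    apply (AlgSp.J S).uliftYonedaEquiv.{u+1}.injective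
    rw [(AlgSp.J S).uliftYonedaEquiv_comp.{u+1}, Equiv.apply_symm_apply,
      ← (AlgSp.J S).uliftYonedaEquiv_naturality]
    exact hb
  obtain ⟨i, z, hz⟩ := Groth.Agent.Lib.Helper3.SpCoprod.exists_mem_range_map_inj c hc
    (AlgSp.Points.ofPt ((AlgSp.J S).uliftYonedaEquiv.{u+1}.symm b) t')
  refine ⟨i, z, ?_⟩
  rw [← ht', ← Groth.Agent.Lib.Helper3.Points.ofPt_yon_map_comp, ← hb', ← AlgSp.Points.map_ofPt,
    ← hz, ← AlgSp.Points.map_comp, Cofan.IsColimit.fac]

end Groth.Agent.S9877
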