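import Groth.Statements.S9880
import Groth.Agent.Lib.Helper3.SpCoprod

set_option autoImplicit false
universe u
open CategoryTheory CategoryTheory.Limits AlgebraicGeometry
open AlgSp

namespace Groth.Agent.S9880

/-- Let `F_i` be a family of fppf sheaves of sets over `S` whose coproduct `∐ F_i` in sheaves (any
colimit cofan) is an algebraic space over `S`. Then each `F_i` is an algebraic space over `S`. -/
theorem result (S : Scheme.{u}) {ι : Type u} (F : ι → AlgSp.Sp S) (c : Cofan F)
    (hc : IsColimit c) (h : AlgSp.IsAlgSpace c.pt) (i : ι) : AlgSp.IsAlgSpace (F i) := by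
  have := Groth.Agent.Lib.Helper3.SpCoprod.mono_inj c hc i
  exact Groth.Agent.Lib.Helper3.isAlgSpace_of_mono_representable h (c.inj i)
    (Groth.Agent.Lib.Helper3.SpCoprod.repWith_inj c hc i).1

end Groth.Agent.S9880
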