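import Groth.Statements.S9887
-- import your own Groth.Agent.* helpers here

set_option autoImplicit false
universe u
open CategoryTheory CategoryTheory.Limits AlgebraicGeometry
open AlgSp

namespace Groth.Agent.S9887

/-- Let `a : X ⟶ Y` be a morphism of algebraic spaces over `S` and `q : h_V ⟶ Y` representable etale and
surjective with `V` a scheme over `S`. Then there exist a scheme `U` over `S`, a representable etale
and surjective `p : h_U ⟶ X` and a morphism `α : U ⟶ V` with `p ≫ a = h_α ≫ q`. -/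
theorem result (S : Scheme.{u}) (X Y : AlgSp.Space S) (a : X ⟶ Y) {V : Over S}
    (q : (AlgSp.yon S).obj V ⟶ Y.obj) (hqe : AlgSp.RepWith @Etale q) (hqs : AlgSp.RepWith @Surjective q) :
    ∃ (U : Over S) (p : (AlgSp.yon S).obj U ⟶ X.obj) (α : U ⟶ V),
      AlgSp.RepWith @Etale p ∧ AlgSp.RepWith @Surjective p ∧ p ≫ a.hom = (AlgSp.yon S).map α ≫ q := by
  obtain ⟨U₀, p₀, hp₀e, hp₀s⟩ := X.property.atlas
  have sq := hqe.rep.isPullback (p₀ ≫ a.hom)
  obtain ⟨α, hα⟩ := (AlgSp.yon S).map_surjective (hqe.rep.fst (p₀ ≫ a.hom))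
  refine ⟨hqe.rep.pullback (p₀ ≫ a.hom), (AlgSp.yon S).map (hqe.rep.snd (p₀ ≫ a.hom)) ≫ p₀, α,
    ?_, ?_, ?_⟩
  · exact MorphismProperty.comp_mem _ _ _ (MorphismProperty.of_isPullback sq hqe) hp₀e
  · exact MorphismProperty.comp_mem _ _ _ (MorphismProperty.of_isPullback sq hqs) hp₀s
  · rw [hα, Category.assoc, sq.w]

end Groth.Agent.S9887
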