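import Groth.Statements.S9890
import Groth.Agent.S9889
import Groth.Agent.Lib.Helper15.CofanSch2
import Groth.Agent.Lib.Helper3.QuotRelMain
import Groth.Agent.Lib.Helper3.AlgSpDiag
import Groth.Agent.Lib.Helper3.FppfLocal2
import Mathlib.AlgebraicGeometry.Morphisms.UniversallyInjective
-- import your own Groth.Agent.* helpers here

set_option autoImplicit false
universe u
open CategoryTheory CategoryTheory.Limits AlgebraicGeometry
open AlgSp

namespace Groth.Agent.S9890

section H
namespace W1
open Groth.Agent.Lib.Helper15 Groth.Agent.Lib.Helper3 Groth.Agent.Lib.Helper3.QuotRel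

variable {S : Scheme.{u}} {U : Over S} {G : Type u} [Group G] [Finite G] (ρ : G →* Aut U)

set_option backward.isDefEq.respectTransparency.types false in
theorem main (hfree : ∀ (g : G) (x : U.left), g ≠ 1 →
      U.left.fromSpecResidueField x ≫ (ρ g).hom.left ≠ U.left.fromSpecResidueField x)
    (c : Cofan (fun _ : G => U)) (hc : IsColimit c) (s t : c.pt ⟶ U)
    (hs : ∀ g, c.inj g ≫ s = 𝟙 U) (ht : ∀ g, c.inj g ≫ t = (ρ g).hom) :
    (QuasiSeparated U.hom → AlgSp.IsQuasiSeparatedSp (QuotSh.quot Scheme.fppfPrecoverage s t)) ∧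
      (IsSeparated U.hom → AlgSp.IsSeparatedSp (QuotSh.quot Scheme.fppfPrecoverage s t)) := by
  have hE := Groth.Agent.S9889.W1.main ρ hfree c hc s t hs ht
  obtain ⟨hP, hA⟩ := isPresentation_and_isAlgSpace s t hE
  have hcL := Groth.Agent.S9889.W1.hcL hc
  have key : ∀ g, (c.inj g).left ≫ (prod.lift t s).left = (prod.lift (ρ g).hom (𝟙 U)).left := by
    intro g
    rw [← Over.comp_left]
    congr 1
    apply Limits.prod.hom_ext
    · rw [Category.assoc, prod.lift_fst, prod.lift_fst, ht]
    · rw [Category.assoc, prod.lift_snd, prod.lift_snd, hs]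
  have sec : ∀ g, (prod.lift (ρ g).hom (𝟙 U)).left ≫ (prod.snd : U ⨯ U ⟶ U).left = 𝟙 U.left := by
    intro g
    rw [← Over.comp_left, prod.lift_snd]; rfl
  constructor
  · intro hqs
    haveI := isLocalAtTarget_fppf_quasiCompact.{u}
    rw [AlgSp.IsQuasiSeparatedSp, repWith_diag_iff _ hA.diag (quotMap s t) hP.etale hP.surjective
      s t hP.isPullback @QuasiCompact]
    have h2 : QuasiSeparated (prod.snd : U ⨯ U ⟶ U).left := by
      rw [← Over.prodLeftIsoPullback_hom_snd]
      infer_instance
    refine CofanSch.quasiCompact_of_isColimit hcL (X := (U ⨯ U).left) (prod.lift t s).left ?_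
    intro g
    change QuasiCompact ((c.inj g).left ≫ (prod.lift t s).left)
    rw [key]
    have h3 : QuasiCompact ((prod.lift (ρ g).hom (𝟙 U)).left ≫ (prod.snd : U ⨯ U ⟶ U).left) := by
      rw [sec]; infer_instance
    exact QuasiCompact.of_comp _ (prod.snd : U ⨯ U ⟶ U).left
  · intro hsep
    haveI := isLocalAtTarget_fppf_isClosedImmersion.{u}
    rw [AlgSp.IsSeparatedSp, repWith_diag_iff _ hA.diag (quotMap s t) hP.etale hP.surjective
      s t hP.isPullback @IsClosedImmersion]
    have h2 : IsSeparated (prod.snd : U ⨯ U ⟶ U).left := by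
      rw [← Over.prodLeftIsoPullback_hom_snd]
      infer_instance
    refine CofanSch.isClosedImmersion_of_isColimit hcL (X := (U ⨯ U).left) (prod.lift t s).left ?_ ?_
    · intro g
      change IsClosedImmersion ((c.inj g).left ≫ (prod.lift t s).left)
      rw [key]
      have h3 : IsClosedImmersion ((prod.lift (ρ g).hom (𝟙 U)).left ≫ (prod.snd : U ⨯ U ⟶ U).left) := by
        rw [sec]; infer_instance
      exact IsClosedImmersion.of_comp _ (prod.snd : U ⨯ U ⟶ U).left
    · haveI : Mono (prod.lift t s) := by
        refine ⟨fun {T} r r' h => hE.injective T r r' ?_ ?_⟩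
        · have := congrArg (fun m => m ≫ (prod.fst : U ⨯ U ⟶ U)) h
          simpa only [Category.assoc, prod.lift_fst] using this
        · have := congrArg (fun m => m ≫ (prod.snd : U ⨯ U ⟶ U)) h
          simpa only [Category.assoc, prod.lift_snd] using this
      haveI : Mono (prod.lift t s).left := inferInstance
      exact (prod.lift t s).left.injective

end W1
end H


/-- Let a finite group `G` act freely (no non-identity element fixes a point together with its residue
field) by `S`-automorphisms on a scheme `U` over `S`, and let `s, t : R = ∐_{g ∈ G} U ⟶ U` be the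
identity and the action. When `U ⟶ S` is quasi-separated, so is the quotient sheaf `U/G = U/R` over
`S`; when `U ⟶ S` is separated, `U/G` is also separated over `S`. -/
theorem result (S : Scheme.{u}) (U : Over S) (G : Type u) [Group G] [Finite G]
    (ρ : G →* Aut U)
    (hfree : ∀ (g : G) (x : U.left), g ≠ 1 →
      U.left.fromSpecResidueField x ≫ (ρ g).hom.left ≠ U.left.fromSpecResidueField x)
    (c : Cofan (fun _ : G => U)) (hc : IsColimit c) (s t : c.pt ⟶ U)
    (hs : ∀ g, c.inj g ≫ s = 𝟙 U) (ht : ∀ g, c.inj g ≫ t = (ρ g).hom) :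
    (QuasiSeparated U.hom → AlgSp.IsQuasiSeparatedSp (QuotSh.quot Scheme.fppfPrecoverage s t)) ∧
      (IsSeparated U.hom → AlgSp.IsSeparatedSp (QuotSh.quot Scheme.fppfPrecoverage s t)) := by
  exact W1.main ρ hfree c hc s t hs ht

end Groth.Agent.S9890
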