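import Groth.Statements.S9891
import Mathlib.CategoryTheory.Limits.Preserves.Shapes.Equalizers
import Mathlib.CategoryTheory.Limits.Preserves.Yoneda
import Mathlib.CategoryTheory.Limits.Constructions.Over.Connected

set_option autoImplicit false
universe u
open CategoryTheory CategoryTheory.Limits AlgebraicGeometry
open AlgSp

namespace Groth.Agent.S9891

/-- The relative diagonal of a relatively representable morphism is relatively representable. -/
theorem relativelyRepresentable_diagonal {C D : Type*} [Category C] [Category D] (F : C ⥤ D)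
    [F.Full] [F.Faithful] [HasEqualizers C] [PreservesLimitsOfShape WalkingParallelPair F]
    [HasPullbacks D] {X Y : D} (a : X ⟶ Y) (ha : F.relativelyRepresentable a) :
    F.relativelyRepresentable (pullback.diagonal a) := by
  intro T g
  have hx : (g ≫ pullback.fst a a) ≫ a = (g ≫ pullback.snd a a) ≫ a := by
    simp only [Category.assoc, pullback.condition]
  obtain ⟨V, sndV, fstV, sqV⟩ := ha ((g ≫ pullback.fst a a) ≫ a)
  have hw₁ : (g ≫ pullback.fst a a) ≫ a = 𝟙 (F.obj T) ≫ (g ≫ pullback.fst a a) ≫ a := by simp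
  have hw₂ : (g ≫ pullback.snd a a) ≫ a = 𝟙 (F.obj T) ≫ (g ≫ pullback.fst a a) ≫ a := by
    simp [hx]
  obtain ⟨s₁, hs₁⟩ := F.map_surjective (sqV.lift (g ≫ pullback.fst a a) (𝟙 _) hw₁)
  obtain ⟨s₂, hs₂⟩ := F.map_surjective (sqV.lift (g ≫ pullback.snd a a) (𝟙 _) hw₂)
  have hs₁f : F.map s₁ ≫ fstV = g ≫ pullback.fst a a := by rw [hs₁, sqV.lift_fst]
  have hs₂f : F.map s₂ ≫ fstV = g ≫ pullback.snd a a := by rw [hs₂, sqV.lift_fst]
  have hs₁s : F.map s₁ ≫ F.map sndV = 𝟙 _ := by rw [hs₁, sqV.lift_snd]
  have hs₂s : F.map s₂ ≫ F.map sndV = 𝟙 _ := by rw [hs₂, sqV.lift_snd]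
  have hlim := isLimitOfHasEqualizerOfPreservesLimit F s₁ s₂
  have hι : F.map (equalizer.ι s₁ s₂) ≫ g ≫ pullback.fst a a =
      F.map (equalizer.ι s₁ s₂) ≫ g ≫ pullback.snd a a := by
    rw [← hs₁f, ← hs₂f, ← Category.assoc, ← Category.assoc, ← F.map_comp, ← F.map_comp,
      equalizer.condition]
  refine ⟨equalizer s₁ s₂, equalizer.ι s₁ s₂, F.map (equalizer.ι s₁ s₂) ≫ g ≫ pullback.fst a a, ?_⟩
  refine IsPullback.mk' ?_ ?_ ?_
  · apply pullback.hom_ext
    · simp only [Category.assoc, pullback.diagonal_fst, Category.comp_id]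
    · simp only [Category.assoc, pullback.diagonal_snd, Category.comp_id, hι]
  · intro Z φ φ' _ h
    exact Fork.IsLimit.hom_ext hlim h
  · intro Z z t hzt
    have h1 : z = t ≫ g ≫ pullback.fst a a := by
      have := hzt =≫ pullback.fst a a
      simpa only [Category.assoc, pullback.diagonal_fst, Category.comp_id] using this
    have h2 : z = t ≫ g ≫ pullback.snd a a := by
      have := hzt =≫ pullback.snd a a
      simpa only [Category.assoc, pullback.diagonal_snd, Category.comp_id] using this
    have ht : t ≫ F.map s₁ = t ≫ F.map s₂ := by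
      apply sqV.hom_ext
      · rw [Category.assoc, Category.assoc, hs₁f, hs₂f, ← h1, ← h2]
      · rw [Category.assoc, Category.assoc, hs₁s, hs₂s]
    obtain ⟨l, hl⟩ := Fork.IsLimit.lift' hlim t ht
    refine ⟨l, ?_, hl⟩
    have hl' : l ≫ F.map (equalizer.ι s₁ s₂) = t := hl
    rw [← Category.assoc, hl', ← h1]

/-- Let `a : F ⟶ G` be a map of presheaves of sets on schemes over `S` which is representable by
schemes. Then the relative diagonal `F ⟶ F ×_G F` is representable by schemes. -/
theorem result (S : Scheme.{u}) (F G : AlgSp.PSp S) (a : F ⟶ G)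
    (ha : (AlgSp.pyon S).relativelyRepresentable a) :
    (AlgSp.pyon S).relativelyRepresentable (pullback.diagonal a) := by
  exact relativelyRepresentable_diagonal (AlgSp.pyon S) a ha

end Groth.Agent.S9891
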