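import Groth.Statements.S9894
import Groth.Agent.Lib.Helper15.EffDesc
-- import your own Groth.Agent.* helpers here

set_option autoImplicit false
universe u
open CategoryTheory CategoryTheory.Limits AlgebraicGeometry
open AlgSp

namespace Groth.Agent.S9894

section H
set_option backward.isDefEq.respectTransparency.types false
namespace W1
open Groth.Agent.Lib.Helper15.EffDesc

theorem main (S : Scheme.{u}) (P : MorphismProperty Scheme.{u})
    [P.IsStableUnderBaseChange] [P.IsLocalAtTarget Scheme.fppfPrecoverage]
    (hdesc : ∀ ⦃X' S' : Scheme.{u}⦄ (p : X' ⟶ S'), Surjective p → Flat p → LocallyOfFinitePresentation p →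
      ∀ D : Desc.SchDD p, P D.obj.hom → (Desc.toDD p).essImage D)
    (F : AlgSp.Space S) (G : AlgSp.Sp S) (f : G ⟶ F.obj) {U V : Over S} (q : (AlgSp.yon S).obj U ⟶ F.obj)
    (hqe : AlgSp.RepWith @Etale q) (hqs : AlgSp.RepWith @Surjective q) (fst : (AlgSp.yon S).obj V ⟶ G)
    (g : V ⟶ U) (sq : IsPullback fst ((AlgSp.yon S).map g) f q) (hP : P g.left) :
    AlgSp.IsAlgSpace G ∧ AlgSp.RepWith P f := by
  have hrep : Representable f := by
    intro T x
    obtain ⟨T', a, u₀, sqT⟩ := hqe.rep x
    obtain ⟨u, rfl⟩ := (yon S).map_surjective u₀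
    have hae : Etale a.left := hqe.property x _ a sqT
    have has : Surjective a.left := hqs.property x _ a sqT
    have sqV : IsPullback ((yon S).map (pullback.fst g u) ≫ fst) ((yon S).map (pullback.snd g u)) f
        ((yon S).map a ≫ x) := by
      have h1 := Groth.Agent.S9884.isPullback_base_change sq u
      rw [sqT.w] at h1
      exact h1
    have hD : P (dd sqV).obj.hom :=
      MorphismProperty.of_isPullback ((IsPullback.of_hasPullback g u).map (Over.forget S)) hP
    obtain ⟨W, ⟨e⟩⟩ := hdesc a.left has inferInstance inferInstance (dd sqV) hD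
    obtain ⟨γW, sqW⟩ := exists_isPullback sqV W e hae has
    exact ⟨WS W, wT W, γW, sqW⟩
  haveI hls : Sheaf.IsLocallySurjective q :=
    Groth.Agent.S9883.isLocallySurjective_of_etale_surjective q hqe hqs
  have hPf : RepWith P f := Groth.Agent.S9884.result S G F.obj ((yon S).obj U) f hrep q
    ((yon S).obj V) fst ((yon S).map g) sq P ((repWith_yon_map_iff P g).2 hP)
  exact ⟨Groth.Agent.Lib.Helper27.PshBootDiag.isAlgSpace_of_repBySp f hrep.repBySp F.property, hPf⟩

end W1
end H


/-- Let `P` be a property of morphisms of schemes which is stable under base change, fppf local on the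
base, and such that morphisms of type `P` satisfy descent: for every surjective, flat, locally
finitely presented `p : X' ⟶ S'` every descent datum relative to `p` whose scheme has structure
morphism in `P` is effective (descent is asked along single fppf covers, the case the argument
uses). Let `F` be an algebraic space over `S`, `G` an fppf sheaf of sets with a map `f : G ⟶ F`, and
`q : h_U ⟶ F` representable etale and surjective such that the base change of `f` along `q` is
represented by a scheme `V` over `S` with `g : V ⟶ U` having `P`. Then `G` is an algebraic space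
over `S` and `f` is representable by schemes with property `P`. -/
theorem result (S : Scheme.{u}) (P : MorphismProperty Scheme.{u})
    [P.IsStableUnderBaseChange] [P.IsLocalAtTarget Scheme.fppfPrecoverage]
    (hdesc : ∀ ⦃X' S' : Scheme.{u}⦄ (p : X' ⟶ S'), Surjective p → Flat p → LocallyOfFinitePresentation p →
      ∀ D : Desc.SchDD p, P D.obj.hom → (Desc.toDD p).essImage D)
    (F : AlgSp.Space S) (G : AlgSp.Sp S) (f : G ⟶ F.obj) {U V : Over S} (q : (AlgSp.yon S).obj U ⟶ F.obj)
    (hqe : AlgSp.RepWith @Etale q) (hqs : AlgSp.RepWith @Surjective q) (fst : (AlgSp.yon S).obj V ⟶ G)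
    (g : V ⟶ U) (sq : IsPullback fst ((AlgSp.yon S).map g) f q) (hP : P g.left) :
    AlgSp.IsAlgSpace G ∧ AlgSp.RepWith P f := by
  exact W1.main S P hdesc F G f q hqe hqs fst g sq hP

end Groth.Agent.S9894
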