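import Groth.Statements.S9899
import Groth.Agent.Lib.Helper15.JShriek2
-- import your own Groth.Agent.* helpers here

set_option autoImplicit false
universe u
open CategoryTheory CategoryTheory.Limits AlgebraicGeometry
open AlgSp

namespace Groth.Agent.S9899

section H
set_option backward.isDefEq.respectTransparency.types false
namespace W1
open AlgSp Opposite Groth.Agent.Lib.Helper15.JShriek Groth.Agent.Lib.Helper15.BaseChangeSp

theorem main {S S' : Scheme.{u}} (g : S ⟶ S') (F : AlgSp.Space S) (T : Over S)
    (f : (AlgSp.yon S).obj T ⟶ F.obj) (P : MorphismProperty Scheme.{u}) [P.IsStableUnderBaseChange]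
    [P.IsLocalAtTarget Scheme.fppfPrecoverage] :
    AlgSp.RepWith (S := S') P (((Over.map g).sheafPullback (Type (u + 1)) (AlgSp.J S) (AlgSp.J S')).map f) ↔ AlgSp.RepWith P f := by
  have hF := F.property
  obtain ⟨U, p, hpe, hps⟩ := hF.atlas
  obtain ⟨R, s, fst, sqR⟩ := (Functor.relativelyRepresentable.of_diag hF.diag p) p
  obtain ⟨t, rfl⟩ := (yon S).map_surjective fst
  obtain ⟨-, hqe', hqs'⟩ := chart_jShriek g hF p hpe hps s t sqR
  obtain ⟨W, a, fstW, sqW⟩ := hpe.rep f
  obtain ⟨b, rfl⟩ := (yon S).map_surjective fstW
  have sq : IsPullback ((yon S).map a) ((yon S).map b) f p := sqW.flip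
  have sq' := isPullback_chartMap g hF f p a b sq
  have h1 : RepWith P f ↔ P b.left :=
    Groth.Agent.S9883.result S F ⟨(yon S).obj T, IsAlgSpace.yon_obj T⟩ f
      (Functor.relativelyRepresentable.of_diag hF.diag f) p hpe hps _ b sq P
  have hF' : IsAlgSpace ((jShriek g).obj F.obj) := isAlgSpace_jShriek g hF
  have h2 : RepWith (S := S') P (chartMap g f) ↔ P ((Over.map g).map b).left :=
    Groth.Agent.S9883.result S' ⟨(jShriek g).obj F.obj, hF'⟩
      ⟨(yon S').obj ((Over.map g).obj T), IsAlgSpace.yon_obj _⟩ (chartMap g f)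
      (Functor.relativelyRepresentable.of_diag hF'.diag _) (chartMap g p) hqe' hqs' _ _ sq' P
  have h3 : RepWith (S := S') P (chartMap g f) ↔ RepWith (S := S') P ((jShriek g).map f) :=
    MorphismProperty.cancel_left_of_respectsIso (RepWith (S := S') P) (θ g T).inv _
  rw [← h3, h2, h1]
  rfl

end W1
end H


/-- Let `g : S ⟶ S'` be a morphism of schemes and `j_!` the left adjoint of the restriction functor from
fppf sheaves of sets on schemes over `S'` to those on schemes over `S`. Let `F` be an algebraic
space over `S`, `T` a scheme over `S` and `f : h_T ⟶ F`, and let `P` be a property of morphisms of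
schemes stable under base change and fppf local on the base. Then `j_!(f)`, which is the morphism
`h_{T} ⟶ j_! F` over `S'` obtained from `f` up to the identification `j_! h_T ≅ h_T` (`T` viewed
over `S'`), has `P` in the representable sense if and only if `f` does. -/
theorem result {S S' : Scheme.{u}} (g : S ⟶ S') (F : AlgSp.Space S) (T : Over S)
    (f : (AlgSp.yon S).obj T ⟶ F.obj) (P : MorphismProperty Scheme.{u}) [P.IsStableUnderBaseChange]
    [P.IsLocalAtTarget Scheme.fppfPrecoverage] :
    AlgSp.RepWith (S := S') P (((Over.map g).sheafPullback (Type (u + 1)) (AlgSp.J S) (AlgSp.J S')).map f) ↔ AlgSp.RepWith P f := by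
  exact W1.main g F T f P

end Groth.Agent.S9899
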