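import Groth.Statements.S9901
import Groth.Agent.S9900

set_option autoImplicit false
universe u
open CategoryTheory CategoryTheory.Limits AlgebraicGeometry
open AlgSp

namespace Groth.Agent.S9901

open Groth.Agent.Lib.Helper3

theorem repWith_mapDesc {S : Scheme.{u}} (P : MorphismProperty Scheme.{u})
    {X Y Z T : AlgSp.Sp S} (f : X ⟶ Z) (g : Y ⟶ Z) (h : Z ⟶ T)
    (hd : AlgSp.RepWith P (pullback.diagonal h)) : AlgSp.RepWith P (pullback.mapDesc f g h) :=
  MorphismProperty.of_isPullback (pullback_map_diagonal_isPullback f g h) hd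

/-- For f : X -> Z, g : Y -> Z and h : Z -> T, the canonical map X x_Z Y -> X x_T Y is representable by
schemes and, in the representable sense, a separated monomorphism that is locally of finite type and
locally quasi-finite; it is a closed immersion when h is separated and quasi-compact when h is
quasi-separated. (The published lemma also shows that the map is an immersion when h is locally
separated; this row omits that clause.) -/
theorem result {S : Scheme.{u}} {X Y Z T : AlgSp.Space S} (f : X ⟶ Z) (g : Y ⟶ Z)
    (h : Z ⟶ T) :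
    AlgSp.Representable (pullback.mapDesc f.hom g.hom h.hom) ∧
    AlgSp.RepWith @LocallyOfFiniteType (pullback.mapDesc f.hom g.hom h.hom) ∧
    AlgSp.RepWith (@LocallyQuasiFinite ⊓ @LocallyOfFiniteType) (pullback.mapDesc f.hom g.hom h.hom) ∧
    AlgSp.RepWith @IsSeparated (pullback.mapDesc f.hom g.hom h.hom) ∧
    AlgSp.RepWith (MorphismProperty.monomorphisms Scheme.{u}) (pullback.mapDesc f.hom g.hom h.hom) ∧
    (AlgSp.IsSeparatedMor h.hom → AlgSp.RepWith @IsClosedImmersion (pullback.mapDesc f.hom g.hom h.hom)) ∧
    (AlgSp.IsQuasiSeparatedMor h.hom → AlgSp.RepWith @QuasiCompact (pullback.mapDesc f.hom g.hom h.hom)) := by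
  have h0 := Groth.Agent.S9900.repWith_diagonal_lft_mono Z.property h.hom
  have h1 := repWith_mapDesc _ f.hom g.hom h.hom h0
  refine ⟨h1.rep, repWith_mono inf_le_left h1, repWith_mono ?_ h1, repWith_mono ?_ h1,
    repWith_mono inf_le_right h1, fun hs => repWith_mapDesc _ _ _ _ hs,
    fun hs => repWith_mapDesc _ _ _ _ hs⟩
  · intro A B f hf
    have : Mono f := hf.2
    have : LocallyOfFiniteType f := hf.1
    exact ⟨inferInstance, hf.1⟩
  · intro A B f hf
    have : Mono f := hf.2
    infer_instance

end Groth.Agent.S9901
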