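import Groth.Statements.S9926
import Groth.Agent.Lib.Helper3.AlgSpUC3

set_option autoImplicit false
universe u
open CategoryTheory CategoryTheory.Limits AlgebraicGeometry
open AlgSp

namespace Groth.Agent.S9926

/-- Let B be an algebraic space and f : X -> Y a morphism over B that is surjective and universally
closed. Quasi-separatedness of X over B forces quasi-separatedness of Y over B, and likewise for
separatedness. (The published lemma also has absolute versions; this row states the versions over
B.) -/
theorem result {S : Scheme.{u}} {X Y B : AlgSp.Space S} (f : X ⟶ Y) (p : X ⟶ B)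
    (q : Y ⟶ B) (comm : f ≫ q = p) (hs : AlgSp.IsSurjectiveMor f.hom) (hc : AlgSp.IsUnivClosedMor f.hom) :
    (AlgSp.IsQuasiSeparatedMor p.hom → AlgSp.IsQuasiSeparatedMor q.hom) ∧
    (AlgSp.IsSeparatedMor p.hom → AlgSp.IsSeparatedMor q.hom) := by
  subst comm
  have hC : AlgSp.IsAlgSpace (pullback (f.hom ≫ q.hom) (f.hom ≫ q.hom)) :=
    Groth.Agent.Lib.Helper3.isAlgSpace_of_isPullback' B.property X.property X.property
      (IsPullback.of_hasPullback _ _)
  have hA : AlgSp.IsAlgSpace (pullback (f.hom ≫ q.hom) q.hom) :=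
    Groth.Agent.Lib.Helper3.isAlgSpace_of_isPullback' B.property X.property Y.property
      (IsPullback.of_hasPullback _ _)
  have hD : AlgSp.IsAlgSpace (pullback q.hom q.hom) :=
    Groth.Agent.Lib.Helper3.isAlgSpace_of_isPullback' B.property Y.property Y.property
      (IsPullback.of_hasPullback _ _)
  have hrep := Groth.Agent.S9900.repWith_diagonal_lft_mono Y.property q.hom
  constructor
  · intro hp
    have hp' : AlgSp.RepWith @QuasiCompact (pullback.diagonal (f.hom ≫ q.hom)) := hp
    have hΔX := Groth.Agent.Lib.Helper3.isQuasiCompactMor_of_repWith_quasiCompact _ hp'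
    have hfqc : AlgSp.IsQuasiCompactMor f.hom :=
      Groth.Agent.Lib.Helper3.isQuasiCompactMor_of_isUnivClosedMor X.property Y.property hc
    have hm₁ : AlgSp.IsQuasiCompactMor (Groth.Agent.Lib.Helper3.mapOne f.hom q.hom) :=
      Groth.Agent.Lib.Helper3.isQuasiCompactMor_of_isPullback
        (Groth.Agent.Lib.Helper3.isPullback_mapOne f.hom q.hom) hfqc
    have hm₂ : AlgSp.IsQuasiCompactMor (Groth.Agent.Lib.Helper3.mapTwo f.hom q.hom) :=
      Groth.Agent.Lib.Helper3.isQuasiCompactMor_of_isPullback
        (Groth.Agent.Lib.Helper3.isPullback_mapTwo f.hom q.hom) hfqc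
    have h12 := Groth.Agent.Lib.Helper3.isQuasiCompactMor_comp hA hD.diag hm₁ hm₂
    have h := Groth.Agent.Lib.Helper3.isQuasiCompactMor_comp hC hD.diag hΔX h12
    rw [Groth.Agent.Lib.Helper3.diagonal_comp_maps] at h
    have hΔq := Groth.Agent.Lib.Helper3.isQuasiCompactMor_of_surjective_comp Y.property hD
      f.hom _ hs h
    exact Groth.Agent.Lib.Helper3.repWith_quasiCompact_of_isQuasiCompactMor _ hrep.rep hΔq
  · intro hp
    have hp' : AlgSp.RepWith @IsClosedImmersion (pullback.diagonal (f.hom ≫ q.hom)) := hp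
    have hΔX : AlgSp.IsUnivClosedMor (pullback.diagonal (f.hom ≫ q.hom)) := by
      refine Groth.Agent.S9922.isUnivClosedMor_of_repWith
        (Groth.Agent.Lib.Helper3.repWith_mono ?_ hp')
      intro A₀ B₀ g hg
      have : IsClosedImmersion g := hg
      change UniversallyClosed g
      infer_instance
    have hm₁ : AlgSp.IsUnivClosedMor (Groth.Agent.Lib.Helper3.mapOne f.hom q.hom) :=
      Groth.Agent.Lib.Helper3.isUnivClosedMor_of_isPullback
        (Groth.Agent.Lib.Helper3.isPullback_mapOne f.hom q.hom) hc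
    have hm₂ : AlgSp.IsUnivClosedMor (Groth.Agent.Lib.Helper3.mapTwo f.hom q.hom) :=
      Groth.Agent.Lib.Helper3.isUnivClosedMor_of_isPullback
        (Groth.Agent.Lib.Helper3.isPullback_mapTwo f.hom q.hom) hc
    have h12 := Groth.Agent.Lib.Helper3.isUnivClosedMor_comp hA hD.diag hm₁ hm₂
    have h := Groth.Agent.Lib.Helper3.isUnivClosedMor_comp hC hD.diag hΔX h12
    rw [Groth.Agent.Lib.Helper3.diagonal_comp_maps] at h
    have hΔq := Groth.Agent.Lib.Helper3.isUnivClosedMor_of_surjective_comp f.hom _ hs h
    have huc := Groth.Agent.S9922.repWith_universallyClosed_of_isUnivClosedMor hrep.rep hΔq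
    change AlgSp.RepWith @IsClosedImmersion (pullback.diagonal q.hom)
    rw [Groth.Agent.Lib.Helper3.isClosedImmersion_eq]
    exact ⟨hrep.rep, fun U V g fst snd sq =>
      ⟨⟨huc.property g fst snd sq, (hrep.property g fst snd sq).1⟩,
        (hrep.property g fst snd sq).2⟩⟩

end Groth.Agent.S9926
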