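import Groth.Statements.S9927
import Groth.Agent.S9883

set_option autoImplicit false
universe u
open CategoryTheory CategoryTheory.Limits AlgebraicGeometry
open AlgSp

namespace Groth.Agent.S9927

/-- Monomorphisms of sheaves descend along a locally surjective base change. -/
theorem mono_of_isPullback_of_isLocallySurjective {S : Scheme.{u}} {F G H Q : AlgSp.Sp S}
    {a : F ⟶ G} {b : H ⟶ G} [Sheaf.IsLocallySurjective b] {b' : Q ⟶ F} {a' : Q ⟶ H}
    (sq : IsPullback b' a' a b) [Mono a'] : Mono a := by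
  suffices H : ∀ {T : Over S} {x y : (AlgSp.yon S).obj T ⟶ F}, x ≫ a = y ≫ a → x = y from
    ⟨fun _ _ h ↦ (AlgSp.J S).hom_ext_uliftYoneda
      (fun _ _ ↦ H (by simp only [Category.assoc, h]))⟩
  intro T x y hxy
  apply (AlgSp.J S).uliftYonedaEquiv.{u+1}.injective
  have hsep := ((isSheaf_iff_isSheaf_of_type _ _).1 F.property).isSeparated
  have hb : Presheaf.imageSieve b.hom ((AlgSp.J S).uliftYonedaEquiv.{u+1} (x ≫ a)) ∈ AlgSp.J S T :=
    Presheaf.imageSieve_mem _ _ _
  refine (hsep _ hb).ext ?_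
  rintro T' i ⟨t, ht⟩
  obtain ⟨k, rfl⟩ := (AlgSp.J S).uliftYonedaEquiv.{u+1}.surjective t
  have hk : k ≫ b = (AlgSp.yon S).map i ≫ x ≫ a := by
    apply (AlgSp.J S).uliftYonedaEquiv.{u+1}.injective
    rw [(AlgSp.J S).uliftYonedaEquiv_comp.{u+1}, ← (AlgSp.J S).uliftYonedaEquiv_naturality.{u+1}]
    exact ht
  have hw₁ : ((AlgSp.yon S).map i ≫ x) ≫ a = k ≫ b := by rw [hk, Category.assoc]
  have hw₂ : ((AlgSp.yon S).map i ≫ y) ≫ a = k ≫ b := by rw [hk, Category.assoc, hxy]
  have : sq.lift _ _ hw₁ = sq.lift _ _ hw₂ := by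
    rw [← cancel_mono a', sq.lift_snd, sq.lift_snd]
  have h2 : (AlgSp.yon S).map i ≫ x = (AlgSp.yon S).map i ≫ y := by
    rw [← sq.lift_fst _ _ hw₁, ← sq.lift_fst _ _ hw₂, this]
  rw [(AlgSp.J S).uliftYonedaEquiv_naturality.{u+1}, (AlgSp.J S).uliftYonedaEquiv_naturality.{u+1},
    h2]

/-- (4) ⇒ (1): being a monomorphism descends along a surjective etale base change from a scheme. -/
theorem result {S : Scheme.{u}} {X Y : AlgSp.Space S} (f : X ⟶ Y) (V : Over S)
    (p : (AlgSp.yon S).obj V ⟶ Y.obj) (hp : AlgSp.RepWith @Etale p) (hps : AlgSp.RepWith @Surjective p)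
    {P : AlgSp.Sp S} (fst : P ⟶ X.obj) (snd : P ⟶ (AlgSp.yon S).obj V) (sq : IsPullback fst snd f.hom p)
    [Mono snd] : Mono f.hom := by
  have := Groth.Agent.S9883.isLocallySurjective_of_etale_surjective p hp hps
  exact mono_of_isPullback_of_isLocallySurjective sq

end Groth.Agent.S9927
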