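import Groth.Statements.S9931
import Groth.Agent.Lib.Helper3.AlgSpRepLocal

set_option autoImplicit false
universe u
open CategoryTheory CategoryTheory.Limits AlgebraicGeometry
open AlgSp

namespace Groth.Agent.S9931

/-- (3) ⇒ (1): for P = closed immersion, open immersion or immersion, a morphism of algebraic spaces
whose base change to every affine scheme over the target is representable with P is itself
representable with P. -/
theorem result {S : Scheme.{u}} (P : MorphismProperty Scheme.{u})
    (hP : P = @IsClosedImmersion ∨ P = @IsOpenImmersion ∨ P = @IsImmersion) {X Y : AlgSp.Space S} (f : X ⟶ Y)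
    (h : ∀ (Z : Over S), IsAffine Z.left → ∀ (g : (AlgSp.yon S).obj Z ⟶ Y.obj) (P₀ : AlgSp.Sp S)
      (fst : P₀ ⟶ X.obj) (snd : P₀ ⟶ (AlgSp.yon S).obj Z), IsPullback fst snd f.hom g → AlgSp.RepWith P snd) :
    AlgSp.RepWith P f.hom := by
  have key : ∀ ⦃Z : Over S⦄, IsAffine Z.left → ∀ (g : (AlgSp.yon S).obj Z ⟶ Y.obj),
      ∃ (W : Over S) (i : W ⟶ Z) (fst : (AlgSp.yon S).obj W ⟶ X.obj),
        IsPullback fst ((AlgSp.yon S).map i) f.hom g ∧ P i.left := by
    intro Z hZ g
    have hsnd : AlgSp.RepWith P (pullback.snd f.hom g) :=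
      h Z hZ g _ _ _ (IsPullback.of_hasPullback f.hom g)
    have sqW := hsnd.rep.isPullback (𝟙 ((AlgSp.yon S).obj Z))
    have sq := sqW.paste_horiz (IsPullback.of_hasPullback f.hom g)
    rw [Category.id_comp] at sq
    exact ⟨_, _, _, sq, hsnd.property_snd (𝟙 _)⟩
  have hrep : AlgSp.Representable f.hom :=
    Groth.Agent.Lib.Helper3.representable_of_affine f.hom (fun Z hZ g => by
      obtain ⟨W, i, fst, sq, -⟩ := key hZ g
      exact ⟨W, i, fst, sq⟩)
  rcases hP with rfl | rfl | rfl
  · exact Groth.Agent.Lib.Helper3.repWith_of_affine @IsClosedImmersion f.hom hrep key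
  · exact Groth.Agent.Lib.Helper3.repWith_of_affine @IsOpenImmersion f.hom hrep key
  · exact Groth.Agent.Lib.Helper3.repWith_of_affine @IsImmersion f.hom hrep key

end Groth.Agent.S9931
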