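import Groth.Statements.S9933
import Groth.Agent.S9900

set_option autoImplicit false
universe u
open CategoryTheory CategoryTheory.Limits AlgebraicGeometry
open AlgSp

namespace Groth.Agent.S9933

open Groth.Agent.Lib.Helper3

/-- Cancellation: if `a ≫ b` and the diagonal of `b` are representable with `P`, so is `a`. -/
theorem repWith_of_comp {S : Scheme.{u}} (P : MorphismProperty Scheme.{u})
    [P.IsStableUnderBaseChange] [P.IsMultiplicative] {Z Y X : AlgSp.Sp S} (a : Z ⟶ Y) (b : Y ⟶ X)
    (hab : AlgSp.RepWith P (a ≫ b)) (hd : AlgSp.RepWith P (pullback.diagonal b)) :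
    AlgSp.RepWith P a := by
  have h1 : AlgSp.RepWith P (pullback.lift (𝟙 Z) a (by simp) : Z ⟶ pullback (a ≫ b) b) :=
    MorphismProperty.of_isPullback (pullback_lift_diagonal_isPullback a b) hd
  have h2 : AlgSp.RepWith P (pullback.snd (a ≫ b) b) :=
    MorphismProperty.of_isPullback (IsPullback.of_hasPullback (a ≫ b) b) hab
  have h3 : a = (pullback.lift (𝟙 Z) a (by simp) : Z ⟶ pullback (a ≫ b) b) ≫
      pullback.snd (a ≫ b) b := by rw [pullback.lift_snd]
  rw [h3]
  exact MorphismProperty.comp_mem _ _ _ h1 h2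

/-- Permanence for Z -> Y -> X: the five representable finiteness/separation properties of Z -> X pass
to Z -> Y, and a closed immersion Z -> X with Y -> X separated gives a closed immersion Z -> Y. -/
theorem result {S : Scheme.{u}} {Z Y X : AlgSp.Space S} (a : Z ⟶ Y) (b : Y ⟶ X) :
    ((AlgSp.Representable (a ≫ b).hom ∧ AlgSp.RepWith @LocallyOfFiniteType (a ≫ b).hom ∧
        AlgSp.RepWith (@LocallyQuasiFinite ⊓ @LocallyOfFiniteType) (a ≫ b).hom ∧
        AlgSp.RepWith @IsSeparated (a ≫ b).hom ∧
        AlgSp.RepWith (MorphismProperty.monomorphisms Scheme.{u}) (a ≫ b).hom) →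
      (AlgSp.Representable a.hom ∧ AlgSp.RepWith @LocallyOfFiniteType a.hom ∧
        AlgSp.RepWith (@LocallyQuasiFinite ⊓ @LocallyOfFiniteType) a.hom ∧
        AlgSp.RepWith @IsSeparated a.hom ∧
        AlgSp.RepWith (MorphismProperty.monomorphisms Scheme.{u}) a.hom)) ∧
    (AlgSp.RepWith @IsClosedImmersion (a ≫ b).hom → AlgSp.IsSeparatedMor b.hom →
      AlgSp.RepWith @IsClosedImmersion a.hom) := by
  have h0 := Groth.Agent.S9900.repWith_diagonal_lft_mono Y.property b.hom
  have hab : (a ≫ b).hom = a.hom ≫ b.hom := rfl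
  constructor
  · rintro ⟨-, h1, h2, h3, h4⟩
    rw [hab] at h1 h2 h3 h4
    have k1 := repWith_of_comp @LocallyOfFiniteType a.hom b.hom h1 (repWith_mono inf_le_left h0)
    have k2 := repWith_of_comp (@LocallyQuasiFinite ⊓ @LocallyOfFiniteType) a.hom b.hom h2
      (repWith_mono (fun A B f hf => by
        have : Mono f := hf.2
        have : LocallyOfFiniteType f := hf.1
        exact ⟨inferInstance, hf.1⟩) h0)
    have k3 := repWith_of_comp @IsSeparated a.hom b.hom h3
      (repWith_mono (fun A B f hf => by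
        have : Mono f := hf.2
        infer_instance) h0)
    have k4 := repWith_of_comp (MorphismProperty.monomorphisms Scheme.{u}) a.hom b.hom h4
      (repWith_mono inf_le_right h0)
    exact ⟨k1.rep, k1, k2, k3, k4⟩
  · intro h1 h2
    rw [hab] at h1
    exact repWith_of_comp @IsClosedImmersion a.hom b.hom h1 h2

end Groth.Agent.S9933
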