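import Groth.Statements.S9934
import Groth.Agent.Lib.Helper3.AlgSpPoints2
import Groth.Agent.Lib.Helper3.AlgSpDiag

set_option autoImplicit false
universe u
open CategoryTheory CategoryTheory.Limits AlgebraicGeometry
open AlgSp

namespace Groth.Agent.S9934

/-- An immersion of algebraic spaces is a closed immersion exactly when its image on points is closed. -/
theorem result {S : Scheme.{u}} {Z X : AlgSp.Space S} (i : Z ⟶ X)
    (hi : AlgSp.RepWith @IsImmersion i.hom) :
    AlgSp.RepWith @IsClosedImmersion i.hom ↔ IsClosed (Set.range (AlgSp.Points.map i.hom)) := by
  constructor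
  · intro h
    have huc : RepWith @UniversallyClosed i.hom :=
      Groth.Agent.Lib.Helper3.repWith_mono (P := @IsClosedImmersion) (Q := @UniversallyClosed)
        (fun _ _ f hf => by have : IsClosedImmersion f := hf; infer_instance) h
    exact (Groth.Agent.Lib.Helper3.isClosedMap_map_of_repWith huc).isClosed_range
  · intro hcl
    refine ⟨hi.1, fun T V g fst snd sq => ?_⟩
    change IsClosedImmersion snd.left
    have him : IsImmersion snd.left := hi.2 g fst snd sq
    have hr := Groth.Agent.Lib.Helper3.Points.ofPt_preimage_image sq Set.univ
    rw [Set.image_univ, Set.preimage_univ, Set.image_univ] at hr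
    have hc : IsClosed (Set.range snd.left) := by
      rw [← hr]
      exact hcl.preimage (Points.continuous_ofPt g)
    exact IsClosedImmersion.of_isPreimmersion _ hc

end Groth.Agent.S9934
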