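import Groth.Statements.S9935
import Groth.Agent.Lib.Helper3.SchImImm

set_option autoImplicit false
universe u
open CategoryTheory CategoryTheory.Limits AlgebraicGeometry
open AlgSp

namespace Groth.Agent.S9935

/-- A quasi-compact immersion of algebraic spaces factors as an open immersion followed by a closed
immersion. -/
theorem result {S : Scheme.{u}} {Z X : AlgSp.Space S}
    (i : Z ⟶ X) (hi : AlgSp.RepWith @IsImmersion i.hom) (hq : AlgSp.IsQuasiCompactMor i.hom) :
    ∃ (Zbar : AlgSp.Space S) (j : Z ⟶ Zbar) (c : Zbar ⟶ X), j ≫ c = i ∧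
      AlgSp.RepWith @IsOpenImmersion j.hom ∧ AlgSp.RepWith @IsClosedImmersion c.hom := by
  open Groth.Agent.Lib.Helper3.SchIm in
  obtain ⟨Zbar, c, hc⟩ := exists_isSchImage i
  obtain ⟨j₀, hj₀⟩ := hc.2.1
  have fac : (ObjectProperty.homMk j₀ : Z ⟶ Zbar) ≫ c = i := by
    apply ObjectProperty.hom_ext
    exact hj₀
  exact ⟨Zbar, ObjectProperty.homMk j₀, c, fac,
    (immersion_into_schImage_of_quasiCompact i hi hq c hc _ fac).1, hc.1⟩

end Groth.Agent.S9935
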