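import Groth.Statements.S9940
import Groth.Agent.Lib.Helper3.AlgSpInj
import Groth.Agent.Lib.Helper3.AlgSpBC

set_option autoImplicit false
universe u
open CategoryTheory CategoryTheory.Limits AlgebraicGeometry
open AlgSp

namespace Groth.Agent.S9940

/-- (4) ⇒ (1): universal injectivity of a morphism of algebraic spaces descends along a surjective base
change from a scheme. -/
theorem result {S : Scheme.{u}} {X Y : AlgSp.Space S} (f : X ⟶ Y)
    (Z : Over S) (g : (AlgSp.yon S).obj Z ⟶ Y.obj) (hg : AlgSp.IsSurjectiveMor g) {P : AlgSp.Sp S}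
    (fst : P ⟶ X.obj) (snd : P ⟶ (AlgSp.yon S).obj Z) (sq : IsPullback fst snd f.hom g)
    (h : AlgSp.IsUnivInjectiveMor snd) : AlgSp.IsUnivInjectiveMor f.hom := by
  have h1 : AlgSp.IsSurjectiveMor (pullback.diagonal snd) :=
    Groth.Agent.Lib.Helper3.isSurjectiveMor_diagonal_of_isUnivInjectiveMor h
  have h2 : AlgSp.IsSurjectiveMor (pullback.map snd snd f.hom f.hom fst fst g sq.w.symm sq.w.symm) :=
    Groth.Agent.Lib.Helper3.isSurjectiveMor_fst_of_isPullback
      (Groth.Agent.Lib.Helper3.isPullback_map_of_isPullback sq) hg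
  have h3 : AlgSp.IsSurjectiveMor (pullback.diagonal f.hom) := by
    intro x'
    obtain ⟨p', rfl⟩ := h2 x'
    obtain ⟨p, rfl⟩ := h1 p'
    refine ⟨AlgSp.Points.map fst p, ?_⟩
    rw [← AlgSp.Points.map_comp, ← AlgSp.Points.map_comp,
      (Groth.Agent.Lib.Helper3.isPullback_diagonal_of_isPullback sq).w]
  exact Groth.Agent.Lib.Helper3.InjOnFieldPts.isUnivInjectiveMor
    (Groth.Agent.Lib.Helper3.injOnFieldPts_of_isSurjectiveMor_diagonal X.property h3)

end Groth.Agent.S9940
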