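import Groth.Statements.S9941
import Groth.Agent.Lib.Helper3.AlgSpRepLocal

set_option autoImplicit false
universe u
open CategoryTheory CategoryTheory.Limits AlgebraicGeometry
open AlgSp

namespace Groth.Agent.S9941

/-- (2) ⇒ (1): an affine morphism of algebraic spaces is representable (and representable-affine). -/
theorem result {S : Scheme.{u}} {X Y : AlgSp.Space S} (f : X ⟶ Y)
    (hf : AlgSp.IsAffineMor f.hom) : AlgSp.RepWith @IsAffineHom f.hom := by
  have hrep : AlgSp.Representable f.hom :=
    Groth.Agent.Lib.Helper3.representable_of_affine f.hom (fun Z hZ g => by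
      obtain ⟨W, i, fst, sq, -⟩ := hf hZ g
      exact ⟨W, i, fst, sq⟩)
  refine Groth.Agent.Lib.Helper3.repWith_of_affine @IsAffineHom f.hom hrep (fun Z hZ g => ?_)
  obtain ⟨W, i, fst, sq, hW⟩ := hf hZ g
  have : IsAffine W.left := hW
  have : IsAffine Z.left := hZ
  exact ⟨W, i, fst, sq, inferInstance⟩

end Groth.Agent.S9941
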