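import Groth.Statements.S9944
-- import your own Groth.Agent.* helpers here

set_option autoImplicit false
universe u
open CategoryTheory CategoryTheory.Limits AlgebraicGeometry
open AlgSp

namespace Groth.Agent.S9944

/-- Affine morphisms of sheaves are stable under base change. -/
theorem isAffineMor_of_isPullback {S : Scheme.{u}} {F G F' G' : AlgSp.Sp S}
    {f : F ⟶ G} {g' : G' ⟶ G} {fst : F' ⟶ F} {snd : F' ⟶ G'}
    (sq : IsPullback fst snd f g') (hf : AlgSp.IsAffineMor f) : AlgSp.IsAffineMor snd := by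
  intro Z hZ z
  obtain ⟨W, i, fstW, sqW, hW⟩ := hf hZ (z ≫ g')
  have hw : fstW ≫ f = ((AlgSp.yon S).map i ≫ z) ≫ g' := by rw [sqW.w, Category.assoc]
  refine ⟨W, i, sq.lift fstW ((AlgSp.yon S).map i ≫ z) hw, ?_, hW⟩
  refine IsPullback.of_right ?_ (sq.lift_snd _ _ hw) sq
  rw [sq.lift_fst]
  exact sqW

/-- Affine morphisms of sheaves are stable under composition. -/
theorem isAffineMor_comp {S : Scheme.{u}} {F₁ F₂ F₃ : AlgSp.Sp S}
    {f₁ : F₁ ⟶ F₂} {f₂ : F₂ ⟶ F₃}
    (h₁ : AlgSp.IsAffineMor f₁) (h₂ : AlgSp.IsAffineMor f₂) : AlgSp.IsAffineMor (f₁ ≫ f₂) := by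
  intro Z hZ z
  obtain ⟨W₂, i₂, fst₂, sq₂, hW₂⟩ := h₂ hZ z
  obtain ⟨W₁, i₁, fst₁, sq₁, hW₁⟩ := h₁ hW₂ fst₂
  refine ⟨W₁, i₁ ≫ i₂, fst₁, ?_, hW₁⟩
  rw [Functor.map_comp]
  exact sq₁.paste_vert sq₂

/-- A morphism representable by closed immersions is affine. -/
theorem isAffineMor_of_repWith_isClosedImmersion {S : Scheme.{u}} {F G : AlgSp.Sp S}
    {f : F ⟶ G} (hf : AlgSp.RepWith @IsClosedImmersion f) : AlgSp.IsAffineMor f := by
  intro Z hZ z
  refine ⟨hf.rep.pullback z, hf.rep.snd z, hf.rep.fst z, hf.rep.isPullback z, ?_⟩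
  have h1 : IsClosedImmersion (hf.rep.snd z).left := hf.property_snd z
  have : IsAffine Z.left := hZ
  exact isAffine_of_isAffineHom (hf.rep.snd z).left

theorem isAffineMor_of_diagonal {S : Scheme.{u}} {F G B : AlgSp.Sp S} (g : F ⟶ G) (q : G ⟶ B)
    (hp : AlgSp.IsAffineMor (g ≫ q)) (hd : AlgSp.IsAffineMor (pullback.diagonal q)) :
    AlgSp.IsAffineMor g := by
  have h1 := pullback_lift_diagonal_isPullback g q
  have h2 : AlgSp.IsAffineMor (pullback.lift (𝟙 F) g (by simp) : F ⟶ pullback (g ≫ q) q) :=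
    isAffineMor_of_isPullback h1 hd
  have h3 : AlgSp.IsAffineMor (pullback.snd (g ≫ q) q) :=
    isAffineMor_of_isPullback (IsPullback.of_hasPullback (g ≫ q) q) hp
  have h4 := isAffineMor_comp h2 h3
  rwa [pullback.lift_snd] at h4

/-- Let g : X -> Y be a morphism over a base algebraic space B with X affine over B. Then g is affine as
soon as the diagonal of Y over B is affine, and in particular as soon as Y is B-separated. (The
published lemma also has two versions with the absolute diagonal of Y; this row states the versions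
over B.) -/
theorem result {S : Scheme.{u}} {X Y B : AlgSp.Space S} (g : X ⟶ Y) (p : X ⟶ B)
    (q : Y ⟶ B) (comm : g ≫ q = p) (hp : AlgSp.IsAffineMor p.hom) :
    (AlgSp.IsAffineMor (pullback.diagonal q.hom) → AlgSp.IsAffineMor g.hom) ∧
    (AlgSp.IsSeparatedMor q.hom → AlgSp.IsAffineMor g.hom) := by
  have hp' : AlgSp.IsAffineMor (g.hom ≫ q.hom) := by
    have : g.hom ≫ q.hom = p.hom := by rw [← comm]; rfl
    rw [this]; exact hp
  exact ⟨fun hd => isAffineMor_of_diagonal g.hom q.hom hp' hd,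
    fun hs => isAffineMor_of_diagonal g.hom q.hom hp'
      (isAffineMor_of_repWith_isClosedImmersion hs)⟩

end Groth.Agent.S9944
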