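import Groth.Statements.S9946
import Groth.Agent.Lib.Helper3.QAffDescMain
import Groth.Agent.Lib.Helper3.AffDescCover
import Groth.Agent.Lib.Helper3.AlgSpRepLocal

set_option autoImplicit false
universe u
open CategoryTheory CategoryTheory.Limits AlgebraicGeometry
open AlgSp

namespace Groth.Agent.S9946

/-- (3) ⇒ (1): if the base change of f along a surjective etale map from a scheme is quasi-affine, then
f is representable by schemes and quasi-affine. -/
theorem result {S : Scheme.{u}} {X Y : AlgSp.Space S} (f : X ⟶ Y)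
    (V : Over S) (p : (AlgSp.yon S).obj V ⟶ Y.obj) (hp : AlgSp.RepWith @Etale p) (hps : AlgSp.RepWith @Surjective p)
    {P : AlgSp.Sp S} (fst : P ⟶ X.obj) (snd : P ⟶ (AlgSp.yon S).obj V) (sq : IsPullback fst snd f.hom p)
    (h : AlgSp.IsQuasiAffineMor snd) : AlgSp.Representable f.hom ∧ AlgSp.IsQuasiAffineMor f.hom := by
  have key : ∀ ⦃Z : Over S⦄, IsAffine Z.left → ∀ (z : (AlgSp.yon S).obj Z ⟶ Y.obj),
      ∃ (W₀ : Over S) (i : W₀ ⟶ Z) (fst₀ : (AlgSp.yon S).obj W₀ ⟶ X.obj),
        IsPullback fst₀ ((AlgSp.yon S).map i) f.hom z ∧ W₀.left.IsQuasiAffine := by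
    intro Z hZ z
    -- the pullback of the chart
    set V₁ := hp.rep.pullback z with hV₁
    set p₁ : V₁ ⟶ Z := hp.rep.snd z with hp₁
    have sq1 : IsPullback (hp.rep.fst z) ((yon S).map p₁) p z := hp.rep.isPullback z
    have hp₁e : Etale p₁.left := hp.property_snd z
    have hp₁s : Surjective p₁.left := hps.property z (hp.rep.fst z) p₁ sq1
    obtain ⟨V'₀, j, hV'aff, hje, hjs⟩ :=
      Groth.Agent.Lib.Helper3.AffDesc.exists_affine_etale_cover p₁.left
    let V' : Over S := Over.mk (j ≫ V₁.hom)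
    let jO : V' ⟶ V₁ := Over.homMk j rfl
    let q : V' ⟶ Z := jO ≫ p₁
    have hqe : Etale q.left := by
      change Etale (j ≫ p₁.left)
      infer_instance
    have hqs : Surjective q.left := hjs
    obtain ⟨g₁, hg₁⟩ := (yon S).map_surjective (hp.rep.fst z)
    let g : V' ⟶ V := jO ≫ g₁
    have hgq : (yon S).map g ≫ p = (yon S).map q ≫ z := by
      change (yon S).map (jO ≫ g₁) ≫ p = (yon S).map (jO ≫ p₁) ≫ z
      rw [CategoryTheory.Functor.map_comp, CategoryTheory.Functor.map_comp, Category.assoc,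
        Category.assoc, hg₁, sq1.w]
    have hV'aff' : IsAffine V'.left := hV'aff
    obtain ⟨W, w, fstW, sqW, hWqa⟩ := h hV'aff' ((yon S).map g)
    have sq6 : IsPullback (fstW ≫ fst) ((yon S).map w) f.hom ((yon S).map q ≫ z) := by
      rw [← hgq]
      exact sqW.paste_horiz sq
    have t := IsPullback.of_hasPullback f.hom z
    have sq7 := IsPullback.of_right' sq6 t
    have hq : Sheaf.IsLocallySurjective ((yon S).map q) :=
      Groth.Agent.S9883.isLocallySurjective_of_etale_surjective _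
        ((repWith_yon_map_iff _ q).2 hqe) ((repWith_yon_map_iff _ q).2 hqs)
    have : Flat q.left := inferInstance
    have : UniversallyOpen q.left := inferInstance
    obtain ⟨W₀, i, c, e, hW₀qa, he1, he2, sqS⟩ :=
      Groth.Agent.Lib.Helper3.QAffDesc.exists_quasiAffine_of_cover q w hq (pullback.snd f.hom z) _ sq7
    refine ⟨W₀, i, e.hom ≫ pullback.fst f.hom z, ?_, hW₀qa⟩
    refine IsPullback.of_iso t e.symm (Iso.refl _) (Iso.refl _) (Iso.refl _) ?_ ?_ ?_ ?_
    · simp
    · simp only [Iso.refl_hom, Category.comp_id, Iso.symm_hom]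
      rw [← he1, Iso.inv_hom_id_assoc]
    · simp
    · simp
  refine ⟨Groth.Agent.Lib.Helper3.representable_of_affine f.hom ?_, key⟩
  intro Z hZ z
  obtain ⟨W₀, i, fst₀, sq₀, -⟩ := key hZ z
  exact ⟨W₀, i, fst₀, sq₀⟩

end Groth.Agent.S9946
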