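import Groth.Statements.S9954
import Groth.Agent.Lib.Helper3.AlgSpGeomPoints

set_option autoImplicit false
universe u
open CategoryTheory CategoryTheory.Limits AlgebraicGeometry
open AlgSp

namespace Groth.Agent.S9954

/-- A morphism locally of finite type is surjective if and only if it is surjective on k-valued points
for every algebraically closed field k over the base. -/
theorem result {S : Scheme.{u}} {X Y : AlgSp.Space S} (f : X ⟶ Y)
    (hf : AlgSp.LocP @LocallyOfFiniteType f.hom) :
    AlgSp.IsSurjectiveMor f.hom ↔
      ∀ (k : Type u) [Field k] [IsAlgClosed k] (str : Spec (CommRingCat.of k) ⟶ S)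
        (y : (AlgSp.yon S).obj (Over.mk str) ⟶ Y.obj),
        ∃ x : (AlgSp.yon S).obj (Over.mk str) ⟶ X.obj, x ≫ f.hom = y := by
  exact ⟨fun hs k _ _ str y =>
      Groth.Agent.Lib.Helper3.exists_lift_of_surjective_lft X.property Y.property f.hom hf hs k str y,
    fun H => Groth.Agent.Lib.Helper3.isSurjectiveMor_of_forall_algClosed_lift f.hom H⟩

end Groth.Agent.S9954
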