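import Groth.Statements.S9957
import Groth.Agent.Lib.Helper3.AlgSpQC7
import Groth.Agent.Lib.Helper3.AlgSpSep
import Groth.Agent.S9900
import Groth.Agent.S9951
-- import your own Groth.Agent.* helpers here

set_option autoImplicit false
universe u
open CategoryTheory CategoryTheory.Limits AlgebraicGeometry
open AlgSp

namespace Groth.Agent.S9957

/-- The source of a morphism of finite presentation whose target is Noetherian is itself Noetherian,
Noetherian meaning quasi-compact, quasi-separated over S and locally Noetherian. (The published
statement uses quasi-separatedness in the absolute sense; this row uses quasi-separatedness over S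
in hypothesis and conclusion.) -/
theorem result {S : Scheme.{u}} {X Y : AlgSp.Space S} (f : X ⟶ Y)
    (hf : AlgSp.IsFinitePresentationMor f.hom)
    (hY : AlgSp.IsQuasiCompactSp Y.obj ∧ AlgSp.IsQuasiSeparatedSp Y.obj ∧ AlgSp.IsLocNoethSp Y.obj) :
    AlgSp.IsQuasiCompactSp X.obj ∧ AlgSp.IsQuasiSeparatedSp X.obj ∧ AlgSp.IsLocNoethSp X.obj := by
  refine ⟨?_, ?_, ?_⟩
  · exact hf.2.1 Y.property hY.1 (𝟙 _) (𝟙 _) f.hom (IsPullback.id_horiz f.hom)
  · have h2 : AlgSp.RepWith @QuasiCompact (pullback.diagonal f.hom) := hf.2.2
    have h3 : AlgSp.RepWith @QuasiCompact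
        (prod.lift (pullback.fst f.hom f.hom) (pullback.snd f.hom f.hom)) :=
      MorphismProperty.of_isPullback
        (Groth.Agent.Lib.Helper3.isPullback_diag_of_isPullback
          (IsPullback.of_hasPullback f.hom f.hom)) hY.2.1
    have h4 : Limits.diag X.obj = pullback.diagonal f.hom ≫
        prod.lift (pullback.fst f.hom f.hom) (pullback.snd f.hom f.hom) := by
      apply Limits.prod.hom_ext
      · simp only [Limits.diag, prod.lift_fst, Category.assoc, pullback.diagonal_fst]
      · simp only [Limits.diag, prod.lift_snd, Category.assoc, pullback.diagonal_snd]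
    change AlgSp.RepWith @QuasiCompact (Limits.diag X.obj)
    rw [h4]
    exact MorphismProperty.comp_mem _ _ _ h2 h3
  · refine Groth.Agent.S9951.result f (fun U V a b h ha hb w => ?_) hY.2.2
    have : LocallyOfFinitePresentation h.left := hf.1 a b h ha hb w
    infer_instance

end Groth.Agent.S9957
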