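import Groth.Statements.S9958
import Groth.Agent.Lib.Helper3.AlgSpLocP3
import Mathlib.AlgebraicGeometry.Noetherian

set_option autoImplicit false
universe u
open CategoryTheory CategoryTheory.Limits AlgebraicGeometry
open AlgSp

namespace Groth.Agent.S9958

/-- Over a locally Noetherian algebraic space, locally of finite type implies locally of finite
presentation. -/
theorem result {S : Scheme.{u}} {X Y : AlgSp.Space S} (f : X ⟶ Y)
    (hY : AlgSp.IsLocNoethSp Y.obj) (hf : AlgSp.LocP @LocallyOfFiniteType f.hom) :
    AlgSp.LocP @LocallyOfFinitePresentation f.hom := by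
  obtain ⟨V, b, hbe, hbs, hV⟩ := hY
  obtain ⟨U, u, k, -, -, hae, has, -, hk⟩ :=
    Groth.Agent.Lib.Helper3.exists_chart_over X.property Y.property f.hom b hbe
  have h1 : LocallyOfFiniteType k.left := hf _ _ k hae hbe hk
  have : IsLocallyNoetherian V.left := hV
  have h2 : LocallyOfFinitePresentation k.left := inferInstance
  exact Groth.Agent.Lib.Helper3.locP_of_chart
    Groth.Agent.Lib.Helper3.isEtLocal_locallyOfFinitePresentation f.hom _ hae (has hbs) _ hbe k hk h2

end Groth.Agent.S9958
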