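import Groth.Statements.S9960
import Groth.Agent.Lib.Helper3.AlgSpUnram
import Groth.Agent.Lib.Helper3.AlgSpUC3
import Groth.Agent.S9937

set_option autoImplicit false
universe u
open CategoryTheory CategoryTheory.Limits AlgebraicGeometry
open AlgSp

namespace Groth.Agent.S9960

/-- The diagonal of a morphism locally of finite type is locally of finite presentation, and of finite
presentation when the morphism is also quasi-separated. -/
theorem result {S : Scheme.{u}} {X Y : AlgSp.Space S} (f : X ⟶ Y)
    (hf : AlgSp.LocP @LocallyOfFiniteType f.hom) :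
    AlgSp.LocP @LocallyOfFinitePresentation (pullback.diagonal f.hom) ∧
    (AlgSp.IsQuasiSeparatedMor f.hom → AlgSp.IsFinitePresentationMor (pullback.diagonal f.hom)) := by
  have hX := X.property
  have hY := Y.property
  have hXX : IsAlgSpace (pullback f.hom f.hom) :=
    Groth.Agent.Lib.Helper3.isAlgSpace_of_isPullback' hY hX hX (IsPullback.of_hasPullback f.hom f.hom)
  have hsnd : LocP @LocallyOfFiniteType (pullback.snd f.hom f.hom) :=
    Groth.Agent.Lib.Helper3.locP_of_isPullback Groth.Agent.Lib.Helper3.isEtLocal_locallyOfFiniteType hX hY hX hXX f.hom f.hom _ _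
      (IsPullback.of_hasPullback f.hom f.hom) hf
  have hid : LocP @LocallyOfFinitePresentation
      (pullback.diagonal f.hom ≫ pullback.snd f.hom f.hom) := by
    rw [pullback.diagonal_snd]
    exact Groth.Agent.Lib.Helper3.locP_mono (fun _ _ k hk => Groth.Agent.Lib.Helper3.isEtLocal_locallyOfFinitePresentation.etale_le k hk)
      (Groth.Agent.Lib.Helper3.locP_etale_of_isEtaleMor (Groth.Agent.Lib.Helper3.isEtaleMor_id X.obj))
  have hΔ : LocP @LocallyOfFinitePresentation (pullback.diagonal f.hom) :=
    Groth.Agent.Lib.Helper3.locP_of_postcomp Groth.Agent.Lib.Helper3.isEtLocal_locallyOfFinitePresentation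
      (fun a b hab hb => Groth.Agent.Lib.Helper3.locallyOfFinitePresentation_of_comp a b hab hb)
      hX hXX hX _ _ hid hsnd
  refine ⟨hΔ, fun hqs => ⟨hΔ, Groth.Agent.Lib.Helper3.isQuasiCompactMor_of_repWith_quasiCompact _ hqs, ?_⟩⟩
  have : IsIso (pullback.diagonal (pullback.diagonal f.hom)) := inferInstance
  exact Groth.Agent.S9937.repWith_of_isIso @QuasiCompact (fun k _ => inferInstance) _

end Groth.Agent.S9960
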