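import Groth.Statements.S9963
import Groth.Agent.Lib.Helper3.AlgSpLocBase
import Groth.Agent.Lib.Helper3.AlgSpFpqc3
import Groth.Agent.Lib.Helper3.AlgSpQC3

set_option autoImplicit false
universe u
open CategoryTheory CategoryTheory.Limits AlgebraicGeometry
open AlgSp

namespace Groth.Agent.S9963

open Groth.Agent.Lib.Helper3 in
theorem isUnivSubmersiveMor_of_flat_qc_surjective {S : Scheme.{u}} {X Y : AlgSp.Sp S}
    (hX : IsAlgSpace X) (hY : IsAlgSpace Y) (f : X ⟶ Y) (hfl : AlgSp.LocP @Flat f)
    (hqc : AlgSp.IsQuasiCompactMor f) (hs : AlgSp.IsSurjectiveMor f) :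
    AlgSp.IsUnivSubmersiveMor f := by
  rw [isUnivSubmersiveMor_iff_affine]
  intro Z hZ g P fst snd sq
  have hP : IsAlgSpace P := isAlgSpace_of_isPullback' hY hX (IsAlgSpace.yon_obj Z) sq
  have hZc : CompactSpace ↥Z.left := inferInstance
  obtain ⟨U', u, hue, hus, hc⟩ := hqc (IsAlgSpace.yon_obj Z) (isQuasiCompactSp_yon hZc) g fst snd sq
  have hsnd : LocP @Flat snd :=
    locP_of_isPullback isEtLocal_flat hX hY (IsAlgSpace.yon_obj Z) hP f g fst snd sq hfl
  obtain ⟨k, hk⟩ := (yon S).map_surjective (u ≫ snd)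
  have hkf : Flat k.left := hsnd u (𝟙 _) k hue (repWith_id _ Z) (by rw [hk, Category.comp_id])
  have hcomp : Points.map snd ∘ Points.map u =
      (Points.schemeHomeo Z) ∘ (fun t => k.left t) ∘ (Points.schemeHomeo U').symm := by
    rw [← Points.map_yon_map_eq k, hk]
    funext x
    exact (Points.map_comp _ _ x).symm
  have hks : Surjective k.left := by
    refine ⟨fun z => ?_⟩
    obtain ⟨y, hy⟩ := isSurjectiveMor_snd_of_isPullback sq hs (Points.schemeHomeo Z z)
    obtain ⟨w, rfl⟩ := surjective_map_of_repWith hus y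
    refine ⟨(Points.schemeHomeo U').symm w, ?_⟩
    apply (Points.schemeHomeo Z).injective
    rw [← hy]
    exact (congrFun hcomp w).symm
  have hkq : QuasiCompact k.left := inferInstance
  have hq := Flat.isQuotientMap_of_surjective k.left
  refine Topology.IsQuotientMap.of_comp (f := Points.map u) (Points.continuous_map u)
    (Points.continuous_map snd) ?_
  rw [hcomp]
  exact (Points.schemeHomeo Z).isQuotientMap.comp
    (hq.comp (Points.schemeHomeo U').symm.isQuotientMap)

/-- A morphism of algebraic spaces that is flat, quasi-compact and surjective is submersive, and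
universally submersive. -/
theorem result {S : Scheme.{u}} {X Y : AlgSp.Space S} (f : X ⟶ Y)
    (hfl : AlgSp.LocP @Flat f.hom) (hqc : AlgSp.IsQuasiCompactMor f.hom) (hs : AlgSp.IsSurjectiveMor f.hom) :
    AlgSp.IsSubmersiveMor f.hom ∧ AlgSp.IsUnivSubmersiveMor f.hom := by
  have h := isUnivSubmersiveMor_of_flat_qc_surjective X.property Y.property f.hom hfl hqc hs
  exact ⟨h Y.property (𝟙 _) (𝟙 _) f.hom IsPullback.of_id_fst, h⟩

end Groth.Agent.S9963
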