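import Groth.Statements.S9965
import Groth.Agent.Lib.Helper3.SchImQC4
import Groth.Agent.Lib.Helper3.AlgSpLocP5

set_option autoImplicit false
universe u
open CategoryTheory CategoryTheory.Limits AlgebraicGeometry
open AlgSp

namespace Groth.Agent.S9965

/-- For a quasi-compact morphism of algebraic spaces, forming the scheme theoretic image commutes with
etale base change, and the image of the morphism is dense in the scheme theoretic image. -/
theorem result {S : Scheme.{u}} {X Y Z : AlgSp.Space S} (f : X ⟶ Y) (i : Z ⟶ Y)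
    (hq : AlgSp.IsQuasiCompactMor f.hom) (hZ : AlgSp.IsSchImage f.hom i.hom) :
    (∀ (V XV ZV : AlgSp.Space S) (b : V ⟶ Y), AlgSp.IsEtaleMor b.hom →
      ∀ (f₁ : XV ⟶ X) (fV : XV ⟶ V) (i₁ : ZV ⟶ Z) (iV : ZV ⟶ V),
        IsPullback f₁.hom fV.hom f.hom b.hom → IsPullback i₁.hom iV.hom i.hom b.hom →
        AlgSp.IsSchImage fV.hom iV.hom) ∧
    Set.range (AlgSp.Points.map i.hom) ⊆ closure (Set.range (AlgSp.Points.map f.hom)) := by
  open Groth.Agent.Lib.Helper3 Groth.Agent.Lib.Helper3.SchIm in
  refine ⟨?_, range_subset_closure_of_quasiCompact f hq i hZ⟩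
  intro V XV ZV b hb f₁ fV i₁ iV sqX sqZ
  have hbf : AlgSp.LocP @Flat b.hom := locP_mono (fun A B φ hφ => by
    have : Etale φ := hφ
    show Flat φ
    infer_instance) (locP_etale_of_isEtaleMor hb)
  exact isSchImage_of_flat_base_change' b hbf f hq i hZ f₁ fV sqX i₁ iV sqZ

end Groth.Agent.S9965
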