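import Groth.Statements.S9967
import Groth.Agent.Lib.Helper3.SchImFBC
import Groth.Agent.Lib.Helper3.AlgSpQC3
import Groth.Agent.Lib.Helper3.AlgSpLocP4
import Groth.Agent.Lib.Helper3.AlgSpFibre

set_option autoImplicit false
universe u
open CategoryTheory CategoryTheory.Limits AlgebraicGeometry
open AlgSp

namespace Groth.Agent.S9967

/-- For a separated f : X -> Y and a section s of f over a quasi-compact open V of Y, the scheme
theoretic image of s maps isomorphically to Y over V. -/
theorem result {S : Scheme.{u}} {X Y V Y' : AlgSp.Space S} (f : X ⟶ Y) (j : V ⟶ Y)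
    (hj : AlgSp.RepWith @IsOpenImmersion j.hom) (hjq : AlgSp.IsQuasiCompactMor j.hom) (hf : AlgSp.IsSeparatedMor f.hom)
    (s : V ⟶ X) (hs : s ≫ f = j) (c : Y' ⟶ X) (hc : AlgSp.IsSchImage s.hom c.hom)
    {P : AlgSp.Sp S} (fst : P ⟶ Y'.obj) (snd : P ⟶ V.obj) (sq : IsPullback fst snd (c ≫ f).hom j.hom) :
    IsIso snd := by
  open Groth.Agent.Lib.Helper3 Groth.Agent.Lib.Helper3.SchIm in
  subst hs
  have hjh : (s ≫ f).hom = s.hom ≫ f.hom := rfl
  have hcf : (c ≫ f).hom = c.hom ≫ f.hom := rfl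
  rw [hjh] at hj hjq sq
  rw [hcf] at sq
  have hjmono : Mono (s.hom ≫ f.hom) :=
    Groth.Agent.S9928.mono_of_repWith @IsOpenImmersion
      (fun g hg => by have : IsOpenImmersion g := hg; infer_instance) _ hj
  -- the base change of `X` to `V`
  have sqXV := IsPullback.of_hasPullback (s.hom ≫ f.hom) f.hom
  have hXV : AlgSp.IsAlgSpace (pullback (s.hom ≫ f.hom) f.hom) :=
    isAlgSpace_of_isPullback' Y.property V.property X.property sqXV
  have hP : AlgSp.IsAlgSpace P :=
    isAlgSpace_of_isPullback' Y.property Y'.property V.property sq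
  -- the graph section
  have hσcl : AlgSp.RepWith @IsClosedImmersion
      (pullback.lift (𝟙 V.obj) s.hom (by simp) : V.obj ⟶ pullback (s.hom ≫ f.hom) f.hom) :=
    MorphismProperty.of_isPullback (pullback_lift_diagonal_isPullback s.hom f.hom) hf
  set σ : V.obj ⟶ pullback (s.hom ≫ f.hom) f.hom := pullback.lift (𝟙 V.obj) s.hom (by simp)
    with hσdef
  have hσ1 : σ ≫ pullback.fst (s.hom ≫ f.hom) f.hom = 𝟙 _ := pullback.lift_fst _ _ _
  have hσ2 : σ ≫ pullback.snd (s.hom ≫ f.hom) f.hom = s.hom := pullback.lift_snd _ _ _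
  have hσmono : Mono σ := mono_of_closedImmersion _ hσcl
  -- the projection to `X` is a quasi-compact open immersion
  have hpro : AlgSp.RepWith @IsOpenImmersion (pullback.snd (s.hom ≫ f.hom) f.hom) :=
    MorphismProperty.of_isPullback sqXV hj
  have hprq : AlgSp.RepWith @QuasiCompact (pullback.snd (s.hom ≫ f.hom) f.hom) :=
    MorphismProperty.of_isPullback sqXV
      (repWith_quasiCompact_of_isQuasiCompactMor _ hj.1 hjq)
  have hprflat : AlgSp.LocP @Flat (pullback.snd (s.hom ≫ f.hom) f.hom) :=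
    locP_of_repWith isEtLocal_flat _ (MorphismProperty.relative_monotone (fun A B φ hφ => by
      have : IsOpenImmersion ((Over.forget S).map φ) := hφ
      change Flat ((Over.forget S).map φ)
      infer_instance) _ hpro)
  have hσq : AlgSp.RepWith @QuasiCompact σ :=
    MorphismProperty.relative_monotone (fun A B φ hφ => by
      have : IsClosedImmersion ((Over.forget S).map φ) := hφ
      change QuasiCompact ((Over.forget S).map φ)
      infer_instance) _ hσcl
  have hsq : AlgSp.RepWith @QuasiCompact s.hom := by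
    rw [← hσ2]
    exact MorphismProperty.comp_mem _ _ _ hσq hprq
  have hsqc : AlgSp.IsQuasiCompactMor s.hom := isQuasiCompactMor_of_repWith_quasiCompact _ hsq
  -- the two base change squares
  have sqV : IsPullback (𝟙 V.obj) σ s.hom (pullback.snd (s.hom ≫ f.hom) f.hom) := by
    refine (IsPullback.of_right ?_ (by rw [hσ2, Category.id_comp]) sqXV).flip
    rw [hσ1]
    exact IsKernelPair.id_of_mono _
  have hw : snd ≫ (s.hom ≫ f.hom) = (fst ≫ c.hom) ≫ f.hom := by
    rw [Category.assoc]; exact sq.w.symm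
  have sqZ : IsPullback fst (sqXV.lift snd (fst ≫ c.hom) hw) c.hom
      (pullback.snd (s.hom ≫ f.hom) f.hom) := by
    refine (IsPullback.of_right ?_ (sqXV.lift_snd _ _ hw) sqXV).flip
    rw [sqXV.lift_fst]
    exact sq.flip
  have key := isSchImage_of_flat_base_change
    (X := ⟨pullback (s.hom ≫ f.hom) f.hom, hXV⟩) (ZX := ⟨P, hP⟩) (VX := V)
    (ObjectProperty.homMk (pullback.snd (s.hom ≫ f.hom) f.hom)) hprflat s hsq.1 hsqc c hc
    (𝟙 V) (ObjectProperty.homMk σ) sqV (ObjectProperty.homMk fst)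
    (ObjectProperty.homMk (sqXV.lift snd (fst ≫ c.hom) hw)) sqZ
  obtain ⟨hcl, ⟨σ', hσ'⟩, hmin⟩ := key
  obtain ⟨k, hk⟩ := hmin σ V.property hσcl ⟨𝟙 _, Category.id_comp _⟩
  change σ' ≫ sqXV.lift snd (fst ≫ c.hom) hw = σ at hσ'
  change k ≫ σ = sqXV.lift snd (fst ≫ c.hom) hw at hk
  have hmono2 : Mono (sqXV.lift snd (fst ≫ c.hom) hw) := mono_of_closedImmersion _ hcl
  have hsnd : snd = k := by
    rw [← sqXV.lift_fst snd (fst ≫ c.hom) hw, ← hk, Category.assoc, hσ1, Category.comp_id]
  rw [hsnd]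
  refine ⟨σ', ?_, ?_⟩
  · rw [← cancel_mono (sqXV.lift snd (fst ≫ c.hom) hw), Category.assoc, hσ', hk, Category.id_comp]
  · rw [← cancel_mono σ, Category.assoc, hk, hσ', Category.id_comp]

end Groth.Agent.S9967
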