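import Groth.Statements.S9972
import Groth.Agent.Lib.Helper3.AlgSpFibre

set_option autoImplicit false
universe u
open CategoryTheory CategoryTheory.Limits AlgebraicGeometry
open AlgSp

namespace Groth.Agent.S9972

/-- Two morphisms to an algebraic space separated over B that agree on an open subspace whose scheme
theoretic closure is everything are equal. -/
theorem result {S : Scheme.{u}} {U X Y B : AlgSp.Space S} (q : Y ⟶ B)
    (hq : AlgSp.IsSeparatedMor q.hom) (f g : X ⟶ Y) (hfg : f ≫ q = g ≫ q) (j : U ⟶ X)
    (hj : AlgSp.RepWith @IsOpenImmersion j.hom) (hcl : AlgSp.IsSchImage j.hom (𝟙 X.obj)) (heq : j ≫ f = j ≫ g) :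
    f = g := by
  have hfg' : f.hom ≫ q.hom = g.hom ≫ q.hom := congrArg (fun φ => φ.hom) hfg
  have heq' : j.hom ≫ f.hom = j.hom ≫ g.hom := congrArg (fun φ => φ.hom) heq
  let L : X.obj ⟶ pullback q.hom q.hom := pullback.lift f.hom g.hom hfg'
  let E : AlgSp.Sp S := pullback L (pullback.diagonal q.hom)
  let e : E ⟶ X.obj := pullback.fst L (pullback.diagonal q.hom)
  have hPP : AlgSp.IsAlgSpace (pullback q.hom q.hom) :=
    Groth.Agent.Lib.Helper3.isAlgSpace_of_isPullback' B.property Y.property Y.property
      (IsPullback.of_hasPullback q.hom q.hom)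
  have hE : AlgSp.IsAlgSpace E :=
    Groth.Agent.Lib.Helper3.isAlgSpace_of_isPullback' hPP X.property Y.property
      (IsPullback.of_hasPullback L (pullback.diagonal q.hom))
  have he : AlgSp.RepWith @IsClosedImmersion e :=
    MorphismProperty.of_isPullback (IsPullback.of_hasPullback L (pullback.diagonal q.hom)).flip hq
  have hjw : j.hom ≫ L = (j.hom ≫ f.hom) ≫ pullback.diagonal q.hom := by
    apply pullback.hom_ext
    · simp only [L, Category.assoc, pullback.lift_fst, pullback.diagonal_fst, Category.comp_id]
    · simp only [L, Category.assoc, pullback.lift_snd, pullback.diagonal_snd, Category.comp_id,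
        heq']
  obtain ⟨k, hk⟩ := hcl.2.2 e hE he ⟨pullback.lift j.hom (j.hom ≫ f.hom) hjw, pullback.lift_fst _ _ _⟩
  have h1 : e ≫ f.hom = e ≫ g.hom := by
    have c := pullback.condition (f := L) (g := pullback.diagonal q.hom)
    have c1 := congrArg (fun φ => φ ≫ pullback.fst q.hom q.hom) c
    have c2 := congrArg (fun φ => φ ≫ pullback.snd q.hom q.hom) c
    simp only [Category.assoc, L, pullback.lift_fst, pullback.lift_snd,
      pullback.diagonal_fst, pullback.diagonal_snd, Category.comp_id] at c1 c2
    exact c1.trans c2.symm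
  apply ObjectProperty.hom_ext
  calc f.hom = (k ≫ e) ≫ f.hom := by rw [hk, Category.id_comp]
    _ = (k ≫ e) ≫ g.hom := by rw [Category.assoc, h1, Category.assoc]
    _ = g.hom := by rw [hk, Category.id_comp]

end Groth.Agent.S9972
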