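import Groth.Statements.S9976
import Groth.Agent.Lib.Helper3.AlgSpLocP4
import Groth.Agent.Lib.Helper3.AlgSpHasAtMor
import Groth.Agent.Lib.Helper3.AlgSpFibre
import Groth.Agent.Lib.Helper3.AlgSpPoints
import Groth.Agent.Lib.Helper3.AlgSpDiag
-- import your own Groth.Agent.* helpers here

set_option autoImplicit false
universe u
open CategoryTheory CategoryTheory.Limits AlgebraicGeometry
open AlgSp

namespace Groth.Agent.S9976

section H
namespace W35
open Groth.Agent.Lib.Helper3

variable {S : Scheme.{u}}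

theorem ofPt_yon_map_comp {F : Sp S} {T T' : Over S} (φ : T ⟶ T') (g : (yon S).obj T' ⟶ F)
    (t : ↥T.left) : Points.ofPt ((yon S).map φ ≫ g) t = Points.ofPt g (φ.left t) := by
  rw [Points.ofPt_eq_map_ofScheme, Points.map_comp]
  have := Points.map_yon_map_apply φ t
  change Points.map ((yon S).map φ) (Points.ofScheme T t) = Points.ofScheme T' (φ.left t) at this
  rw [this, ← Points.ofPt_eq_map_ofScheme]

/-- a field point of finite type in a nonempty scheme -/
theorem exists_ft_field_point (W : Scheme.{u}) (w₀ : W) :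
    ∃ (K : Type u) (_ : Field K) (j : Spec (CommRingCat.of K) ⟶ W), LocallyOfFiniteType j := by
  obtain ⟨_, ⟨U, hU : IsAffineOpen U, rfl⟩, hwU, -⟩ :=
    W.isBasis_affineOpens.exists_subset_of_mem_open (Set.mem_univ w₀) isOpen_univ
  have : Nontrivial Γ(W, U) := by
    have := (hU.primeIdealOf ⟨w₀, hwU⟩).isPrime
    exact ⟨⟨0, 1, fun h => this.ne_top ((Ideal.eq_top_iff_one _).2 (h ▸ Ideal.zero_mem _))⟩⟩
  obtain ⟨m, hm⟩ := Ideal.exists_maximal Γ(W, U)
  let _ : Field (Γ(W, U) ⧸ m) := Ideal.Quotient.field m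
  refine ⟨Γ(W, U) ⧸ m, inferInstance,
    Spec.map (CommRingCat.ofHom (Ideal.Quotient.mk m)) ≫ hU.fromSpec, ?_⟩
  have : IsClosedImmersion (Spec.map (CommRingCat.ofHom (Ideal.Quotient.mk m))) :=
    IsClosedImmersion.spec_of_surjective _ Ideal.Quotient.mk_surjective
  infer_instance

theorem main {X Y : AlgSp.Space S} (f : X ⟶ Y)
    (hf : AlgSp.LocP @LocallyOfFiniteType f.hom) (hs : AlgSp.IsSurjectiveMor f.hom) (y : AlgSp.Points Y.obj)
    (hy : ∃ (k : Type u) (_ : Field k) (str : Spec (CommRingCat.of k) ⟶ S) (ξ : (AlgSp.yon S).obj (Over.mk str) ⟶ Y.obj),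
        AlgSp.LocP @LocallyOfFiniteType ξ ∧ AlgSp.Points.ofPt ξ (IsLocalRing.closedPoint k) = y) :
    ∃ x : AlgSp.Points X.obj, AlgSp.Points.map f.hom x = y ∧
      ∃ (k : Type u) (_ : Field k) (str : Spec (CommRingCat.of k) ⟶ S) (ξ : (AlgSp.yon S).obj (Over.mk str) ⟶ X.obj),
        AlgSp.LocP @LocallyOfFiniteType ξ ∧ AlgSp.Points.ofPt ξ (IsLocalRing.closedPoint k) = x := by
  obtain ⟨k, _, str, ξ, hξ, rfl⟩ := hy
  have hT := isEtLocal_locallyOfFiniteType.{u}
  have hX := X.property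
  have hY := Y.property
  have hT₀ : IsAlgSpace ((yon S).obj (Over.mk str)) := IsAlgSpace.yon_obj _
  have sq := IsPullback.of_hasPullback f.hom ξ
  have hP : IsAlgSpace (pullback f.hom ξ) := isAlgSpace_of_isPullback' hY hX hT₀ sq
  have hsnd : LocP @LocallyOfFiniteType (pullback.snd f.hom ξ) :=
    locP_of_isPullback hT hX hY hT₀ hP f.hom ξ _ _ sq hf
  have hfst : LocP @LocallyOfFiniteType (pullback.fst f.hom ξ) :=
    locP_of_isPullback hT hT₀ hY hX hP ξ f.hom _ _ sq.flip hξ
  -- a point of P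
  obtain ⟨x₀, hx₀⟩ := hs (Points.ofPt ξ (IsLocalRing.closedPoint k))
  obtain ⟨z, -, -⟩ := Points.exists_of_isPullback sq x₀
    (Points.ofScheme _ (IsLocalRing.closedPoint k))
    (hx₀.trans (Points.ofPt_eq_map_ofScheme ξ _))
  obtain ⟨W, c, hce, hcs⟩ := hP.atlas
  obtain ⟨w₀, -⟩ := exists_ofPt_eq c hcs z
  obtain ⟨K, _, j, hj⟩ := exists_ft_field_point W.left w₀
  obtain ⟨g, hg⟩ := (yon S).map_surjective (c ≫ pullback.snd f.hom ξ)
  let ι : Over.mk (j ≫ W.hom) ⟶ W := Over.homMk j rfl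
  have hι : LocP @LocallyOfFiniteType ((yon S).map ι) :=
    locP_of_repWith hT _ ((repWith_yon_map_iff _ _).2 hj)
  have hc : LocP @LocallyOfFiniteType c :=
    locP_of_repWith hT _ (repWith_mono (fun _ _ f hf => by have : Etale f := hf; infer_instance) hce)
  have hW : IsAlgSpace ((yon S).obj W) := IsAlgSpace.yon_obj _
  have hT₁ : IsAlgSpace ((yon S).obj (Over.mk (j ≫ W.hom))) := IsAlgSpace.yon_obj _
  have h1 : LocP @LocallyOfFiniteType (c ≫ pullback.fst f.hom ξ) :=
    locP_comp hT hW hP hX _ _ hc hfst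
  have h2 : LocP @LocallyOfFiniteType ((yon S).map ι ≫ c ≫ pullback.fst f.hom ξ) :=
    locP_comp hT hT₁ hW hX _ _ hι h1
  refine ⟨Points.ofPt ((yon S).map ι ≫ c ≫ pullback.fst f.hom ξ) (IsLocalRing.closedPoint K), ?_,
    K, inferInstance, j ≫ W.hom, _, h2, rfl⟩
  have h3 : ((yon S).map ι ≫ c ≫ pullback.fst f.hom ξ) ≫ f.hom = (yon S).map (ι ≫ g) ≫ ξ := by
    rw [Functor.map_comp, hg]
    simp only [Category.assoc, pullback.condition]
  refine (Points.map_ofPt _ _ _).trans ?_
  have e1 : Points.ofPt (((yon S).map ι ≫ c ≫ pullback.fst f.hom ξ) ≫ f.hom) (IsLocalRing.closedPoint K) =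
      Points.ofPt ((yon S).map (ι ≫ g) ≫ ξ) (IsLocalRing.closedPoint K) := by
    rw [h3]
  refine e1.trans ?_
  refine (ofPt_yon_map_comp (ι ≫ g) ξ _).trans ?_
  have hsub : Subsingleton ↥(Spec (CommRingCat.of k)) :=
    (inferInstance : Subsingleton (PrimeSpectrum k))
  have e2 : (ι ≫ g).left (IsLocalRing.closedPoint K) =
      (show ↥(Spec (CommRingCat.of k)) from IsLocalRing.closedPoint k) :=
    @Subsingleton.elim _ hsub _ _
  exact congrArg (Points.ofPt ξ) e2

end W35
end H


/-- Under a surjective morphism locally of finite type, every finite type point of the target is the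
image of a finite type point of the source. (The published lemma states that the two sets of finite
type points correspond exactly; the inclusion of the image in the finite type points of the target
holds for every morphism locally of finite type and is omitted here.) -/
theorem result {S : Scheme.{u}} {X Y : AlgSp.Space S} (f : X ⟶ Y)
    (hf : AlgSp.LocP @LocallyOfFiniteType f.hom) (hs : AlgSp.IsSurjectiveMor f.hom) (y : AlgSp.Points Y.obj)
    (hy : ∃ (k : Type u) (_ : Field k) (str : Spec (CommRingCat.of k) ⟶ S) (ξ : (AlgSp.yon S).obj (Over.mk str) ⟶ Y.obj),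
        AlgSp.LocP @LocallyOfFiniteType ξ ∧ AlgSp.Points.ofPt ξ (IsLocalRing.closedPoint k) = y) :
    ∃ x : AlgSp.Points X.obj, AlgSp.Points.map f.hom x = y ∧
      ∃ (k : Type u) (_ : Field k) (str : Spec (CommRingCat.of k) ⟶ S) (ξ : (AlgSp.yon S).obj (Over.mk str) ⟶ X.obj),
        AlgSp.LocP @LocallyOfFiniteType ξ ∧ AlgSp.Points.ofPt ξ (IsLocalRing.closedPoint k) = x := by
  exact W35.main f hf hs y hy

end Groth.Agent.S9976
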