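import Groth.Statements.S9978
import Groth.Agent.S0566
import Groth.Agent.S9833
import Groth.Agent.Lib.Helper3.AlgSpLocP4
-- import your own Groth.Agent.* helpers here

set_option autoImplicit false
universe u
open CategoryTheory CategoryTheory.Limits AlgebraicGeometry
open AlgSp

namespace Groth.Agent.S9978

section H
namespace W1
open Groth.Agent.Lib.Helper3
set_option backward.isDefEq.respectTransparency.types false

/-- a scheme locally of finite type over a Nagata scheme is Nagata -/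
theorem sch_nagata {U V : Scheme.{u}} (h : U ⟶ V) [LocallyOfFiniteType h]
    (hV : ∀ W : V.Opens, IsAffineOpen W → CAlg.IsNagata ↑Γ(V, W)) :
    ∀ W : U.Opens, IsAffineOpen W → CAlg.IsNagata ↑Γ(U, W) := by
  have key : ∀ x : U, ∃ W : U.Opens, x ∈ W ∧ IsAffineOpen W ∧ CAlg.IsNagata ↑Γ(U, W) := by
    intro x
    obtain ⟨_, ⟨V₁, hV₁, rfl⟩, hxV, -⟩ := V.isBasis_affineOpens.exists_subset_of_mem_open
      (Set.mem_univ (h x)) isOpen_univ
    obtain ⟨_, ⟨W₁, hW₁, rfl⟩, hxW, hWV : W₁ ≤ h ⁻¹ᵁ V₁⟩ :=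
      U.isBasis_affineOpens.exists_subset_of_mem_open hxV (h ⁻¹ᵁ V₁).2
    refine ⟨W₁, hxW, hW₁, ?_⟩
    have hft : (h.appLE V₁ W₁ hWV).hom.FiniteType := h.finiteType_appLE hV₁ hW₁ hWV
    algebraize [(h.appLE V₁ W₁ hWV).hom]
    exact Groth.Agent.S0566.result ↑Γ(V, V₁) (hV V₁ hV₁) ↑Γ(U, W₁)
  choose W hxW hWaff hWN using key
  have hsup : iSup W = ⊤ := by
    rw [eq_top_iff]
    intro x _
    exact TopologicalSpace.Opens.mem_iSup.2 ⟨x, hxW x⟩
  exact fun W' hW' => Groth.Agent.S9833.result U W hsup hWaff hWN W' hW'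

theorem main {S : Scheme.{u}} {X Y : AlgSp.Space S} (f : X ⟶ Y)
    (hf : AlgSp.LocP @LocallyOfFiniteType f.hom)
    (hY : AlgSp.EtaleLocally (fun U => ∀ V : U.Opens, IsAffineOpen V → CAlg.IsNagata ↑Γ(U, V)) Y.obj) :
    AlgSp.EtaleLocally (fun U => ∀ V : U.Opens, IsAffineOpen V → CAlg.IsNagata ↑Γ(U, V)) X.obj := by
  obtain ⟨V, b, hbe, hbs, hVN⟩ := hY
  obtain ⟨U, u, h, hue, hus, hae, has, hh, hcomm⟩ :=
    exists_chart_over X.property Y.property f.hom b hbe
  haveI : LocallyOfFiniteType h.left := hf _ _ h hae hbe hcomm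
  exact ⟨U, _, hae, has hbs, sch_nagata h.left hVN⟩

end W1
end H


/-- An algebraic space locally of finite type over a Nagata algebraic space is Nagata. -/
theorem result {S : Scheme.{u}} {X Y : AlgSp.Space S} (f : X ⟶ Y)
    (hf : AlgSp.LocP @LocallyOfFiniteType f.hom)
    (hY : AlgSp.EtaleLocally (fun U => ∀ V : U.Opens, IsAffineOpen V → CAlg.IsNagata ↑Γ(U, V)) Y.obj) :
    AlgSp.EtaleLocally (fun U => ∀ V : U.Opens, IsAffineOpen V → CAlg.IsNagata ↑Γ(U, V)) X.obj := by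
  exact W1.main f hf hY

end Groth.Agent.S9978
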