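import Groth.Statements.S9980
import Groth.Agent.Lib.Helper15.KernelPairEt
import Groth.Agent.S9975
import Groth.Agent.S9977
-- import your own Groth.Agent.* helpers here

set_option autoImplicit false
universe u
open CategoryTheory CategoryTheory.Limits AlgebraicGeometry
open AlgSp

namespace Groth.Agent.S9980

section H
namespace W1

open Groth.Agent.Lib.Helper3 Groth.Agent.Lib.Helper15 Groth.Agent.Lib.Helper15.FieldQuot
  Groth.Agent.Lib.Helper15.KernelPairEt

theorem fwd1 {S : Scheme.{u}} (X : AlgSp.Space S) (x : AlgSp.Points X.obj)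
    (k : Type u) [Field k] (str : Spec (CommRingCat.of k) ⟶ S)
    (ξ : (AlgSp.yon S).obj (Over.mk str) ⟶ X.obj) (hξ : AlgSp.LocP @LocallyOfFiniteType ξ)
    (hx : AlgSp.Points.ofPt ξ (IsLocalRing.closedPoint k) = x) :
    ∃ (Z : AlgSp.Space S) (f : Z ⟶ X), Nonempty (Unique (AlgSp.Points Z.obj)) ∧
        AlgSp.LocP @LocallyOfFiniteType f.hom ∧ Set.range (AlgSp.Points.map f.hom) = {x} := by
  haveI : Unique ↥(Over.mk str).left := inferInstanceAs (Unique (PrimeSpectrum k))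
  refine ⟨(ofScheme S).obj (Over.mk str), ObjectProperty.homMk ξ,
    ⟨(Points.schemeHomeo (Over.mk str)).toEquiv.symm.unique⟩, hξ, ?_⟩
  ext y
  simp only [Set.mem_range, Set.mem_singleton_iff]
  constructor
  · rintro ⟨z, rfl⟩
    obtain ⟨t, rfl⟩ := (Points.schemeHomeo (Over.mk str)).surjective z
    rw [← hx]
    have : t = IsLocalRing.closedPoint k := Subsingleton.elim _ _
    rw [this]
    exact (Points.ofPt_eq_map_ofScheme ξ _).symm
  · rintro rfl
    exact ⟨Points.ofScheme (Over.mk str) (IsLocalRing.closedPoint k),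
      ((Points.ofPt_eq_map_ofScheme ξ _).symm.trans hx)⟩

theorem bwd1 {S : Scheme.{u}} (X : AlgSp.Space S) (x : AlgSp.Points X.obj)
    (Z : AlgSp.Space S) (f : Z ⟶ X) (hU : Nonempty (Unique (AlgSp.Points Z.obj)))
    (hf : AlgSp.LocP @LocallyOfFiniteType f.hom) (hr : Set.range (AlgSp.Points.map f.hom) = {x}) :
    ∃ (k : Type u) (_ : Field k) (str : Spec (CommRingCat.of k) ⟶ S) (ξ : (AlgSp.yon S).obj (Over.mk str) ⟶ X.obj),
        AlgSp.LocP @LocallyOfFiniteType ξ ∧ AlgSp.Points.ofPt ξ (IsLocalRing.closedPoint k) = x := by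
  obtain ⟨hU⟩ := hU
  obtain ⟨z₀, -, k, _, str, ξZ, hξZ, hz⟩ :=
    (Groth.Agent.S9977.result Z).1 Set.univ isOpen_univ.isLocallyClosed ⟨hU.default, trivial⟩
  refine ⟨k, inferInstance, str, ξZ ≫ f.hom, ?_, ?_⟩
  · exact locP_comp isEtLocal_locallyOfFiniteType (IsAlgSpace.yon_obj _) Z.property X.property
      ξZ f.hom hξZ hf
  · have h1 : Points.ofPt (ξZ ≫ f.hom) (IsLocalRing.closedPoint k) ∈
        Set.range (AlgSp.Points.map f.hom) :=
      ⟨Points.ofPt ξZ (IsLocalRing.closedPoint k), rfl⟩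
    rw [hr] at h1
    exact h1

theorem bwd2 {S : Scheme.{u}} (X : AlgSp.Space S) (x : AlgSp.Points X.obj)
    (Z : AlgSp.Space S) (f : Z ⟶ X) (k : Type u) [Field k] (str : Spec (CommRingCat.of k) ⟶ S)
    (z : (AlgSp.yon S).obj (Over.mk str) ⟶ Z.obj) (hze : AlgSp.RepWith @Etale z)
    (hf : AlgSp.LocP @LocallyOfFiniteType f.hom)
    (hx : AlgSp.Points.ofPt (z ≫ f.hom) (IsLocalRing.closedPoint k) = x) :
    ∃ (k : Type u) (_ : Field k) (str : Spec (CommRingCat.of k) ⟶ S) (ξ : (AlgSp.yon S).obj (Over.mk str) ⟶ X.obj),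
        AlgSp.LocP @LocallyOfFiniteType ξ ∧ AlgSp.Points.ofPt ξ (IsLocalRing.closedPoint k) = x := by
  refine ⟨k, inferInstance, str, z ≫ f.hom, ?_, hx⟩
  have hz : LocP @LocallyOfFiniteType z :=
    locP_of_repWith isEtLocal_locallyOfFiniteType z (repWith_mono (fun _ _ g (hg : Etale g) =>
      (inferInstance : LocallyOfFiniteType g)) hze)
  exact locP_comp isEtLocal_locallyOfFiniteType (IsAlgSpace.yon_obj _) Z.property X.property
    z f.hom hz hf

theorem fwd2 {S : Scheme.{u}} (X : AlgSp.Space S) (x : AlgSp.Points X.obj)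
    (k : Type u) [Field k] (str : Spec (CommRingCat.of k) ⟶ S)
    (ξ : (AlgSp.yon S).obj (Over.mk str) ⟶ X.obj) (hξ : AlgSp.LocP @LocallyOfFiniteType ξ)
    (hx : AlgSp.Points.ofPt ξ (IsLocalRing.closedPoint k) = x) :
    ∃ (Z : AlgSp.Space S) (f : Z ⟶ X) (k : Type u) (_ : Field k) (str : Spec (CommRingCat.of k) ⟶ S)
        (z : (AlgSp.yon S).obj (Over.mk str) ⟶ Z.obj), AlgSp.RepWith @Etale z ∧ AlgSp.RepWith @Surjective z ∧
        AlgSp.LocP @LocallyOfFiniteType f.hom ∧ Mono f.hom ∧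
        AlgSp.Points.ofPt (z ≫ f.hom) (IsLocalRing.closedPoint k) = x := by
  obtain ⟨U, φ, u, hφ, hcl, hxu⟩ := Groth.Agent.S9975.W1.forward X x k str ξ hξ hx
  haveI hci : IsClosedImmersion (U.left.fromSpecResidueField u) :=
    isClosed_singleton_iff_isClosedImmersion.1 hcl
  let κ : Type u := ↥(U.left.residueField u)
  let i : Spec (CommRingCat.of κ) ⟶ U.left := U.left.fromSpecResidueField u
  let str' : Spec (CommRingCat.of κ) ⟶ S := i ≫ U.hom
  let i' : Over.mk str' ⟶ U := Over.homMk i rfl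
  haveI : IsClosedImmersion i'.left := hci
  have hilft : LocallyOfFiniteType i := inferInstanceAs (LocallyOfFiniteType (U.left.fromSpecResidueField u))
  obtain ⟨hp, hpt⟩ := AlgSpFT.locP_lft_chart_point X.property φ hφ i hilft
  set p : (yon S).obj (Over.mk str') ⟶ X.obj := (yon S).map i' ≫ φ with hpdef
  have hrep : Representable p := X.property.representable_from_yon p
  obtain ⟨R, t, s, sq⟩ := exists_pullback_charts p hrep p
  have hE : IsEqvRel s t := isEqvRel_of_kernelPair s t p sq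
  have hse : Etale s.left := etale_snd_of_kernelPair φ hφ str' i' t s sq
  have hte : Etale t.left := etale_snd_of_kernelPair φ hφ str' i' s t sq.flip
  have hEt : IsEtaleEqvRel s t := ⟨hE, hse, hte⟩
  obtain ⟨hpres, hZ⟩ := QuotRel.isPresentation_and_isAlgSpace s t hEt
  obtain ⟨f', hf'⟩ := QuotRel.exists_desc_quotMap s t p sq.w.symm
  have hloc : Sheaf.IsLocallySurjective (QuotRel.quotMap s t) :=
    (Sheaf.isLocallySurjective_iff_epi _).2 inferInstance
  have hmono : Mono f' :=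
    mono_of_common_kernelPair _ _ (QuotRel.quotMap s t) p f' hloc hf' hpres.isPullback sq
  have hlft : LocP @LocallyOfFiniteType f' :=
    locP_of_source_cover isEtLocal_locallyOfFiniteType X.property f' (QuotRel.quotMap s t)
      hpres.etale hpres.surjective (hf' ▸ hp)
  refine ⟨⟨_, hZ⟩, ObjectProperty.homMk f', κ, inferInstance, str', QuotRel.quotMap s t,
    hpres.etale, hpres.surjective, hlft, hmono, ?_⟩
  change Points.ofPt (QuotRel.quotMap s t ≫ f') _ = x
  rw [hf', hpt, ← hxu]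
  congr 1
  exact Scheme.fromSpecResidueField_apply _ _

theorem main {S : Scheme.{u}} (X : AlgSp.Space S) (x : AlgSp.Points X.obj) :
    ((∃ (k : Type u) (_ : Field k) (str : Spec (CommRingCat.of k) ⟶ S) (ξ : (AlgSp.yon S).obj (Over.mk str) ⟶ X.obj),
        AlgSp.LocP @LocallyOfFiniteType ξ ∧ AlgSp.Points.ofPt ξ (IsLocalRing.closedPoint k) = x) ↔
      ∃ (Z : AlgSp.Space S) (f : Z ⟶ X), Nonempty (Unique (AlgSp.Points Z.obj)) ∧
        AlgSp.LocP @LocallyOfFiniteType f.hom ∧ Set.range (AlgSp.Points.map f.hom) = {x}) ∧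
    ((∃ (k : Type u) (_ : Field k) (str : Spec (CommRingCat.of k) ⟶ S) (ξ : (AlgSp.yon S).obj (Over.mk str) ⟶ X.obj),
        AlgSp.LocP @LocallyOfFiniteType ξ ∧ AlgSp.Points.ofPt ξ (IsLocalRing.closedPoint k) = x) ↔
      ∃ (Z : AlgSp.Space S) (f : Z ⟶ X) (k : Type u) (_ : Field k) (str : Spec (CommRingCat.of k) ⟶ S)
        (z : (AlgSp.yon S).obj (Over.mk str) ⟶ Z.obj), AlgSp.RepWith @Etale z ∧ AlgSp.RepWith @Surjective z ∧
        AlgSp.LocP @LocallyOfFiniteType f.hom ∧ Mono f.hom ∧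
        AlgSp.Points.ofPt (z ≫ f.hom) (IsLocalRing.closedPoint k) = x) := by
  refine ⟨⟨?_, ?_⟩, ⟨?_, ?_⟩⟩
  · rintro ⟨k, _, str, ξ, hξ, hx⟩
    exact fwd1 X x k str ξ hξ hx
  · rintro ⟨Z, f, hU, hf, hr⟩
    exact bwd1 X x Z f hU hf hr
  · rintro ⟨k, _, str, ξ, hξ, hx⟩
    exact fwd2 X x k str ξ hξ hx
  · rintro ⟨Z, f, k, _, str, z, hze, -, hf, -, hx⟩
    exact bwd2 X x Z f k str z hze hf hx

end W1
end H


/-- Characterizations of finite type points via one-point algebraic spaces locally of finite type over X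
and via monomorphisms from quotients of spectra of fields. -/
theorem result {S : Scheme.{u}} (X : AlgSp.Space S) (x : AlgSp.Points X.obj) :
    ((∃ (k : Type u) (_ : Field k) (str : Spec (CommRingCat.of k) ⟶ S) (ξ : (AlgSp.yon S).obj (Over.mk str) ⟶ X.obj),
        AlgSp.LocP @LocallyOfFiniteType ξ ∧ AlgSp.Points.ofPt ξ (IsLocalRing.closedPoint k) = x) ↔
      ∃ (Z : AlgSp.Space S) (f : Z ⟶ X), Nonempty (Unique (AlgSp.Points Z.obj)) ∧
        AlgSp.LocP @LocallyOfFiniteType f.hom ∧ Set.range (AlgSp.Points.map f.hom) = {x}) ∧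
    ((∃ (k : Type u) (_ : Field k) (str : Spec (CommRingCat.of k) ⟶ S) (ξ : (AlgSp.yon S).obj (Over.mk str) ⟶ X.obj),
        AlgSp.LocP @LocallyOfFiniteType ξ ∧ AlgSp.Points.ofPt ξ (IsLocalRing.closedPoint k) = x) ↔
      ∃ (Z : AlgSp.Space S) (f : Z ⟶ X) (k : Type u) (_ : Field k) (str : Spec (CommRingCat.of k) ⟶ S)
        (z : (AlgSp.yon S).obj (Over.mk str) ⟶ Z.obj), AlgSp.RepWith @Etale z ∧ AlgSp.RepWith @Surjective z ∧
        AlgSp.LocP @LocallyOfFiniteType f.hom ∧ Mono f.hom ∧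
        AlgSp.Points.ofPt (z ≫ f.hom) (IsLocalRing.closedPoint k) = x) := by
  exact W1.main X x

end Groth.Agent.S9980
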