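import Groth.Statements.S9981
import Groth.Agent.Lib.Helper15.AlgSpFT
import Groth.Agent.Lib.Helper25.ProConsScheme
import Groth.Agent.Lib.Helper3.AlgSpChartPts
-- import your own Groth.Agent.* helpers here

set_option autoImplicit false
universe u
open CategoryTheory CategoryTheory.Limits AlgebraicGeometry
open AlgSp

namespace Groth.Agent.S9981

section H
namespace W37
open Groth.Agent.Lib.Helper3 Groth.Agent.Lib.Helper15.AlgSpFT Groth.Agent.Lib.Helper25.PC Topology

variable {S : Scheme.{u}}

theorem isLocallyConstructible_preimage {A B : Scheme.{u}} (g : A ⟶ B) {E : Set B}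
    (hE : IsLocallyConstructible E) : IsLocallyConstructible (g.base ⁻¹' E) := by
  rw [isLocallyConstructible_iff (locSpectral _)] at hE ⊢
  exact ⟨IndC.preimage g hE.1, ProC.preimage g hE.2⟩

theorem main {X Y : AlgSp.Space S} (f : X ⟶ Y)
    (E : Set (AlgSp.Points Y.obj))
    (hE : (∀ (U : Over S) (φ : (AlgSp.yon S).obj U ⟶ Y.obj), AlgSp.RepWith @Etale φ →
        Topology.IsLocallyConstructible (AlgSp.Points.ofPt φ ⁻¹' E))) :
    (∀ (U : Over S) (φ : (AlgSp.yon S).obj U ⟶ X.obj), AlgSp.RepWith @Etale φ →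
        Topology.IsLocallyConstructible (AlgSp.Points.ofPt φ ⁻¹' (AlgSp.Points.map f.hom ⁻¹' E))) := by
  intro U ψ hψ
  obtain ⟨V, b, hbe, hbs⟩ := Y.property.atlas
  obtain ⟨W, pU, pT, sq⟩ := exists_pullback_charts (ψ ≫ f.hom)
    (Y.property.representable_from_yon _) b
  have h1 : Etale pU.left := hbe.2 (ψ ≫ f.hom) ((yon S).map pT) pU sq.flip
  have h2 : Surjective pU.left := hbs.2 (ψ ≫ f.hom) ((yon S).map pT) pU sq.flip
  have hV := hE V b hbe
  have hW : IsLocallyConstructible (pT.left.base ⁻¹' (Points.ofPt b ⁻¹' E)) :=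
    isLocallyConstructible_preimage pT.left hV
  have heq : pU.left.base ⁻¹' (Points.ofPt ψ ⁻¹' (Points.map f.hom ⁻¹' E)) =
      pT.left.base ⁻¹' (Points.ofPt b ⁻¹' E) := by
    ext w
    simp only [Set.mem_preimage]
    have e1 : Points.map f.hom (Points.ofPt ψ (pU.left w)) = Points.ofPt b (pT.left w) := by
      rw [← ofPt_yon_map_comp pU ψ w, Points.map_ofPt, ← ofPt_yon_map_comp pT b w,
        Category.assoc, sq.w]
    change Points.map f.hom (Points.ofPt ψ (pU.left w)) ∈ E ↔ Points.ofPt b (pT.left w) ∈ E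
    rw [e1]
  rw [← heq] at hW
  exact (isLocallyConstructible_preimage_iff pU.left (Or.inr inferInstance)).1 hW

end W37
end H


/-- The inverse image of an etale locally constructible subset under a morphism of algebraic spaces is
etale locally constructible. -/
theorem result {S : Scheme.{u}} {X Y : AlgSp.Space S} (f : X ⟶ Y)
    (E : Set (AlgSp.Points Y.obj))
    (hE : (∀ (U : Over S) (φ : (AlgSp.yon S).obj U ⟶ Y.obj), AlgSp.RepWith @Etale φ →
        Topology.IsLocallyConstructible (AlgSp.Points.ofPt φ ⁻¹' E))) :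
    (∀ (U : Over S) (φ : (AlgSp.yon S).obj U ⟶ X.obj), AlgSp.RepWith @Etale φ →
        Topology.IsLocallyConstructible (AlgSp.Points.ofPt φ ⁻¹' (AlgSp.Points.map f.hom ⁻¹' E))) := by
  exact W37.main f E hE

end Groth.Agent.S9981
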