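import Groth.Statements.S9982
import Groth.Agent.Lib.Helper15.AlgSpFT
import Groth.Agent.Lib.Helper3.AlgSpChartPts
import Groth.Agent.Lib.Helper3.AlgSpFibre
import Groth.Agent.Lib.Helper3.AlgSpPoints
-- import your own Groth.Agent.* helpers here

set_option autoImplicit false
universe u
open CategoryTheory CategoryTheory.Limits AlgebraicGeometry
open AlgSp

namespace Groth.Agent.S9982

section H
namespace W38
set_option backward.isDefEq.respectTransparency.types false
open Groth.Agent.Lib.Helper3 Groth.Agent.Lib.Helper15.AlgSpFT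
open scoped Set.Notation

variable {S : Scheme.{u}}

/-- the affine case -/
theorem main_affine {X Y : AlgSp.Space S} (f : X ⟶ Y)
    (hq : AlgSp.IsQuasiCompactMor f.hom) (hfp : AlgSp.LocP @LocallyOfFinitePresentation f.hom)
    (E : Set (AlgSp.Points X.obj))
    (hE : (∀ (U : Over S) (φ : (AlgSp.yon S).obj U ⟶ X.obj), AlgSp.RepWith @Etale φ →
        Topology.IsLocallyConstructible (AlgSp.Points.ofPt φ ⁻¹' E)))
    (V : Over S) (φ : (AlgSp.yon S).obj V ⟶ Y.obj) (hφ : AlgSp.RepWith @Etale φ)
    [IsAffine V.left] :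
    Topology.IsLocallyConstructible (AlgSp.Points.ofPt φ ⁻¹' (AlgSp.Points.map f.hom '' E)) := by
  have hX := X.property
  have hY := Y.property
  have hV : IsAlgSpace ((yon S).obj V) := IsAlgSpace.yon_obj _
  have sq := IsPullback.of_hasPullback f.hom φ
  have hVqc : IsQuasiCompactSp ((yon S).obj V) :=
    ⟨V, 𝟙 _, repWith_id _ _, repWith_id _ _, inferInstance⟩
  obtain ⟨W, c, hce, hcs, hWc⟩ := hq hV hVqc φ _ _ sq
  have hfst : RepWith @Etale (pullback.fst f.hom φ) := MorphismProperty.of_isPullback sq.flip hφ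
  have hcf : RepWith @Etale (c ≫ pullback.fst f.hom φ) :=
    MorphismProperty.comp_mem _ _ _ hce hfst
  obtain ⟨g, hg⟩ := (yon S).map_surjective (c ≫ pullback.snd f.hom φ)
  have hw : (c ≫ pullback.fst f.hom φ) ≫ f.hom = (yon S).map g ≫ φ := by
    rw [hg, Category.assoc, Category.assoc, pullback.condition]
  have hglfp : LocallyOfFinitePresentation g.left := hfp _ _ g hcf hφ hw
  have : CompactSpace ↥W.left := hWc
  have hgqc : QuasiCompact g.left := HasAffineProperty.iff_of_isAffine.mpr hWc
  have hEW := hE W _ hcf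
  have himg := g.left.isLocallyConstructible_image hEW
  convert himg using 1
  ext v
  simp only [Set.mem_preimage, Set.mem_image]
  constructor
  · rintro ⟨e, he, hev⟩
    obtain ⟨z, hz1, hz2⟩ := Points.exists_of_isPullback sq e (Points.ofScheme V v)
      (hev.trans (Points.ofPt_eq_map_ofScheme φ v))
    obtain ⟨w, rfl⟩ := exists_ofPt_eq c hcs z
    refine ⟨w, ?_, ?_⟩
    · change Points.ofPt (c ≫ pullback.fst f.hom φ) w ∈ E
      rw [← Points.map_ofPt, hz1]; exact he
    · apply (Points.schemeEquiv V).injective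
      change Points.ofScheme V (g.left w) = Points.ofScheme V v
      rw [← hz2, Points.map_ofPt, ← hg]
      exact (ofPt_yon_map_comp g (𝟙 _) w).symm.trans (by rw [Category.comp_id])
  · rintro ⟨w, hw', rfl⟩
    refine ⟨Points.ofPt (c ≫ pullback.fst f.hom φ) w, hw', ?_⟩
    rw [Points.map_ofPt, hw, ofPt_yon_map_comp]

theorem main {X Y : AlgSp.Space S} (f : X ⟶ Y)
    (hq : AlgSp.IsQuasiCompactMor f.hom) (hfp : AlgSp.LocP @LocallyOfFinitePresentation f.hom)
    (E : Set (AlgSp.Points X.obj))
    (hE : (∀ (U : Over S) (φ : (AlgSp.yon S).obj U ⟶ X.obj), AlgSp.RepWith @Etale φ →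
        Topology.IsLocallyConstructible (AlgSp.Points.ofPt φ ⁻¹' E))) :
    (∀ (U : Over S) (φ : (AlgSp.yon S).obj U ⟶ Y.obj), AlgSp.RepWith @Etale φ →
        Topology.IsLocallyConstructible (AlgSp.Points.ofPt φ ⁻¹' (AlgSp.Points.map f.hom '' E))) := by
  intro V φ hφ
  refine .of_isOpenCover V.left.affineCover.isOpenCover_opensRange fun i => ?_
  have hW' : IsAffineOpen (V.left.affineCover.f i).opensRange := isAffineOpen_opensRange _
  have : IsAffine (Over.mk ((V.left.affineCover.f i).opensRange.ι ≫ V.hom)).left := hW'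
  have key := main_affine f hq hfp E hE (Over.mk ((V.left.affineCover.f i).opensRange.ι ≫ V.hom))
    (chartRestrict φ _) (chartRestrict_etale φ hφ _)
  have heq : Points.ofPt (chartRestrict φ (V.left.affineCover.f i).opensRange) ⁻¹'
      (Points.map f.hom '' E) =
      (fun w => Points.ofPt φ ((V.left.affineCover.f i).opensRange.ι w)) ⁻¹'
        (Points.map f.hom '' E) := by
    ext w
    simp only [Set.mem_preimage]
    rw [ofPt_chartRestrict]
  rw [heq] at key
  exact key

end W38
end H


/-- A quasi-compact morphism locally of finite presentation between algebraic spaces maps etale locally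
constructible sets to etale locally constructible sets. -/
theorem result {S : Scheme.{u}} {X Y : AlgSp.Space S} (f : X ⟶ Y)
    (hq : AlgSp.IsQuasiCompactMor f.hom) (hfp : AlgSp.LocP @LocallyOfFinitePresentation f.hom)
    (E : Set (AlgSp.Points X.obj))
    (hE : (∀ (U : Over S) (φ : (AlgSp.yon S).obj U ⟶ X.obj), AlgSp.RepWith @Etale φ →
        Topology.IsLocallyConstructible (AlgSp.Points.ofPt φ ⁻¹' E))) :
    (∀ (U : Over S) (φ : (AlgSp.yon S).obj U ⟶ Y.obj), AlgSp.RepWith @Etale φ →
        Topology.IsLocallyConstructible (AlgSp.Points.ofPt φ ⁻¹' (AlgSp.Points.map f.hom '' E))) := by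
  exact W38.main f hq hfp E hE

end Groth.Agent.S9982
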