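import Groth.Statements.S9986
import Groth.Agent.Lib.Helper25.AlgSpDenseMono

set_option autoImplicit false
universe u
open CategoryTheory CategoryTheory.Limits AlgebraicGeometry
open AlgSp

namespace Groth.Agent.S9986

/-- For an open immersion j : U -> X of algebraic spaces, U is scheme theoretically dense in X exactly
when the comparison map from O_X to j_* O_U on the small etale site of X is a monomorphism of
sheaves of rings. -/
theorem result {S : Scheme.{u}} {U X : AlgSp.Space S} (j : U ⟶ X)
    (hj : AlgSp.RepWith @IsOpenImmersion j.hom) :
    AlgSp.IsSchDense j.hom ↔ Mono (AlgSp.bcRingHom hj.1) := by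
  open Groth.Agent.Lib.Helper25.AlgSpDenseMono in
  rw [mono_iff_injective_app]
  constructor
  · intro h E
    have h1 := injective_of_isSchDense j.hom h E.unop.obj.left E.unop.obj.hom E.unop.property
      (hj.1.snd E.unop.obj.hom) (hj.1.fst _) (hj.1.isPullback _)
    intro s t hst
    apply ULift.ext
    apply h1
    exact congrArg ULift.down hst
  · intro h
    apply isSchDense_of_injective X.property j.hom hj
    intro V φ hφ
    have h1 := h (Opposite.op (AlgSp.EtOver.mk φ hφ))
    intro s t hst
    have h2 := @h1 (ULift.up s) (ULift.up t) (ULift.ext _ _ hst)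
    exact congrArg ULift.down h2

end Groth.Agent.S9986
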