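import Groth.Statements.S9987
import Groth.Agent.Lib.Helper3.AlgSpEtSitePoint
import Groth.Agent.Lib.Helper3.AlgSpEtNbhdCofilt

set_option autoImplicit false
universe u
open CategoryTheory CategoryTheory.Limits AlgebraicGeometry Opposite
open AlgSp

namespace Groth.Agent.S9987

/-- For a closed immersion i : Z ⟶ X of algebraic spaces over S (representable, every base change to a
scheme a closed immersion), the comparison map O_X ⟶ i_* O_Z of sheaves of rings on the small etale
site of X is locally surjective. (The published statement also asserts that i_* O_Z is a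
quasi-coherent O_X-module and that the kernel of O_X ⟶ i_* O_Z is a quasi-coherent sheaf of ideals;
those two assertions are the closed-immersion cases of the general facts that direct images along
quasi-compact quasi-separated morphisms preserve quasi-coherence and that the kernel ideal of a
quasi-compact morphism is quasi-coherent, a closed immersion being quasi-compact and separated, and
only the surjectivity is stated here.) -/
theorem result {S : Scheme.{u}} {Z X : AlgSp.Space S} (i : Z ⟶ X)
    (hi : AlgSp.RepWith @IsClosedImmersion i.hom) :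
    Presheaf.IsLocallySurjective (AlgSp.etTop X.obj) (AlgSp.bcRingHom hi.1).hom := by
  constructor
  intro E s
  let 𝒰 := E.obj.left.left.affineCover
  let U : 𝒰.I₀ → Over S := fun j => Over.mk (𝒰.f j ≫ E.obj.left.hom)
  let ι : ∀ j, U j ⟶ E.obj.left := fun j => Over.homMk (𝒰.f j) rfl
  have hι : ∀ j, RepWith @Etale ((yon S).map (ι j) ≫ E.obj.hom) := fun j =>
    (RepWith @Etale).comp_mem _ _ ((repWith_yon_map_iff _ (ι j)).2
      (inferInstance : Etale (𝒰.f j))) E.property
  let Ej : 𝒰.I₀ → EtOver X.obj := fun j => EtOver.mk _ (hι j)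
  let g : ∀ j, Ej j ⟶ E := fun j => EtOver.homMk (ι j) rfl
  have hcov : Sieve.ofArrows Ej g ∈ etTop X.obj E := by
    apply ofArrows_mem_etTop
    intro x
    exact ⟨𝒰.idx x, 𝒰.covers x⟩
  refine (etTop X.obj).superset_covering ?_ hcov
  rw [Sieve.ofArrows, Sieve.generate_le_iff]
  rintro _ _ ⟨j⟩
  have hcl : IsClosedImmersion (hi.1.snd (Ej j).obj.hom).left :=
    hi.2 (Ej j).obj.hom (hi.1.fst (Ej j).obj.hom) (hi.1.snd (Ej j).obj.hom) (hi.1.isPullback _)
  have haff : IsAffine (Ej j).obj.left.left := (inferInstance : IsAffine (𝒰.X j))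
  obtain ⟨-, hsurj⟩ := IsClosedImmersion.isAffine_surjective_of_isAffine (hi.1.snd (Ej j).obj.hom).left
  change ∃ t, _ = _
  obtain ⟨t₀, ht₀⟩ := hsurj ((EtOver.bcMap hi.1 (g j)).hom.left.left.appTop.hom s.down)
  refine ⟨ULift.up t₀, ?_⟩
  exact ULift.ext _ _ ht₀

end Groth.Agent.S9987
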