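import Groth.Statements.S9989
import Groth.Agent.Lib.Helper3.AlgSpClosedIdeal

set_option autoImplicit false
universe u
open CategoryTheory CategoryTheory.Limits AlgebraicGeometry Opposite
open AlgSp

namespace Groth.Agent.S9989

/-- For closed subspaces i : Z ⟶ X and i' : Z' ⟶ X of an algebraic space cut out by sheaves of ideals I
and I', one has I ≤ I' exactly when i' factors through i. -/
theorem result {S : Scheme.{u}} {X Z Z' : AlgSp.Space S} (i : Z ⟶ X) (i' : Z' ⟶ X)
    (I I' : AlgSp.IdealEt X.obj) (h : AlgSp.IsCutOutBy I i.hom) (h' : AlgSp.IsCutOutBy I' i'.hom) :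
    I ≤ I' ↔ ∃ k : Z' ⟶ Z, k ≫ i = i' := by
  obtain ⟨hi, rfl⟩ := h
  obtain ⟨hi', rfl⟩ := h'
  constructor
  · intro hle
    have sqP := IsPullback.of_hasPullback i.hom i'.hom
    have hpr : Representable (pullback.snd i.hom i'.hom) :=
      MorphismProperty.of_isPullback sqP hi.1
    have hiso : IsIso (pullback.snd i.hom i'.hom) := by
      refine Groth.Agent.Lib.Helper3.isIso_of_representable_of_forall_isIso _ hpr ?_
      intro T g
      have sq1 := hpr.isPullback g
      have sq2 := sq1.paste_horiz sqP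
      have hh : Representable (g ≫ i'.hom) := X.property.representable_from_yon _
      refine Groth.Agent.Lib.Helper3.isIso_of_idealOfRep_le X.property hi (g ≫ i'.hom) hh ?_ _ _ sq2
      intro E hE
      exact (hle E hE).trans
        (Groth.Agent.Lib.Helper3.idealOfRep_le_of_factor hi'.1 hh g rfl E hE)
    refine ⟨ObjectProperty.homMk (inv (pullback.snd i.hom i'.hom) ≫ pullback.fst i.hom i'.hom), ?_⟩
    ext1
    change (inv (pullback.snd i.hom i'.hom) ≫ pullback.fst i.hom i'.hom) ≫ i.hom = i'.hom
    rw [Category.assoc, sqP.w, IsIso.inv_hom_id_assoc]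
  · rintro ⟨k, hk⟩
    exact Groth.Agent.Lib.Helper3.idealOfRep_le_of_factor hi.1 hi'.1 k.hom
      (by rw [← hk]; rfl)

end Groth.Agent.S9989
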