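import Groth.Statements.S9994
import Groth.Agent.Lib.Helper3.SmoothEt8

set_option autoImplicit false
universe u
open CategoryTheory CategoryTheory.Limits AlgebraicGeometry
open AlgSp

namespace Groth.Agent.S9994

/-- A morphism f : X ⟶ Y of algebraic spaces has P etale locally on the source and target if and only if
it has P at every point of |X| in the neighbourhood sense (some chart diagram through the point
whose top arrow has P on an open neighbourhood of the chosen point). -/
theorem result {S : Scheme.{u}} (P : MorphismProperty Scheme.{u})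
    (hP : P = @LocallyOfFiniteType ∨ P = @LocallyOfFinitePresentation ∨ P = @Flat ∨ P = @Smooth ∨ P = @Etale ∨
      (∀ ⦃A B : Scheme.{u}⦄ (g : A ⟶ B), P g ↔ (LocallyQuasiFinite g ∧ LocallyOfFiniteType g)) ∨
      (∀ ⦃A B : Scheme.{u}⦄ (g : A ⟶ B), P g ↔ (LocallyOfFiniteType g ∧ FormallyUnramified g)))
    {X Y : AlgSp.Space S} (f : X ⟶ Y) :
    AlgSp.LocP P f.hom ↔
      ∀ x : AlgSp.Points X.obj, AlgSp.HasAtMor (fun U _ h u => ∃ W : U.Opens, u ∈ W ∧ P (W.ι ≫ h)) f.hom x := by
  have hEt := Groth.Agent.Lib.Helper3.isEtLocal_of_list P hP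
  have : IsZariskiLocalAtSource P := Groth.Agent.Lib.Helper3.isZariskiLocalAtSource_of_list P hP
  exact ⟨fun h x => Groth.Agent.Lib.Helper3.hasAtMor_of_locP hEt X.property Y.property f.hom h x,
    fun H => Groth.Agent.Lib.Helper3.locP_of_forall_hasAtMor hEt X.property Y.property f.hom H⟩

end Groth.Agent.S9994
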