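import Groth.Statements.S9997
import Groth.Agent.Lib.Helper3.AlgSpLocAffineBc
import Groth.Agent.Lib.Helper3.ClosedImmFP
import Groth.Agent.Lib.Helper3.AlgSpLocP4

set_option autoImplicit false
universe u
open CategoryTheory CategoryTheory.Limits AlgebraicGeometry Opposite
open AlgSp

namespace Groth.Agent.S9997

/-- A closed immersion i : Z ⟶ X of algebraic spaces is (locally) of finite presentation if and only if
its sheaf of ideals is of finite type; finite type is rendered chart by chart, as finite generation
of the kernel ideal Ker(Γ(U, O_U) → Γ(Z ×_X U, O)) for every affine etale chart U of X (for a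
quasi-coherent sheaf of ideals the two readings agree by descent of finite generation along etale
coverings). -/
theorem result {S : Scheme.{u}} {Z X : AlgSp.Space S} (i : Z ⟶ X)
    (hi : AlgSp.RepWith @IsClosedImmersion i.hom) :
    AlgSp.LocP @LocallyOfFinitePresentation i.hom ↔
      ∀ (E : AlgSp.EtOver X.obj) (hE : IsAffine E.obj.left.left), ((AlgSp.idealOfRep hi.1).ideal E hE).FG := by
  have key : ∀ (E : AlgSp.EtOver X.obj) (hE : IsAffine E.obj.left.left),
      LocallyOfFinitePresentation (EtOver.bcπ hi.1 E).left ↔
        ((AlgSp.idealOfRep hi.1).ideal E hE).FG := by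
    intro E hE
    have hcl : IsClosedImmersion (EtOver.bcπ hi.1 E).left :=
      hi.2 _ _ _ (EtOver.isPullback_bcObj hi.1 E)
    exact Groth.Agent.Lib.Helper3.closedImmersion_lfp_iff_ker_fg (EtOver.bcπ hi.1 E).left
  constructor
  · intro h E hE
    have hrep : RepWith @LocallyOfFinitePresentation i.hom :=
      Groth.Agent.Lib.Helper3.repWith_of_locP
        Groth.Agent.Lib.Helper3.isEtLocal_locallyOfFinitePresentation Z.property X.property i.hom
        hi.1 h
    exact (key E hE).1 (hrep.2 _ _ _ (EtOver.isPullback_bcObj hi.1 E))
  · intro h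
    exact Groth.Agent.Lib.Helper3.locP_of_forall_affine_bcπ
      Groth.Agent.Lib.Helper3.isEtLocal_locallyOfFinitePresentation X.property i.hom hi.1
      (fun E hE => (key E hE).2 (h E hE))

end Groth.Agent.S9997
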